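import Mathlib.GroupTheory.Sylow
import Mathlib.GroupTheory.Transfer
import Mathlib.GroupTheory.SpecificGroups.Alternating
import Mathlib.GroupTheory.GroupAction.Quotient
import Mathlib.Data.Fintype.Perm

/-!
Elementary counting facts about finite simple groups: the embedding theorem, Sylow numbers,
and consequences of Burnside's transfer theorem.
-/

namespace CfsgLib.Perm

open Subgroup MulAction

variable {G : Type*} [Group G]

/-- A finite simple group whose order is not prime is non-abelian. -/
theorem not_comm_of_not_prime [Finite G] [IsSimpleGroup G] (h : ¬ (Nat.card G).Prime) :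
    ¬ IsMulCommutative G := by
  intro hc
  let _ : CommGroup G := { mul_comm := hc.is_comm.comm }
  exact h IsSimpleGroup.prime_card

/-- The permutation action on cosets of a proper subgroup of a simple group is faithful. -/
theorem toPermHom_quotient_injective [IsSimpleGroup G] (H : Subgroup G) (hH : H ≠ ⊤) :
    Function.Injective (MulAction.toPermHom G (G ⧸ H)) := by
  rw [← MonoidHom.ker_eq_bot_iff]
  rcases (MonoidHom.normal_ker (MulAction.toPermHom G (G ⧸ H))).eq_bot_or_eq_top with h | h
  · exact h
  · exfalso
    apply hH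
    rw [eq_top_iff]
    intro g _
    have hg : g ∈ (MulAction.toPermHom G (G ⧸ H)).ker := by rw [h]; exact mem_top g
    have := Equiv.ext_iff.1 hg ((1 : G) : G ⧸ H)
    simpa [QuotientGroup.eq] using this

/-- Every homomorphism from a non-abelian simple group to a commutative group is trivial. -/
theorem hom_comm_trivial [IsSimpleGroup G] (hG : ¬ IsMulCommutative G) {A : Type*} [CommGroup A]
    (f : G →* A) (g : G) : f g = 1 := by
  rcases (MonoidHom.normal_ker f).eq_bot_or_eq_top with h | h
  · exfalso
    apply hG
    have hf := (MonoidHom.ker_eq_bot_iff f).1 h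
    exact ⟨⟨fun a b => hf (by rw [map_mul, map_mul, mul_comm])⟩⟩
  · have : g ∈ f.ker := by rw [h]; exact mem_top g
    exact this

/-- Embedding theorem. -/
theorem embeds_alternating [Finite G] [IsSimpleGroup G] (hG : ¬ IsMulCommutative G)
    (H : Subgroup G) (hH : H ≠ ⊤) :
    ∃ f : G →* ↥(alternatingGroup (Fin H.index)), Function.Injective f := by
  classical
  let e : G ⧸ H ≃ Fin H.index := Finite.equivFinOfCardEq rfl
  let φ : G →* Equiv.Perm (Fin H.index) :=
    e.permCongrHom.toMonoidHom.comp (MulAction.toPermHom G (G ⧸ H))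
  have hφ : Function.Injective φ :=
    e.permCongrHom.injective.comp (toPermHom_quotient_injective H hH)
  have hmem : ∀ g, φ g ∈ alternatingGroup (Fin H.index) := fun g =>
    Equiv.Perm.mem_alternatingGroup.2 (hom_comm_trivial hG (Equiv.Perm.sign.comp φ) g)
  exact ⟨φ.codRestrict _ hmem, fun a b hab => hφ (congrArg Subtype.val hab)⟩

/-- A non-abelian simple group divides `n!/2` for the index `n` of any proper subgroup. -/
theorem two_mul_card_dvd_factorial_index [Finite G] [IsSimpleGroup G] (hG : ¬ IsMulCommutative G)
    (H : Subgroup G) (hH : H ≠ ⊤) : 2 * Nat.card G ∣ H.index.factorial := by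
  classical
  obtain ⟨f, hf⟩ := embeds_alternating hG H hH
  have h1 := Subgroup.card_dvd_of_injective f hf
  have h2 : 2 ≤ H.index := by
    have := (Subgroup.index_ne_zero_of_finite (H := H))
    have : H.index ≠ 1 := fun h => hH (Subgroup.index_eq_one.1 h)
    omega
  have : Nontrivial (Fin H.index) := Fin.nontrivial_iff_two_le.2 h2
  have h3 := two_mul_nat_card_alternatingGroup (α := Fin H.index)
  rw [Nat.card_perm, Nat.card_fin] at h3
  rw [← h3]
  exact mul_dvd_mul_left 2 h1

/-- The number of Sylow subgroups divides the order. -/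
theorem card_sylow_dvd_card [Finite G] (p : ℕ) [Fact p.Prime] :
    Nat.card (Sylow p G) ∣ Nat.card G := by
  obtain ⟨P⟩ := (inferInstance : Nonempty (Sylow p G))
  exact (P.card_dvd_index).trans (index_dvd_card _)

/-- The number of Sylow subgroups divides the part of the order prime to `p`. -/
theorem card_sylow_dvd_of_card_eq [Finite G] {p : ℕ} [Fact p.Prime] {k m : ℕ}
    (h : Nat.card G = p ^ k * m) : Nat.card (Sylow p G) ∣ m := by
  have hp : p.Prime := Fact.out
  have h1 : Nat.card (Sylow p G) ∣ p ^ k * m := h ▸ card_sylow_dvd_card p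
  exact (Nat.Coprime.pow_right k
    ((Nat.Prime.coprime_iff_not_dvd hp).2 (not_dvd_card_sylow p G)).symm).dvd_of_dvd_mul_left h1

/-- The order of a Sylow subgroup, read off from a factorisation of the group order. -/
theorem sylow_card_eq [Finite G] {p : ℕ} [Fact p.Prime] (P : Sylow p G) {k m : ℕ}
    (h : Nat.card G = p ^ k * m) (hm : ¬ p ∣ m) : Nat.card (P : Subgroup G) = p ^ k := by
  have hp : p.Prime := Fact.out
  rw [P.card_eq_multiplicity, h]
  congr 1
  have hm0 : m ≠ 0 := fun h0 => hm (h0 ▸ dvd_zero p)
  rw [Nat.factorization_mul (pow_ne_zero _ hp.ne_zero) hm0, Finsupp.add_apply,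
    hp.factorization_pow, Finsupp.single_eq_same, Nat.factorization_eq_zero_of_not_dvd hm,
    add_zero]

/-- In a simple group with a proper non-trivial Sylow subgroup, Sylow numbers are not one. -/
theorem card_sylow_ne_one [Finite G] [IsSimpleGroup G] {p : ℕ} [Fact p.Prime]
    (hdvd : p ∣ Nat.card G) (hne : ¬ IsPGroup p G) : Nat.card (Sylow p G) ≠ 1 := by
  intro h
  obtain ⟨hs, ⟨P⟩⟩ := Nat.card_eq_one_iff_unique.1 h
  rcases (P.normal_of_subsingleton).eq_bot_or_eq_top with hb | ht
  · exact P.ne_bot_of_dvd_card hdvd hb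
  · apply hne
    exact P.isPGroup'.of_equiv ((MulEquiv.subgroupCongr ht).trans Subgroup.topEquiv)

/-- A group whose order has a prime divisor different from `p` is not a `p`-group. -/
theorem not_isPGroup_of_dvd [Finite G] {p q : ℕ} [Fact p.Prime] (hq : q.Prime) (hpq : q ≠ p)
    (h : q ∣ Nat.card G) : ¬ IsPGroup p G := by
  intro hP
  obtain ⟨n, hn⟩ := IsPGroup.iff_card.1 hP
  rw [hn] at h
  exact hpq ((Nat.prime_dvd_prime_iff_eq hq Fact.out).1 (hq.dvd_of_dvd_pow h))

/-- Burnside transfer in a simple group: no Sylow normaliser centralises its Sylow subgroup,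
unless the group is a `p`-group. -/
theorem not_normalizer_le_centralizer [Finite G] [IsSimpleGroup G] {p : ℕ} [Fact p.Prime]
    (P : Sylow p G) (hdvd : p ∣ Nat.card G) (hne : ¬ IsPGroup p G) :
    ¬ Subgroup.normalizer ((P : Subgroup G) : Set G) ≤
      Subgroup.centralizer ((P : Subgroup G) : Set G) := by
  intro hP
  have hc := MonoidHom.ker_transferSylow_isComplement' P hP
  rcases (MonoidHom.normal_ker (MonoidHom.transferSylow P hP)).eq_bot_or_eq_top with hb | ht
  · rw [hb, Subgroup.isComplement'_bot_left] at hc
    exact hne (P.isPGroup'.of_equiv ((MulEquiv.subgroupCongr hc).trans Subgroup.topEquiv))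
  · rw [ht, Subgroup.isComplement'_top_left] at hc
    exact P.ne_bot_of_dvd_card hdvd hc

end CfsgLib.Perm
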