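import Mathlib
import Cfsg.Agent.Lib.Core.MinNormal

/-!
# Characteristically simple finite groups

* `charSimple_iso_pi`: a finite nontrivial group whose only characteristic subgroups are `⊥`, `⊤`
  is a power of a simple group (isomorphic to one of its normal subgroups).
* `exists_iso_pi_of_minimal_normal`: the same for a minimal normal subgroup, with `T : Type`.
-/

set_option autoImplicit false
set_option linter.all false

namespace CfsgLib.Perm.CharSimple

variable {K : Type*} [Group K]

/-- Two normal subgroups with trivial intersection generate their direct product. -/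
theorem nonempty_prod_mulEquiv_sup (J L : Subgroup K) [hJ : J.Normal] [hL : L.Normal]
    (h : Disjoint J L) : Nonempty ((J × L) ≃* (J ⊔ L : Subgroup K)) := by
  have hc : ∀ (a : J) (b : L), Commute (J.subtype a) (L.subtype b) := fun a b =>
    Subgroup.commute_of_normal_of_disjoint J L hJ hL h a b a.2 b.2
  let f : J × L →* K := MonoidHom.noncommCoprod J.subtype L.subtype hc
  have hinj : Function.Injective f := by
    rw [injective_iff_map_eq_one]
    rintro ⟨a, b⟩ hab
    have hab' : (a : K) * b = 1 := hab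
    have ha : (a : K) ∈ L := by
      rw [eq_inv_of_mul_eq_one_left hab']
      exact L.inv_mem b.2
    have ha1 : (a : K) = 1 := Subgroup.disjoint_def.1 h a.2 ha
    rw [ha1, one_mul] at hab'
    exact Prod.ext (Subtype.ext ha1) (Subtype.ext hab')
  have hr : f.range = J ⊔ L := by
    rw [MonoidHom.noncommCoprod_range, Subgroup.range_subtype, Subgroup.range_subtype]
  exact ⟨(MonoidHom.ofInjective hinj).trans (MulEquiv.subgroupCongr hr)⟩

/-- `(Fin m → T) × T ≃* (Fin (m+1) → T)`. -/
def piSuccEquiv (T : Type*) [Group T] (m : ℕ) : ((Fin m → T) × T) ≃* (Fin (m + 1) → T) where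
  toFun p := Fin.cons p.2 p.1
  invFun f := (Fin.tail f, f 0)
  left_inv p := by simp
  right_inv f := Fin.cons_self_tail f
  map_mul' p q := by
    funext i
    refine Fin.cases ?_ (fun j => ?_) i <;> simp

theorem charSimple_iso_pi [Finite K] [Nontrivial K]
    (hchar : ∀ C : Subgroup K, C.Characteristic → C = ⊥ ∨ C = ⊤) :
    ∃ (S : Subgroup K) (m : ℕ), IsSimpleGroup S ∧ 0 < m ∧ Nonempty (K ≃* (Fin m → S)) := by
  obtain ⟨S, hSn, hSb, -, hSmin⟩ := CfsgLib.Core.exists_minimal_normal_le' (⊤ : Subgroup K) top_ne_bot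
  haveI : S.Normal := hSn
  haveI : Nontrivial S := S.nontrivial_iff_ne_bot.mpr hSb
  -- the join of the images of `S` under automorphisms is everything
  have hjoin : (⨆ φ : MulAut K, S.map (φ : K ≃* K).toMonoidHom) = ⊤ := by
    have hc : (⨆ φ : MulAut K, S.map (φ : K ≃* K).toMonoidHom).Characteristic := by
      rw [Subgroup.characteristic_iff_map_le]
      intro ψ
      rw [Subgroup.map_iSup]
      refine iSup_le fun φ => le_iSup_of_le (ψ * φ) ?_
      rw [Subgroup.map_map]
      exact le_of_eq (congrArg S.map rfl)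
    refine (hchar _ hc).resolve_left fun h => hSb (le_bot_iff.1 ?_)
    rw [← h]
    refine le_iSup_of_le 1 (fun x hx => ⟨x, hx, rfl⟩)
  -- a maximal partial product avoiding `S`
  obtain ⟨J, ⟨hJn, hJS, m, ⟨eJ⟩⟩, hmax⟩ := WellFounded.has_min (wellFounded_gt (α := Subgroup K))
    {J : Subgroup K | J.Normal ∧ Disjoint J S ∧ ∃ m : ℕ, Nonempty (J ≃* (Fin m → S))}
    ⟨⊥, inferInstance, disjoint_bot_left, 0, ⟨MulEquiv.ofUnique⟩⟩
  haveI := hJn
  have htop : J ⊔ S = ⊤ := by
    by_contra hne
    obtain ⟨φ, hφ⟩ : ∃ φ : MulAut K, ¬ S.map (φ : K ≃* K).toMonoidHom ≤ J ⊔ S := by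
      by_contra hcon
      push Not at hcon
      exact hne (top_le_iff.1 (hjoin ▸ iSup_le hcon))
    set L := S.map (φ : K ≃* K).toMonoidHom with hL
    haveI : L.Normal := hSn.map _ (φ : K ≃* K).surjective
    have hLmin : ∀ M : Subgroup K, M.Normal → M ≤ L → M = ⊥ ∨ M = L := by
      intro M hM hML
      have hMn : (M.comap (φ : K ≃* K).toMonoidHom).Normal := hM.comap _
      have hle : M.comap (φ : K ≃* K).toMonoidHom ≤ S := by
        refine le_trans (Subgroup.comap_mono hML) ?_
        rw [hL, Subgroup.comap_map_eq_self_of_injective (φ : K ≃* K).injective]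
      rcases hSmin _ hMn hle with h | h <;>
        [left; right] <;>
        (rw [← Subgroup.map_comap_eq_self_of_surjective
          (f := (φ : K ≃* K).toMonoidHom) (φ : K ≃* K).surjective M, h])
      · exact Subgroup.map_bot _
    have hLdisj : Disjoint (J ⊔ S) L := by
      rw [disjoint_iff]
      rcases hLmin ((J ⊔ S) ⊓ L) inferInstance inf_le_right with h | h
      · exact h
      · exact absurd (h ▸ inf_le_left : L ≤ J ⊔ S) hφ
    have hJL : Disjoint J L := hLdisj.mono_left le_sup_left
    have hQ : Disjoint (J ⊔ L) S := by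
      rw [Subgroup.disjoint_def]
      intro x hx hxS
      obtain ⟨j, hj, l, hl, rfl⟩ := (Subgroup.mem_sup_of_normal_right).1 hx
      have hl1 : l = 1 := by
        refine Subgroup.disjoint_def.1 hLdisj ?_ hl
        have h2 : l = j⁻¹ * (j * l) := by group
        rw [h2]
        exact (J ⊔ S).mul_mem (le_sup_left (a := J) (b := S) (J.inv_mem hj))
          (le_sup_right (a := J) (b := S) hxS)
      subst hl1
      rw [mul_one] at hxS ⊢
      exact Subgroup.disjoint_def.1 hJS hj hxS
    obtain ⟨eP⟩ := nonempty_prod_mulEquiv_sup J L hJL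
    have eL : L ≃* S := ((φ : K ≃* K).subgroupMap S).symm
    refine hmax (J ⊔ L) ⟨inferInstance, hQ, m + 1,
      ⟨eP.symm.trans ((eJ.prodCongr eL).trans (piSuccEquiv S m))⟩⟩ ?_
    refine lt_of_le_of_ne le_sup_left fun h => hφ ?_
    exact (le_sup_right.trans h.ge).trans le_sup_left
  obtain ⟨eP⟩ := nonempty_prod_mulEquiv_sup J S hJS
  refine ⟨S, m + 1, ?_, Nat.succ_pos m,
    ⟨(Subgroup.topEquiv.symm.trans (MulEquiv.subgroupCongr htop.symm)).trans
      (eP.symm.trans ((eJ.prodCongr (MulEquiv.refl S)).trans (piSuccEquiv S m)))⟩⟩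
  refine ⟨fun M hM => ?_⟩
  have hMn : (M.map S.subtype).Normal := by
    refine ⟨fun x hx g => ?_⟩
    have hg : g ∈ J ⊔ S := htop.symm ▸ Subgroup.mem_top g
    obtain ⟨j, hj, s, hs, rfl⟩ := (Subgroup.mem_sup_of_normal_right).1 hg
    obtain ⟨y, hy, rfl⟩ := hx
    refine ⟨⟨s, hs⟩ * y * ⟨s, hs⟩⁻¹, hM.conj_mem y hy _, ?_⟩
    have hc : Commute j (s * (y : K) * s⁻¹) :=
      Subgroup.commute_of_normal_of_disjoint J S hJn hSn hJS j _ hj
        (S.mul_mem (S.mul_mem hs y.2) (S.inv_mem hs))
    show s * (y : K) * s⁻¹ = j * s * (y : K) * (j * s)⁻¹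
    calc s * (y : K) * s⁻¹ = s * (y : K) * s⁻¹ * j * j⁻¹ := by group
      _ = j * (s * (y : K) * s⁻¹) * j⁻¹ := by rw [hc.eq]
      _ = _ := by group
  rcases hSmin _ hMn (Subgroup.map_subtype_le M) with h | h
  · exact Or.inl ((Subgroup.map_eq_bot_iff_of_injective M S.subtype_injective).1 h)
  · refine Or.inr (Subgroup.map_injective S.subtype_injective ?_)
    rw [h, ← MonoidHom.range_eq_map, Subgroup.range_subtype]

/-- A type synonym of `Fin n`, to carry a transported group law. -/
def FinCopy (n : ℕ) : Type := Fin n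

/-- A minimal normal subgroup of a finite group is a power of a simple group. -/
theorem exists_iso_pi_of_minimal_normal {H : Type*} [Group H] [Finite H] (N : Subgroup H)
    [N.Normal] (hN : N ≠ ⊥)
    (hmin : ∀ M : Subgroup H, M.Normal → M ≤ N → M = ⊥ ∨ M = N) :
    ∃ (T : Type) (_ : Group T) (m : ℕ), IsSimpleGroup T ∧ 0 < m ∧ Nonempty (N ≃* (Fin m → T)) := by
  haveI : Nontrivial N := N.nontrivial_iff_ne_bot.mpr hN
  obtain ⟨S, m, hS, hm, ⟨e⟩⟩ := charSimple_iso_pi (K := N) fun C hC => by
    haveI := hC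
    have hn : (C.map N.subtype).Normal := inferInstance
    rcases hmin _ hn (Subgroup.map_subtype_le C) with h | h
    · exact Or.inl ((Subgroup.map_eq_bot_iff_of_injective C N.subtype_injective).1 h)
    · refine Or.inr (Subgroup.map_injective N.subtype_injective ?_)
      rw [h, ← MonoidHom.range_eq_map, Subgroup.range_subtype]
  let eS : S ≃ FinCopy (Nat.card S) := Finite.equivFin S
  letI : Group (FinCopy (Nat.card S)) := eS.symm.group
  let g : S ≃* FinCopy (Nat.card S) := (Equiv.mulEquiv eS.symm).symm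
  haveI : Nontrivial (FinCopy (Nat.card S)) := g.symm.toEquiv.nontrivial
  exact ⟨FinCopy (Nat.card S), inferInstance, m,
    IsSimpleGroup.isSimpleGroup_of_surjective g.toMonoidHom g.surjective, hm,
    ⟨e.trans (MulEquiv.piCongrRight fun _ => g)⟩⟩

end CfsgLib.Perm.CharSimple
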