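import Mathlib
import Cfsg.Agent.Lib.Char.Complete
import Cfsg.Agent.Lib.CharDegree.Basic

/-! In a group with a kernel containing the centralisers of its non-identity elements, the characters
not trivial on the kernel are no more numerous than the classes in it. -/

set_option autoImplicit false

namespace CfsgLib.Perm

open CfsgLib.Char

variable {L : Type*} [Group L] [Fintype L] {K : Subgroup L} [K.Normal]

omit [Fintype L] in
/-- Every non-trivial coset of the kernel lies in one conjugacy class. -/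
theorem frob_coset_conj [Finite L]
    (hC : ∀ n ∈ K, n ≠ 1 → Subgroup.centralizer ({n} : Set L) ≤ K) {y : L} (hy : y ∉ K) {k : L}
    (hk : k ∈ K) : IsConj y (y * k) := by
  have hmem : ∀ n : K, y⁻¹ * n * y * (n : L)⁻¹ ∈ K := fun n => by
    refine K.mul_mem ?_ (K.inv_mem n.2)
    have := Subgroup.Normal.conj_mem ‹K.Normal› n n.2 y⁻¹
    rwa [inv_inv] at this
  have hinj : Function.Injective fun n : K => (⟨_, hmem n⟩ : K) := by
    intro m n h
    have h1 : y⁻¹ * m * y * (m : L)⁻¹ = y⁻¹ * n * y * (n : L)⁻¹ := congrArg Subtype.val h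
    have h2 : y * ((n : L)⁻¹ * m) = (n : L)⁻¹ * m * y := by
      calc y * ((n : L)⁻¹ * m) = (n : L)⁻¹ * y * (y⁻¹ * n * y * (n : L)⁻¹) * m := by group
        _ = (n : L)⁻¹ * m * y := by rw [← h1]; group
    by_contra hne
    exact hy (hC _ (K.mul_mem (K.inv_mem n.2) m.2) (fun e => hne (Subtype.ext (inv_mul_eq_one.1 e).symm))
      (Subgroup.mem_centralizer_singleton_iff.2 h2))
  obtain ⟨n, hn⟩ := Finite.surjective_of_injective hinj ⟨k, hk⟩
  have hn' : y⁻¹ * n * y * (n : L)⁻¹ = k := congrArg Subtype.val hn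
  refine isConj_iff.2 ⟨(n : L), ?_⟩
  rw [← hn']; group

/-- The characters not trivial on the kernel are at most as many as the classes in it. -/
theorem frob_card_le_classes (hC : ∀ n ∈ K, n ≠ 1 → Subgroup.centralizer ({n} : Set L) ≤ K) :
    Nat.card {χ : Cfsg.IrrCharacter L // ∃ k ∈ K, (χ : L → ℂ) k ≠ (χ : L → ℂ) 1} ≤
      Nat.card {C : ConjClasses L // ∃ g ∈ K, g ≠ 1 ∧ ConjClasses.mk g = C} := by
  classical
  haveI : Finite (ConjClasses L) := Finite.of_surjective _ ConjClasses.mk_surjective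
  haveI : Finite (ConjClasses (L ⧸ K)) := Finite.of_surjective _ ConjClasses.mk_surjective
  set P : Cfsg.IrrCharacter L → Prop := fun χ => ∀ k ∈ K, (χ : L → ℂ) k = (χ : L → ℂ) 1
  have h1 : Nat.card (Cfsg.IrrCharacter L) = Nat.card {χ // P χ} + Nat.card {χ // ¬ P χ} := by
    rw [← Nat.card_sum]
    exact Nat.card_congr (Equiv.sumCompl P).symm
  have h2 : Nat.card {χ // P χ} = Nat.card (ConjClasses (L ⧸ K)) :=
    (Nat.card_congr (CfsgLib.CharDegree.inflEquiv K)).symm.trans card_irrCharacter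
  have h3 : Nat.card {χ : Cfsg.IrrCharacter L // ∃ k ∈ K, (χ : L → ℂ) k ≠ (χ : L → ℂ) 1} =
      Nat.card {χ // ¬ P χ} := Nat.card_congr (Equiv.subtypeEquivRight fun χ => by simp [P])
  let φ : ConjClasses L → {C : ConjClasses L // ∃ g ∈ K, g ≠ 1 ∧ ConjClasses.mk g = C} ⊕ ConjClasses (L ⧸ K) :=
    fun C => if hC : ∃ g ∈ K, g ≠ 1 ∧ ConjClasses.mk g = C then Sum.inl ⟨C, hC⟩
      else Sum.inr (ConjClasses.map (QuotientGroup.mk' K) C)
  have hφ : Function.Injective φ := by
    intro C D h
    by_cases hCin : ∃ g ∈ K, g ≠ 1 ∧ ConjClasses.mk g = C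
    · by_cases hDin : ∃ g ∈ K, g ≠ 1 ∧ ConjClasses.mk g = D
      · simp only [φ, dif_pos hCin, dif_pos hDin] at h
        exact congrArg Subtype.val (Sum.inl.inj h)
      · simp [φ, dif_pos hCin, dif_neg hDin] at h
    · by_cases hDin : ∃ g ∈ K, g ≠ 1 ∧ ConjClasses.mk g = D
      · simp [φ, dif_neg hCin, dif_pos hDin] at h
      · simp only [φ, dif_neg hCin, dif_neg hDin, Sum.inr.injEq] at h
        obtain ⟨x, rfl⟩ := ConjClasses.mk_surjective C
        obtain ⟨y, rfl⟩ := ConjClasses.mk_surjective D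
        obtain ⟨q, hq⟩ := isConj_iff.1 (ConjClasses.mk_eq_mk_iff_isConj.1
          (show ConjClasses.mk (QuotientGroup.mk' K x) = ConjClasses.mk (QuotientGroup.mk' K y) from h))
        obtain ⟨g, rfl⟩ := QuotientGroup.mk'_surjective K q
        rw [← map_inv, ← map_mul, ← map_mul] at hq
        have hk : y⁻¹ * (g * x * g⁻¹) ∈ K := QuotientGroup.eq.1 hq.symm
        by_cases hy : y ∈ K
        · have hy1 : y = 1 := by
            by_contra hy1
            exact hDin ⟨y, hy, hy1, rfl⟩
          have hx : g * x * g⁻¹ ∈ K := by simpa [hy1] using hk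
          have hx' : x ∈ K := by
            have := Subgroup.Normal.conj_mem ‹K.Normal› _ hx g⁻¹
            rwa [show g⁻¹ * (g * x * g⁻¹) * g⁻¹⁻¹ = x by group] at this
          have hx1 : x = 1 := by
            by_contra hx1
            exact hCin ⟨x, hx', hx1, rfl⟩
          rw [hx1, hy1]
        · refine ConjClasses.mk_eq_mk_iff_isConj.2 ?_
          have h4 := frob_coset_conj hC hy hk
          rw [mul_inv_cancel_left] at h4
          exact (isConj_iff.2 ⟨g, rfl⟩ : IsConj x (g * x * g⁻¹)).trans h4.symm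
  have h4 := Nat.card_le_card_of_injective φ hφ
  rw [Nat.card_sum, ← card_irrCharacter (G := L), h1, h2] at h4
  rw [h3]
  omega

end CfsgLib.Perm
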