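import Mathlib
import Cfsg.Agent.Lib.Char.Exceptional.ZassenhausChar
import Cfsg.Agent.Lib.Char.Exceptional.ZassenhausClasses
import Cfsg.Agent.Lib.Char.Exceptional.ZassenhausCount
import Cfsg.Agent.Lib.Char.Virtual
import Cfsg.Agent.Lib.CharDegree.Basic
import Cfsg.Agent.Lib.Char.Exceptional.TIFNChar
import Cfsg.Agent.S0851

/-! Simple Zassenhaus groups with abelian point kernel: the two-point stabiliser has order at
least `(n - 2) / 2`. -/

set_option autoImplicit false

open Cfsg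
open scoped ComplexConjugate

namespace CfsgLib.Perm

open CfsgLib.Char CfsgLib.Char.Exceptional

variable {G : Type*} [Group G] [Fintype G]

omit [Fintype G] in
/-- The sum over a subgroup of a function that is constant away from `1`. -/
theorem sum_subgroup_const {H : Subgroup G} [Fintype H] (θ : G → ℂ) {B : ℂ}
    (hB : ∀ u ∈ H, u ≠ 1 → θ u = B) :
    ∑ u : H, θ u = θ 1 + ((Nat.card H : ℂ) - 1) * B := by
  classical
  rw [← Finset.add_sum_erase _ _ (Finset.mem_univ (1 : H)), OneMemClass.coe_one,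
    Finset.sum_congr rfl (g := fun _ => B)
      (fun (u : H) hu => hB u u.2 fun h => (Finset.mem_erase.1 hu).1 (Subtype.ext h)),
    Finset.sum_const, Finset.card_erase_of_mem (Finset.mem_univ _), nsmul_eq_mul, Finset.card_univ,
    Nat.card_eq_fintype_card, Nat.cast_sub Fintype.card_pos, Nat.cast_one]

/-- Abstract form: an abelian trivial-intersection subgroup with Frobenius normaliser whose
"principal series" looks like that of a Zassenhaus group is small against its index. -/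
theorem ti_abelian_bound (H : Subgroup G) [Fintype H]
    (hTI : ∀ g : G, g ∉ Subgroup.normalizer (H : Set G) → ∀ k ∈ H, g * k * g⁻¹ ∈ H → k = 1)
    (hlt : H < Subgroup.normalizer (H : Set G))
    (hC : ∀ k ∈ H, k ≠ 1 → Subgroup.centralizer ({k} : Set G) ≤ H)
    (hab : ∀ a ∈ H, ∀ b ∈ H, a * b = b * a) {h e : ℕ} (hh : Nat.card H = h)
    (he : (H.subgroupOf (Subgroup.normalizer (H : Set G))).index = e)
    (hG : Nat.card G = (h + 1) * (h * e))
    (hA : ∀ θ : Cfsg.IrrCharacter G, θ ≠ trivChar G → ∑ u : H, (θ : G → ℂ) u ≠ 0 →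
      ((θ : G → ℂ) 1 = (h : ℂ) ∧ ∀ u ∈ H, u ≠ 1 → (θ : G → ℂ) u = 0) ∨
      ((θ : G → ℂ) 1 = (h : ℂ) + 1 ∧ ∀ u ∈ H, u ≠ 1 → (θ : G → ℂ) u = 1))
    (PS : Finset (Cfsg.IrrCharacter G))
    (hPS : ∀ θ ∈ PS, (θ : G → ℂ) 1 = (h : ℂ) + 1 ∧ ∀ u ∈ H, u ≠ 1 → (θ : G → ℂ) u = 1)
    (hPScard : e ≤ 2 * PS.card + 1)
    (hclass : e ≤ Nat.card {C : ConjClasses G // ∀ g : G, ConjClasses.mk g = C → g ∉ H}) :
    h ≤ 2 * e + 1 := by
  classical
  subst hh he
  set N := Subgroup.normalizer (H : Set G) with hN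
  set K' := H.subgroupOf N with hK'
  haveI := Fintype.ofFinite (Cfsg.IrrCharacter G)
  haveI := Fintype.ofFinite (Cfsg.IrrCharacter N)
  haveI : K'.Normal := tifn_normal H
  set h := Nat.card H with hh
  set e := K'.index with he
  have hh0 : 0 < h := Nat.card_pos
  have hHN : H ≤ N := Subgroup.le_normalizer
  have hK'card : Nat.card K' = h := Nat.card_congr (Subgroup.subgroupOfEquivOfLe hHN).toEquiv
  have hNcard : Nat.card N = h * e := by rw [← K'.card_mul_index, hK'card]
  let R := {χ : Cfsg.IrrCharacter N // ∃ k : N, (k : G) ∈ H ∧ (χ : ↥N → ℂ) k ≠ (χ : ↥N → ℂ) 1}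
  haveI : Fintype R := Fintype.ofFinite R
  have hRset : ∀ χ : R, (χ.1 : ↥N → ℂ) ∈ tifnSet H := fun χ => ⟨χ.1.2, χ.2⟩
  have hRdeg : ∀ χ : R, (χ.1 : ↥N → ℂ) 1 = (e : ℂ) := fun χ => tifn_abelian_degree hC hab (hRset χ)
  -- the number of relevant characters
  have hm : Fintype.card R * e + 1 = h := by
    have h1 := CfsgLib.CharDegree.sum_sq_degree_of_not_le_ker K'
    rw [Finset.sum_subtype (p := fun χ : Cfsg.IrrCharacter N => ∃ k : N, (k : G) ∈ H ∧
        (χ : ↥N → ℂ) k ≠ (χ : ↥N → ℂ) 1) _ (fun χ => by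
          simp only [Finset.mem_filter, Finset.mem_univ, true_and, hK', Subgroup.mem_subgroupOf]
          push Not
          rfl) (F := inferInstance)] at h1
    rw [Finset.sum_congr rfl (g := fun _ => e ^ 2) (fun χ _ => by
      rw [CfsgLib.CharDegree.charDegree_eq_of_apply_one (hRdeg χ)]), Finset.sum_const, Finset.card_univ,
      smul_eq_mul, hNcard, ← he] at h1
    have he0 : 0 < e := Nat.pos_of_ne_zero Subgroup.index_ne_zero_of_finite
    refine Nat.eq_of_mul_eq_mul_right he0 ?_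
    rw [← h1]; ring
  rcases Nat.lt_or_ge (Fintype.card R) 2 with hm2 | hm2
  · have : Fintype.card R * e ≤ 1 * e := Nat.mul_le_mul_right e (by omega)
    omega
  rcases Cfsg.Agent.S0851.result H hTI hlt hC hab with ⟨-, p, -, -, hc⟩ | ⟨ε, f, hε, hfinj, hf⟩
  · change h = e + 1 at hc
    omega
  obtain ⟨εz, hεz, hεz'⟩ : ∃ z : ℤ, (z : ℂ) = ε ∧ (z = 1 ∨ z = -1) := by
    rcases hε with rfl | rfl
    exacts [⟨1, by simp, Or.inl rfl⟩, ⟨-1, by simp, Or.inr rfl⟩]
  have hε0 : ε ≠ 0 := by rcases hε with rfl | rfl <;> norm_num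
  -- relevant characters: vanishing and sums
  have hRvan : ∀ χ : R, ∀ x : N, (x : G) ∉ H → (χ.1 : ↥N → ℂ) x = 0 := fun χ x hx =>
    tifn_vanish hC (hRset χ) hx
  have hRne : ∀ χ : R, χ.1 ≠ trivChar N := by
    intro χ e1
    obtain ⟨k, -, hk⟩ := χ.2
    exact hk (by rw [e1, trivChar_apply, trivChar_apply])
  have hRsum : ∀ χ : R, ∑ x : N, (χ.1 : ↥N → ℂ) x = 0 := by
    intro χ
    have h1 := classInner_irr_of_ne (hRne χ)
    simp only [Cfsg.classInner, trivChar_apply, map_one, mul_one] at h1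
    exact (mul_eq_zero.1 h1).resolve_left (inv_ne_zero (Nat.cast_ne_zero.2 Nat.card_pos.ne'))
  -- functions vanishing outside `H` sum over `N` as over `H`
  have hsum : ∀ F : N → ℂ, (∀ x : N, (x : G) ∉ H → F x = 0) →
      ∑ x : N, F x = ∑ u : H, F ⟨u, hHN u.2⟩ := by
    intro F hF
    rw [← Finset.sum_subset (Finset.subset_univ (Finset.univ.image fun u : H => (⟨u, hHN u.2⟩ : N))),
      Finset.sum_image (g := fun u : H => (⟨u, hHN u.2⟩ : N)) fun a _ b _ h => Subtype.ext (congrArg (fun x : N => (x : G)) h)]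
    intro x _ hx
    exact hF x fun hxH => hx (Finset.mem_image.2 ⟨⟨x, hxH⟩, Finset.mem_univ _, rfl⟩)
  -- restrictions
  let res : Cfsg.IrrCharacter G → ↥N → ℂ := fun θ x => (θ : G → ℂ) x
  have hresc : ∀ θ, Cfsg.IsCharacter N (res θ) := fun θ => IsChar.restrict N (IsIrr.isCharacter θ.2)
  have hc0 : ∀ θ (η : Cfsg.IrrCharacter N), ∃ n : ℕ, Cfsg.classInner (res θ) (η : ↥N → ℂ) = n :=
    fun θ η => IsChar.classInner_eq_natCast (hresc θ) (IsIrr.isCharacter η.2)
  choose c hc using hc0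
  let S : Cfsg.IrrCharacter G → ℂ := fun θ => ∑ u : H, (θ : G → ℂ) u
  have hrel : ∀ θ, S θ = 0 → ∀ x : N, res θ x = ∑ χ : R, (c θ χ.1 : ℂ) * (χ.1 : ↥N → ℂ) x := by
    intro θ hθ x
    have hexp : ∀ y : N, res θ y = ∑ η : Cfsg.IrrCharacter N, (c θ η : ℂ) * (η : ↥N → ℂ) y := fun y => by
      rw [classFunction_apply_eq_sum (IsChar.isClassFunction (hresc θ)) y]
      simp only [hc]
    have hη : ∀ η : Cfsg.IrrCharacter N, ∑ u : H, (η : ↥N → ℂ) ⟨u, hHN u.2⟩ =
        if (∃ k : N, (k : G) ∈ H ∧ (η : ↥N → ℂ) k ≠ (η : ↥N → ℂ) 1) then 0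
        else (h : ℂ) * (Cfsg.charDegree (η : ↥N → ℂ) : ℂ) := by
      intro η
      split
      · next hr => rw [← hsum _ (hRvan ⟨η, hr⟩)]; exact hRsum ⟨η, hr⟩
      · next hr =>
        push Not at hr
        rw [Finset.sum_congr rfl (g := fun _ => (η : ↥N → ℂ) 1) (fun u _ => hr _ u.2), Finset.sum_const,
          Finset.card_univ, ← Nat.card_eq_fintype_card, nsmul_eq_mul, CfsgLib.CharDegree.cast_irrDegree]
    have h0 : ∀ η : Cfsg.IrrCharacter N,
        (¬ ∃ k : N, (k : G) ∈ H ∧ (η : ↥N → ℂ) k ≠ (η : ↥N → ℂ) 1) → c θ η = 0 := by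
      intro η hr
      have h1 : S θ = ∑ η : Cfsg.IrrCharacter N, (c θ η : ℂ) * ∑ u : H, (η : ↥N → ℂ) ⟨u, hHN u.2⟩ := by
        simp only [S, Finset.mul_sum]
        rw [Finset.sum_comm]
        exact Finset.sum_congr rfl fun u _ => hexp ⟨u, hHN u.2⟩
      have h2 : (0 : ℂ) = ((∑ η : Cfsg.IrrCharacter N,
          if (∃ k : N, (k : G) ∈ H ∧ (η : ↥N → ℂ) k ≠ (η : ↥N → ℂ) 1) then 0
          else c θ η * (h * Cfsg.charDegree (η : ↥N → ℂ)) : ℕ) : ℂ) := by
        rw [← hθ, h1, Nat.cast_sum]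
        refine Finset.sum_congr rfl fun η _ => ?_
        rw [hη η]
        split <;> simp
      have h3 := Finset.sum_eq_zero_iff.1 (Nat.cast_eq_zero.1 h2.symm) η (Finset.mem_univ _)
      rw [if_neg hr] at h3
      exact (mul_eq_zero.1 h3).resolve_right
        (Nat.mul_pos hh0 (CfsgLib.CharDegree.charDegree_pos η)).ne'
    rw [hexp x, ← Finset.sum_subtype (Finset.univ.filter fun η : Cfsg.IrrCharacter N =>
        ∃ k : N, (k : G) ∈ H ∧ (η : ↥N → ℂ) k ≠ (η : ↥N → ℂ) 1) (by simp)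
        (fun η => (c θ η : ℂ) * (η : ↥N → ℂ) x)]
    refine (Finset.sum_filter_of_ne fun η _ hne => ?_).symm
    by_contra hr
    exact hne (by rw [h0 η hr, Nat.cast_zero, zero_mul])
  have hdeg : ∀ θ, S θ = 0 → Cfsg.charDegree (θ : G → ℂ) = e * ∑ χ : R, c θ χ.1 := by
    intro θ hθ
    apply CfsgLib.CharDegree.charDegree_eq_of_apply_one
    rw [show (θ : G → ℂ) 1 = res θ 1 from rfl, hrel θ hθ, Nat.cast_mul, Nat.cast_sum, Finset.mul_sum]
    exact Finset.sum_congr rfl fun χ _ => by rw [hRdeg χ, mul_comm]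
  -- differences of multiplicities
  let δ : Cfsg.IrrCharacter G → R → ℤ := fun θ χ => if f χ = θ then 1 else 0
  have hinner : ∀ θ (χ ξ : R), Cfsg.classInner ((χ.1 : ↥N → ℂ) - (ξ.1 : ↥N → ℂ)) (res θ) =
      ε * ((δ θ χ : ℂ) - (δ θ ξ : ℂ)) := by
    intro θ χ ξ
    rw [← frobenius_reciprocity N _ (IsIrr.isClassFunction θ.2), hf χ ξ, classInner_smul_left,
      classInner_sub_left, classInner_irr, classInner_irr]
    simp only [δ]
    congr 1
    congr 1 <;> split <;> simp
  have hdiff : ∀ θ (χ ξ : R), (c θ χ.1 : ℤ) - c θ ξ.1 = εz * (δ θ χ - δ θ ξ) := by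
    intro θ χ ξ
    have h1 := hinner θ χ ξ
    rw [classInner_sub_left, ← classInner_conj_symm, hc, ← classInner_conj_symm, hc, map_natCast,
      map_natCast, ← hεz] at h1
    exact_mod_cast h1
  obtain ⟨χa, χb, hab'⟩ := Fintype.exists_pair_of_one_lt_card (show 1 < Fintype.card R by omega)
  have hother : ∀ χ : R, ∃ ξ : R, ξ ≠ χ := fun χ => by
    by_cases h1 : χa = χ
    · exact ⟨χb, fun h2 => hab' (h1.trans h2.symm)⟩
    · exact ⟨χa, h1⟩
  have hScases : ∀ θ, S θ ≠ 0 → ∃ B, ∀ u ∈ H, u ≠ 1 → (θ : G → ℂ) u = B := by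
    intro θ hθ
    by_cases ht : θ = trivChar G
    · exact ⟨1, fun u _ _ => by rw [ht, trivChar_apply]⟩
    rcases hA θ ht hθ with ⟨-, hB⟩ | ⟨-, hB⟩
    exacts [⟨0, hB⟩, ⟨1, hB⟩]
  have himg : ∀ χ : R, S (f χ) = 0 := by
    intro χ
    by_contra hS
    obtain ⟨B, hB⟩ := hScases _ hS
    obtain ⟨ξ, hξ⟩ := hother χ
    have h1 := hinner (f χ) χ ξ
    simp only [δ, if_pos, if_neg (fun h => hξ (hfinj h))] at h1
    have h2 : Cfsg.classInner ((χ.1 : ↥N → ℂ) - (ξ.1 : ↥N → ℂ)) (res (f χ)) = 0 := by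
      simp only [Cfsg.classInner, Pi.sub_apply, res]
      rw [Finset.sum_congr rfl (g := fun x : N => ((χ.1 : ↥N → ℂ) x - (ξ.1 : ↥N → ℂ) x) * conj B)
        (fun x _ => ?_), ← Finset.sum_mul, Finset.sum_sub_distrib, hRsum, hRsum, sub_zero, zero_mul,
        mul_zero]
      by_cases hx : (x : G) ∈ H
      · by_cases hx1 : x = 1
        · rw [hx1, hRdeg, hRdeg, sub_self, zero_mul, zero_mul]
        · rw [hB _ hx fun h => hx1 (Subtype.ext h)]
      · rw [hRvan χ x hx, hRvan ξ x hx, sub_self, zero_mul, zero_mul]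
    rw [h2] at h1
    exact hε0 (by simpa using h1.symm)
  have hk : ∀ θ : Cfsg.IrrCharacter G, θ ≠ trivChar G →
      ∃ k : ℕ, S θ = ((h * k : ℕ) : ℂ) ∧ k * (h + 1) ≤ 2 * Cfsg.charDegree (θ : G → ℂ) := by
    intro θ ht
    by_cases hS : S θ = 0
    · exact ⟨0, by simp [hS], by simp⟩
    rcases hA θ ht hS with ⟨h1, hB⟩ | ⟨h1, hB⟩
    · refine ⟨1, ?_, ?_⟩
      · simp only [S]
        rw [sum_subgroup_const _ hB, h1, mul_zero, add_zero, mul_one]
      · rw [CfsgLib.CharDegree.charDegree_eq_of_apply_one h1]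
        omega
    · refine ⟨2, ?_, ?_⟩
      · simp only [S]
        rw [sum_subgroup_const _ hB, h1, ← hh]
        push_cast
        ring
      · rw [CfsgLib.CharDegree.charDegree_eq_of_apply_one (n := h + 1) (by rw [h1]; push_cast; rfl)]
  -- degrees of the exceptional characters
  have hexc : ∀ χ : R, h ≤ 2 * e + 1 ∨ h ≤ Cfsg.charDegree (f χ : G → ℂ) + e + 1 := by
    intro χ
    obtain ⟨ξ₀, hξ₀⟩ := hother χ
    set ν := c (f χ) ξ₀.1 with hν
    have hcν : ∀ ξ : R, ξ ≠ χ → c (f χ) ξ.1 = ν := by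
      intro ξ hξ
      have h1 := hdiff (f χ) ξ ξ₀
      simp only [δ, if_neg (fun h => hξ (hfinj h)), if_neg (fun h => hξ₀ (hfinj h)), sub_self, mul_zero] at h1
      omega
    have hcχ : (c (f χ) χ.1 : ℤ) = ν + εz := by
      have h1 := hdiff (f χ) χ ξ₀
      simp only [δ, if_pos, if_neg (fun h => hξ₀ (hfinj h)), sub_zero, mul_one] at h1
      omega
    have hd := hdeg (f χ) (himg χ)
    rw [← Finset.add_sum_erase _ _ (Finset.mem_univ χ),
      Finset.sum_congr rfl (g := fun _ => ν) (fun ξ hξ => hcν ξ (Finset.mem_erase.1 hξ).1),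
      Finset.sum_const, Finset.card_erase_of_mem (Finset.mem_univ _), Finset.card_univ, smul_eq_mul] at hd
    rcases Nat.eq_zero_or_pos ν with h0 | h0
    · left
      have hc1 : c (f χ) χ.1 = 1 := by rcases hεz' with h | h <;> omega
      have hres : ∀ x : N, res (f χ) x = (χ.1 : ↥N → ℂ) x := by
        intro x
        rw [hrel _ (himg χ) x, Finset.sum_eq_single χ (fun ξ _ hξ => by
          rw [hcν ξ hξ, h0, Nat.cast_zero, zero_mul]) (fun h => absurd (Finset.mem_univ _) h),
          hc1, Nat.cast_one, one_mul]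
      let D : G → ℂ := fun g => (f χ : G → ℂ) g * conj ((f χ : G → ℂ) g)
      have hDc : Cfsg.IsCharacter G D :=
        IsChar.mul (IsIrr.isCharacter (f χ).2) (IsChar.conj (IsIrr.isCharacter (f χ).2))
      obtain ⟨a, ha⟩ := IsChar.exists_sum hDc
      have ha' : ∀ g, D g = ∑ η : Cfsg.IrrCharacter G, (a η : ℂ) * (η : G → ℂ) g := fun g => by
        rw [ha]; simp
      have hat : (a (trivChar G) : ℂ) = 1 := by
        rw [← classInner_sum_irr (fun η => (a η : ℂ)) (trivChar G), ← ha, ← classInner_irr_self (f χ)]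
        simp only [Cfsg.classInner, D, trivChar_apply, map_one, mul_one]
      have hat' : a (trivChar G) = 1 := by exact_mod_cast hat
      choose! k hk1 hk2 using hk
      have hDH : ∑ u : H, D u = ((h * e : ℕ) : ℂ) := by
        have h1 := classInner_irr_self χ.1
        simp only [Cfsg.classInner] at h1
        rw [hsum (fun x => (χ.1 : ↥N → ℂ) x * conj ((χ.1 : ↥N → ℂ) x))
          (fun x hx => by rw [hRvan χ x hx, zero_mul]), hNcard] at h1
        rw [inv_mul_eq_one₀ (Nat.cast_ne_zero.2 (by rw [← hNcard]; exact Nat.card_pos.ne'))] at h1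
        rw [h1]
        refine Finset.sum_congr rfl fun u _ => ?_
        rw [show D u = res (f χ) ⟨u, hHN u.2⟩ * conj (res (f χ) ⟨u, hHN u.2⟩) from rfl, hres]
      have hD1 : D 1 = ((e * e : ℕ) : ℂ) := by
        rw [show D 1 = res (f χ) 1 * conj (res (f χ) 1) from rfl, hres, hRdeg, map_natCast, Nat.cast_mul]
      have hsumH : h * e = h + h * ∑ η ∈ Finset.univ.erase (trivChar G), a η * k η := by
        rw [← Nat.cast_inj (R := ℂ), ← hDH, Nat.cast_add, Nat.cast_mul, Nat.cast_sum, Finset.mul_sum,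
          Finset.sum_congr rfl (fun (u : H) _ => ha' (u : G)), Finset.sum_comm,
          ← Finset.add_sum_erase _ _ (Finset.mem_univ (trivChar G))]
        congr 1
        · simp [hat, hh, trivChar_apply, Nat.card_eq_fintype_card]
        · refine Finset.sum_congr rfl fun η hη => ?_
          rw [← Finset.mul_sum, show ∑ u : H, (η : G → ℂ) u = S η from rfl,
            hk1 η (Finset.mem_erase.1 hη).1]
          push_cast
          ring
      have hsum1 : e * e = 1 + ∑ η ∈ Finset.univ.erase (trivChar G), a η * Cfsg.charDegree (η : G → ℂ) := by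
        rw [← Nat.cast_inj (R := ℂ), ← hD1, ha', Nat.cast_add, Nat.cast_sum,
          ← Finset.add_sum_erase _ _ (Finset.mem_univ (trivChar G))]
        congr 1
        · simp [hat, trivChar_apply]
        · refine Finset.sum_congr rfl fun η _ => ?_
          rw [Nat.cast_mul, CfsgLib.CharDegree.cast_irrDegree]
      have hle : (h + 1) * ∑ η ∈ Finset.univ.erase (trivChar G), a η * k η ≤
          2 * ∑ η ∈ Finset.univ.erase (trivChar G), a η * Cfsg.charDegree (η : G → ℂ) := by
        rw [Finset.mul_sum, Finset.mul_sum]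
        refine Finset.sum_le_sum fun η hη => ?_
        have h1 := Nat.mul_le_mul_left (a η) (hk2 η (Finset.mem_erase.1 hη).1)
        linarith
      have he2 : e = 1 + ∑ η ∈ Finset.univ.erase (trivChar G), a η * k η :=
        Nat.eq_of_mul_eq_mul_left hh0 (by rw [Nat.mul_add, mul_one]; exact hsumH)
      have he2' : 2 ≤ e := by
        have he1 : e ≠ 1 := fun h1 => hlt.not_ge
          (Subgroup.subgroupOf_eq_top.1 (Subgroup.index_eq_one.1 h1))
        have : e ≠ 0 := Subgroup.index_ne_zero_of_finite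
        omega
      generalize hA' : ∑ η ∈ Finset.univ.erase (trivChar G), a η * k η = A at he2 hle
      generalize hB' : ∑ η ∈ Finset.univ.erase (trivChar G), a η * Cfsg.charDegree (η : G → ℂ) = B at hsum1 hle
      rw [he2] at hsum1
      have hA0 : 0 < A := by omega
      have h7 : (h + 1) * A ≤ (2 * (A + 2)) * A := by nlinarith
      have h8 := Nat.le_of_mul_le_mul_right h7 hA0
      omega
    · right
      obtain ⟨m', hm'⟩ : ∃ m', Fintype.card R = m' + 1 := ⟨Fintype.card R - 1, by omega⟩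
      rw [hm', Nat.add_sub_cancel] at hd
      have h1 : e * m' ≤ e * (m' * ν) := Nat.mul_le_mul_left e (Nat.le_mul_of_pos_right m' h0)
      have h2 : e * (m' * ν) ≤ Cfsg.charDegree (f χ : G → ℂ) := by
        rw [hd, Nat.mul_add]; exact Nat.le_add_left _ _
      rw [hm', Nat.add_mul, one_mul, mul_comm m' e] at hm
      omega
  by_contra hcon
  have hT : ∀ χ : R, h ≤ Cfsg.charDegree (f χ : G → ℂ) + e + 1 := fun χ => (hexc χ).resolve_left hcon
  -- the other characters
  set T := Finset.univ.image f with hTdef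
  have hTcard : T.card = Fintype.card R := by
    rw [hTdef, Finset.card_image_of_injective _ hfinj, Finset.card_univ]
  have hPSS : ∀ θ ∈ PS, S θ ≠ 0 := by
    intro θ hθ h0
    simp only [S] at h0
    rw [sum_subgroup_const _ (hPS θ hθ).2, (hPS θ hθ).1, ← hh] at h0
    have h1 : ((2 * h : ℕ) : ℂ) = 0 := by push_cast; linear_combination h0
    rw [Nat.cast_eq_zero] at h1
    omega
  have htrivS : S (trivChar G) ≠ 0 := by
    simp only [S, trivChar_apply, Finset.sum_const, Finset.card_univ, nsmul_eq_mul, mul_one]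
    exact Nat.cast_ne_zero.2 Fintype.card_ne_zero
  have htrivPS : trivChar G ∉ PS := fun h0 => by
    have h1 : ((0 : ℕ) : ℂ) = (h : ℂ) := by
      have h2 := (hPS _ h0).1
      rw [trivChar_apply] at h2
      push_cast
      linear_combination h2
    rw [Nat.cast_inj] at h1
    omega
  have hdisj1 : Disjoint PS T := Finset.disjoint_left.2 fun θ h1 h2 => by
    obtain ⟨χ, -, rfl⟩ := Finset.mem_image.1 h2
    exact hPSS _ h1 (himg χ)
  have hdisj2 : trivChar G ∉ PS ∪ T := by
    rw [Finset.mem_union]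
    rintro (h1 | h1)
    · exact htrivPS h1
    · obtain ⟨χ, -, hχ⟩ := Finset.mem_image.1 h1
      exact htrivS (hχ ▸ himg χ)
  set O := Finset.univ \ insert (trivChar G) (PS ∪ T) with hO
  have hOdeg : ∀ θ ∈ O, h ≤ Cfsg.charDegree (θ : G → ℂ) + 1 := by
    intro θ hθ
    simp only [hO, Finset.mem_sdiff, Finset.mem_insert, Finset.mem_union, not_or] at hθ
    by_cases hS : S θ = 0
    · have hd := hdeg θ hS
      have hconst : ∀ ξ : R, c θ ξ.1 = c θ χa.1 := by
        intro ξ
        have hn : ∀ η : R, f η ≠ θ := fun η h => hθ.2.2.2 (h ▸ Finset.mem_image_of_mem f (Finset.mem_univ η))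
        have h1 := hdiff θ ξ χa
        simp only [δ, if_neg (hn _), sub_self, mul_zero] at h1
        omega
      rw [Finset.sum_congr rfl (fun ξ _ => hconst ξ), Finset.sum_const, Finset.card_univ, smul_eq_mul] at hd
      have hpos : 0 < c θ χa.1 := Nat.pos_of_ne_zero fun h0 =>
        (CfsgLib.CharDegree.charDegree_pos θ).ne' (by rw [hd, h0, mul_zero, mul_zero])
      have h1 := Nat.mul_le_mul_left e (Nat.le_mul_of_pos_right (Fintype.card R) hpos)
      rw [mul_comm] at hm
      omega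
    · rcases hA θ hθ.2.1 hS with ⟨h1, -⟩ | ⟨h1, -⟩
      · rw [CfsgLib.CharDegree.charDegree_eq_of_apply_one h1]; omega
      · rw [CfsgLib.CharDegree.charDegree_eq_of_apply_one (n := h + 1) (by rw [h1]; push_cast; rfl)]
        omega
  -- counting classes
  have hcount : e + 1 + Fintype.card R ≤ Fintype.card (Cfsg.IrrCharacter G) := by
    haveI : Finite (ConjClasses G) := Finite.of_surjective _ ConjClasses.mk_surjective
    haveI := Fintype.ofFinite (ConjClasses G)
    rw [← Nat.card_eq_fintype_card (α := Cfsg.IrrCharacter G), card_irrCharacter, Nat.card_eq_fintype_card]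
    rw [Nat.card_eq_fintype_card, Fintype.card_subtype] at hclass
    set Out := Finset.univ.filter fun C : ConjClasses G => ∀ g : G, ConjClasses.mk g = C → g ∉ H
    set U := (Finset.univ.filter fun g : G => g ∈ H).erase 1 with hU
    have hUcard : U.card + 1 = h := by
      rw [hU, Finset.card_erase_add_one (by simp), hh, Nat.card_eq_fintype_card, Fintype.card_subtype]
    have hfib : ∀ C ∈ U.image ConjClasses.mk, (U.filter fun g => ConjClasses.mk g = C).card ≤ e := by
      intro C hC'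
      obtain ⟨u, hu, rfl⟩ := Finset.mem_image.1 hC'
      haveI := Fintype.ofFinite (N ⧸ K')
      rw [he, Subgroup.index_eq_card, Nat.card_eq_fintype_card]
      refine (Finset.card_le_card (t := Finset.univ.image fun q : N ⧸ K' =>
        (q.out : G) * u * (q.out : G)⁻¹) ?_).trans (Finset.card_image_le.trans (Finset.card_univ).le)
      intro v hv
      simp only [hU, Finset.mem_filter, Finset.mem_erase, Finset.mem_univ, true_and] at hu hv
      obtain ⟨g, hg⟩ := isConj_iff.1 (ConjClasses.mk_eq_mk_iff_isConj.1 hv.2.symm)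
      have hgN : g ∈ N := by
        by_contra hgN
        exact hu.1 (hTI g hgN u hu.2 (hg ▸ hv.1.2))
      refine Finset.mem_image.2 ⟨QuotientGroup.mk ⟨g, hgN⟩, Finset.mem_univ _, ?_⟩
      obtain ⟨⟨k, hk'⟩, hk⟩ := QuotientGroup.mk_out_eq_mul K' (⟨g, hgN⟩ : N)
      rw [hk, ← hg, Subgroup.coe_mul]
      show g * (k : G) * u * (g * (k : G))⁻¹ = _
      rw [mul_inv_rev, show g * (k : G) * u * ((k : G)⁻¹ * g⁻¹) = g * ((k : G) * u * (k : G)⁻¹) * g⁻¹ by group,
        hab _ (Subgroup.mem_subgroupOf.1 hk') _ hu.2, mul_inv_cancel_right]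
    have h1 := Finset.card_le_mul_card_image U e hfib
    have h2 : Fintype.card R ≤ (U.image ConjClasses.mk).card := by
      refine Nat.le_of_mul_le_mul_left (?_ : e * _ ≤ e * _) (Nat.pos_of_ne_zero Subgroup.index_ne_zero_of_finite)
      rw [mul_comm e (Fintype.card R)]
      omega
    have hd1 : Disjoint Out (U.image ConjClasses.mk) := Finset.disjoint_left.2 fun C h3 h4 => by
      obtain ⟨u, hu, rfl⟩ := Finset.mem_image.1 h4
      simp only [Out, hU, Finset.mem_filter, Finset.mem_erase, Finset.mem_univ, true_and] at h3 hu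
      exact h3 u rfl hu.2
    have hd2 : ConjClasses.mk (1 : G) ∉ Out ∪ U.image ConjClasses.mk := by
      rw [Finset.mem_union]
      rintro (h3 | h3)
      · exact (Finset.mem_filter.1 h3).2 1 rfl H.one_mem
      · obtain ⟨u, hu, hu'⟩ := Finset.mem_image.1 h3
        exact (Finset.mem_erase.1 hu).1 (isConj_one_left.1 (ConjClasses.mk_eq_mk_iff_isConj.1 hu'))
    have h3 := Finset.card_le_univ (insert (ConjClasses.mk (1 : G)) (Out ∪ U.image ConjClasses.mk))
    rw [Finset.card_insert_of_notMem hd2, Finset.card_union_of_disjoint hd1] at h3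
    omega
  have hPO : e ≤ PS.card + O.card := by
    have h1 := Finset.card_sdiff_add_card_eq_card (Finset.subset_univ (insert (trivChar G) (PS ∪ T)))
    rw [← hO, Finset.card_insert_of_notMem hdisj2, Finset.card_union_of_disjoint hdisj1,
      Finset.card_univ, hTcard] at h1
    omega
  -- the sum of squares
  have hsq : ∑ θ : Cfsg.IrrCharacter G, Cfsg.charDegree (θ : G → ℂ) ^ 2 = Nat.card G := by
    rw [← Nat.cast_inj (R := ℂ), Nat.cast_sum, ← sum_sq_degree]
    exact Finset.sum_congr rfl fun θ _ => by rw [Nat.cast_pow, CfsgLib.CharDegree.cast_irrDegree]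
  rw [← Finset.sum_sdiff (Finset.subset_univ (insert (trivChar G) (PS ∪ T))), ← hO,
    Finset.sum_insert hdisj2, Finset.sum_union hdisj1, hG] at hsq
  obtain ⟨m, hmdef⟩ : ∃ m, Fintype.card R = m + 1 := ⟨Fintype.card R - 1, by omega⟩
  rw [hmdef] at hm
  have htriv : Cfsg.charDegree ((trivChar G : Cfsg.IrrCharacter G) : G → ℂ) ^ 2 = 1 := by
    rw [CfsgLib.CharDegree.charDegree_eq_of_apply_one (n := 1) (by rw [trivChar_apply, Nat.cast_one]),
      one_pow]
  have hbP : PS.card * (h + 1) ^ 2 ≤ ∑ θ ∈ PS, Cfsg.charDegree (θ : G → ℂ) ^ 2 := by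
    rw [← smul_eq_mul, ← Finset.sum_const]
    exact Finset.sum_le_sum fun θ hθ => by
      rw [CfsgLib.CharDegree.charDegree_eq_of_apply_one (n := h + 1)
        (by rw [(hPS θ hθ).1]; push_cast; rfl)]
  have hbO : O.card * ((m + 1) * e) ^ 2 ≤ ∑ θ ∈ O, Cfsg.charDegree (θ : G → ℂ) ^ 2 := by
    rw [← smul_eq_mul, ← Finset.sum_const]
    exact Finset.sum_le_sum fun θ hθ => Nat.pow_le_pow_left (by have := hOdeg θ hθ; omega) 2
  have hbT : (m + 1) * (m * e) ^ 2 ≤ ∑ θ ∈ T, Cfsg.charDegree (θ : G → ℂ) ^ 2 := by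
    rw [← hmdef, ← hTcard, ← smul_eq_mul, ← Finset.sum_const]
    refine Finset.sum_le_sum fun θ hθ => ?_
    obtain ⟨χ, -, rfl⟩ := Finset.mem_image.1 hθ
    refine Nat.pow_le_pow_left ?_ 2
    have := hT χ
    rw [Nat.add_mul, one_mul] at hm
    omega
  have hm3 : 2 ≤ m := by
    by_contra h0
    have : (m + 1) * e ≤ 2 * e := Nat.mul_le_mul_right e (by omega)
    omega
  have he1 : 1 ≤ e := Nat.pos_of_ne_zero Subgroup.index_ne_zero_of_finite
  rw [htriv] at hsq
  have e1 : e * ((m + 1) * e) ^ 2 + 2 * h * e ≤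
      PS.card * (h + 1) ^ 2 + O.card * ((m + 1) * e) ^ 2 + 2 * h := by
    have h1 := Nat.mul_le_mul_right (((m + 1) * e) ^ 2) hPO
    have h2 := Nat.mul_le_mul_right (2 * h) hPScard
    have h3 : (h + 1) ^ 2 = ((m + 1) * e) ^ 2 + 4 * h := by rw [← hm]; ring
    rw [h3]
    linarith
  have key : 1 + e * ((m + 1) * e) ^ 2 + 2 * h * e + (m + 1) * (m * e) ^ 2 ≤
      (h + 1) * (h * e) + 2 * h := by linarith
  rw [← hm] at key
  have h5 : (m + 1) * (m * e) ^ 2 ≤ (m + 1) * (e ^ 2 + 2 * e) + 1 := by linarith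
  have h6 : 4 * e ^ 2 ≤ (m * e) ^ 2 := by
    rw [mul_pow]
    exact Nat.mul_le_mul_right _ (by nlinarith)
  nlinarith

end CfsgLib.Perm
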