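import Mathlib
import Cfsg.Agent.Lib.Perm.ZassenhausAbelian
import Cfsg.Agent.Lib.Perm.FrobeniusKernelClasses
import Cfsg.Agent.Lib.Char.Coherence.TIFNCoherence

/-! A trivial-intersection subgroup with coherent exceptional characters and the principal series
of a Zassenhaus group is small against its index. -/

set_option autoImplicit false

open Cfsg
open scoped ComplexConjugate

namespace CfsgLib.Perm

open CfsgLib.Char CfsgLib.Char.Exceptional

variable {G : Type*} [Group G] [Fintype G]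

set_option maxHeartbeats 2000000 in
/-- Abstract form: a solvable trivial-intersection subgroup with Frobenius normaliser, coherent
exceptional characters and the principal series of a Zassenhaus group is small against its index. -/
theorem ti_coherent_bound (H : Subgroup G) [Fintype H]
    [Fintype ↥(Subgroup.normalizer (H : Set G))]
    (hTI : ∀ g : G, g ∉ Subgroup.normalizer (H : Set G) → ∀ k ∈ H, g * k * g⁻¹ ∈ H → k = 1)
    (hlt : H < Subgroup.normalizer (H : Set G))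
    (hC : ∀ k ∈ H, k ≠ 1 → Subgroup.centralizer ({k} : Set G) ≤ H)
    (hH1 : H ≠ ⊥) (hsolv : Group.IsSolvable H)
    (hcoh : Cfsg.IsCoherent (tifnSet H) {1}ᶜ (Cfsg.indFun (Subgroup.normalizer (H : Set G))))
    {h e : ℕ} (hh : Nat.card H = h)
    (he : (H.subgroupOf (Subgroup.normalizer (H : Set G))).index = e)
    (hG : Nat.card G = (h + 1) * (h * e))
    (hA : ∀ θ : Cfsg.IrrCharacter G, θ ≠ trivChar G → ∑ u : H, (θ : G → ℂ) u ≠ 0 →
      ((θ : G → ℂ) 1 = (h : ℂ) ∧ ∀ u ∈ H, u ≠ 1 → (θ : G → ℂ) u = 0) ∨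
      ((θ : G → ℂ) 1 = (h : ℂ) + 1 ∧ ∀ u ∈ H, u ≠ 1 → (θ : G → ℂ) u = 1))
    (PS : Finset (Cfsg.IrrCharacter G))
    (hPS : ∀ θ ∈ PS, (θ : G → ℂ) 1 = (h : ℂ) + 1 ∧ ∀ u ∈ H, u ≠ 1 → (θ : G → ℂ) u = 1)
    (hPScard : e ≤ 2 * PS.card + 1)
    (hclass : e ≤ Nat.card {C : ConjClasses G // ∀ g : G, ConjClasses.mk g = C → g ∉ H}) :
    h ≤ 2 * e + 1 := by
  classical
  subst hh he
  let N := Subgroup.normalizer (H : Set G)
  set K' := H.subgroupOf N with hK'
  haveI := Fintype.ofFinite (Cfsg.IrrCharacter G)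
  haveI := Fintype.ofFinite (Cfsg.IrrCharacter N)
  haveI : K'.Normal := tifn_normal H
  set h := Nat.card H with hh
  set e := K'.index with he
  have hh0 : 0 < h := Nat.card_pos
  have he0 : 0 < e := Nat.pos_of_ne_zero Subgroup.index_ne_zero_of_finite
  have hHN : H ≤ N := Subgroup.le_normalizer
  have hK'card : Nat.card K' = h := Nat.card_congr (Subgroup.subgroupOfEquivOfLe hHN).toEquiv
  have hNcard : Nat.card N = h * e := by rw [← K'.card_mul_index, hK'card]
  let R := {χ : Cfsg.IrrCharacter N // ∃ k : N, (k : G) ∈ H ∧ (χ : ↥N → ℂ) k ≠ (χ : ↥N → ℂ) 1}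
  haveI : Fintype R := Fintype.ofFinite R
  have hRset : ∀ χ : R, (χ.1 : ↥N → ℂ) ∈ tifnSet H := fun χ => ⟨χ.1.2, χ.2⟩
  let n : R → ℕ := fun χ => Cfsg.charDegree (χ.1 : ↥N → ℂ)
  have hRdeg : ∀ χ : R, (χ.1 : ↥N → ℂ) 1 = (n χ : ℂ) := fun χ =>
    (CfsgLib.CharDegree.cast_irrDegree χ.1).symm
  have hnpos : ∀ χ : R, 0 < n χ := fun χ => CfsgLib.CharDegree.charDegree_pos χ.1
  -- the sum of the squares of their degrees
  have hm : (∑ χ : R, n χ ^ 2) + e = h * e := by
    have h1 := CfsgLib.CharDegree.sum_sq_degree_of_not_le_ker K'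
    rw [Finset.sum_subtype (p := fun χ : Cfsg.IrrCharacter N => ∃ k : N, (k : G) ∈ H ∧
        (χ : ↥N → ℂ) k ≠ (χ : ↥N → ℂ) 1) _ (fun χ => by
          simp only [Finset.mem_filter, Finset.mem_univ, true_and, hK', Subgroup.mem_subgroupOf]
          push Not
          rfl) (F := inferInstance)] at h1
    rw [hNcard, ← he] at h1
    exact h1
  -- a member of degree `e`
  obtain ⟨χ₀, hχ₀⟩ : ∃ χ₀ : R, n χ₀ = e := by
    have hsolv' : Group.IsSolvable K' :=
      haveI := hsolv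
      Group.isSolvable_of_surjective (f := ((Subgroup.subgroupOfEquivOfLe hHN).symm : H ≃* K').toMonoidHom) (Subgroup.subgroupOfEquivOfLe hHN).symm.surjective
    obtain ⟨χ₁, hχ₁, hdeg⟩ := CfsgLib.Coh.exists_min_member hsolv' (A := ⊥)
      fun h => CfsgLib.Coh.tifnH_ne_bot H hH1 (le_bot_iff.mp h)
    rw [CfsgLib.Coh.above_eq_tifnSet H hC] at hχ₁
    exact ⟨⟨⟨χ₁, hχ₁.1⟩, hχ₁.2⟩, CfsgLib.CharDegree.charDegree_eq_of_apply_one hdeg⟩
  obtain ⟨⟨α, hα, hα0⟩, τ, hτ, hτe⟩ := hcoh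
  obtain ⟨χ₁, hne01⟩ : ∃ χ₁ : R, χ₁ ≠ χ₀ := by
    by_contra hcon
    push Not at hcon
    have hall : ∀ f ∈ Cfsg.zspan (tifnSet H), ∃ c : ℂ, f = c • (χ₀.1 : ↥N → ℂ) := by
      intro f hf
      induction hf using Submodule.span_induction with
      | mem y hy =>
        refine ⟨1, ?_⟩
        rw [one_smul, ← hcon ⟨⟨y, hy.1⟩, hy.2⟩]
      | zero => exact ⟨0, (zero_smul _ _).symm⟩
      | add y z _ _ ihy ihz =>
        obtain ⟨c, rfl⟩ := ihy
        obtain ⟨d, rfl⟩ := ihz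
        exact ⟨c + d, (add_smul _ _ _).symm⟩
      | smul m y _ ih =>
        obtain ⟨c, rfl⟩ := ih
        exact ⟨(m : ℂ) * c, by rw [← Int.cast_smul_eq_zsmul ℂ, smul_smul]⟩
    obtain ⟨c, rfl⟩ := hall α hα.1
    have h1 := hα.2 1 (by simp)
    rw [Pi.smul_apply, smul_eq_mul, hRdeg, mul_eq_zero, Nat.cast_eq_zero] at h1
    rcases h1 with rfl | h1
    · exact hα0 (zero_smul _ _)
    · exact (hnpos χ₀).ne' h1
  obtain ⟨hiso, hiso1⟩ := tifn_isometry H hTI hC
  have hirrS : ∀ χ ∈ tifnSet H, Cfsg.IsIrrCharacter ↥N χ := fun χ h => h.1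
  obtain ⟨ε, hε, hirrA, hinjA⟩ := iso_signs hirrS
    ⟨_, hRset χ₀, _, hRset χ₁, fun e' => hne01 (Subtype.ext (Subtype.ext e'.symm))⟩ hτ fun β hβ h1 => by
      have hm' : β ∈ Cfsg.zspanOn (tifnSet H) {1}ᶜ := ⟨hβ, fun x hx => by
        simp only [Set.mem_compl_iff, Set.mem_singleton_iff, not_not] at hx
        rw [hx, h1]⟩
      rw [hτe β hm']
      exact hiso1 β hm'
  obtain ⟨εz, hεz, hεz'⟩ : ∃ z : ℤ, (z : ℂ) = ε ∧ (z = 1 ∨ z = -1) := by
    rcases hε with rfl | rfl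
    exacts [⟨1, by simp, Or.inl rfl⟩, ⟨-1, by simp, Or.inr rfl⟩]
  have hε0 : ε ≠ 0 := by rcases hε with rfl | rfl <;> norm_num
  have hεε : ε * ε = 1 := by rcases hε with rfl | rfl <;> norm_num
  obtain ⟨f, hfdef⟩ : ∃ f : R → Cfsg.IrrCharacter G,
      ∀ χ, (f χ : G → ℂ) = ε • τ (χ.1 : ↥N → ℂ) :=
    ⟨fun χ => ⟨_, hirrA _ (hRset χ)⟩, fun χ => rfl⟩
  have hfinj : Function.Injective f := by
    intro χ η h1
    refine Subtype.ext (Subtype.ext (hinjA _ (hRset χ) _ (hRset η) ?_))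
    have h2 := congrArg (fun F : G → ℂ => ε • F) (congrArg Subtype.val h1)
    simpa [hfdef, smul_smul, hεε] using h2
  have hf : ∀ χ ξ : R, Cfsg.indFun N ((n ξ : ℂ) • (χ.1 : ↥N → ℂ) - (n χ : ℂ) • (ξ.1 : ↥N → ℂ)) =
      ε • ((n ξ : ℂ) • (f χ : G → ℂ) - (n χ : ℂ) • (f ξ : G → ℂ)) := by
    intro χ ξ
    rw [← hτe _ (combo_mem_zspanOn_one (hRset χ) (hRset ξ) (hRdeg χ) (hRdeg ξ)),
      iso_map_sub hτ (natCast_smul_mem_zspan _ (mem_zspan_self (hRset χ)))
        (natCast_smul_mem_zspan _ (mem_zspan_self (hRset ξ))),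
      iso_map_natCast_smul hτ (mem_zspan_self (hRset χ)),
      iso_map_natCast_smul hτ (mem_zspan_self (hRset ξ))]
    funext g
    simp only [hfdef, Pi.sub_apply, Pi.smul_apply, smul_eq_mul]
    linear_combination -((n ξ : ℂ) * τ (χ.1 : ↥N → ℂ) g - (n χ : ℂ) * τ (ξ.1 : ↥N → ℂ) g) * hεε
  -- relevant characters: vanishing and sums
  have hRvan : ∀ χ : R, ∀ x : N, (x : G) ∉ H → (χ.1 : ↥N → ℂ) x = 0 := fun χ x hx =>
    tifn_vanish hC (hRset χ) hx
  have hRne : ∀ χ : R, χ.1 ≠ trivChar N := by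
    intro χ e1
    obtain ⟨k, -, hk⟩ := χ.2
    exact hk (by rw [e1, trivChar_apply, trivChar_apply])
  have hRsum : ∀ χ : R, ∑ x : N, (χ.1 : ↥N → ℂ) x = 0 := by
    intro χ
    have h1 := classInner_irr_of_ne (hRne χ)
    simp only [Cfsg.classInner, trivChar_apply, map_one, mul_one] at h1
    exact (mul_eq_zero.1 h1).resolve_left (inv_ne_zero (Nat.cast_ne_zero.2 Nat.card_pos.ne'))
  -- functions vanishing outside `H` sum over `N` as over `H`
  have hsum : ∀ F : N → ℂ, (∀ x : N, (x : G) ∉ H → F x = 0) →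
      ∑ x : N, F x = ∑ u : H, F ⟨u, hHN u.2⟩ := by
    intro F hF
    rw [← Finset.sum_subset (Finset.subset_univ (Finset.univ.image fun u : H => (⟨u, hHN u.2⟩ : N))),
      Finset.sum_image (g := fun u : H => (⟨u, hHN u.2⟩ : N)) fun a _ b _ h => Subtype.ext (congrArg (fun x : N => (x : G)) h)]
    intro x _ hx
    exact hF x fun hxH => hx (Finset.mem_image.2 ⟨⟨x, hxH⟩, Finset.mem_univ _, rfl⟩)
  -- restrictions
  let res : Cfsg.IrrCharacter G → ↥N → ℂ := fun θ x => (θ : G → ℂ) x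
  have hresc : ∀ θ, Cfsg.IsCharacter N (res θ) := fun θ => IsChar.restrict N (IsIrr.isCharacter θ.2)
  have hc0 : ∀ θ (η : Cfsg.IrrCharacter N), ∃ m : ℕ, Cfsg.classInner (res θ) (η : ↥N → ℂ) = m :=
    fun θ η => IsChar.classInner_eq_natCast (hresc θ) (IsIrr.isCharacter η.2)
  choose c hc using hc0
  let S : Cfsg.IrrCharacter G → ℂ := fun θ => ∑ u : H, (θ : G → ℂ) u
  have hrel : ∀ θ, S θ = 0 → ∀ x : N, res θ x = ∑ χ : R, (c θ χ.1 : ℂ) * (χ.1 : ↥N → ℂ) x := by
    intro θ hθ x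
    have hexp : ∀ y : N, res θ y = ∑ η : Cfsg.IrrCharacter N, (c θ η : ℂ) * (η : ↥N → ℂ) y := fun y => by
      rw [classFunction_apply_eq_sum (IsChar.isClassFunction (hresc θ)) y]
      simp only [hc]
    have hη : ∀ η : Cfsg.IrrCharacter N, ∑ u : H, (η : ↥N → ℂ) ⟨u, hHN u.2⟩ =
        if (∃ k : N, (k : G) ∈ H ∧ (η : ↥N → ℂ) k ≠ (η : ↥N → ℂ) 1) then 0
        else (h : ℂ) * (Cfsg.charDegree (η : ↥N → ℂ) : ℂ) := by
      intro η
      split
      · next hr => rw [← hsum _ (hRvan ⟨η, hr⟩)]; exact hRsum ⟨η, hr⟩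
      · next hr =>
        push Not at hr
        rw [Finset.sum_congr rfl (g := fun _ => (η : ↥N → ℂ) 1) (fun u _ => hr _ u.2), Finset.sum_const,
          Finset.card_univ, ← Nat.card_eq_fintype_card, nsmul_eq_mul, CfsgLib.CharDegree.cast_irrDegree]
    have h0 : ∀ η : Cfsg.IrrCharacter N,
        (¬ ∃ k : N, (k : G) ∈ H ∧ (η : ↥N → ℂ) k ≠ (η : ↥N → ℂ) 1) → c θ η = 0 := by
      intro η hr
      have h1 : S θ = ∑ η : Cfsg.IrrCharacter N, (c θ η : ℂ) * ∑ u : H, (η : ↥N → ℂ) ⟨u, hHN u.2⟩ := by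
        simp only [S, Finset.mul_sum]
        rw [Finset.sum_comm]
        exact Finset.sum_congr rfl fun u _ => hexp ⟨u, hHN u.2⟩
      have h2 : (0 : ℂ) = ((∑ η : Cfsg.IrrCharacter N,
          if (∃ k : N, (k : G) ∈ H ∧ (η : ↥N → ℂ) k ≠ (η : ↥N → ℂ) 1) then 0
          else c θ η * (h * Cfsg.charDegree (η : ↥N → ℂ)) : ℕ) : ℂ) := by
        rw [← hθ, h1, Nat.cast_sum]
        refine Finset.sum_congr rfl fun η _ => ?_
        rw [hη η]
        split <;> simp
      have h3 := Finset.sum_eq_zero_iff.1 (Nat.cast_eq_zero.1 h2.symm) η (Finset.mem_univ _)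
      rw [if_neg hr] at h3
      exact (mul_eq_zero.1 h3).resolve_right
        (Nat.mul_pos hh0 (CfsgLib.CharDegree.charDegree_pos η)).ne'
    rw [hexp x, ← Finset.sum_subtype (Finset.univ.filter fun η : Cfsg.IrrCharacter N =>
        ∃ k : N, (k : G) ∈ H ∧ (η : ↥N → ℂ) k ≠ (η : ↥N → ℂ) 1) (by simp)
        (fun η => (c θ η : ℂ) * (η : ↥N → ℂ) x)]
    refine (Finset.sum_filter_of_ne fun η _ hne => ?_).symm
    by_contra hr
    exact hne (by rw [h0 η hr, Nat.cast_zero, zero_mul])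
  have hdeg : ∀ θ, S θ = 0 → Cfsg.charDegree (θ : G → ℂ) = ∑ χ : R, c θ χ.1 * n χ := by
    intro θ hθ
    apply CfsgLib.CharDegree.charDegree_eq_of_apply_one
    rw [show (θ : G → ℂ) 1 = res θ 1 from rfl, hrel θ hθ, Nat.cast_sum]
    exact Finset.sum_congr rfl fun χ _ => by rw [hRdeg χ, Nat.cast_mul]
  -- differences of multiplicities
  let δ : Cfsg.IrrCharacter G → R → ℤ := fun θ χ => if f χ = θ then 1 else 0
  have hinner : ∀ θ (χ ξ : R),
      Cfsg.classInner ((n ξ : ℂ) • (χ.1 : ↥N → ℂ) - (n χ : ℂ) • (ξ.1 : ↥N → ℂ)) (res θ) =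
      ε * ((n ξ : ℂ) * (δ θ χ : ℂ) - (n χ : ℂ) * (δ θ ξ : ℂ)) := by
    intro θ χ ξ
    rw [← frobenius_reciprocity N _ (IsIrr.isClassFunction θ.2), hf χ ξ, classInner_smul_left,
      classInner_sub_left, classInner_smul_left, classInner_smul_left, classInner_irr, classInner_irr]
    simp only [δ]
    congr 1
    congr 1 <;> split <;> simp
  have hdiff : ∀ θ (χ ξ : R), (n ξ : ℤ) * c θ χ.1 - n χ * c θ ξ.1 =
      εz * (n ξ * δ θ χ - n χ * δ θ ξ) := by
    intro θ χ ξ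
    have h1 := hinner θ χ ξ
    rw [classInner_sub_left, classInner_smul_left, classInner_smul_left,
      ← classInner_conj_symm, hc, ← classInner_conj_symm, hc, map_natCast,
      map_natCast, ← hεz] at h1
    exact_mod_cast h1
  let ν : Cfsg.IrrCharacter G → ℤ := fun θ => c θ χ₀.1 - εz * δ θ χ₀
  have hν : ∀ θ (ξ : R), (e : ℤ) * c θ ξ.1 = n ξ * ν θ + εz * e * δ θ ξ := by
    intro θ ξ
    have h1 := hdiff θ ξ χ₀
    rw [hχ₀] at h1
    simp only [ν]
    linear_combination h1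
  have hmZ : (∑ χ : R, (n χ : ℤ) ^ 2) + e = h * e := by exact_mod_cast hm
  have hdegν : ∀ θ, S θ = 0 → (Cfsg.charDegree (θ : G → ℂ) : ℤ) =
      ν θ * ((h : ℤ) - 1) + εz * ∑ ξ : R, δ θ ξ * n ξ := by
    intro θ hθ
    refine mul_left_cancel₀ (Nat.cast_ne_zero.2 he0.ne' : (e : ℤ) ≠ 0) ?_
    rw [hdeg θ hθ, Nat.cast_sum, Finset.mul_sum,
      Finset.sum_congr rfl (g := fun ξ : R => ν θ * (n ξ : ℤ) ^ 2 + εz * e * (δ θ ξ * n ξ))
        (fun ξ _ => by push_cast; linear_combination (n ξ : ℤ) * hν θ ξ),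
      Finset.sum_add_distrib, ← Finset.mul_sum, ← Finset.mul_sum]
    linear_combination ν θ * hmZ
  have hδsum : ∀ χ : R, ∑ ξ : R, δ (f χ) ξ * n ξ = n χ := by
    intro χ
    rw [Finset.sum_eq_single χ (fun ξ _ hξ => by simp only [δ, if_neg (fun h => hξ (hfinj h)), zero_mul])
      (fun h => absurd (Finset.mem_univ _) h)]
    simp [δ]
  have hother : ∀ χ : R, ∃ ξ : R, ξ ≠ χ := fun χ => by
    by_cases h1 : χ₀ = χ
    · exact ⟨χ₁, h1 ▸ hne01⟩
    · exact ⟨χ₀, h1⟩
  have hScases : ∀ θ, S θ ≠ 0 → ∃ B, ∀ u ∈ H, u ≠ 1 → (θ : G → ℂ) u = B := by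
    intro θ hθ
    by_cases ht : θ = trivChar G
    · exact ⟨1, fun u _ _ => by rw [ht, trivChar_apply]⟩
    rcases hA θ ht hθ with ⟨-, hB⟩ | ⟨-, hB⟩
    exacts [⟨0, hB⟩, ⟨1, hB⟩]
  have himg : ∀ χ : R, S (f χ) = 0 := by
    intro χ
    by_contra hS
    obtain ⟨B, hB⟩ := hScases _ hS
    obtain ⟨ξ, hξ⟩ := hother χ
    have h1 := hinner (f χ) χ ξ
    simp only [δ, if_pos, if_neg (fun h => hξ (hfinj h))] at h1
    have h2 : Cfsg.classInner ((n ξ : ℂ) • (χ.1 : ↥N → ℂ) - (n χ : ℂ) • (ξ.1 : ↥N → ℂ)) (res (f χ)) = 0 := by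
      simp only [Cfsg.classInner, Pi.sub_apply, Pi.smul_apply, smul_eq_mul, res]
      rw [Finset.sum_congr rfl (g := fun x : N =>
          ((n ξ : ℂ) * (χ.1 : ↥N → ℂ) x - (n χ : ℂ) * (ξ.1 : ↥N → ℂ) x) * conj B)
        (fun x _ => ?_), ← Finset.sum_mul, Finset.sum_sub_distrib, ← Finset.mul_sum, ← Finset.mul_sum,
        hRsum, hRsum, mul_zero, mul_zero, sub_zero, zero_mul, mul_zero]
      by_cases hx : (x : G) ∈ H
      · by_cases hx1 : x = 1
        · rw [hx1, hRdeg, hRdeg, mul_comm (n χ : ℂ) (n ξ : ℂ), sub_self, zero_mul, zero_mul]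
        · rw [hB _ hx fun h => hx1 (Subtype.ext h)]
      · rw [hRvan χ x hx, hRvan ξ x hx, mul_zero, mul_zero, sub_self, zero_mul, zero_mul]
    rw [h2] at h1
    exact hε0 (by simpa [(hnpos ξ).ne'] using h1.symm)
  -- values on the kernel
  obtain ⟨u₀, hu₀, hu₀1⟩ : ∃ u ∈ H, u ≠ 1 := by
    by_contra hcon
    push Not at hcon
    exact hH1 ((Subgroup.eq_bot_iff_forall H).2 hcon)
  let x₀ : N := ⟨u₀, hHN hu₀⟩
  have hx₀1 : x₀ ≠ 1 := fun h => hu₀1 (congrArg Subtype.val h)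
  have hcol : ∑ ξ : R, (n ξ : ℂ) * (ξ.1 : ↥N → ℂ) x₀ = -(e : ℂ) := by
    have h1 := sum_degree_mul_apply_of_ne_one (G := N) hx₀1
    have h2 := CfsgLib.CharDegree.sum_sq_degree_of_le_ker K'
    rw [← Finset.sum_filter_add_sum_filter_not Finset.univ
      (fun η : Cfsg.IrrCharacter N => ∀ g ∈ K', (η : ↥N → ℂ) g = (η : ↥N → ℂ) 1)] at h1
    replace h2 : ∑ η ∈ Finset.univ.filter
        (fun η : Cfsg.IrrCharacter N => ∀ g ∈ K', (η : ↥N → ℂ) g = (η : ↥N → ℂ) 1),
        (η : ↥N → ℂ) 1 ^ 2 = (K'.index : ℂ) := by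
      rw [← h2, Finset.sum_filter]
      congr!
    rw [Finset.sum_congr rfl (g := fun η : Cfsg.IrrCharacter N => (η : ↥N → ℂ) 1 ^ 2)
        (fun η hη => by rw [(Finset.mem_filter.1 hη).2 x₀ (Subgroup.mem_subgroupOf.2 hu₀), sq]),
      h2, Finset.sum_subtype (p := fun χ : Cfsg.IrrCharacter N => ∃ k : N, (k : G) ∈ H ∧
        (χ : ↥N → ℂ) k ≠ (χ : ↥N → ℂ) 1) _ (fun χ => by
          simp only [Finset.mem_filter, Finset.mem_univ, true_and, hK', Subgroup.mem_subgroupOf]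
          push Not
          rfl) (F := inferInstance),
      ← he] at h1
    rw [Finset.sum_congr rfl (g := fun ξ : R => (n ξ : ℂ) * (ξ.1 : ↥N → ℂ) x₀)
      (fun ξ _ => by rw [hRdeg ξ])] at h1
    linear_combination h1
  have hval : ∀ χ : R, res (f χ) x₀ = ε * (χ.1 : ↥N → ℂ) x₀ - (ν (f χ) : ℂ) := by
    intro χ
    refine mul_left_cancel₀ (Nat.cast_ne_zero.2 he0.ne' : (e : ℂ) ≠ 0) ?_
    rw [hrel _ (himg χ), Finset.mul_sum,
      Finset.sum_congr rfl (g := fun ξ : R => (ν (f χ) : ℂ) * ((n ξ : ℂ) * (ξ.1 : ↥N → ℂ) x₀) +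
        ε * e * ((δ (f χ) ξ : ℂ) * (ξ.1 : ↥N → ℂ) x₀)) (fun ξ _ => by
          have h1 : ((e : ℤ) * c (f χ) ξ.1 : ℂ) = ((n ξ * ν (f χ) + εz * e * δ (f χ) ξ : ℤ) : ℂ) := by
            rw [← hν (f χ) ξ]; push_cast; ring
          push_cast [hεz] at h1
          linear_combination (ξ.1 : ↥N → ℂ) x₀ * h1),
      Finset.sum_add_distrib, ← Finset.mul_sum, ← Finset.mul_sum, hcol,
      Finset.sum_eq_single χ (fun ξ _ hξ => by
        simp only [δ, if_neg (fun h => hξ (hfinj h)), Int.cast_zero, zero_mul])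
        (fun h => absurd (Finset.mem_univ _) h)]
    simp only [δ, if_pos, Int.cast_one]
    ring
  have hνrel : ∀ χ : R, (e : ℤ) * ν (f χ) = n χ * ν (f χ₀) := by
    intro χ
    have h1 := congrFun (hf χ χ₀) u₀
    rw [show u₀ = ((x₀ : N) : G) from rfl, ti_indFun_eq (tifn_ti_set hTI)
      (CfsgLib.Char.IsGen.isClassFunction (zspan_isClassFunction (fun χ hχ => CfsgLib.Char.IsGen.of_irr hχ.1)
        (combo_mem_zspanOn_one (hRset χ) (hRset χ₀) (hRdeg χ) (hRdeg χ₀)).1))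
      (tifn_support hC (combo_mem_zspanOn_one (hRset χ) (hRset χ₀) (hRdeg χ) (hRdeg χ₀)))
      (show (x₀ : G) ∈ {s : G | s ∈ H ∧ s ≠ 1} from ⟨hu₀, hu₀1⟩)] at h1
    simp only [Pi.sub_apply, Pi.smul_apply, smul_eq_mul] at h1
    rw [show (f χ : G → ℂ) x₀ = res (f χ) x₀ from rfl, show (f χ₀ : G → ℂ) x₀ = res (f χ₀) x₀ from rfl,
      hval, hval, hχ₀] at h1
    have h2 : ε * (((e : ℤ) * ν (f χ) - n χ * ν (f χ₀) : ℤ) : ℂ) = 0 := by
      push_cast
      linear_combination h1 + ((e : ℂ) * (χ.1 : ↥N → ℂ) x₀ - (n χ : ℂ) * (χ₀.1 : ↥N → ℂ) x₀) * hεε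
    have h3 := (mul_eq_zero.1 h2).resolve_left hε0
    rw [Int.cast_eq_zero] at h3
    linarith
  have hν0 : 0 ≤ ν (f χ₀) := by
    have h1 := hν (f χ₀) χ₁
    simp only [δ, if_neg (fun h => hne01 (hfinj h)), mul_zero, add_zero] at h1
    have h2 : (0 : ℤ) ≤ (n χ₁ : ℤ) * ν (f χ₀) := h1 ▸ mul_nonneg (Int.natCast_nonneg _) (Int.natCast_nonneg _)
    exact nonneg_of_mul_nonneg_right (a := (n χ₁ : ℤ)) h2 (by exact_mod_cast hnpos χ₁)
  by_contra hcon
  have hk : ∀ θ : Cfsg.IrrCharacter G, θ ≠ trivChar G →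
      ∃ k : ℕ, S θ = ((h * k : ℕ) : ℂ) ∧ k * (h + 1) ≤ 2 * Cfsg.charDegree (θ : G → ℂ) := by
    intro θ ht
    by_cases hS : S θ = 0
    · exact ⟨0, by simp [hS], by simp⟩
    rcases hA θ ht hS with ⟨h1, hB⟩ | ⟨h1, hB⟩
    · refine ⟨1, ?_, ?_⟩
      · simp only [S]
        rw [sum_subgroup_const _ hB, h1, mul_zero, add_zero, mul_one]
      · rw [CfsgLib.CharDegree.charDegree_eq_of_apply_one h1]
        omega
    · refine ⟨2, ?_, ?_⟩
      · simp only [S]
        rw [sum_subgroup_const _ hB, h1, ← hh]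
        push_cast
        ring
      · rw [CfsgLib.CharDegree.charDegree_eq_of_apply_one (n := h + 1) (by rw [h1]; push_cast; rfl)]
  -- the multiplicity offset is positive
  have hν1 : 1 ≤ ν (f χ₀) := by
    by_contra h1
    have h0 : ν (f χ₀) = 0 := by omega
    have hd := hdegν _ (himg χ₀)
    rw [h0, zero_mul, zero_add, hδsum, hχ₀] at hd
    have hε1 : εz = 1 := by
      rcases hεz' with hz | hz
      · exact hz
      · rw [hz] at hd; omega
    have hcν : ∀ ξ : R, (c (f χ₀) ξ.1 : ℤ) = δ (f χ₀) ξ := by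
      intro ξ
      have h2 := hν (f χ₀) ξ
      rw [h0, mul_zero, zero_add, hε1, one_mul] at h2
      exact mul_left_cancel₀ (Nat.cast_ne_zero.2 he0.ne') h2
    have hres : ∀ x : N, res (f χ₀) x = (χ₀.1 : ↥N → ℂ) x := by
      intro x
      rw [hrel _ (himg χ₀) x, Finset.sum_eq_single χ₀ (fun ξ _ hξ => by
        rw [show c (f χ₀) ξ.1 = 0 by
          have h2 := hcν ξ
          simp only [δ, if_neg (fun h => hξ (hfinj h))] at h2
          omega, Nat.cast_zero, zero_mul]) (fun h => absurd (Finset.mem_univ _) h),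
        show c (f χ₀) χ₀.1 = 1 by
          have h2 := hcν χ₀
          simp only [δ, if_pos] at h2
          omega, Nat.cast_one, one_mul]
    let D : G → ℂ := fun g => (f χ₀ : G → ℂ) g * conj ((f χ₀ : G → ℂ) g)
    have hDc : Cfsg.IsCharacter G D :=
      IsChar.mul (IsIrr.isCharacter (f χ₀).2) (IsChar.conj (IsIrr.isCharacter (f χ₀).2))
    obtain ⟨a, ha⟩ := IsChar.exists_sum hDc
    have ha' : ∀ g, D g = ∑ η : Cfsg.IrrCharacter G, (a η : ℂ) * (η : G → ℂ) g := fun g => by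
      rw [ha]; simp
    have hat : (a (trivChar G) : ℂ) = 1 := by
      rw [← classInner_sum_irr (fun η => (a η : ℂ)) (trivChar G), ← ha, ← classInner_irr_self (f χ₀)]
      simp only [Cfsg.classInner, D, trivChar_apply, map_one, mul_one]
    choose! k hk1 hk2 using hk
    have hDH : ∑ u : H, D u = ((h * e : ℕ) : ℂ) := by
      have h1 := classInner_irr_self χ₀.1
      simp only [Cfsg.classInner] at h1
      rw [hsum (fun x => (χ₀.1 : ↥N → ℂ) x * conj ((χ₀.1 : ↥N → ℂ) x))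
        (fun x hx => by rw [hRvan χ₀ x hx, zero_mul]), hNcard] at h1
      rw [inv_mul_eq_one₀ (Nat.cast_ne_zero.2 (by rw [← hNcard]; exact Nat.card_pos.ne'))] at h1
      rw [h1]
      refine Finset.sum_congr rfl fun u _ => ?_
      rw [show D u = res (f χ₀) ⟨u, hHN u.2⟩ * conj (res (f χ₀) ⟨u, hHN u.2⟩) from rfl, hres]
    have hD1 : D 1 = ((e * e : ℕ) : ℂ) := by
      rw [show D 1 = res (f χ₀) 1 * conj (res (f χ₀) 1) from rfl, hres, hRdeg, hχ₀, map_natCast, Nat.cast_mul]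
    have hsumH : h * e = h + h * ∑ η ∈ Finset.univ.erase (trivChar G), a η * k η := by
      rw [← Nat.cast_inj (R := ℂ), ← hDH, Nat.cast_add, Nat.cast_mul, Nat.cast_sum, Finset.mul_sum,
        Finset.sum_congr rfl (fun (u : H) _ => ha' (u : G)), Finset.sum_comm,
        ← Finset.add_sum_erase _ _ (Finset.mem_univ (trivChar G))]
      congr 1
      · simp [hat, hh, trivChar_apply, Nat.card_eq_fintype_card]
      · refine Finset.sum_congr rfl fun η hη => ?_
        rw [← Finset.mul_sum, show ∑ u : H, (η : G → ℂ) u = S η from rfl,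
          hk1 η (Finset.mem_erase.1 hη).1]
        push_cast
        ring
    have hsum1 : e * e = 1 + ∑ η ∈ Finset.univ.erase (trivChar G), a η * Cfsg.charDegree (η : G → ℂ) := by
      rw [← Nat.cast_inj (R := ℂ), ← hD1, ha', Nat.cast_add, Nat.cast_sum,
        ← Finset.add_sum_erase _ _ (Finset.mem_univ (trivChar G))]
      congr 1
      · simp [hat, trivChar_apply]
      · refine Finset.sum_congr rfl fun η _ => ?_
        rw [Nat.cast_mul, CfsgLib.CharDegree.cast_irrDegree]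
    have hle : (h + 1) * ∑ η ∈ Finset.univ.erase (trivChar G), a η * k η ≤
        2 * ∑ η ∈ Finset.univ.erase (trivChar G), a η * Cfsg.charDegree (η : G → ℂ) := by
      rw [Finset.mul_sum, Finset.mul_sum]
      refine Finset.sum_le_sum fun η hη => ?_
      have h1 := Nat.mul_le_mul_left (a η) (hk2 η (Finset.mem_erase.1 hη).1)
      linarith
    have he2 : e = 1 + ∑ η ∈ Finset.univ.erase (trivChar G), a η * k η :=
      Nat.eq_of_mul_eq_mul_left hh0 (by rw [Nat.mul_add, mul_one]; exact hsumH)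
    have he2' : 2 ≤ e := by
      have he1 : e ≠ 1 := fun h1 => hlt.not_ge
        (Subgroup.subgroupOf_eq_top.1 (Subgroup.index_eq_one.1 h1))
      omega
    generalize hA' : ∑ η ∈ Finset.univ.erase (trivChar G), a η * k η = A at he2 hle
    generalize hB' : ∑ η ∈ Finset.univ.erase (trivChar G), a η * Cfsg.charDegree (η : G → ℂ) = B at hsum1 hle
    rw [he2] at hsum1
    have hA0 : 0 < A := by omega
    have h7 : (h + 1) * A ≤ (2 * (A + 2)) * A := by nlinarith
    have h8 := Nat.le_of_mul_le_mul_right h7 hA0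
    omega
  -- degrees of the exceptional characters
  have hT : ∀ χ : R, n χ * (h - (e + 1)) ≤ e * Cfsg.charDegree (f χ : G → ℂ) := by
    intro χ
    have h1 := hdegν _ (himg χ)
    rw [hδsum] at h1
    have hh1 : (1 : ℤ) ≤ h := by exact_mod_cast hh0
    zify [show e + 1 ≤ h by omega]
    rw [h1]
    have h2 : (e : ℤ) * (ν (f χ) * ((h : ℤ) - 1) + εz * n χ) =
        n χ * (ν (f χ₀) * ((h : ℤ) - 1) + εz * e) := by
      linear_combination ((h : ℤ) - 1) * hνrel χ
    rw [h2]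
    refine mul_le_mul_of_nonneg_left ?_ (Int.natCast_nonneg _)
    have h3 : (h : ℤ) - 1 ≤ ν (f χ₀) * ((h : ℤ) - 1) := le_mul_of_one_le_left (by linarith) hν1
    rcases hεz' with hz | hz <;> rw [hz] <;> linarith [Int.natCast_nonneg e]
  -- the other characters
  set T := Finset.univ.image f with hTdef
  have hTcard : T.card = Fintype.card R := by
    rw [hTdef, Finset.card_image_of_injective _ hfinj, Finset.card_univ]
  have hPSS : ∀ θ ∈ PS, S θ ≠ 0 := by
    intro θ hθ h0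
    simp only [S] at h0
    rw [sum_subgroup_const _ (hPS θ hθ).2, (hPS θ hθ).1, ← hh] at h0
    have h1 : ((2 * h : ℕ) : ℂ) = 0 := by push_cast; linear_combination h0
    rw [Nat.cast_eq_zero] at h1
    omega
  have htrivS : S (trivChar G) ≠ 0 := by
    simp only [S, trivChar_apply, Finset.sum_const, Finset.card_univ, nsmul_eq_mul, mul_one]
    exact Nat.cast_ne_zero.2 Fintype.card_ne_zero
  have htrivPS : trivChar G ∉ PS := fun h0 => by
    have h1 : ((0 : ℕ) : ℂ) = (h : ℂ) := by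
      have h2 := (hPS _ h0).1
      rw [trivChar_apply] at h2
      push_cast
      linear_combination h2
    rw [Nat.cast_inj] at h1
    omega
  have hdisj1 : Disjoint PS T := Finset.disjoint_left.2 fun θ h1 h2 => by
    obtain ⟨χ, -, rfl⟩ := Finset.mem_image.1 h2
    exact hPSS _ h1 (himg χ)
  have hdisj2 : trivChar G ∉ PS ∪ T := by
    rw [Finset.mem_union]
    rintro (h1 | h1)
    · exact htrivPS h1
    · obtain ⟨χ, -, hχ⟩ := Finset.mem_image.1 h1
      exact htrivS (hχ ▸ himg χ)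
  set O := Finset.univ \ insert (trivChar G) (PS ∪ T) with hO
  have hOdeg : ∀ θ ∈ O, h ≤ Cfsg.charDegree (θ : G → ℂ) + 1 := by
    intro θ hθ
    simp only [hO, Finset.mem_sdiff, Finset.mem_insert, Finset.mem_union, not_or] at hθ
    by_cases hS : S θ = 0
    · have hd := hdegν θ hS
      have hn : ∀ η : R, δ θ η = 0 := fun η => if_neg fun heq : f η = θ =>
        hθ.2.2.2 (heq ▸ Finset.mem_image_of_mem f (Finset.mem_univ η))
      simp only [hn, zero_mul, Finset.sum_const_zero, mul_zero, add_zero] at hd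
      have hνθ : ν θ = c θ χ₀.1 := by simp only [ν, hn, mul_zero, sub_zero]
      rw [hνθ] at hd
      have hpos : 1 ≤ c θ χ₀.1 := Nat.pos_of_ne_zero fun h0 =>
        (CfsgLib.CharDegree.charDegree_pos θ).ne' (by rw [h0] at hd; simpa using hd)
      have h3 : (h : ℤ) - 1 ≤ (c θ χ₀.1 : ℤ) * ((h : ℤ) - 1) :=
        le_mul_of_one_le_left (by omega) (by exact_mod_cast hpos)
      omega
    · rcases hA θ hθ.2.1 hS with ⟨h1, -⟩ | ⟨h1, -⟩
      · rw [CfsgLib.CharDegree.charDegree_eq_of_apply_one h1]; omega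
      · rw [CfsgLib.CharDegree.charDegree_eq_of_apply_one (n := h + 1) (by rw [h1]; push_cast; rfl)]
        omega
  -- counting classes
  haveI : Finite (ConjClasses G) := Finite.of_surjective _ ConjClasses.mk_surjective
  haveI := Fintype.ofFinite (ConjClasses G)
  have hcount : e + 1 + Fintype.card R ≤ Fintype.card (Cfsg.IrrCharacter G) := by
    rw [← Nat.card_eq_fintype_card (α := Cfsg.IrrCharacter G), card_irrCharacter, Nat.card_eq_fintype_card]
    rw [Nat.card_eq_fintype_card, Fintype.card_subtype] at hclass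
    set Out := Finset.univ.filter fun C : ConjClasses G => ∀ g : G, ConjClasses.mk g = C → g ∉ H
    set In := Finset.univ.filter fun C : ConjClasses G => ∃ g ∈ H, g ≠ 1 ∧ ConjClasses.mk g = C
    have h2 : Fintype.card R ≤ In.card := by
      rw [← Nat.card_eq_fintype_card, ← Fintype.card_subtype, ← Nat.card_eq_fintype_card]
      refine le_trans (le_of_eq (Nat.card_congr (Equiv.subtypeEquivRight fun χ => by
        simp only [hK', Subgroup.mem_subgroupOf])))
        ((frob_card_le_classes (K := K') (tifn_cent H hC)).trans ?_)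
      haveI : Finite (ConjClasses N) := Finite.of_surjective _ ConjClasses.mk_surjective
      refine Nat.card_le_card_of_injective (fun C : {C : ConjClasses N // ∃ g ∈ K', g ≠ 1 ∧ ConjClasses.mk g = C} =>
        (⟨ConjClasses.map N.subtype C.1, by
          obtain ⟨g, hg, hg1, hgC⟩ := C.2
          exact ⟨g, Subgroup.mem_subgroupOf.1 hg, fun h => hg1 (Subtype.ext h), hgC ▸ rfl⟩⟩ :
          {C : ConjClasses G // ∃ g ∈ H, g ≠ 1 ∧ ConjClasses.mk g = C})) ?_
      rintro ⟨_, g, hg, hg1, rfl⟩ ⟨_, k, hk', hk1', rfl⟩ h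
      obtain ⟨y, hy⟩ := isConj_iff.1 (ConjClasses.mk_eq_mk_iff_isConj.1
        (show ConjClasses.mk (g : G) = ConjClasses.mk (k : G) from congrArg Subtype.val h))
      have hyN : y ∈ N := by
        by_contra hyN
        refine hg1 (Subtype.ext (hTI y hyN g (Subgroup.mem_subgroupOf.1 hg) ?_))
        rw [hy]
        exact Subgroup.mem_subgroupOf.1 hk'
      exact Subtype.ext (ConjClasses.mk_eq_mk_iff_isConj.2 (isConj_iff.2 ⟨⟨y, hyN⟩, Subtype.ext hy⟩))
    have hd1 : Disjoint Out In := Finset.disjoint_left.2 fun C h3 h4 => by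
      obtain ⟨g, hg, -, rfl⟩ := (Finset.mem_filter.1 h4).2
      exact (Finset.mem_filter.1 h3).2 g rfl hg
    have hd2 : ConjClasses.mk (1 : G) ∉ Out ∪ In := by
      rw [Finset.mem_union]
      rintro (h3 | h3)
      · exact (Finset.mem_filter.1 h3).2 1 rfl H.one_mem
      · obtain ⟨u, -, hu1, hu'⟩ := (Finset.mem_filter.1 h3).2
        exact hu1 (isConj_one_left.1 (ConjClasses.mk_eq_mk_iff_isConj.1 hu'))
    have h3 := Finset.card_le_univ (insert (ConjClasses.mk (1 : G)) (Out ∪ In))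
    rw [Finset.card_insert_of_notMem hd2, Finset.card_union_of_disjoint hd1] at h3
    omega
  have hPO : e ≤ PS.card + O.card := by
    have h1 := Finset.card_sdiff_add_card_eq_card (Finset.subset_univ (insert (trivChar G) (PS ∪ T)))
    rw [← hO, Finset.card_insert_of_notMem hdisj2, Finset.card_union_of_disjoint hdisj1,
      Finset.card_univ, hTcard] at h1
    omega
  -- the sum of squares
  have hsq : ∑ θ : Cfsg.IrrCharacter G, Cfsg.charDegree (θ : G → ℂ) ^ 2 = Nat.card G := by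
    rw [← Nat.cast_inj (R := ℂ), Nat.cast_sum, ← sum_sq_degree]
    exact Finset.sum_congr rfl fun θ _ => by rw [Nat.cast_pow, CfsgLib.CharDegree.cast_irrDegree]
  rw [← Finset.sum_sdiff (Finset.subset_univ (insert (trivChar G) (PS ∪ T))), ← hO,
    Finset.sum_insert hdisj2, Finset.sum_union hdisj1, hG] at hsq
  have htriv : Cfsg.charDegree ((trivChar G : Cfsg.IrrCharacter G) : G → ℂ) ^ 2 = 1 := by
    rw [CfsgLib.CharDegree.charDegree_eq_of_apply_one (n := 1) (by rw [trivChar_apply, Nat.cast_one]),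
      one_pow]
  obtain ⟨q, hq⟩ : ∃ q, h = q + 1 := ⟨h - 1, by omega⟩
  obtain ⟨d, hd⟩ : ∃ d, q = d + e := ⟨q - e, by omega⟩
  have hbP : PS.card * (h + 1) ^ 2 ≤ ∑ θ ∈ PS, Cfsg.charDegree (θ : G → ℂ) ^ 2 := by
    rw [← smul_eq_mul, ← Finset.sum_const]
    exact Finset.sum_le_sum fun θ hθ => by
      rw [CfsgLib.CharDegree.charDegree_eq_of_apply_one (n := h + 1)
        (by rw [(hPS θ hθ).1]; push_cast; rfl)]
  have hbO : O.card * q ^ 2 ≤ ∑ θ ∈ O, Cfsg.charDegree (θ : G → ℂ) ^ 2 := by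
    rw [← smul_eq_mul, ← Finset.sum_const]
    exact Finset.sum_le_sum fun θ hθ => Nat.pow_le_pow_left (by have := hOdeg θ hθ; omega) 2
  have hbT : q * d ^ 2 ≤ e * ∑ θ ∈ T, Cfsg.charDegree (θ : G → ℂ) ^ 2 := by
    refine Nat.le_of_mul_le_mul_left (?_ : e * _ ≤ e * _) he0
    rw [hTdef, Finset.sum_image fun a _ b _ h => hfinj h]
    have hn2 : ∑ χ : R, n χ ^ 2 = e * q := by
      rw [hq, Nat.add_mul, one_mul, mul_comm q e] at hm
      omega
    rw [← mul_assoc, ← hn2, Finset.sum_mul, ← mul_assoc, Finset.mul_sum]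
    refine Finset.sum_le_sum fun χ _ => ?_
    have h1 := Nat.pow_le_pow_left (hT χ) 2
    rw [show h - (e + 1) = d by omega, mul_pow, mul_pow, sq e] at h1
    exact h1
  rw [htriv] at hsq
  have e1 : e * q ^ 2 + 2 * h * e ≤ PS.card * (h + 1) ^ 2 + O.card * q ^ 2 + 2 * h := by
    have h1 := Nat.mul_le_mul_right (q ^ 2) hPO
    have h2 := Nat.mul_le_mul_right (2 * h) hPScard
    have h3 : (h + 1) ^ 2 = q ^ 2 + 4 * h := by rw [hq]; ring
    rw [h3]
    linarith
  have key : e * (1 + (e * q ^ 2 + 2 * h * e)) + q * d ^ 2 ≤ e * ((h + 1) * (h * e) + 2 * h) := by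
    calc _ ≤ e * (1 + (PS.card * (h + 1) ^ 2 + O.card * q ^ 2 + 2 * h)) +
          e * ∑ θ ∈ T, Cfsg.charDegree (θ : G → ℂ) ^ 2 :=
          Nat.add_le_add (Nat.mul_le_mul_left _ (by omega)) hbT
      _ ≤ _ := by
        rw [← Nat.mul_add, ← hsq]
        exact Nat.mul_le_mul_left _ (by omega)
  have h6 : (e + 1) ^ 2 ≤ d ^ 2 := Nat.pow_le_pow_left (by omega) 2
  have h7 : q * (e + 1) ^ 2 ≤ q * d ^ 2 := Nat.mul_le_mul_left _ h6
  rw [hq] at key
  nlinarith

end CfsgLib.Perm
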