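import Mathlib
import Cfsg.Agent.Lib.Perm.ZassenhausCoherent

/-! Feit's inequality for simple Zassenhaus groups with two-point stabilisers of odd order: the
two-point stabiliser has order at least `(n - 2) / 2` unless the point kernel is a non-abelian 2-group
with small abelianisation. -/

set_option autoImplicit false

open Cfsg
open scoped ComplexConjugate

universe u

namespace CfsgLib.Perm

open CfsgLib.Char CfsgLib.Char.Exceptional

variable {G : Type u} {Ω : Type*} [Group G] [Fintype G] [MulAction G Ω] [Fintype Ω] [IsSimpleGroup G]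

set_option maxHeartbeats 1000000 in
theorem zass_kernel_bound (hZ : IsZassenhausGroup G Ω) {a b : Ω} (hab : a ≠ b)
    (hodd : Odd (Nat.card ↥(MulAction.stabilizer G a ⊓ MulAction.stabilizer G b : Subgroup G)))
    {H : Subgroup G} (hHa : H ≤ MulAction.stabilizer G a) (hHcard : Nat.card H + 1 = Fintype.card Ω)
    (hHfix : ∀ u ∈ H, u ≠ 1 → ∀ c : Ω, u • c = c → c = a)
 :
    Fintype.card Ω - 2 ≤
      2 * Nat.card ↥(MulAction.stabilizer G a ⊓ MulAction.stabilizer G b : Subgroup G) ∨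
      (IsPGroup 2 H ∧ (∃ u v : H, u * v ≠ v * u) ∧ (commutator H).index ≤
        4 * Nat.card ↥(MulAction.stabilizer G a ⊓ MulAction.stabilizer G b : Subgroup G) ^ 2 + 1) := by
  classical
  haveI := Fintype.ofFinite H
  haveI := zass_trans hZ
  haveI := Fintype.ofFinite (Cfsg.IrrCharacter G)
  set N := MulAction.stabilizer G a with hN
  set E := (MulAction.stabilizer G a ⊓ MulAction.stabilizer G b : Subgroup G) with hE
  have hnorm : Subgroup.normalizer (H : Set G) = N := zass_kernel_normalizer hZ hHa hHcard hHfix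
  have hEN : E ≤ N := inf_le_left
  have h3 := zass_three_le hZ
  set h := Nat.card H with hh
  set e := Nat.card E with he
  have hh0 : (h : ℂ) ≠ 0 := Nat.cast_ne_zero.2 Nat.card_pos.ne'
  have he0 : (e : ℂ) ≠ 0 := Nat.cast_ne_zero.2 Nat.card_pos.ne'
  have hdisj : ∀ u ∈ H, u • b = b → u = 1 := fun u hu h => by
    by_contra hu1
    exact hab (hHfix u hu hu1 b h).symm
  have hC : ∀ k ∈ H, k ≠ 1 → Subgroup.centralizer ({k} : Set G) ≤ H := by
    intro k hk hk1 c hc
    have hc' : c * k = k * c := Subgroup.mem_centralizer_singleton_iff.1 hc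
    have hka : k • a = a := hHa hk
    have hca : c • a = a := hHfix k hk hk1 _ (by rw [← mul_smul, ← hc', mul_smul, hka])
    by_cases hc0 : c = 1
    · rw [hc0]; exact H.one_mem
    refine zass_mem_kernel hZ hHa hHcard hHfix hca fun p hp => ?_
    by_contra hpa
    have hc1 : c ≠ 1 := hc0
    have hfix : c • (k • p) = k • p := by rw [← mul_smul, hc', mul_smul, hp]
    rcases zass_fix_two hZ hc1 (Ne.symm hpa) hca hp hfix with h1 | h1
    · exact hpa (MulAction.injective k (h1.trans hka.symm))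
    · exact hpa (hHfix k hk hk1 p h1)
  -- order of the stabiliser
  have hNc : Nat.card N = h * e := by
    rw [zass_card_stab hZ hab, show Fintype.card Ω - 1 = h by omega]
  have hG : Nat.card G = (h + 1) * (h * e) := by
    rw [zass_card hZ hab, ← hHcard, Nat.add_sub_cancel]
  obtain ⟨x0, hx0, hx0a, hx0b⟩ := zass_two_stab_ne_bot hZ hab
  have hx0E : x0 ∈ E := ⟨hx0a, hx0b⟩
  obtain ⟨w, hwa, hwb⟩ := zass_pre hZ hab hab.symm
  have hinv := zass_two_stab_inverted hZ hab hodd hwa hwb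
  haveI hEcomm : IsMulCommutative E := ⟨⟨fun x y => Subtype.ext (by
    have h1 := hinv _ (mul_mem x.2 y.2)
    rw [show w⁻¹ * ((x : G) * y) * w = (w⁻¹ * x * w) * (w⁻¹ * y * w) by group, hinv _ x.2, hinv _ y.2,
      ← mul_inv_rev, inv_inj] at h1
    exact h1.symm)⟩⟩
  let _ : CommGroup E := { mul_comm := hEcomm.is_comm.comm }
  -- the projection to `E`
  let H' := H.subgroupOf N
  haveI : H'.Normal := (Subgroup.normal_subgroupOf_iff_le_normalizer hHa).2 hnorm.ge
  let ι : E →* N ⧸ H' := (QuotientGroup.mk' H').comp (Subgroup.inclusion hEN)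
  have hinj : Function.Injective ι := by
    rw [← MonoidHom.ker_eq_bot_iff, Subgroup.eq_bot_iff_forall]
    intro x hx
    have hxH : (x : G) ∈ H := (QuotientGroup.eq_one_iff (N := H') (Subgroup.inclusion hEN x)).1 hx
    exact Subtype.ext (hdisj _ hxH x.2.2)
  have hidx : H'.index = e := by
    have h1 := H'.index_mul_card
    rw [show Nat.card H' = h from Nat.card_congr (Subgroup.subgroupOfEquivOfLe hHa).toEquiv, hNc,
      mul_comm] at h1
    exact Nat.eq_of_mul_eq_mul_left Nat.card_pos h1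
  have hbij : Function.Bijective ι :=
    hinj.bijective_of_nat_card_le (by rw [← Subgroup.index_eq_card, hidx])
  let pr : N →* E := (MulEquiv.ofBijective ι hbij).symm.toMonoidHom.comp (QuotientGroup.mk' H')
  have hpr1 : ∀ x : N, pr x = 1 ↔ (x : G) ∈ H := fun x => by
    show (MulEquiv.ofBijective ι hbij).symm _ = 1 ↔ _
    rw [MulEquiv.map_eq_one_iff]
    exact QuotientGroup.eq_one_iff (N := H') x
  have hprsurj : Function.Surjective pr := fun y =>
    ⟨Subgroup.inclusion hEN y, (MulEquiv.ofBijective ι hbij).symm_apply_apply y⟩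
  -- characters of `E`
  have hψcard : Nat.card (E →* ℂˣ) = e := CommGroup.card_monoidHom_of_hasEnoughRootsOfUnity E ℂ
  haveI : Finite (E →* ℂˣ) := Nat.finite_of_card_ne_zero (by rw [hψcard]; exact Nat.card_pos.ne')
  haveI := Fintype.ofFinite (E →* ℂˣ)
  have horth : ∀ y : E, ∑ ψ : E →* ℂˣ, (ψ y : ℂ) = if y = 1 then (e : ℂ) else 0 := by
    intro y
    split
    · next hy => simp [hy, ← hψcard, Nat.card_eq_fintype_card]
    · next hy =>
      obtain ⟨φ, hφ⟩ := CommGroup.exists_apply_ne_one_of_hasEnoughRootsOfUnity E ℂ hy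
      have h1 : ((φ y : ℂ) - 1) * ∑ ψ : E →* ℂˣ, (ψ y : ℂ) = 0 := by
        rw [sub_mul, one_mul, Finset.mul_sum, sub_eq_zero]
        exact Fintype.sum_equiv (Equiv.mulLeft φ) _ _ fun ψ => by simp
      exact (mul_eq_zero.1 h1).resolve_left (sub_ne_zero.2 fun h1 => hφ (Units.ext h1))
  let l : (E →* ℂˣ) → (N →* ℂˣ) := fun ψ => ψ.comp pr
  have hlH : ∀ ψ, ∀ u : N, (u : G) ∈ H → l ψ u = 1 := fun ψ u hu => by
    simp only [l, MonoidHom.comp_apply, (hpr1 u).2 hu, map_one]
  have hl1 : ∀ ψ, ψ ≠ 1 → l ψ ≠ 1 := fun ψ hψ h1 => hψ (MonoidHom.ext fun y => by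
    obtain ⟨x, rfl⟩ := hprsurj y
    exact DFunLike.congr_fun h1 x)
  let μ : (E →* ℂˣ) → ↥N → ℂ := fun ψ x => (l ψ x : ℂ)
  let I : (E →* ℂˣ) → G → ℂ := fun ψ => Cfsg.indFun N (μ ψ)
  have hμ : ∀ ψ, Cfsg.IsCharacter N (μ ψ) := fun ψ => IsIrr.isCharacter (isIrrCharacter_linear (l ψ))
  have hI1 : ∀ ψ, I ψ 1 = (h : ℂ) + 1 := fun ψ => by
    simp only [I]
    rw [indFun_apply_one, MulAction.index_stabilizer_of_transitive, Nat.card_eq_fintype_card, ← hHcard]
    simp [μ]
  have hIu : ∀ ψ, ∀ u ∈ H, u ≠ 1 → I ψ u = 1 := fun ψ u hu hu1 => by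
    simp only [I]
    rw [zass_ind_kernel hHa hHfix (IsChar.isClassFunction (hμ ψ)) hu hu1]
    simp [μ, hlH ψ ⟨u, hHa hu⟩ hu]
  have hkey : ∀ θ : G → ℂ, Cfsg.IsClassFunction G θ →
      ∑ ψ : E →* ℂˣ, Cfsg.classInner (I ψ) θ = (h : ℂ)⁻¹ * conj (∑ u : H, θ u) := by
    intro θ hθ
    rw [Finset.sum_congr rfl (fun ψ _ => frobenius_reciprocity N (μ ψ) hθ)]
    simp only [Cfsg.classInner, ← Finset.mul_sum]
    rw [Finset.sum_comm]
    simp only [← Finset.sum_mul, μ, l, MonoidHom.comp_apply, horth, hpr1, hNc, ite_mul, zero_mul]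
    rw [← Finset.sum_filter, ← Finset.mul_sum, map_sum, Nat.cast_mul, mul_inv, mul_assoc,
      inv_mul_cancel_left₀ he0]
    congr 1
    exact (Finset.sum_bij (fun (u : H) _ => (⟨u, hHa u.2⟩ : N))
      (fun u _ => Finset.mem_filter.2 ⟨Finset.mem_univ _, u.2⟩)
      (fun u _ v _ h => Subtype.ext (congrArg (fun x : N => (x : G)) h))
      (fun x hx => ⟨⟨x, (Finset.mem_filter.1 hx).2⟩, Finset.mem_univ _, rfl⟩) fun u _ => rfl).symm
  -- the permutation character
  have hI1one : ∀ x : N, μ 1 x = 1 := fun x => by simp [μ, l]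
  have hpi1 : Cfsg.classInner (I 1) (fun _ => 1) = 1 := by
    simp only [I]
    rw [frobenius_reciprocity N _ (fun _ _ => rfl), show μ 1 = fun _ => (1 : ℂ) from funext hI1one]
    exact classInner_irr_self (trivChar N)
  have hpi2 : Cfsg.classInner (I 1) (I 1) = 2 := by
    have hIc := IsChar.isClassFunction (isCharacter_indFun N (hμ 1))
    simp only [I]
    rw [frobenius_reciprocity N _ hIc]
    simp only [Cfsg.classInner, hI1one, one_mul]
    have hsum := zass_stab_sum hZ hab hHa hHcard hHfix (fun g => conj (I 1 g))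
      (fun g _ x => by simp only [I]; rw [hIc x g])
    have hH : ∑ g ∈ Finset.univ.filter (· ∈ H), conj (I 1 g) = 2 * (h : ℂ) := by
      rw [Finset.sum_subtype (p := (· ∈ H)) _ (fun x => by simp) (fun g => conj (I 1 g)),
        sum_subgroup_const (H := H) (fun g => conj (I 1 g)) (B := 1) (fun u hu hu1 => by
          rw [hIu 1 u hu hu1, map_one]), hI1, map_add, map_natCast, map_one, ← hh]
      ring
    have hE2 : ∑ g ∈ Finset.univ.filter (fun g => g ∈ E ∧ g ≠ 1), conj (I 1 g) = 2 * ((e : ℂ) - 1) := by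
      rw [Finset.sum_congr rfl (g := fun _ => (2 : ℂ)) (fun g hg => by
          obtain ⟨-, hgE, hg1⟩ := Finset.mem_filter.1 hg
          simp only [I]
          rw [zass_ind_torus hZ hab hodd (IsChar.isClassFunction (hμ 1)) hgE.1 hgE.2 hg1, hI1one, hI1one,
            show (1 : ℂ) + 1 = 2 by norm_num, map_ofNat]),
        Finset.sum_const, nsmul_eq_mul, mul_comm]
      congr 1
      rw [show (Finset.univ.filter fun g => g ∈ E ∧ g ≠ 1) = (Finset.univ.filter (· ∈ E)).erase 1 by
          ext g; simp [and_comm],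
        Finset.card_erase_of_mem (by simp), ← Fintype.card_subtype, ← Nat.card_eq_fintype_card, ← he,
        Nat.cast_sub Nat.card_pos, Nat.cast_one]
    rw [Finset.sum_subtype (p := (· ∈ N)) _ (fun x => by simp [hN]) (fun g => conj (I 1 g)), hH, ← hh, hE2] at hsum
    simp only [I] at hsum
    rw [hsum, hNc, Nat.cast_mul]
    field_simp
    ring
  -- the Steinberg character
  let σ : G → ℂ := I 1 - fun _ => 1
  have hσ : Cfsg.IsIrrCharacter G σ := by
    refine IsGen.isIrr_of_norm_one (CfsgLib.Char.IsGen.sub (IsGen.of_isCharacter (isCharacter_indFun N (hμ 1)))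
      IsGen.one) ?_ ?_
    · simp only [σ, classInner_sub_left, classInner_sub_right, hpi1, hpi2]
      rw [show Cfsg.classInner (fun _ : G => (1 : ℂ)) (I 1) = 1 by
          rw [← classInner_conj_symm, hpi1, map_one],
        show Cfsg.classInner (fun _ : G => (1 : ℂ)) (fun _ => 1) = 1 from classInner_irr_self (trivChar G)]
      norm_num
    · simp only [σ, Pi.sub_apply, hI1, add_sub_cancel_right, Complex.natCast_re]
      exact_mod_cast Nat.card_pos (α := H)
  have hirr : ∀ ψ, ψ ≠ 1 → Cfsg.IsIrrCharacter G (I ψ) := fun ψ hψ =>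
    zass_ind_linear_irreducible hZ hab hodd hHa hHcard hHfix (l ψ) (hlH ψ) (hl1 ψ hψ)
  -- classification of the principal series
  have hA : ∀ θ : Cfsg.IrrCharacter G, θ ≠ trivChar G → ∑ u : H, (θ : G → ℂ) u ≠ 0 →
      ((θ : G → ℂ) 1 = (h : ℂ) ∧ ∀ u ∈ H, u ≠ 1 → (θ : G → ℂ) u = 0) ∨
      ((θ : G → ℂ) 1 = (h : ℂ) + 1 ∧ ∀ u ∈ H, u ≠ 1 → (θ : G → ℂ) u = 1) := by
    intro θ ht hS
    have h1 := hkey _ (IsIrr.isClassFunction θ.2)
    obtain ⟨ψ, hψ⟩ : ∃ ψ, Cfsg.classInner (I ψ) (θ : G → ℂ) ≠ 0 := by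
      by_contra hcon
      push Not at hcon
      rw [Finset.sum_eq_zero fun ψ _ => hcon ψ] at h1
      exact mul_ne_zero (inv_ne_zero hh0) ((map_ne_zero _).2 hS) h1.symm
    by_cases hψ1 : ψ = 1
    · left
      have hθ : θ = ⟨σ, hσ⟩ := by
        by_contra hne
        refine hψ ?_
        have h2 := classInner_irr_of_ne (Ne.symm hne)
        change Cfsg.classInner (I 1 - fun _ => 1) (θ : G → ℂ) = 0 at h2
        rw [classInner_sub_left, show Cfsg.classInner (fun _ : G => (1 : ℂ)) (θ : G → ℂ) = 0 from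
          classInner_irr_of_ne (Ne.symm ht), sub_zero] at h2
        rw [hψ1]; exact h2
      subst hθ
      exact ⟨by simp [σ, hI1], fun u hu hu1 => by simp [σ, hIu 1 u hu hu1]⟩
    · right
      have hθ : θ = ⟨I ψ, hirr ψ hψ1⟩ := by
        by_contra hne
        exact hψ (classInner_irr_of_ne (χ := (⟨I ψ, hirr ψ hψ1⟩ : Cfsg.IrrCharacter G)) (Ne.symm hne))
      subst hθ
      exact ⟨hI1 ψ, hIu ψ⟩
  let irr : (E →* ℂˣ) → Cfsg.IrrCharacter G := fun ψ =>
    if hψ : ψ = 1 then trivChar G else ⟨I ψ, hirr ψ hψ⟩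
  have hirrv : ∀ ψ, ψ ≠ 1 → (irr ψ : G → ℂ) = I ψ := fun ψ hψ => by simp only [irr, dif_neg hψ]
  set PS := (Finset.univ.erase (1 : E →* ℂˣ)).image irr with hPSdef
  have hPS : ∀ θ ∈ PS, (θ : G → ℂ) 1 = (h : ℂ) + 1 ∧ ∀ u ∈ H, u ≠ 1 → (θ : G → ℂ) u = 1 := by
    intro θ hθ
    obtain ⟨ψ, hψ, rfl⟩ := Finset.mem_image.1 hθ
    rw [hirrv ψ (Finset.mem_erase.1 hψ).1]
    exact ⟨hI1 ψ, hIu ψ⟩
  have hfib : ∀ θ ∈ PS, ((Finset.univ.erase (1 : E →* ℂˣ)).filter fun ψ => irr ψ = θ).card ≤ 2 := by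
    intro θ hθ
    have h1 := hkey _ (IsIrr.isClassFunction θ.2)
    rw [sum_subgroup_const (θ : G → ℂ) (hPS θ hθ).2, (hPS θ hθ).1, ← hh, mul_one, map_add, map_add,
      map_sub, map_natCast, map_one, show (h : ℂ) + 1 + ((h : ℂ) - 1) = (h : ℂ) * 2 by ring,
      inv_mul_cancel_left₀ hh0] at h1
    have hnat : ∀ ψ, ∃ n : ℕ, Cfsg.classInner (I ψ) (θ : G → ℂ) = n := fun ψ =>
      IsChar.classInner_eq_natCast (isCharacter_indFun N (hμ ψ)) (IsIrr.isCharacter θ.2)
    choose n hn using hnat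
    simp only [hn] at h1
    have h2 : ∑ ψ, n ψ = 2 := by exact_mod_cast h1
    rw [← h2, Finset.card_eq_sum_ones]
    refine (Finset.sum_le_sum fun ψ hψ => ?_).trans (Finset.sum_le_sum_of_subset (Finset.subset_univ _))
    obtain ⟨hψ', hψθ⟩ := Finset.mem_filter.1 hψ
    have h3 := hn ψ
    rw [← hψθ, hirrv ψ (Finset.mem_erase.1 hψ').1,
      show Cfsg.classInner (I ψ) (I ψ) = 1 from
        classInner_irr_self ⟨I ψ, hirr ψ (Finset.mem_erase.1 hψ').1⟩] at h3
    have h4 : n ψ = 1 := by exact_mod_cast h3.symm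
    omega
  have hPScard : e ≤ 2 * PS.card + 1 := by
    have h1 := Finset.card_le_mul_card_image (Finset.univ.erase (1 : E →* ℂˣ)) 2 hfib
    rw [Finset.card_erase_of_mem (Finset.mem_univ _), Finset.card_univ, ← Nat.card_eq_fintype_card,
      hψcard, ← hPSdef] at h1
    omega
  have hHne : H ≠ ⊥ := by
    intro hb
    have : Nat.card H = 1 := by rw [hb, Subgroup.card_bot]
    omega
  obtain ⟨k, hk, hk1⟩ : ∃ k ∈ H, k ≠ 1 := by
    by_contra hcon
    push Not at hcon
    exact hHne ((Subgroup.eq_bot_iff_forall H).2 hcon)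
  have hlt' : e < h := by
    have hmemH : ∀ x : E, (x : G) * k * (x : G)⁻¹ ∈ H := fun x => by
      have hx : (x : G) ∈ Subgroup.normalizer (H : Set G) := hnorm ▸ hEN x.2
      exact (Subgroup.mem_set_normalizer_iff.1 hx k).1 hk
    have hi : Function.Injective fun x : E => (⟨(x : G) * k * (x : G)⁻¹, hmemH x⟩ : H) := by
      intro x y hxy
      have hxy' : (x : G) * k * (x : G)⁻¹ = (y : G) * k * (y : G)⁻¹ := congrArg Subtype.val hxy
      have hc : (y : G)⁻¹ * x ∈ H := hC k hk hk1 (Subgroup.mem_centralizer_singleton_iff.2 (by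
        calc (y : G)⁻¹ * x * k = (y : G)⁻¹ * ((x : G) * k * (x : G)⁻¹) * x := by group
          _ = k * ((y : G)⁻¹ * x) := by rw [hxy']; group))
      have := hdisj _ hc (mul_mem (inv_mem y.2) x.2).2
      exact Subtype.ext (inv_mul_eq_one.1 this).symm
    have := Fintype.card_lt_of_injective_of_notMem _ hi (b := (1 : H)) (by
      rintro ⟨x, hx⟩
      exact hk1 (conj_eq_one_iff.1 (congrArg Subtype.val hx)))
    rwa [← Nat.card_eq_fintype_card, ← Nat.card_eq_fintype_card] at this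
  have hlt : H < Subgroup.normalizer (H : Set G) := by
    rw [hnorm]
    refine lt_of_le_of_ne hHa fun heq => hx0 (hdisj x0 ?_ hx0b)
    rw [heq]; exact hx0a
  have hclass := zass_class_bound hZ hab (h := h) hHcard.symm he.symm hodd hlt' hHa hHcard hHfix
  have hnil := zass_kernel_nilpotent hZ hab hHa hHcard hHfix
  have hTI : ∀ g : G, g ∉ Subgroup.normalizer (H : Set G) → ∀ k ∈ H, g * k * g⁻¹ ∈ H → k = 1 :=
    fun g hg k hk hgk => zass_kernel_ti hZ hHa hHfix (fun h' => hg (hnorm.ge h')) hk hgk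
  by_cases hHab : ∀ x ∈ H, ∀ y ∈ H, x * y = y * x
  · left
    have := ti_abelian_bound H hTI hlt hC hHab hh.symm (e := e) (by rw [hnorm]; exact hidx) hG hA PS hPS
      hPScard hclass
    omega
  haveI := Fintype.ofFinite ↥(Subgroup.normalizer (H : Set G))
  have hidx' : (H.subgroupOf (Subgroup.normalizer (H : Set G))).index = e := by rw [hnorm]; exact hidx
  by_cases hsmall : IsPGroup 2 H ∧ ⁅H, H⁆.relIndex H ≤ 4 * e ^ 2 + 1
  · right
    push Not at hHab
    obtain ⟨x, hx, y, hy, hxy⟩ := hHab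
    refine ⟨hsmall.1, ⟨⟨x, hx⟩, ⟨y, hy⟩, fun h' => hxy (congrArg Subtype.val h')⟩, ?_⟩
    have hc : (commutator H).map H.subtype = ⁅H, H⁆ := by
      rw [_root_.commutator_def, Subgroup.map_commutator, ← MonoidHom.range_eq_map,
        Subgroup.range_subtype]
    have hi : (commutator H).index = ⁅H, H⁆.relIndex H := by
      rw [← hc, Subgroup.relIndex, Subgroup.subgroupOf,
        Subgroup.comap_map_eq_self_of_injective H.subtype_injective]
    rw [hi]
    exact hsmall.2
  left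
  have hcoh : Cfsg.IsCoherent (tifnSet H) {1}ᶜ
      (Cfsg.indFun (Subgroup.normalizer (H : Set G))) := by
    by_cases hpp : ∃ p m : ℕ, p.Prime ∧ Nat.card H = p ^ m
    · obtain ⟨p, m, hp, hpm⟩ := hpp
      rcases hp.eq_two_or_odd' with hp2 | hpo
      · subst hp2
        refine CfsgLib.Coh.tifn_nonabelian_big H hC hTI hHne hnil hHab (Or.inr ?_)
        rw [hidx']
        by_contra hle
        exact hsmall ⟨IsPGroup.of_card hpm, not_lt.1 hle⟩
      · exact CfsgLib.Coh.tifn_nonabelian_odd H hC hTI hHne hnil (hpm ▸ hpo.pow) hHab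
    · exact CfsgLib.Coh.tifn_nonabelian_big H hC hTI hHne hnil hHab (Or.inl hpp)
  have := ti_coherent_bound H hTI hlt hC hHne (haveI := hnil; inferInstance) hcoh hh.symm hidx' hG hA
    PS hPS hPScard hclass
  omega

end CfsgLib.Perm
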