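import Mathlib
import Cfsg.Agent.Lib.Char.Burnside
import Cfsg.Agent.Lib.Classical.Dickson.MinimalSimple

/-! A finite group in which at least a quarter of all pairs commute is solvable. -/

set_option autoImplicit false

universe u

namespace CfsgLib.Perm

theorem isSolvable_of_card_le_sixteen {G : Type u} [Group G] [Finite G] (h : Nat.card G ≤ 16) :
    Group.IsSolvable G := by
  have hpos : 0 < Nat.card G := Nat.card_pos
  have key : ∃ p q a b : ℕ, p.Prime ∧ q.Prime ∧ Nat.card G = p ^ a * q ^ b := by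
    generalize Nat.card G = n at h hpos
    interval_cases n
    exacts [⟨2, 3, 0, 0, by norm_num⟩, ⟨2, 3, 1, 0, by norm_num⟩, ⟨2, 3, 0, 1, by norm_num⟩,
      ⟨2, 3, 2, 0, by norm_num⟩, ⟨2, 5, 0, 1, by norm_num⟩, ⟨2, 3, 1, 1, by norm_num⟩,
      ⟨2, 7, 0, 1, by norm_num⟩, ⟨2, 3, 3, 0, by norm_num⟩, ⟨2, 3, 0, 2, by norm_num⟩,
      ⟨2, 5, 1, 1, by norm_num⟩, ⟨2, 11, 0, 1, by norm_num⟩, ⟨2, 3, 2, 1, by norm_num⟩,
      ⟨2, 13, 0, 1, by norm_num⟩, ⟨2, 7, 1, 1, by norm_num⟩, ⟨3, 5, 1, 1, by norm_num⟩,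
      ⟨2, 3, 4, 0, by norm_num⟩]
  obtain ⟨p, q, a, b, hp, hq, hcard⟩ := key
  exact CfsgLib.Burnside.isSolvable_of_card_eq hp hq hcard

theorem isSolvable_perm_le_four {X : Type*} [Fintype X] (h : Fintype.card X ≤ 4) :
    Group.IsSolvable (Equiv.Perm X) := by
  classical
  obtain ⟨f⟩ := Function.Embedding.nonempty_of_card_le (α := X) (β := Fin 4)
    (by simpa using h)
  haveI := CfsgLib.Classical.Dickson.isSolvable_perm_four
  exact Group.isSolvable_of_isSolvable_injective (f := Equiv.Perm.viaEmbeddingHom f)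
    (Equiv.Perm.viaEmbeddingHom_injective f)

/-- If at least a quarter of all pairs commute, the group is solvable. -/
theorem isSolvable_of_commute_pairs : ∀ (n : ℕ) (G : Type u) [Group G] [Finite G], Nat.card G = n →
    n ^ 2 ≤ 4 * Nat.card {p : G × G // Commute p.1 p.2} → Group.IsSolvable G := by
  intro n
  induction n using Nat.strong_induction_on with
  | _ n ih =>
  intro G _ _ hn hpairs
  classical
  haveI := Fintype.ofFinite G
  subst hn
  by_cases hN : ∃ N : Subgroup G, N.Normal ∧ N ≠ ⊥ ∧ Group.IsSolvable N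
  · obtain ⟨N, hNn, hN1, hNs⟩ := hN
    haveI := hNn
    haveI := hNs
    have hcard : Nat.card G = Nat.card N * Nat.card (G ⧸ N) := by
      rw [mul_comm, ← Subgroup.index_eq_card, Subgroup.index_mul_card]
    have hN2 : 1 < Nat.card N := N.one_lt_card_iff_ne_bot.2 hN1
    have hlt : Nat.card (G ⧸ N) < Nat.card G := by
      have := Nat.card_pos (α := G ⧸ N)
      rw [hcard]; nlinarith
    have hle : Nat.card {p : G × G // Commute p.1 p.2} ≤
        Nat.card {p : (G ⧸ N) × (G ⧸ N) // Commute p.1 p.2} * (Nat.card N * Nat.card N) := by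
      rw [← Nat.card_prod N N, ← Nat.card_prod]
      let π := QuotientGroup.mk' N
      have hmem : ∀ g : G, g⁻¹ * (π g).out ∈ N := fun g =>
        QuotientGroup.eq.1 (QuotientGroup.out_eq' (π g)).symm
      refine Nat.card_le_card_of_injective
        (fun p : {p : G × G // Commute p.1 p.2} =>
          ((⟨(π p.1.1, π p.1.2), p.2.map π⟩ : {q : (G ⧸ N) × (G ⧸ N) // Commute q.1 q.2}),
            ((⟨_, hmem p.1.1⟩ : N), (⟨_, hmem p.1.2⟩ : N)))) ?_
      intro p p' hpp
      simp only [Prod.mk.injEq, Subtype.mk.injEq] at hpp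
      obtain ⟨⟨h1, h2⟩, h3, h4⟩ := hpp
      rw [h1] at h3
      rw [h2] at h4
      exact Subtype.ext (Prod.ext (inv_injective (mul_right_cancel h3)) (inv_injective (mul_right_cancel h4)))
    haveI : Group.IsSolvable (G ⧸ N) := ih _ hlt (G ⧸ N) rfl (by
      have h1 : (Nat.card N * Nat.card (G ⧸ N)) ^ 2 ≤
          4 * (Nat.card {p : (G ⧸ N) × (G ⧸ N) // Commute p.1 p.2} * (Nat.card N * Nat.card N)) := by
        rw [← hcard]; exact hpairs.trans (Nat.mul_le_mul_left 4 hle)
      refine Nat.le_of_mul_le_mul_right (?_ : _ * (Nat.card N * Nat.card N) ≤ _ * (Nat.card N * Nat.card N)) (Nat.mul_pos (Nat.card_pos (α := N)) (Nat.card_pos (α := N)))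
      linarith)
    exact Group.isSolvable_of_ker_le_range N.subtype (QuotientGroup.mk' N)
      (by rw [QuotientGroup.ker_mk', Subgroup.range_subtype])
  push Not at hN
  by_contra hns
  have h16 : 16 < Nat.card G := Nat.lt_of_not_le fun h => hns (isSolvable_of_card_le_sixteen h)
  -- an element with few conjugates
  obtain ⟨g, hg1, hgC⟩ : ∃ g : G, g ≠ 1 ∧
      Nat.card G ≤ 4 * Nat.card (Subgroup.centralizer ({g} : Set G)) := by
    by_contra hcon
    push Not at hcon
    have hsum : Nat.card {p : G × G // Commute p.1 p.2} =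
        ∑ g : G, Nat.card (Subgroup.centralizer ({g} : Set G)) := by
      rw [Nat.card_congr (show {p : G × G // Commute p.1 p.2} ≃ Σ g : G, Subgroup.centralizer ({g} : Set G) from
        { toFun := fun p => ⟨p.1.1, p.1.2, Subgroup.mem_centralizer_singleton_iff.2 p.2.eq.symm⟩
          invFun := fun p => ⟨(p.1, p.2.1), (Subgroup.mem_centralizer_singleton_iff.1 p.2.2).symm⟩
          left_inv := fun p => rfl
          right_inv := fun p => rfl }), Nat.card_sigma]
    have h5 : ∀ g : G, g ≠ 1 → 5 * Nat.card (Subgroup.centralizer ({g} : Set G)) ≤ Nat.card G := by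
      intro g hg
      obtain ⟨m, hm⟩ := Subgroup.card_subgroup_dvd_card (Subgroup.centralizer ({g} : Set G))
      have := hcon g hg
      rw [hm, mul_comm] at this
      rw [hm, mul_comm 5]
      exact Nat.mul_le_mul_left _ (Nat.lt_of_mul_lt_mul_left (this.trans_eq' (by ring)))
    have h6 : 5 * Nat.card {p : G × G // Commute p.1 p.2} ≤
        5 * Nat.card G + (Nat.card G - 1) * Nat.card G := by
      rw [hsum, Finset.mul_sum, ← Finset.add_sum_erase _ _ (Finset.mem_univ (1 : G))]
      refine Nat.add_le_add (Nat.mul_le_mul_left 5 (Subgroup.card_le_card_group _)) ?_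
      refine (Finset.sum_le_card_nsmul _ _ (Nat.card G) fun g hg => h5 g (Finset.mem_erase.1 hg).1).trans ?_
      rw [Finset.card_erase_of_mem (Finset.mem_univ _), Finset.card_univ, smul_eq_mul, Nat.card_eq_fintype_card]
    obtain ⟨N, hN'⟩ : ∃ N, Nat.card G = N + 1 := ⟨Nat.card G - 1, by omega⟩
    rw [hN', Nat.add_sub_cancel] at h6
    rw [hN'] at hpairs
    rw [hN'] at h16
    nlinarith
  set C := Subgroup.centralizer ({g} : Set G) with hC
  have hidx : C.index ≤ 4 := by
    rw [← C.index_mul_card] at hgC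
    exact Nat.le_of_mul_le_mul_right hgC Nat.card_pos
  haveI := Fintype.ofFinite (G ⧸ C)
  set φ := MulAction.toPermHom G (G ⧸ C) with hφ
  haveI := isSolvable_perm_le_four (X := G ⧸ C) (by rwa [← Nat.card_eq_fintype_card, ← Subgroup.index_eq_card])
  set K := φ.ker with hK
  have hKC : K ≤ C := by
    intro x hx
    have h1 : φ x ((1 : G) : G ⧸ C) = ((1 : G) : G ⧸ C) := by rw [MonoidHom.mem_ker.1 hx]; rfl
    have h2 : ((x * 1 : G) : G ⧸ C) = ((1 : G) : G ⧸ C) := h1
    rw [mul_one, QuotientGroup.eq, mul_one] at h2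
    exact inv_mem_iff.1 h2
  set D := Subgroup.centralizer (K : Set G) with hD
  haveI : D.Normal := inferInstance
  have hint : K ⊓ D = ⊥ := by
    by_contra hne
    refine hN (K ⊓ D) inferInstance hne ?_
    exact Group.isSolvable_of_comm fun x y => Subtype.ext
      ((Subgroup.mem_centralizer_iff.1 x.2.2 y y.2.1).symm)
  have hgD : g ∈ D := Subgroup.mem_centralizer_iff.2 fun x hx =>
    Subgroup.mem_centralizer_singleton_iff.1 (hKC hx)
  refine hN D inferInstance (fun h => hg1 (by rw [h, Subgroup.mem_bot] at hgD; exact hgD)) ?_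
  refine Group.isSolvable_of_isSolvable_injective (f := φ.comp D.subtype) ?_
  rw [← MonoidHom.ker_eq_bot_iff, Subgroup.eq_bot_iff_forall]
  intro x hx
  have : (x : G) ∈ K ⊓ D := ⟨hx, x.2⟩
  rw [hint, Subgroup.mem_bot] at this
  exact Subtype.ext this

end CfsgLib.Perm
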