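import Mathlib
import Cfsg.Agent.Lib.Perm.CommProbSolvable

/-! A finite group with a unique involution, cyclic odd Sylow subgroups, no subgroup of index two
and an automorphism of order two fixing only the centre `{1, z}`: it is `SL(2, 3)` up to centre. -/

set_option autoImplicit false

open Subgroup
open scoped commutatorElement

namespace CfsgLib.Perm.Nearfield

variable {E : Type*} [Group E] [Finite E]

/-- The hypotheses on the group. -/
structure Setup (z : E) (σ : MulAut E) : Prop where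
  hz1 : z ≠ 1
  hz2 : z * z = 1
  huniq : ∀ x : E, x * x = 1 → x = 1 ∨ x = z
  hzc : ∀ x : E, z * x = x * z
  hσ2 : ∀ x, σ (σ x) = x
  hfix : ∀ x, σ x = x → x = 1 ∨ x = z
  hodd : ∀ S : Subgroup E, ¬ 2 ∣ Nat.card S → IsZGroup S
  hind : ∀ N : Subgroup E, N.index ≠ 2

variable {z : E} {σ : MulAut E}

theorem Setup.sigma_z (h : Setup z σ) : σ z = z := by
  rcases h.huniq (σ z) (by rw [← map_mul, h.hz2, map_one]) with h1 | h1
  · exact absurd (σ.map_eq_one_iff.1 h1) h.hz1
  · exact h1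

theorem Setup.inverted (h : Setup z σ) (x : E) : σ (x⁻¹ * σ x) = (x⁻¹ * σ x)⁻¹ := by
  rw [map_mul, map_inv, h.hσ2, mul_inv_rev, inv_inv]

/-- At least a quarter of all pairs commute, so the group is solvable. -/
theorem Setup.isSolvable (h : Setup z σ) : Group.IsSolvable E := by
  classical
  haveI := Fintype.ofFinite E
  refine isSolvable_of_commute_pairs _ E rfl ?_
  set D := Finset.univ.image fun x : E => x⁻¹ * σ x with hD
  have hDinv : ∀ a ∈ D, σ a = a⁻¹ := by
    intro a ha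
    obtain ⟨x, -, rfl⟩ := Finset.mem_image.1 ha
    exact h.inverted x
  have hfib : ∀ a ∈ D, (Finset.univ.filter fun x : E => x⁻¹ * σ x = a).card ≤ 2 := by
    intro a ha
    obtain ⟨x, -, rfl⟩ := Finset.mem_image.1 ha
    refine (Finset.card_le_card (t := {x, z * x}) fun y hy => ?_).trans Finset.card_le_two
    have hy' : y⁻¹ * σ y = x⁻¹ * σ x := (Finset.mem_filter.1 hy).2
    have h1 : σ (y * x⁻¹) = y * x⁻¹ := by
      rw [map_mul, map_inv]
      calc σ y * (σ x)⁻¹ = y * (y⁻¹ * σ y) * (σ x)⁻¹ := by group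
        _ = y * x⁻¹ := by rw [hy']; group
    rcases h.hfix _ h1 with h2 | h2
    · simp [(mul_inv_eq_one.1 h2)]
    · simp [(mul_inv_eq_iff_eq_mul.1 h2)]
  have hcardD : Nat.card E ≤ 2 * D.card := by
    rw [Nat.card_eq_fintype_card, ← Finset.card_univ]
    exact Finset.card_le_mul_card_image _ 2 hfib
  -- each quotient of two inverted elements
  let rep : E → E := fun g => if hg : ∃ a ∈ D, a * g ∈ D then hg.choose else 1
  have hrep : ∀ a ∈ D, ∀ b ∈ D, Commute (a⁻¹ * b) ((rep (a⁻¹ * b))⁻¹ * a) := by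
    intro a ha b hb
    set g := a⁻¹ * b with hg
    have hex : ∃ a ∈ D, a * g ∈ D := ⟨a, ha, by rw [hg, mul_inv_cancel_left]; exact hb⟩
    obtain ⟨ha₀, ha₀g⟩ := hex.choose_spec
    have hr : rep g = hex.choose := dif_pos hex
    rw [hr]
    set a₀ := hex.choose
    have key : ∀ c ∈ D, c * g ∈ D → σ g = c * g⁻¹ * c⁻¹ := by
      intro c hc hcg
      have h1 := hDinv _ hcg
      rw [map_mul, hDinv c hc, inv_mul_eq_iff_eq_mul, mul_inv_rev, ← mul_assoc] at h1
      exact h1
    have h1 := (key a ha (by rw [hg, mul_inv_cancel_left]; exact hb)).symm.trans (key a₀ ha₀ ha₀g)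
    have h2 : Commute g⁻¹ (a₀⁻¹ * a) := by
      show g⁻¹ * (a₀⁻¹ * a) = a₀⁻¹ * a * g⁻¹
      calc g⁻¹ * (a₀⁻¹ * a) = a₀⁻¹ * (a₀ * g⁻¹ * a₀⁻¹) * a := by group
        _ = a₀⁻¹ * a * g⁻¹ := by rw [← h1]; group
    simpa using h2.inv_left
  have hle : D.card * D.card ≤ Nat.card {q : E × E // Commute q.1 q.2} := by
    rw [← Finset.card_product, ← Fintype.card_coe, ← Nat.card_eq_fintype_card]
    refine Nat.card_le_card_of_injective (fun q : ↥(D ×ˢ D) =>
      (⟨((q.1.1⁻¹ * q.1.2), (rep (q.1.1⁻¹ * q.1.2))⁻¹ * q.1.1),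
        hrep _ (Finset.mem_product.1 q.2).1 _ (Finset.mem_product.1 q.2).2⟩ :
          {q : E × E // Commute q.1 q.2})) fun q q' hqq => ?_
    simp only [Subtype.mk.injEq, Prod.mk.injEq] at hqq
    obtain ⟨h1, h2⟩ := hqq
    rw [h1] at h2
    have h3 := mul_left_cancel h2
    rw [h3] at h1
    exact Subtype.ext (Prod.ext h3 (mul_left_cancel h1))
  calc Nat.card E ^ 2 ≤ (2 * D.card) ^ 2 := Nat.pow_le_pow_left hcardD 2
    _ = 4 * (D.card * D.card) := by ring
    _ ≤ _ := Nat.mul_le_mul_left 4 hle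

/-- An invariant normal cyclic subgroup is central. -/
theorem Setup.cyclic_central (h : Setup z σ) (A : Subgroup E) [A.Normal] [IsCyclic A]
    (hA : ∀ x ∈ A, σ x ∈ A) : A ≤ center E := by
  classical
  haveI := Fintype.ofFinite E
  obtain ⟨⟨a, ha⟩, hgen⟩ := IsCyclic.exists_generator (α := A)
  have hpow : ∀ x ∈ A, ∃ r : ℤ, a ^ r = x := fun x hx => by
    obtain ⟨r, hr⟩ := Subgroup.mem_zpowers_iff.1 (hgen ⟨x, hx⟩)
    exact ⟨r, congrArg Subtype.val hr⟩
  obtain ⟨t, ht⟩ := hpow _ (hA a ha)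
  have hD : ∀ x : E, x⁻¹ * σ x ∈ centralizer ({a} : Set E) := by
    intro x
    obtain ⟨r, hr⟩ := hpow _ (‹A.Normal›.conj_mem a ha x)
    have h1 : σ (a ^ t) = a := by rw [ht, h.hσ2]
    have h2 : σ x * a * (σ x)⁻¹ = a ^ r := by
      calc σ x * a * (σ x)⁻¹ = σ (x * a ^ t * x⁻¹) := by rw [map_mul, map_mul, map_inv, h1]
        _ = σ ((a ^ t) ^ r) := by rw [← conj_zpow, ← hr, ← zpow_mul, mul_comm, zpow_mul]
        _ = a ^ r := by rw [map_zpow, h1]
    rw [mem_centralizer_singleton_iff]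
    calc x⁻¹ * σ x * a = x⁻¹ * (σ x * a * (σ x)⁻¹) * σ x := by group
      _ = x⁻¹ * (x * a * x⁻¹) * σ x := by rw [h2, hr]
      _ = a * (x⁻¹ * σ x) := by group
  set C := centralizer ({a} : Set E) with hC
  have hcard : Nat.card E ≤ 2 * Nat.card C := by
    have h1 := Finset.card_le_mul_card_image (f := fun x : E => (⟨x⁻¹ * σ x, hD x⟩ : C)) Finset.univ 2
      fun b hb => by
        obtain ⟨x, -, rfl⟩ := Finset.mem_image.1 hb
        refine (Finset.card_le_card (t := {x, z * x}) fun y hy => ?_).trans Finset.card_le_two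
        have hy' : y⁻¹ * σ y = x⁻¹ * σ x := congrArg Subtype.val (Finset.mem_filter.1 hy).2
        have h1 : σ (y * x⁻¹) = y * x⁻¹ := by
          rw [map_mul, map_inv]
          calc σ y * (σ x)⁻¹ = y * (y⁻¹ * σ y) * (σ x)⁻¹ := by group
            _ = y * x⁻¹ := by rw [hy']; group
        rcases h.hfix _ h1 with h2 | h2
        · simp [(mul_inv_eq_one.1 h2)]
        · simp [(mul_inv_eq_iff_eq_mul.1 h2)]
    rw [Nat.card_eq_fintype_card, ← Finset.card_univ]
    refine h1.trans (Nat.mul_le_mul_left 2 ?_)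
    rw [Nat.card_eq_fintype_card, ← Finset.card_univ]
    exact Finset.card_le_card (Finset.subset_univ _)
  have hidx : C.index ≤ 2 := by
    rw [← C.index_mul_card] at hcard
    exact Nat.le_of_mul_le_mul_right hcard Nat.card_pos
  have htop : C = ⊤ := by
    have h0 : C.index ≠ 0 := Subgroup.index_ne_zero_of_finite
    exact Subgroup.index_eq_one.1 (by have := h.hind C; omega)
  intro x hx
  obtain ⟨r, rfl⟩ := hpow x hx
  refine zpow_mem (mem_center_iff.2 fun g => ?_) r
  have : g ∈ C := htop ▸ mem_top g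
  exact mem_centralizer_singleton_iff.1 this

/-- Of two commuting `2`-elements, the one of smaller order is a power of the other. -/
theorem Setup.mem_zpowers_of_commute (h : Setup z σ) {a : E} (ha1 : a ≠ 1) {n : ℕ}
    (ha : a ^ 2 ^ n = 1) : ∀ (m : ℕ) (b : E), Commute a b → b ^ 2 ^ m = 1 → orderOf b ≤ orderOf a →
      b ∈ zpowers a := by
  haveI := Fact.mk Nat.prime_two
  obtain ⟨n', -, hn'⟩ := (Nat.dvd_prime_pow Nat.prime_two).1 (orderOf_dvd_of_pow_eq_one ha)
  have hn0 : 0 < n' := Nat.pos_of_ne_zero fun h0 => ha1 (orderOf_eq_one_iff.1 (by rw [hn', h0, pow_zero]))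
  have hzmem : z ∈ zpowers a := by
    have h1 : a ^ 2 ^ (n' - 1) * a ^ 2 ^ (n' - 1) = 1 := by
      rw [← pow_add, ← two_mul, ← pow_succ', Nat.sub_add_cancel hn0, ← hn', pow_orderOf_eq_one]
    rcases h.huniq _ h1 with h2 | h2
    · exfalso
      have h3 := orderOf_dvd_of_pow_eq_one h2
      rw [hn', Nat.pow_dvd_pow_iff_le_right (by norm_num)] at h3
      omega
    · exact h2 ▸ pow_mem (mem_zpowers a) _
  intro m
  induction m with
  | zero => intro b _ hb _; rw [pow_zero, pow_one] at hb; rw [hb]; exact one_mem _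
  | succ m ih =>
    intro b hab hb hle
    by_cases hb2 : b * b = 1
    · rcases h.huniq b hb2 with rfl | rfl
      exacts [one_mem _, hzmem]
    have hob : orderOf (b * b) * 2 = orderOf b := by
      obtain ⟨j, -, hj⟩ := (Nat.dvd_prime_pow Nat.prime_two).1 (orderOf_dvd_of_pow_eq_one hb)
      obtain ⟨j, rfl⟩ : ∃ j', j = j' + 1 := ⟨j - 1, by
        have : j ≠ 0 := fun h0 => hb2 (by
          rw [(orderOf_eq_one_iff (x := b)).1 (by rw [hj, h0, pow_zero]), one_mul])
        omega⟩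
      rw [← pow_two, orderOf_pow' b (by norm_num : (2 : ℕ) ≠ 0), hj, pow_succ,
        Nat.gcd_mul_left_left, Nat.mul_div_cancel _ (by norm_num)]
    have hmem := ih (b * b) (hab.mul_right hab)
      (by rw [← pow_two, ← pow_mul, ← pow_succ']; exact hb)
      (by have := orderOf_pos (b * b); omega)
    rw [← SetLike.mem_coe, ← (isOfFinOrder_of_finite a).powers_eq_zpowers] at hmem
    obtain ⟨t, ht⟩ := hmem
    change a ^ t = b * b at ht
    -- the exponent is even
    obtain ⟨l, rfl⟩ : 2 ∣ t := by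
      by_contra hodd
      have hcop : Nat.Coprime (orderOf a) t := by
        rw [hn']; exact Nat.Coprime.pow_left _ ((Nat.prime_two.coprime_iff_not_dvd).2 hodd)
      have h1 : orderOf (b * b) = orderOf a := by rw [← ht]; exact Nat.Coprime.orderOf_pow hcop
      have := orderOf_pos a
      omega
    have hc : Commute (a ^ l)⁻¹ b := (hab.pow_left l).inv_left
    rcases h.huniq ((a ^ l)⁻¹ * b) (by
        rw [← pow_two, hc.mul_pow, inv_pow, ← pow_mul, mul_comm l 2, pow_two b, ht, inv_mul_cancel]) with h1 | h1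
    · rw [← (inv_mul_eq_one.1 h1)]
      exact pow_mem (mem_zpowers a) l
    · rw [inv_mul_eq_iff_eq_mul.1 h1]
      exact mul_mem (pow_mem (mem_zpowers a) l) hzmem

/-- A pair of `2`-elements with commutator `z` squares to `z`. -/
theorem Setup.sq_eq_z (h : Setup z σ) {x y : E} {n m : ℕ} (hx : x ^ 2 ^ n = 1) (hy : y ^ 2 ^ m = 1)
    (hxy : x * y = z * (y * x)) : x * x = z ∧ y * y = z := by
  have hne : ¬ Commute x y := fun hc => h.hz1 (mul_eq_right.1 (hc.eq ▸ hxy).symm)
  have hx1 : x ≠ 1 := fun e => hne (e ▸ Commute.one_left y)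
  have hy1 : y ≠ 1 := fun e => hne (e ▸ Commute.one_right x)
  have hyx : y * x = z * (x * y) := by rw [hxy, ← mul_assoc, h.hz2, one_mul]
  have key : ∀ {x y : E}, x * y = z * (y * x) → Commute (x * x) y := by
    intro x y e
    show x * x * y = y * (x * x)
    calc x * x * y = x * (z * (y * x)) := by rw [mul_assoc, e]
      _ = z * (x * y) * x := by rw [← mul_assoc, ← h.hzc x]; group
      _ = z * z * (y * (x * x)) := by rw [e]; group
      _ = y * (x * x) := by rw [h.hz2, one_mul]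
  have hbig : ∀ {x y : E} {n m : ℕ}, x ^ 2 ^ n = 1 → y ^ 2 ^ m = 1 → x ≠ 1 → y ≠ 1 →
      x * y = z * (y * x) → ¬ Commute x y → orderOf (x * x) < orderOf y := by
    intro x y n m hx hy hx1 hy1 e hne
    by_contra hle
    push Not at hle
    by_cases hxx : x * x = 1
    · rcases h.huniq x hxx with rfl | rfl
      · exact hx1 rfl
      · exact hne (h.hzc y)
    obtain ⟨j, hj⟩ := Subgroup.mem_zpowers_iff.1
      (h.mem_zpowers_of_commute hxx (n := n) (by rw [← pow_two, ← pow_mul, mul_comm, pow_mul, hx, one_pow])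
        m y (key e) hy hle)
    exact hne (hj ▸ (((Commute.refl x).mul_right (Commute.refl x)).zpow_right j))
  obtain ⟨A, -, hA⟩ := (Nat.dvd_prime_pow Nat.prime_two).1 (orderOf_dvd_of_pow_eq_one hx)
  obtain ⟨B, -, hB⟩ := (Nat.dvd_prime_pow Nat.prime_two).1 (orderOf_dvd_of_pow_eq_one hy)
  have hsq : ∀ {x : E} {A : ℕ}, orderOf x = 2 ^ A → x ≠ 1 → orderOf (x * x) = 2 ^ (A - 1) := by
    intro x A hA hx1
    obtain ⟨A, rfl⟩ : ∃ A', A = A' + 1 := ⟨A - 1, by
      have : A ≠ 0 := fun h0 => hx1 (orderOf_eq_one_iff.1 (by rw [hA, h0, pow_zero]))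
      omega⟩
    rw [← pow_two, orderOf_pow' x (by norm_num : (2 : ℕ) ≠ 0), hA, pow_succ, Nat.gcd_mul_left_left,
      Nat.mul_div_cancel _ (by norm_num), Nat.add_sub_cancel]
  have heq : A = B := by
    have h1 := hbig hx hy hx1 hy1 hxy hne
    have h2 := hbig hy hx hy1 hx1 hyx (fun hc => hne hc.symm)
    rw [hsq hA hx1, hB, Nat.pow_lt_pow_iff_right (by norm_num)] at h1
    rw [hsq hB hy1, hA, Nat.pow_lt_pow_iff_right (by norm_num)] at h2
    omega
  subst heq
  have hxx : x * x ≠ 1 := fun e => by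
    rcases h.huniq x e with rfl | rfl
    exacts [hx1 rfl, hne (h.hzc y)]
  have hmem := h.mem_zpowers_of_commute hxx (n := n) (by rw [← pow_two, ← pow_mul, mul_comm, pow_mul, hx, one_pow])
    m (y * y) ((key hxy).mul_right (key hxy)) (by rw [← pow_two, ← pow_mul, mul_comm, pow_mul, hy, one_pow])
    (by rw [hsq hA hx1, hsq hB hy1])
  rw [← SetLike.mem_coe, ← (isOfFinOrder_of_finite (x * x)).powers_eq_zpowers] at hmem
  obtain ⟨l, hl⟩ := hmem
  change (x * x) ^ l = y * y at hl
  -- the element `y₁` of order four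
  set y₁ := y * (x ^ l)⁻¹ with hy₁
  have hcx : ∀ j : ℕ, x ^ j * y = z ^ j * (y * x ^ j) := by
    intro j
    induction j with
    | zero => simp
    | succ j ih =>
      rw [pow_succ', mul_assoc, ih, ← mul_assoc x (z ^ j), ← (Commute.pow_left (h.hzc x) j).eq,
        mul_assoc, ← mul_assoc x y, hxy, pow_succ]
      group
  have hzl : ∀ j : ℕ, z ^ j = 1 ∨ z ^ j = z := fun j => h.huniq _ (by
    rw [← pow_add, ← two_mul, pow_mul, pow_two, h.hz2, one_pow])
  have hy1sq : y₁ * y₁ = (z ^ l)⁻¹ := by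
    have h1 : (x ^ l)⁻¹ * y = (z ^ l)⁻¹ * (y * (x ^ l)⁻¹) := by
      have h2 := hcx l
      have hcomm : Commute (z ^ l) ((x ^ l)⁻¹) := (Commute.pow_left (h.hzc ((x ^ l)⁻¹)) l)
      calc (x ^ l)⁻¹ * y = (x ^ l)⁻¹ * (y * x ^ l) * (x ^ l)⁻¹ := by group
        _ = (x ^ l)⁻¹ * ((z ^ l)⁻¹ * (x ^ l * y)) * (x ^ l)⁻¹ := by rw [h2, inv_mul_cancel_left]
        _ = (z ^ l)⁻¹ * (x ^ l)⁻¹ * (x ^ l * y) * (x ^ l)⁻¹ := by
            rw [← mul_assoc, hcomm.inv_left.eq]
        _ = (z ^ l)⁻¹ * (y * (x ^ l)⁻¹) := by group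
    have hcomm : Commute (z ^ l) y := Commute.pow_left (h.hzc y) l
    calc y₁ * y₁ = y * ((x ^ l)⁻¹ * y) * (x ^ l)⁻¹ := by rw [hy₁]; group
      _ = y * (z ^ l)⁻¹ * (y * ((x ^ l)⁻¹ * (x ^ l)⁻¹)) := by rw [h1]; group
      _ = (z ^ l)⁻¹ * ((y * y) * ((x ^ l)⁻¹ * (x ^ l)⁻¹)) := by rw [← hcomm.inv_left.eq]; group
      _ = (z ^ l)⁻¹ := by
        rw [← hl, ← pow_two x, ← pow_mul, ← mul_inv_rev, ← pow_add, ← two_mul, mul_inv_cancel, mul_one]
  have hcom₁ : ¬ Commute x y₁ := fun hc => hne (by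
    have := hc.mul_right ((Commute.refl x).pow_right l)
    rwa [hy₁, inv_mul_cancel_right] at this)
  have hy1z : y₁ * y₁ = z := by
    rcases hzl l with h1 | h1
    · exfalso
      rw [h1, inv_one] at hy1sq
      rcases h.huniq _ hy1sq with h2 | h2
      · exact hcom₁ (h2 ▸ Commute.one_right x)
      · exact hcom₁ (h2 ▸ (h.hzc x).symm)
    · rw [hy1sq, h1, inv_eq_of_mul_eq_one_right h.hz2]
  have hxy₁ : x * y₁ = z * (y₁ * x) := by
    rw [hy₁]
    calc x * (y * (x ^ l)⁻¹) = x * y * (x ^ l)⁻¹ := by group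
      _ = z * (y * (x ^ l)⁻¹ * x) := by rw [hxy]; group
  have hy1one : y₁ ≠ 1 := fun e => hcom₁ (e ▸ Commute.one_right x)
  have hy1ord : orderOf y₁ = 2 ^ 2 := orderOf_eq_prime_pow (p := 2) (n := 1)
    (by rw [pow_one, pow_two, hy1z]; exact h.hz1)
    (by rw [show (2 : ℕ) ^ (1 + 1) = 2 * 2 by norm_num, pow_mul, pow_two, pow_two, hy1z, h.hz2])
  have hA2 : A = 2 := by
    have h1 := hbig hx (y := y₁) (m := 2) (by rw [← hy1ord, pow_orderOf_eq_one]) hx1 hy1one hxy₁ hcom₁
    have h2 := hbig (x := y₁) (y := x) (n := 2) (by rw [← hy1ord, pow_orderOf_eq_one]) hx hy1one hx1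
      (by rw [hxy₁, ← mul_assoc, h.hz2, one_mul]) (fun hc => hcom₁ hc.symm)
    rw [hsq hA hx1, hy1ord, Nat.pow_lt_pow_iff_right (by norm_num)] at h1
    rw [hsq hy1ord hy1one, hA, Nat.pow_lt_pow_iff_right (by norm_num)] at h2
    omega
  subst hA2
  have hfour : ∀ {u : E}, orderOf u = 2 ^ 2 → u * u = z := fun {u} hu => by
    rcases h.huniq (u * u) (by
      rw [← pow_two, ← pow_two, ← pow_mul]; norm_num
      rw [show (4 : ℕ) = orderOf u by rw [hu]; norm_num, pow_orderOf_eq_one]) with h1 | h1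
    · exfalso
      have := orderOf_dvd_of_pow_eq_one (x := u) (n := 2) (by rw [pow_two]; exact h1)
      rw [hu] at this
      norm_num at this
    · exact h1
  exact ⟨hfour hA, hfour hB⟩

/-- A normal invariant subgroup outside the centre contains an invariant normal `2`-subgroup that
is not abelian and has central commutators. -/
theorem Setup.exists_two_part (h : Setup z σ) (M : Subgroup E) [M.Normal] (hMσ : ∀ x ∈ M, σ x ∈ M)
    (hM : ¬ M ≤ center E) :
    ∃ P : Subgroup E, P.Normal ∧ P ≤ M ∧ (∀ x ∈ P, σ x ∈ P) ∧ IsPGroup 2 P ∧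
      (∀ x ∈ P, ∀ y ∈ P, ⁅x, y⁆ ∈ center E) ∧ ∃ x ∈ P, ∃ y ∈ P, x * y ≠ y * x := by
  classical
  haveI := h.isSolvable
  -- iterate the commutator
  let T : ℕ → Subgroup E := fun n => Nat.rec M (fun _ S => ⁅S, S⁆) n
  have hTn : ∀ n, (T n).Normal ∧ T n ≤ M ∧ (T n).map σ.toMonoidHom = T n := by
    intro n
    induction n with
    | zero =>
      refine ⟨‹_›, le_rfl, ?_⟩
      show M.map σ.toMonoidHom = M
      apply Subgroup.eq_of_le_of_card_ge
      · rintro _ ⟨x, hx, rfl⟩; exact hMσ x hx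
      · rw [Subgroup.card_map_of_injective σ.injective]
    | succ n ih =>
      obtain ⟨h1, h2, h3⟩ := ih
      haveI := h1
      refine ⟨Subgroup.commutator_normal _ _, (Subgroup.commutator_le_left _ _).trans h2, ?_⟩
      show (⁅T n, T n⁆).map σ.toMonoidHom = ⁅T n, T n⁆
      rw [Subgroup.map_commutator, h3]
  have hTd : ∀ n, T n ≤ derivedSeries E n := by
    intro n
    induction n with
    | zero => rw [derivedSeries_zero]; exact le_top
    | succ n ih => rw [derivedSeries_succ]; exact Subgroup.commutator_mono ih ih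
  obtain ⟨s, hs⟩ := (Group.isSolvable_def E).1 h.isSolvable
  have hbot : T s ≤ center E := ((hTd s).trans hs.le).trans bot_le
  obtain ⟨n, hn, hn1⟩ : ∃ n, ¬ T n ≤ center E ∧ T (n + 1) ≤ center E := by
    by_contra hcon
    push Not at hcon
    have : ∀ n, ¬ T n ≤ center E := fun n => by
      induction n with
      | zero => exact hM
      | succ n ih => exact hcon n ih
    exact this s hbot
  obtain ⟨hNn, hNM, hNmap⟩ := hTn n
  obtain ⟨N, hN⟩ : ∃ N : Subgroup E, T n = N := ⟨_, rfl⟩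
  rw [hN] at hn hNn hNM hNmap
  haveI := hNn
  have hNσ : ∀ x ∈ N, σ x ∈ N := fun x hx => hNmap ▸ Subgroup.mem_map_of_mem σ.toMonoidHom hx
  have hcomm : ∀ x ∈ N, ∀ y ∈ N, ⁅x, y⁆ ∈ center E := by
    subst hN
    exact fun x hx y hy => hn1 (Subgroup.commutator_mem_commutator hx hy)
  haveI : Group.IsNilpotent ↥N := by
    refine Subgroup.isNilpotent_of_ker_le_center (Abelianization.of (G := N)) ?_
    rw [Abelianization.ker_of, _root_.commutator_def, Subgroup.commutator_le]
    intro x _ y _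
    rw [mem_center_iff]
    intro g
    exact Subtype.ext (mem_center_iff.1 (hcomm x x.2 y y.2) g)
  -- the Sylow subgroups
  have hsyl : ∀ (r : ℕ) [Fact r.Prime], ∃ S : Subgroup E, S ≤ N ∧ S.Normal ∧ (∀ x ∈ S, σ x ∈ S) ∧
      IsPGroup r S ∧ r ^ (Nat.card ↥N).factorization r ∣ Nat.card S := by
    intro r _
    obtain ⟨Q⟩ : Nonempty (Sylow r N) := inferInstance
    haveI hQn : (Q : Subgroup N).Normal :=
      Q.normal_of_normalizerCondition Group.normalizerCondition_of_isNilpotent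
    haveI := Sylow.unique_of_normal Q hQn
    have hmem : ∀ x : E, x ∈ N → (∃ k, x ^ r ^ k = 1) → x ∈ (Q : Subgroup N).map N.subtype := by
      intro x hx ⟨k, hk⟩
      have hp : IsPGroup r (zpowers (⟨x, hx⟩ : N)) := by
        obtain ⟨i, -, hi⟩ := (Nat.dvd_prime_pow (Fact.out : r.Prime)).1
          (orderOf_dvd_of_pow_eq_one (x := (⟨x, hx⟩ : N)) (n := r ^ k) (Subtype.ext hk))
        exact IsPGroup.of_card (n := i) (by rw [Nat.card_zpowers, hi])
      obtain ⟨Q', hQ'⟩ := hp.exists_le_sylow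
      rw [Subsingleton.elim Q' Q] at hQ'
      exact ⟨⟨x, hx⟩, hQ' (mem_zpowers _), rfl⟩
    have hpow : ∀ x ∈ (Q : Subgroup N).map N.subtype, x ∈ N ∧ ∃ k, x ^ r ^ k = 1 := by
      rintro _ ⟨q, hq, rfl⟩
      obtain ⟨k, hk⟩ := Q.isPGroup' ⟨q, hq⟩
      refine ⟨q.2, k, ?_⟩
      exact congrArg (fun t : (Q : Subgroup N) => ((t : N) : E)) hk
    refine ⟨(Q : Subgroup N).map N.subtype, Subgroup.map_subtype_le _, ⟨fun x hx g => ?_⟩, fun x hx => ?_,
      Q.isPGroup'.map _, ?_⟩
    · obtain ⟨hxN, k, hk⟩ := hpow x hx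
      exact hmem _ (hNn.conj_mem x hxN g) ⟨k, by rw [conj_pow, hk, mul_one, mul_inv_cancel]⟩
    · obtain ⟨hxN, k, hk⟩ := hpow x hx
      exact hmem _ (hNσ x hxN) ⟨k, by rw [← map_pow, hk, map_one]⟩
    · rw [Subgroup.card_map_of_injective N.subtype_injective, Q.card_eq_multiplicity]
  obtain ⟨P, hPN, hPn, hPσ, hP2, hPcard⟩ := hsyl 2
  haveI := hPn
  refine ⟨P, hPn, hPN.trans hNM, hPσ, hP2, fun x hx y hy => hcomm x (hPN hx) y (hPN hy), ?_⟩
  by_contra hcon
  push Not at hcon
  -- otherwise every Sylow subgroup of `N` is central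
  have hPc : P ≤ center E := by
    haveI : IsCyclic P := by
      by_cases hP1 : P = ⊥
      · subst hP1; infer_instance
      haveI := Fintype.ofFinite P
      obtain ⟨a, -, hamax⟩ := Finset.exists_max_image (Finset.univ : Finset P) (fun a => orderOf a) ⟨1, Finset.mem_univ _⟩
      refine ⟨a, fun b => ?_⟩
      obtain ⟨i, hi⟩ := hP2 a
      obtain ⟨j, hj⟩ := hP2 b
      by_cases ha1 : (a : E) = 1
      · have hb : orderOf b = 1 := by
          have h1 := hamax b (Finset.mem_univ b)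
          have ha0 : orderOf a = 1 := by rw [orderOf_eq_one_iff]; exact Subtype.ext ha1
          have := orderOf_pos b
          simp only [ha0] at h1
          omega
        exact ⟨0, by simp [orderOf_eq_one_iff.1 hb]⟩
      obtain ⟨t, ht⟩ := Subgroup.mem_zpowers_iff.1 (h.mem_zpowers_of_commute ha1 (n := i)
        (congrArg Subtype.val hi) j b (hcon a a.2 b b.2) (congrArg Subtype.val hj)
        (by rw [Subgroup.orderOf_coe, Subgroup.orderOf_coe]; exact hamax b (Finset.mem_univ b)))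
      exact ⟨t, Subtype.ext ht⟩
    exact h.cyclic_central P hPσ
  refine hn ?_
  have htop : (center E).subgroupOf N = ⊤ := by
    refine Subgroup.eq_top_of_card_eq _ (Nat.dvd_antisymm (Subgroup.card_subgroup_dvd_card _) ?_)
    rw [Nat.dvd_iff_prime_pow_dvd_dvd]
    intro r k hr hrk
    haveI := Fact.mk hr
    obtain ⟨S, hSN, hSn, hSσ, hSr, hScard, hSc⟩ : ∃ S : Subgroup E, S ≤ N ∧ S.Normal ∧ (∀ x ∈ S, σ x ∈ S) ∧
        IsPGroup r S ∧ r ^ (Nat.card ↥N).factorization r ∣ Nat.card S ∧ S ≤ center E := by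
      by_cases hr2 : r = 2
      · subst hr2
        exact ⟨P, hPN, hPn, hPσ, hP2, hPcard, hPc⟩
      obtain ⟨S, hSN, hSn, hSσ, hSr, hScard⟩ := hsyl r
      haveI := hSn
      haveI : IsZGroup S := h.hodd S fun h2 => hr2 (by
        obtain ⟨i, hi⟩ := IsPGroup.iff_card.1 hSr
        rw [hi] at h2
        exact ((Nat.prime_dvd_prime_iff_eq Nat.prime_two hr).1 (Nat.prime_two.dvd_of_dvd_pow h2)).symm)
      haveI : Group.IsNilpotent S := hSr.isNilpotent
      haveI : IsCyclic S := inferInstance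
      exact ⟨S, hSN, hSn, hSσ, hSr, hScard, h.cyclic_central S hSσ⟩
    have h1 : S.subgroupOf N ≤ (center E).subgroupOf N := fun x hx => hSc hx
    refine dvd_trans ?_ (Subgroup.card_dvd_of_le h1)
    rw [Nat.card_congr (Subgroup.subgroupOfEquivOfLe hSN).toEquiv]
    exact (Nat.pow_dvd_pow r ((hr.pow_dvd_iff_le_factorization Nat.card_pos.ne').1 hrk)).trans hScard
  exact Subgroup.subgroupOf_eq_top.1 htop

set_option maxHeartbeats 1000000 in
/-- The structure of the group. -/
theorem Setup.structure (h : Setup z σ) (hne : ¬ (⊤ : Subgroup E) ≤ center E) :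
    ∃ k i : E, k * k = z ∧ σ k = k⁻¹ ∧ i * i = z ∧ i * k = z * (k * i) ∧
      (σ i = i * k ∨ σ i = i * k⁻¹) ∧ (∀ w ∈ center E, w * w ≠ z) ∧
      (∀ x : E, x * x = z → x = k ∨ x = k⁻¹ ∨ ¬ Commute x k) ∧
      Nat.card E ≤ 12 * Nat.card (center E) := by
  classical
  haveI := Fintype.ofFinite E
  obtain ⟨P, hPn, -, hPσ, hP2, hPc, hPnc⟩ := h.exists_two_part ⊤ (fun x _ => mem_top _) hne
  have hpow : ∀ x ∈ P, ∃ n, x ^ 2 ^ n = 1 := fun x hx => by
    obtain ⟨n, hn⟩ := hP2 ⟨x, hx⟩
    exact ⟨n, congrArg Subtype.val hn⟩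
  have hzinv : z⁻¹ = z := inv_eq_of_mul_eq_one_right h.hz2
  have hzz : ∀ a b : E, z * a * (z * b) = a * b := fun a b => by
    calc z * a * (z * b) = z * (a * z) * b := by group
      _ = z * z * (a * b) := by rw [← h.hzc a]; group
      _ = a * b := by rw [h.hz2, one_mul]
  -- a commutator partner
  have hpartner : ∀ x ∈ P, ∀ y ∈ P, x * y ≠ y * x → ∃ y' ∈ P, x * y' = z * (y' * x) := by
    intro x hx y hy hxy
    set c := ⁅x, y⁆ with hcdef
    have hcc : ∀ g, g * c = c * g := mem_center_iff.1 (hPc x hx y hy)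
    have hcP : c ∈ P := by
      rw [hcdef, commutatorElement_def]
      exact P.mul_mem (P.mul_mem (P.mul_mem hx hy) (P.inv_mem hx)) (P.inv_mem hy)
    have hc1 : c ≠ 1 := fun h1 => hxy (commutatorElement_eq_one_iff_mul_comm.1 h1)
    obtain ⟨n, hn⟩ := hpow c hcP
    obtain ⟨j, -, hj⟩ := (Nat.dvd_prime_pow Nat.prime_two).1 (orderOf_dvd_of_pow_eq_one hn)
    obtain ⟨j, rfl⟩ : ∃ j', j = j' + 1 := ⟨j - 1, by
      have : j ≠ 0 := fun h0 => hc1 (orderOf_eq_one_iff.1 (by rw [hj, h0, pow_zero]))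
      omega⟩
    have hcz : c ^ 2 ^ j = z := by
      rcases h.huniq (c ^ 2 ^ j) (by rw [← pow_add, ← two_mul, ← pow_succ', ← hj, pow_orderOf_eq_one]) with h1 | h1
      · exfalso
        have := orderOf_dvd_of_pow_eq_one h1
        rw [hj, Nat.pow_dvd_pow_iff_le_right (by norm_num)] at this
        omega
      · exact h1
    refine ⟨y ^ 2 ^ j, P.pow_mem hy _, ?_⟩
    have h1 : x * y * x⁻¹ = c * y := by rw [hcdef, commutatorElement_def]; group
    calc x * y ^ 2 ^ j = (x * y * x⁻¹) ^ 2 ^ j * x := by rw [conj_pow]; group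
      _ = c ^ 2 ^ j * y ^ 2 ^ j * x := by rw [h1, Commute.mul_pow ((hcc y).symm : Commute c y)]
      _ = z * (y ^ 2 ^ j * x) := by rw [hcz]; group
  obtain ⟨x₀, hx₀, y₀, hy₀, hxy₀⟩ := hPnc
  have hnoncentral : ∀ x ∈ P, (∃ y ∈ P, x * y ≠ y * x) → x * x = z := by
    rintro x hx ⟨y, hy, hxy⟩
    obtain ⟨y', hy', he⟩ := hpartner x hx y hy hxy
    obtain ⟨n, hn⟩ := hpow x hx
    obtain ⟨m, hm⟩ := hpow y' hy'
    exact (h.sq_eq_z hn hm he).1
  have hsq : ∀ x ∈ P, x = 1 ∨ x = z ∨ x * x = z := by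
    intro x hx
    by_cases hc : ∃ y ∈ P, x * y ≠ y * x
    · exact Or.inr (Or.inr (hnoncentral x hx hc))
    push Not at hc
    have h1 := hnoncentral x₀ hx₀ ⟨y₀, hy₀, hxy₀⟩
    have h2 := hnoncentral (x₀ * x) (P.mul_mem hx₀ hx) ⟨y₀, hy₀, fun e => hxy₀ (by
      rw [mul_assoc, hc y₀ hy₀, ← mul_assoc, ← mul_assoc] at e
      exact mul_right_cancel e)⟩
    rw [show x₀ * x * (x₀ * x) = x₀ * (x * x₀) * x by group, hc x₀ hx₀,
      show x₀ * (x₀ * x) * x = (x₀ * x₀) * (x * x) by group, h1] at h2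
    rcases h.huniq x (mul_eq_left.1 h2) with h3 | h3
    exacts [Or.inl h3, Or.inr (Or.inl h3)]
  have hcomm : ∀ u ∈ P, ∀ w ∈ P, u * u = z → w * w = z → w = u ∨ w = u * z ∨ u * w = z * (w * u) := by
    intro u hu w hw hu2 hw2
    by_cases hc : u * w = w * u
    · rcases h.huniq (u⁻¹ * w) (by
        rw [← pow_two, (show Commute u⁻¹ w from (show Commute u w from hc).inv_left).mul_pow, pow_two,
          pow_two, ← mul_inv_rev, hu2, hw2, hzinv, h.hz2]) with h1 | h1
      · exact Or.inl (inv_mul_eq_one.1 h1).symm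
      · exact Or.inr (Or.inl (inv_mul_eq_iff_eq_mul.1 h1))
    · right; right
      have hcz : ⁅u, w⁆ = z := by
        rcases h.huniq ⁅u, w⁆ (by
          have hcc : ∀ g, g * ⁅u, w⁆ = ⁅u, w⁆ * g := mem_center_iff.1 (hPc u hu w hw)
          calc ⁅u, w⁆ * ⁅u, w⁆ = u * ⁅u, w⁆ * u⁻¹ * ⁅u, w⁆ := by rw [hcc u, mul_inv_cancel_right]
            _ = (u * u) * w * (u * u)⁻¹ * w⁻¹ := by rw [commutatorElement_def]; group
            _ = 1 := by rw [hu2, h.hzc w]; group) with h1 | h1
        · exact absurd (commutatorElement_eq_one_iff_mul_comm.1 h1) hc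
        · exact h1
      rw [← hcz, commutatorElement_def]; group
  -- the inverted element
  obtain ⟨u, hu, hu2⟩ : ∃ u ∈ P, u * u = z := ⟨x₀, hx₀, hnoncentral x₀ hx₀ ⟨y₀, hy₀, hxy₀⟩⟩
  have hne1 : ∀ {x : E}, x * x = z → x ≠ 1 ∧ x ≠ z := fun {x} hx =>
    ⟨fun e => h.hz1 (by rw [← hx, e, one_mul]), fun e => h.hz1 (by rw [← hx, e, h.hz2])⟩
  have hinvz : ∀ {x : E}, x * x = z → x⁻¹ = x * z := fun {x} hx => inv_eq_of_mul_eq_one_right (by
    rw [← mul_assoc, hx, h.hz2])
  have hσsq : ∀ {x : E}, x * x = z → σ x * σ x = z := fun {x} hx => by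
    rw [← map_mul, hx, h.sigma_z]
  obtain ⟨k, hk, hk2, hkσ⟩ : ∃ k ∈ P, k * k = z ∧ σ k = k⁻¹ := by
    rcases hcomm u hu (σ u) (hPσ u hu) hu2 (hσsq hu2) with h1 | h1 | h1
    · rcases h.hfix u h1 with h2 | h2
      exacts [absurd h2 (hne1 hu2).1, absurd h2 (hne1 hu2).2]
    · exact ⟨u, hu, hu2, by rw [h1, hinvz hu2]⟩
    · have h2 : u * σ u * (u * σ u) = z := by
        rw [show u * σ u * (u * σ u) = u * (σ u * u) * σ u by group,
          show σ u * u = z * (u * σ u) by rw [h1, ← mul_assoc, h.hz2, one_mul],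
          show u * (z * (u * σ u)) * σ u = (u * z) * (u * (σ u * σ u)) by group, hσsq hu2, ← h.hzc u,
          hzz, hu2]
      refine ⟨u * σ u, P.mul_mem hu (hPσ u hu), h2, ?_⟩
      rw [map_mul, h.hσ2, hinvz h2, h1, ← h.hzc, ← mul_assoc, ← mul_assoc, h.hz2, one_mul]
  have hkinv := hinvz hk2
  obtain ⟨i, hi, hik⟩ : ∃ i ∈ P, i * k = z * (k * i) := by
    by_cases hc : x₀ * k = k * x₀
    · have hy : y₀ * k ≠ k * y₀ := by
        intro hc'
        rcases hcomm k hk x₀ hx₀ hk2 (hnoncentral x₀ hx₀ ⟨y₀, hy₀, hxy₀⟩) with h1 | h1 | h1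
        · exact hxy₀ (by rw [h1]; exact hc'.symm)
        · refine hxy₀ ?_
          rw [h1, mul_assoc, h.hzc y₀, ← mul_assoc, ← hc', mul_assoc]
        · exact h.hz1 (mul_eq_right.1 (h1.symm.trans hc.symm))
      obtain ⟨i, hi, he⟩ := hpartner k hk y₀ hy₀ (fun e => hy e.symm)
      exact ⟨i, hi, by rw [he, ← mul_assoc, h.hz2, one_mul]⟩
    · obtain ⟨i, hi, he⟩ := hpartner k hk x₀ hx₀ (fun e => hc e.symm)
      exact ⟨i, hi, by rw [he, ← mul_assoc, h.hz2, one_mul]⟩
  have hi2 : i * i = z := by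
    refine hnoncentral i hi ⟨k, hk, fun e => h.hz1 ?_⟩
    exact mul_eq_right.1 ((e.symm.trans hik).symm.trans rfl)
  have hki : k * i = z * (i * k) := by rw [hik, ← mul_assoc, h.hz2, one_mul]
  have hikP : i * k ∈ P := P.mul_mem hi hk
  have hik2 : i * k * (i * k) = z := by
    rw [show i * k * (i * k) = i * (k * i) * k by group, hki,
      show i * (z * (i * k)) * k = (i * z) * (i * (k * k)) by group, hk2, ← h.hzc i, hzz, hi2]
  let ax : Fin 3 → E := ![k, i, i * k]
  have haxP : ∀ l, ax l ∈ P ∧ ax l * ax l = z := by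
    intro l
    fin_cases l
    exacts [⟨hk, hk2⟩, ⟨hi, hi2⟩, ⟨hikP, hik2⟩]
  have hanti : ∀ {u w : E}, u * w = z * (w * u) → w ≠ u ∧ w ≠ u * z := by
    intro u w e
    refine ⟨fun e' => h.hz1 ?_, fun e' => h.hz1 ?_⟩
    · rw [e'] at e; exact mul_eq_right.1 e.symm
    · rw [e', ← mul_assoc, mul_assoc u z u, h.hzc u, ← mul_assoc u u z] at e
      exact mul_eq_right.1 e.symm
  have hax : ∀ w ∈ P, w * w = z → ∃ l, w = ax l ∨ w = ax l * z := by
    intro w hw hw2
    rcases hcomm k hk w hw hk2 hw2 with h1 | h1 | h1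
    · exact ⟨0, Or.inl h1⟩
    · exact ⟨0, Or.inr h1⟩
    rcases hcomm i hi w hw hi2 hw2 with h2 | h2 | h2
    · exact ⟨1, Or.inl h2⟩
    · exact ⟨1, Or.inr h2⟩
    rcases hcomm (i * k) hikP w hw hik2 hw2 with h3 | h3 | h3
    · exact ⟨2, Or.inl h3⟩
    · exact ⟨2, Or.inr h3⟩
    exfalso
    refine h.hz1 (mul_eq_right.1 (h3.symm.trans ?_))
    calc i * k * w = i * (z * (w * k)) := by rw [mul_assoc, h1]
      _ = z * (i * w) * k := by rw [← mul_assoc, ← h.hzc i]; group
      _ = z * z * (w * (i * k)) := by rw [h2]; group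
      _ = w * (i * k) := by rw [h.hz2, one_mul]
  have haxz : ∀ l m, ax l = ax m ∨ ax l = ax m * z → l = m := by
    intro l m e
    have e1 := hanti hki
    have e2 := hanti hik
    have hkik : k * (i * k) = z * (i * k * k) := by rw [← mul_assoc, hki]; group
    have hikk : i * k * k = z * (k * (i * k)) := by rw [hkik, ← mul_assoc, h.hz2, one_mul]
    have hiik : i * (i * k) = z * (i * k * i) := by
      rw [show i * k * i = i * (k * i) by group, hki, ← mul_assoc i z, ← h.hzc i]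
      rw [show z * (z * i * (i * k)) = (z * z) * (i * (i * k)) by group, h.hz2, one_mul]
    have hiki : i * k * i = z * (i * (i * k)) := by rw [hiik, ← mul_assoc, h.hz2, one_mul]
    have e3 := hanti hkik
    have e4 := hanti hikk
    have e5 := hanti hiik
    have e6 := hanti hiki
    fin_cases l <;> fin_cases m <;>
      simp only [ax, Fin.zero_eta, Fin.mk_one, Fin.reduceFinMk, Matrix.cons_val_zero, Matrix.cons_val_one,
        Matrix.cons_val_two, Matrix.cons_val, Matrix.head_cons, Matrix.tail_cons] at e <;>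
      first | rfl | (exfalso; tauto)
  -- the centraliser of `P` is central
  have hCP : centralizer (P : Set E) ≤ center E := by
    by_contra hcon
    haveI : (centralizer (P : Set E)).Normal := inferInstance
    obtain ⟨R, -, hRle, -, hR2, hRc, x, hx, y, hy, hxy⟩ := h.exists_two_part (centralizer (P : Set E))
      (fun x hx => mem_centralizer_iff.2 fun q hq => by
        have h1 := congrArg σ (mem_centralizer_iff.1 hx (σ q) (hPσ q hq))
        rwa [map_mul, map_mul, h.hσ2] at h1) hcon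
    obtain ⟨n, hn⟩ := hR2 ⟨x, hx⟩
    have hn' : x ^ 2 ^ n = 1 := congrArg Subtype.val hn
    have hcx : ∀ q ∈ P, q * x = x * q := fun q hq => mem_centralizer_iff.1 (hRle hx) q hq
    have hx1 : x ≠ 1 := fun e => hxy (by rw [e, one_mul, mul_one])
    have hk4 : k ^ 2 ^ 2 = 1 := by rw [show (2 : ℕ) ^ 2 = 2 * 2 by norm_num, pow_mul, pow_two, pow_two, hk2, h.hz2]
    rcases le_or_gt (orderOf x) (orderOf k) with hle | hle
    · obtain ⟨t, ht⟩ := Subgroup.mem_zpowers_iff.1
        (h.mem_zpowers_of_commute (hne1 hk2).1 hk4 n x (hcx k hk) hn' hle)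
      have hxP : x ∈ P := ht ▸ P.zpow_mem hk t
      rcases hsq x hxP with h1 | h1 | h1
      · exact hx1 h1
      · exact hxy (by rw [h1, h.hzc y])
      · obtain ⟨l, hl⟩ := hax x hxP h1
        have hxc : ∀ m, ax m * x = x * ax m := fun m => hcx _ (haxP m).1
        have key : ∀ m, l = m := by
          intro m
          rcases hcomm (ax m) (haxP m).1 x hxP (haxP m).2 h1 with h2 | h2 | h2
          · refine haxz l m ?_
            rcases hl with h3 | h3
            · exact Or.inl (h3.symm.trans h2)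
            · exact Or.inr (by rw [← h2, h3, mul_assoc, h.hz2, mul_one])
          · refine haxz l m ?_
            rcases hl with h3 | h3
            · exact Or.inr (h3.symm.trans h2)
            · exact Or.inl (mul_right_cancel (h3.symm.trans h2))
          · exact absurd (mul_eq_right.1 (h2.symm.trans (hxc m))) h.hz1
        exact absurd ((key 0).symm.trans (key 1)) (by decide)
    · obtain ⟨t, ht⟩ := Subgroup.mem_zpowers_iff.1
        (h.mem_zpowers_of_commute hx1 hn' 2 k (hcx k hk).symm hk4 hle.le)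
      have h1 : i * k = k * i := by
        rw [← ht]
        exact ((show Commute i x from hcx i hi).zpow_right t).eq
      exact h.hz1 (mul_eq_right.1 (hik.symm.trans h1))
  have hcz : z ∈ center E := mem_center_iff.2 fun g => (h.hzc g).symm
  have hσi : σ i = i * k ∨ σ i = i * k⁻¹ := by
    obtain ⟨l, hl⟩ := hax (σ i) (hPσ i hi) (hσsq hi2)
    fin_cases l <;> simp only [ax] at hl <;> rcases hl with hl | hl
    · exfalso
      have : i = k⁻¹ := by rw [← h.hσ2 i, show σ i = k by simpa using hl, hkσ]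
      exact h.hz1 (by rw [this] at hik; simpa using hik.symm)
    · exfalso
      have : i = k := by
        rw [← h.hσ2 i, show σ i = k * z by simpa using hl, map_mul, hkσ, h.sigma_z, hkinv, mul_assoc, h.hz2, mul_one]
      exact (hanti hki).1 this
    · exfalso
      rcases h.hfix i (by simpa using hl) with h1 | h1
      exacts [(hne1 hi2).1 h1, (hne1 hi2).2 h1]
    · exfalso
      have hl' : σ i = i * z := by simpa using hl
      rcases h.hfix (i * k) (by
        rw [map_mul, hl', hkσ, hkinv, mul_assoc, ← mul_assoc z, h.hzc k, mul_assoc, h.hz2, mul_one]) with h1 | h1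
      exacts [(hne1 hik2).1 h1, (hne1 hik2).2 h1]
    · exact Or.inl (by simpa using hl)
    · exact Or.inr (by rw [hkinv, ← mul_assoc]; simpa using hl)
  have hwz : ∀ w ∈ center E, w * w ≠ z := by
    intro w hw hw2
    rcases h.huniq (k⁻¹ * w) (by
      rw [← pow_two, (show Commute k⁻¹ w from mem_center_iff.1 hw k⁻¹).mul_pow, pow_two, pow_two,
        ← mul_inv_rev, hk2, hw2, hzinv, h.hz2]) with h1 | h1
    · rw [inv_mul_eq_one] at h1
      have h2 := mem_center_iff.1 hw i
      rw [← h1, hik] at h2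
      exact h.hz1 (mul_eq_right.1 h2)
    · rw [inv_mul_eq_iff_eq_mul] at h1
      have h2 := mem_center_iff.1 hw i
      rw [h1] at h2
      refine h.hz1 (mul_eq_right.1 (show z * (k * i) = k * i from mul_right_cancel (b := z) ?_))
      calc z * (k * i) * z = i * (k * z) := by rw [← hik, mul_assoc]
        _ = k * z * i := h2
        _ = k * i * z := by rw [mul_assoc k z, h.hzc i, mul_assoc]
  -- the action on the three axes
  have hconj : ∀ (x : E) l, ∃ m, x * ax l * x⁻¹ = ax m ∨ x * ax l * x⁻¹ = ax m * z := fun x l =>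
    hax _ (hPn.conj_mem _ (haxP l).1 x) (by
      rw [show x * ax l * x⁻¹ * (x * ax l * x⁻¹) = x * (ax l * ax l) * x⁻¹ by group, (haxP l).2, ← h.hzc,
        mul_inv_cancel_right])
  choose π hπ using hconj
  have hπu : ∀ x l m, (x * ax l * x⁻¹ = ax m ∨ x * ax l * x⁻¹ = ax m * z) → π x l = m := by
    intro x l m e
    refine haxz _ _ ?_
    rcases hπ x l with h1 | h1 <;> rcases e with h2 | h2 <;> rw [h1] at h2
    · exact Or.inl h2
    · exact Or.inr h2
    · exact Or.inr (by rw [← h2, mul_assoc, h.hz2, mul_one])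
    · exact Or.inl (mul_right_cancel h2)
  have hπmul : ∀ x y l, π (x * y) l = π x (π y l) := by
    intro x y l
    apply hπu
    rw [show x * y * ax l * (x * y)⁻¹ = x * (y * ax l * y⁻¹) * x⁻¹ by group]
    have hz' : ∀ g, x * (g * z) * x⁻¹ = x * g * x⁻¹ * z := fun g => by
      calc x * (g * z) * x⁻¹ = x * g * (z * x⁻¹) := by group
        _ = x * g * x⁻¹ * z := by rw [h.hzc]; group
    rcases hπ y l with h1 | h1 <;> rw [h1] <;> [skip; rw [hz']] <;>
      rcases hπ x (π y l) with h2 | h2 <;> rw [h2]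
    · exact Or.inl rfl
    · exact Or.inr rfl
    · exact Or.inr rfl
    · exact Or.inl (by rw [mul_assoc, h.hz2, mul_one])
  have hπ1 : ∀ l, π 1 l = l := fun l => hπu 1 l l (Or.inl (by simp))
  let Φ : E →* Equiv.Perm (Fin 3) :=
    { toFun := fun x => ⟨π x, π x⁻¹, fun l => by rw [← hπmul, inv_mul_cancel, hπ1],
        fun l => by rw [← hπmul, mul_inv_cancel, hπ1]⟩
      map_one' := Equiv.ext hπ1
      map_mul' := fun x y => Equiv.ext fun l => hπmul x y l }
  have hsign : ∀ x, Equiv.Perm.sign (Φ x) = 1 := by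
    intro x
    by_contra hx
    apply h.hind ((Equiv.Perm.sign.comp Φ).ker)
    rw [Subgroup.index_ker]
    have hr : (Equiv.Perm.sign.comp Φ).range = ⊤ := by
      rw [eq_top_iff]
      intro u _
      rcases Int.units_eq_one_or u with rfl | rfl
      · exact one_mem _
      · exact ⟨x, (Int.units_eq_one_or _).resolve_left hx⟩
    rw [hr, Subgroup.card_top, Nat.card_eq_fintype_card, Fintype.card_units_int]
  have hA3 : Nat.card Φ.range ≤ 3 := by
    refine (Nat.card_le_card_of_injective (fun g : Φ.range => (⟨(g : Equiv.Perm (Fin 3)), ?_⟩ :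
      alternatingGroup (Fin 3))) fun a b e => Subtype.ext (congrArg Subtype.val e :)).trans ?_
    · obtain ⟨x, hx⟩ := g.2
      rw [Equiv.Perm.mem_alternatingGroup, ← hx]
      exact hsign x
    · rw [Nat.card_eq_fintype_card]
      decide
  -- the kernel
  have hker : ∀ x ∈ Φ.ker, ∃ q, (q = 1 ∨ q = k ∨ q = i ∨ q = i * k) ∧ q⁻¹ * x ∈ center E := by
    intro x hx
    have hl : ∀ l, x * ax l * x⁻¹ = ax l ∨ x * ax l * x⁻¹ = ax l * z := fun l => by
      have h1 := hπ x l
      rwa [show π x l = l from congrFun (congrArg DFunLike.coe (MonoidHom.mem_ker.1 hx)) l] at h1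
    have hcentre : ∀ y : E, Commute y k → Commute y i → y ∈ center E := fun y hyk hyi => by
      refine hCP (mem_centralizer_iff.2 fun q hq => ?_)
      rcases hsq q hq with rfl | rfl | hq2
      · rw [one_mul, mul_one]
      · exact h.hzc y
      · obtain ⟨l, hl'⟩ := hax q hq hq2
        have hc : Commute y (ax l) := by
          fin_cases l
          exacts [hyk, hyi, hyi.mul_right hyk]
        rcases hl' with rfl | rfl
        · exact hc.eq.symm
        · exact (hc.mul_right (h.hzc y).symm).eq.symm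
    have hq : ∀ q w : E, (q * w * q⁻¹ = x * w * x⁻¹) → Commute (q⁻¹ * x) w := by
      intro q w e
      show q⁻¹ * x * w = w * (q⁻¹ * x)
      calc q⁻¹ * x * w = q⁻¹ * (x * w * x⁻¹) * x := by group
        _ = w * (q⁻¹ * x) := by rw [← e]; group
    have hconjz : ∀ {q w : E}, q * w = z * (w * q) → q * w * q⁻¹ = w * z := fun {q w} e => by
      rw [e, ← mul_assoc, mul_inv_cancel_right, h.hzc]
    rcases hl 0 with h0 | h0 <;> rcases hl 1 with h1 | h1
    · exact ⟨1, Or.inl rfl, hcentre _ (hq 1 k (by simpa [ax] using h0.symm)) (hq 1 i (by simpa [ax] using h1.symm))⟩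
    · exact ⟨k, Or.inr (Or.inl rfl), hcentre _
        (hq k k (by rw [mul_inv_cancel_right]; simpa [ax] using h0.symm))
        (hq k i (by rw [hconjz hki]; simpa [ax] using h1.symm))⟩
    · exact ⟨i, Or.inr (Or.inr (Or.inl rfl)), hcentre _
        (hq i k (by rw [hconjz hik]; simpa [ax] using h0.symm))
        (hq i i (by rw [mul_inv_cancel_right]; simpa [ax] using h1.symm))⟩
    · refine ⟨i * k, Or.inr (Or.inr (Or.inr rfl)), hcentre _ (hq (i * k) k ?_) (hq (i * k) i ?_)⟩
      · rw [show i * k * k * (i * k)⁻¹ = i * k * i⁻¹ by group, hconjz hik]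
        simpa [ax] using h0.symm
      · rw [show i * k * i * (i * k)⁻¹ = i * (k * i * k⁻¹) * i⁻¹ by group, hconjz hki,
          show i * (i * z) * i⁻¹ = i * (i * (z * i⁻¹)) by group, h.hzc, ← mul_assoc i i⁻¹, mul_inv_cancel, one_mul]
        simpa [ax] using h1.symm
  refine ⟨k, i, hk2, hkσ, hi2, hik, hσi, hwz, ?_, ?_⟩
  · intro x hx2
    by_cases hc : Commute x k
    · rcases h.huniq (k⁻¹ * x) (by
        rw [← pow_two, hc.symm.inv_left.mul_pow, pow_two, pow_two, ← mul_inv_rev, hk2, hx2, hzinv, h.hz2]) with h1 | h1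
      · exact Or.inl (inv_mul_eq_one.1 h1).symm
      · exact Or.inr (Or.inl (by rw [hkinv]; exact inv_mul_eq_iff_eq_mul.1 h1))
    · exact Or.inr (Or.inr hc)
  · have hK : Nat.card Φ.ker ≤ 4 * Nat.card (center E) := by
      choose! qf hqf hqz using hker
      let S : Finset E := {1, k, i, i * k}
      have hS : ∀ x : Φ.ker, qf x ∈ S := fun x => by
        rcases hqf x x.2 with h1 | h1 | h1 | h1 <;> simp [S, h1]
      refine (Nat.card_le_card_of_injective (fun x : Φ.ker => ((⟨qf x, hS x⟩ : S),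
        (⟨(qf x)⁻¹ * (x : E), hqz x x.2⟩ : center E))) fun a b e => ?_).trans ?_
      · simp only [Prod.mk.injEq, Subtype.mk.injEq] at e
        obtain ⟨e1, e2⟩ := e
        rw [e1] at e2
        exact Subtype.ext (mul_left_cancel e2)
      · rw [Nat.card_prod]
        refine Nat.mul_le_mul_right _ ?_
        rw [Nat.card_eq_fintype_card, Fintype.card_coe]
        exact Finset.card_le_four
    calc Nat.card E = Nat.card Φ.range * Nat.card Φ.ker := by rw [← Subgroup.index_ker, Subgroup.index_mul_card]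
      _ ≤ 3 * (4 * Nat.card (center E)) := Nat.mul_le_mul hA3 hK
      _ = 12 * Nat.card (center E) := by ring

end CfsgLib.Perm.Nearfield
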