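import Mathlib
import Cfsg.Agent.Lib.Perm.NearfieldStructure

/-! The multiplicative group of a finite near-field attached to a sharply triply transitive group
of even degree has a subgroup of index two. -/

set_option autoImplicit false

open Subgroup

namespace CfsgLib.Perm.Nearfield

variable {E V : Type*} [Group E] [Finite E] [AddCommGroup V] [Finite V] [DistribMulAction E V]

/-- A regular action on the non-zero vectors together with the inversion map. -/
structure Twist (z : E) (σ : MulAut E) (f : V → V) (v : V) : Prop where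
  hv : v ≠ 0
  hv2 : v + v ≠ 0
  hz : ∀ u : V, z • u = -u
  htr : ∀ u : V, u ≠ 0 → ∃ x : E, x • v = u
  hfree : ∀ (x : E) (u : V), u ≠ 0 → x • u = u → x = 1
  hf : ∀ x : E, f (x • v) = σ x • v
  hσ2 : ∀ x, σ (σ x) = x
  hfix : ∀ x, σ x = x → x = 1 ∨ x = z
  hodd : ∀ S : Subgroup E, ¬ 2 ∣ Nat.card S → IsZGroup S
  hid : ∀ u : V, u ≠ 0 → u ≠ -v → f (v + f u) = v - f (v + u)

variable {z : E} {σ : MulAut E} {f : V → V} {v : V}

theorem Twist.eq_of_smul (h : Twist z σ f v) {x y : E} (e : x • v = y • v) : x = y := by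
  have h1 : (y⁻¹ * x) • v = v := by rw [mul_smul, e, inv_smul_smul]
  exact (inv_mul_eq_one.1 (h.hfree _ v h.hv h1)).symm

theorem Twist.z_ne_one (h : Twist z σ f v) : z ≠ 1 := fun e => h.hv2 (by
  have h1 := h.hz v
  rw [e, one_smul] at h1
  exact add_eq_zero_iff_eq_neg.2 h1)

theorem Twist.z_mul (h : Twist z σ f v) : z * z = 1 :=
  h.eq_of_smul (by rw [mul_smul, h.hz, h.hz, neg_neg, one_smul])

theorem Twist.z_comm (h : Twist z σ f v) (x : E) : z * x = x * z :=
  h.eq_of_smul (by rw [mul_smul, mul_smul, h.hz, h.hz, smul_neg])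

theorem Twist.setup (h : Twist z σ f v) (hind : ∀ N : Subgroup E, N.index ≠ 2) : Setup z σ where
  hz1 := h.z_ne_one
  hz2 := h.z_mul
  huniq x hx := by
    by_cases h1 : x • v + v = 0
    · refine Or.inr (h.eq_of_smul ?_)
      rw [h.hz]
      exact eq_neg_of_add_eq_zero_left h1
    · exact Or.inl (h.hfree x _ h1 (by rw [smul_add, ← mul_smul, hx, one_smul, add_comm]))
  hzc := h.z_comm
  hσ2 := h.hσ2
  hfix := h.hfix
  hodd := h.hodd
  hind := hind

theorem Twist.f_smul (h : Twist z σ f v) (x : E) {u : V} (hu : u ≠ 0) : f (x • u) = σ x • f u := by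
  obtain ⟨y, rfl⟩ := h.htr u hu
  rw [← mul_smul, h.hf, map_mul, mul_smul, h.hf]

/-- An index two subgroup of a finite abelian group with a unique involution. -/
theorem exists_index_two_of_comm (hS : Setup z σ) (hcomm : (⊤ : Subgroup E) ≤ center E) :
    False := by
  let sq : E →* E :=
    { toFun := fun x => x * x
      map_one' := one_mul 1
      map_mul' := fun x y => by
        have hc : y * x = x * y := (mem_center_iff.1 (hcomm (mem_top y)) x).symm
        calc x * y * (x * y) = x * (y * x) * y := by group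
          _ = x * x * (y * y) := by rw [hc]; group }
  apply hS.hind sq.range
  have h1 := Subgroup.index_ker sq
  have h2 : Nat.card sq.ker = 2 := by
    rw [Nat.card_eq_two_iff]
    refine ⟨1, ⟨z, hS.hz2⟩, fun e => hS.hz1 (congrArg Subtype.val e).symm, ?_⟩
    ext x
    simp only [Set.mem_insert_iff, Set.mem_singleton_iff, Set.mem_univ, iff_true]
    rcases hS.huniq x x.2 with e | e
    exacts [Or.inl (Subtype.ext e), Or.inr (Subtype.ext e)]
  have h3 := sq.range.index_mul_card
  have h4 := sq.ker.index_mul_card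
  rw [h1, h2] at h4
  rw [← h4, mul_comm (Nat.card _) 2] at h3
  exact Nat.eq_of_mul_eq_mul_right Nat.card_pos h3

section Field

variable {F : Type*} [Field F] [Module F V]

/-- The case in which every scalar is induced by a central element inverted by `σ`. -/
theorem Twist.false_of_full (h : Twist z σ f v) (hS : Setup z σ) (h2 : (2 : F) ≠ 0)
    (hlin : ∀ (x : E) (r : F) (u : V), x • (r • u) = r • x • u)
    (hdim : Module.finrank F V = 2)
    (hscal : ∀ r : F, r ≠ 0 → ∃ w ∈ center E, ∀ u : V, w • u = r • u)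
    (hinv : ∀ w ∈ center E, σ w = w⁻¹) {k i : E} (hk2 : k * k = z) (hkσ : σ k = k⁻¹)
    (hik : i * k = z * (k * i)) (hwz : ∀ w ∈ center E, w * w ≠ z) : False := by
  haveI : Module.Finite F V := Module.Finite.of_finite
  set e := k • v with he
  have hkinv : k⁻¹ = k * z := inv_eq_of_mul_eq_one_right (by rw [← mul_assoc, hk2, hS.hz2])
  have hke : k • e = -v := by rw [he, ← mul_smul, hk2, h.hz]
  have he0 : e ≠ 0 := fun e0 => h.hv (by rw [← inv_smul_smul k v, ← he, e0, smul_zero])
  have hfsc : ∀ (r : F) (u : V), r ≠ 0 → u ≠ 0 → f (r • u) = r⁻¹ • f u := by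
    intro r u hr hu
    obtain ⟨w, hw, hwu⟩ := hscal r hr
    rw [← hwu, h.f_smul w hu, hinv w hw, inv_smul_eq_iff, hwu, smul_inv_smul₀ hr]
  have hfv : f v = v := by simpa using h.hf 1
  have hfe : f e = -e := by rw [he, h.hf, hkσ, hkinv, mul_smul, h.hz, smul_neg]
  have hind : ∀ a b : F, a • v + b • e = 0 → a = 0 ∧ b = 0 := by
    intro a b hab
    by_cases hb : b = 0
    · rw [hb, zero_smul, add_zero, smul_eq_zero] at hab
      exact ⟨hab.resolve_right h.hv, hb⟩
    exfalso
    have h1 : e = (-(b⁻¹ * a)) • v := by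
      rw [neg_smul, mul_smul, eq_neg_iff_add_eq_zero, ← inv_smul_smul₀ hb e, ← smul_add, add_comm, hab, smul_zero]
    have hr : -(b⁻¹ * a) ≠ 0 := fun h0 => he0 (by rw [h1, h0, zero_smul])
    obtain ⟨w, hw, hwu⟩ := hscal _ hr
    exact hwz w hw (by rw [show w = k from h.eq_of_smul (by rw [hwu, ← h1]), hk2])
  have hcoord : ∀ u : V, ∃ a b : F, u = a • v + b • e := by
    intro u
    have hli : LinearIndependent F ![v, e] := LinearIndependent.pair_iff.2 hind
    have hspan := hli.span_eq_top_of_card_eq_finrank (by rw [hdim, Fintype.card_fin])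
    have hu : u ∈ Submodule.span F (Set.range ![v, e]) := hspan ▸ Submodule.mem_top
    rw [Matrix.range_cons_cons_empty, Submodule.mem_span_pair] at hu
    obtain ⟨a, b, hab⟩ := hu
    exact ⟨a, b, hab.symm⟩
  have huniq : ∀ a b c d : F, a • v + b • e = c • v + d • e → a = c ∧ b = d := by
    intro a b c d hab
    obtain ⟨h1, h2⟩ := hind (a - c) (b - d) (by
      rw [sub_smul, sub_smul, ← sub_eq_zero.2 hab]; abel)
    exact ⟨sub_eq_zero.1 h1, sub_eq_zero.1 h2⟩
  have hkab : ∀ a b : F, k • (a • v + b • e) = (-b) • v + a • e := by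
    intro a b
    rw [smul_add, hlin, hlin, hke, ← he, neg_smul, smul_neg, add_comm]
  -- the inversion map
  have hline : ∀ t : F, ∃ A : F, A * (1 + t * t) = 1 ∧ f (v + t • e) = A • v + (-(t * A)) • e := by
    intro t
    by_cases ht : t = 0
    · exact ⟨1, by simp [ht], by simp [ht, hfv]⟩
    have hu : v + t • e ≠ 0 := fun h0 => one_ne_zero (hind 1 t (by rw [one_smul]; exact h0)).1
    obtain ⟨A, B, hAB⟩ := hcoord (f (v + t • e))
    have h0 : t • e ≠ 0 := fun h0 => ht (hind 0 t (by rw [zero_smul, zero_add, h0])).2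
    have hid := h.hid (t • e) h0 (fun h1 => one_ne_zero
      (hind 1 t (by rw [one_smul, h1, add_neg_cancel])).1)
    rw [hfsc t e ht he0, hfe, hAB] at hid
    have h1 : f (k • (v + t • e)) = B • v + (-A) • e := by
      rw [h.f_smul k hu, hAB, hkσ, inv_smul_eq_iff, hkab, neg_neg]
    have h3 : v + t⁻¹ • -e ≠ 0 := fun h0 => one_ne_zero (hind 1 (-t⁻¹) (by
      rw [one_smul, neg_smul, ← smul_neg]; exact h0)).1
    have h2 : k • (v + t • e) = (-t) • (v + t⁻¹ • -e) := by
      rw [smul_add, hlin, hke, ← he, smul_add, smul_smul, neg_mul, mul_inv_cancel₀ ht, neg_smul, neg_smul,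
        one_smul, neg_neg, smul_neg, add_comm]
    rw [h2, hfsc (-t) _ (neg_ne_zero.2 ht) h3, hid] at h1
    obtain ⟨e1, e2⟩ := huniq ((-t)⁻¹ * (1 - A)) ((-t)⁻¹ * (-B)) B (-A) (by
      rw [← h1, smul_sub, smul_add, smul_smul, smul_smul, mul_sub, mul_one, sub_smul, mul_neg, neg_smul]
      abel)
    have hB : B = -(t * A) := by
      calc B = t * ((-t)⁻¹ * -B) := by field_simp
        _ = -(t * A) := by rw [e2]; ring
    refine ⟨A, ?_, by rw [hAB, hB]⟩
    have hA : 1 - A = -t * B := by rw [← e1]; field_simp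
    rw [hB] at hA
    linear_combination -hA
  have hmain : ∀ a b : F, a • v + b • e ≠ 0 →
      (a * a + b * b) • f (a • v + b • e) = a • v + (-b) • e := by
    intro a b hab
    by_cases ha : a = 0
    · subst ha
      have hb : b ≠ 0 := fun hb => hab (by simp [hb])
      rw [zero_smul, zero_add, hfsc b e hb he0, hfe, smul_smul, smul_neg, ← neg_smul, zero_add]
      congr 1
      field_simp
      ring
    obtain ⟨A, hA, hfA⟩ := hline (b / a)
    have h1 : a • v + b • e = a • (v + (b / a) • e) := by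
      rw [smul_add, smul_smul, mul_div_cancel₀ b ha]
    have h2 : v + (b / a) • e ≠ 0 := fun h0 => hab (by rw [h1, h0, smul_zero])
    rw [h1, hfsc a _ ha h2, hfA, smul_smul, smul_add, smul_smul, smul_smul]
    field_simp at hA
    congr 2
    · field_simp
      linear_combination hA
    · field_simp
      linear_combination -b * hA
  -- every element normalises the subgroup generated by `k`
  have hkey : ∀ x : E, x * k = k * x ∨ x * k = z * (k * x) := by
    intro x
    obtain ⟨a, c, hxv⟩ := hcoord (x • v)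
    obtain ⟨b, d, hxe⟩ := hcoord (x • e)
    have hrel : ∀ p q : F, p • v + q • e ≠ 0 →
        (p * p + q * q) • ((p * a + q * b) • v + (-(p * c + q * d)) • e) =
          ((p * a + q * b) * (p * a + q * b) + (p * c + q * d) * (p * c + q * d)) •
            σ x • (p • v + (-q) • e) := by
      intro p q hpq
      have hxu : x • (p • v + q • e) = (p * a + q * b) • v + (p * c + q * d) • e := by
        rw [smul_add, hlin, hlin, hxv, hxe, add_smul, add_smul, smul_add, smul_add, smul_smul, smul_smul,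
          smul_smul, smul_smul]
        abel
      have hne : (p * a + q * b) • v + (p * c + q * d) • e ≠ 0 := by
        rw [← hxu]; exact (smul_ne_zero_iff_ne x).2 hpq
      have h1 := h.f_smul x hpq
      rw [hxu] at h1
      rw [← hmain p q hpq, ← hmain _ _ hne, h1, hlin]
      exact smul_comm _ _ _
    set Mv := σ x • v with hMv
    set Me := σ x • (-e) with hMe
    have hM : ∀ p q : F, σ x • (p • v + (-q) • e) = p • Mv + q • Me := fun p q => by
      rw [smul_add, hlin, hlin, hMv, hMe, smul_neg, smul_neg, neg_smul]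
    have hMind : ∀ p q : F, p • Mv + q • Me = 0 → p = 0 ∧ q = 0 := fun p q h0 => by
      rw [← hM] at h0
      have h1 := congrArg (fun u => (σ x)⁻¹ • u) h0
      simp only [inv_smul_smul, smul_zero] at h1
      obtain ⟨h2, h3⟩ := hind _ _ h1
      exact ⟨h2, neg_eq_zero.1 h3⟩
    have hv1 : (1 : F) • v + (0 : F) • e ≠ 0 := fun h0 => one_ne_zero (hind _ _ h0).1
    have he1 : (0 : F) • v + (1 : F) • e ≠ 0 := fun h0 => one_ne_zero (hind _ _ h0).2
    have hve : (1 : F) • v + (1 : F) • e ≠ 0 := fun h0 => one_ne_zero (hind _ _ h0).1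
    have r1 := hrel 1 0 hv1
    have r2 := hrel 0 1 he1
    have r3 := hrel 1 1 hve
    rw [hM] at r1 r2 r3
    simp only [one_mul, zero_mul, mul_zero, mul_one, add_zero, zero_add, one_smul, zero_smul] at r1 r2 r3
    set ρ₁ := a * a + c * c with hρ₁
    set ρ₂ := b * b + d * d with hρ₂
    set ρ₃ := (a + b) * (a + b) + (c + d) * (c + d) with hρ₃
    have r4 : (2 * ρ₁) • Mv + (2 * ρ₂) • Me = ρ₃ • Mv + ρ₃ • Me := by
      rw [← smul_add, ← r3, mul_smul, mul_smul, ← r1, ← r2, show (1 + 1 : F) = 2 by norm_num,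
        ← smul_add]
      congr 1
      rw [add_smul, neg_add, add_smul]
      abel
    obtain ⟨q1, q2⟩ := hMind (2 * ρ₁ - ρ₃) (2 * ρ₂ - ρ₃) (by
      rw [sub_smul, sub_smul, ← sub_eq_zero.2 r4]; abel)
    have hρ : ρ₁ = ρ₂ := mul_left_cancel₀ h2 (by linear_combination q1 - q2)
    have horth : a * b + c * d = 0 := mul_left_cancel₀ (mul_ne_zero h2 h2) (by
      rw [hρ₁] at q1; rw [hρ₃] at q1 q2; rw [hρ₂] at q2
      linear_combination -q1 - q2)
    have hρ0 : ρ₁ ≠ 0 := by
      intro h0
      rw [h0, zero_smul] at r1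
      obtain ⟨h3, h4⟩ := hind _ _ r1
      exact h.hv ((smul_eq_zero_iff_eq x).1 (by rw [hxv, h3, neg_eq_zero.1 h4]; simp))
    have hdet : (a * d - b * c) * (a * d - b * c) = ρ₁ * ρ₁ := by
      rw [hρ₁] at hρ ⊢; rw [hρ₂] at hρ
      linear_combination (-(a * a) - c * c) * hρ + (-(a * b + c * d)) * horth
    have hb : b * ρ₁ = -c * (a * d - b * c) := by rw [hρ₁]; linear_combination a * horth
    have hd : d * ρ₁ = a * (a * d - b * c) := by rw [hρ₁]; linear_combination c * horth
    have hxk : x • k • v = b • v + d • e := hxe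
    have hkx : k • x • v = (-c) • v + a • e := by rw [hxv, hkab]
    rcases mul_self_eq_mul_self_iff.1 hdet with hD | hD
    · left
      rw [hD] at hb hd
      refine h.eq_of_smul ?_
      rw [mul_smul, mul_smul, hxk, hkx, mul_right_cancel₀ hρ0 hb, mul_right_cancel₀ hρ0 hd]
    · right
      rw [hD, mul_neg, ← neg_mul, neg_neg] at hb
      rw [hD, mul_neg, ← neg_mul] at hd
      refine h.eq_of_smul ?_
      rw [mul_smul, mul_smul, mul_smul, hxk, hkx, h.hz, mul_right_cancel₀ hρ0 hb,
        mul_right_cancel₀ hρ0 hd, neg_add, ← neg_smul, ← neg_smul, neg_neg]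
  have hnc : i * k ≠ k * i := fun hc => hS.hz1 (mul_eq_right.1 (hik.symm.trans hc))
  apply hS.hind (centralizer ({k} : Set E))
  rw [Subgroup.index_eq_two_iff]
  refine ⟨i, fun x => ?_⟩
  simp only [mem_centralizer_singleton_iff]
  rcases hkey x with hx | hx
  · refine Or.inr ⟨hx, fun hxi => hnc ?_⟩
    exact mul_left_cancel (a := x) (by rw [← mul_assoc, hxi, ← mul_assoc, ← hx, mul_assoc])
  · refine Or.inl ⟨?_, fun hc => hS.hz1 (mul_eq_right.1 (hx.symm.trans hc))⟩
    calc x * i * k = x * (z * (k * i)) := by rw [mul_assoc, hik]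
      _ = z * (x * k) * i := by rw [← mul_assoc, ← hS.hzc x]; group
      _ = z * z * (k * (x * i)) := by rw [hx]; group
      _ = k * (x * i) := by rw [hS.hz2, one_mul]

/-- The field with five elements. -/
theorem Twist.false_of_five (h : Twist z σ f v) (hS : Setup z σ) (h5 : (5 : F) = 0) (h2 : (2 : F) ≠ 0)
    (hlin : ∀ (x : E) (r : F) (u : V), x • (r • u) = r • x • u)
    (hdim : Module.finrank F V = 2) (hpow2 : ∀ r : F, r ≠ 0 → ∃ n : ℕ, r = (2 : F) ^ n)
    {k i : E} (hk2 : k * k = z) (hkσ : σ k = k⁻¹)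
    (hi2 : i * i = z) (hik : i * k = z * (k * i)) (hσi : σ i = i * k ∨ σ i = i * k⁻¹) : False := by
  have h22 : (2 : F) * 2 = -1 := by linear_combination h5
  have hfv : f v = v := by simpa using h.hf 1
  have hsmul2 : (2 : F) • v = v + v := by rw [two_smul]
  have hv20 : (2 : F) • v ≠ 0 := by rw [hsmul2]; exact h.hv2
  have hf2 : f ((2 : F) • v) = -((2 : F) • v) := by
    have h1 := h.hid v h.hv (fun e => h.hv2 (add_eq_zero_iff_eq_neg.2 e))
    rw [hfv, ← hsmul2] at h1
    have h3 : (2 : F) • f ((2 : F) • v) = v := by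
      rw [two_smul]; nth_rewrite 1 [h1]; rw [sub_add_cancel]
    calc f ((2 : F) • v) = (-2 : F) • (2 : F) • f ((2 : F) • v) := by
          rw [smul_smul, show (-2 : F) * 2 = 1 by linear_combination -h22, one_smul]
      _ = -((2 : F) • v) := by rw [h3, neg_smul]
  obtain ⟨m, hm⟩ := h.htr _ hv20
  have hm2 : m * m = z := h.eq_of_smul (by
    rw [mul_smul, hm, hlin, hm, smul_smul, h22, neg_one_smul, h.hz])
  have hminv : m⁻¹ = m * z := inv_eq_of_mul_eq_one_right (by rw [← mul_assoc, hm2, hS.hz2])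
  have hkinv : k⁻¹ = k * z := inv_eq_of_mul_eq_one_right (by rw [← mul_assoc, hk2, hS.hz2])
  have hmσ : σ m = m⁻¹ := h.eq_of_smul (by
    rw [← h.hf, hm, hf2, hminv, mul_smul, h.hz, smul_neg, hm])
  have hmk : m = k ∨ m = k⁻¹ := by
    rcases hS.hfix (m * k) (by
      rw [map_mul, hmσ, hkσ, hminv, hkinv]
      calc m * z * (k * z) = m * (z * k) * z := by group
        _ = m * k * (z * z) := by rw [hS.hzc k]; group
        _ = m * k := by rw [hS.hz2, mul_one]) with h1 | h1
    · exact Or.inr (eq_inv_of_mul_eq_one_left h1)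
    · exact Or.inl (by rw [← hk2] at h1; exact mul_right_cancel h1)
  have him : i * m = z * (m * i) := by
    rcases hmk with e | e <;> rw [e]
    · exact hik
    · rw [hkinv, ← mul_assoc, hik, mul_assoc k z i, hS.hzc i]; group
  have hσim : σ i = i * m ∨ σ i = i * m⁻¹ := by
    rcases hmk with e | e <;> rw [e]
    · exact hσi
    · rw [inv_inv]; exact hσi.symm
  obtain ⟨w, hw⟩ : ∃ w, i • v = w := ⟨_, rfl⟩
  have hw0 : w ≠ 0 := hw ▸ (smul_ne_zero_iff_ne i).2 h.hv
  have hmw : m • w = (-2 : F) • w := by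
    rw [← hw, ← mul_smul, show m * i = z * (i * m) by rw [him, ← mul_assoc, hS.hz2, one_mul], mul_smul,
      mul_smul, hm, h.hz, hlin, neg_smul]
  have hind : ∀ a b : F, a • v + b • w = 0 → a = 0 ∧ b = 0 := by
    intro a b hab
    by_cases hb : b = 0
    · rw [hb, zero_smul, add_zero, smul_eq_zero] at hab
      exact ⟨hab.resolve_right h.hv, hb⟩
    exfalso
    have h1 := congrArg (fun u => m • u) hab
    simp only [smul_add, hlin, hm, hmw, smul_zero] at h1
    have h3 : ((2 : F) * 2 * b) • w = 0 := by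
      calc ((2 : F) * 2 * b) • w
          = (2 : F) • (a • v + b • w) - (a • (2 : F) • v + b • (-2 : F) • w) := by module
        _ = 0 := by rw [hab, h1, smul_zero, sub_zero]
    exact (smul_eq_zero.1 h3).elim (fun e => hb (by rw [h22] at e; linear_combination -e)) hw0
  have huniq : ∀ a b c d : F, a • v + b • w = c • v + d • w → a = c ∧ b = d := by
    intro a b c d hab
    obtain ⟨h1, h2⟩ := hind (a - c) (b - d) (by
      rw [sub_smul, sub_smul, ← sub_eq_zero.2 hab]; abel)
    exact ⟨sub_eq_zero.1 h1, sub_eq_zero.1 h2⟩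
  obtain ⟨μ, hμ, hiv, hiw⟩ : ∃ μ : F, μ * μ = -1 ∧ σ i • v = μ • w ∧ σ i • w = μ • v := by
    have hiw : i • w = -v := by rw [← hw, ← mul_smul, hi2, h.hz]
    rcases hσim with e | e <;> rw [e]
    · refine ⟨2, h22, by rw [mul_smul, hm, hlin, hw], ?_⟩
      rw [mul_smul, hmw, hlin, hiw, smul_neg, neg_smul, neg_neg]
    · refine ⟨-2, by linear_combination h22, ?_, ?_⟩
      · rw [hminv, mul_smul, mul_smul, h.hz, smul_neg, hm, smul_neg, hlin, neg_smul, hw]
      · rw [hminv, mul_smul, mul_smul, h.hz, smul_neg, hmw, smul_neg, hlin, hiw]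
        simp only [smul_neg, neg_smul, neg_neg]
  have hfw : f w = μ • w := by rw [← congrArg f hw, h.hf, hiv]
  have hfneg : ∀ u : V, u ≠ 0 → f (-u) = -f u := fun u hu => by
    rw [← h.hz, h.f_smul z hu, hS.sigma_z, h.hz]
  have hf22 : ∀ u : V, u ≠ 0 → f ((2 : F) • u) = (-2 : F) • f u := by
    intro u hu
    obtain ⟨x, rfl⟩ := h.htr u hu
    rw [← hlin, ← hm, ← mul_smul, h.hf, map_mul, mul_smul, hmσ, hminv, mul_smul, h.hz, smul_neg, hm,
      h.hf, neg_smul, smul_neg, hlin]
  have hvw : v + w ≠ 0 := fun e => one_ne_zero (hind 1 1 (by rwa [one_smul, one_smul])).1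
  have hvmw : v - w ≠ 0 := fun e => one_ne_zero (hind 1 (-1) (by
    rw [one_smul, neg_one_smul, ← sub_eq_add_neg]; exact e)).1
  haveI : Module.Finite F V := Module.Finite.of_finite
  obtain ⟨a, b, hab⟩ : ∃ a b : F, f (v + w) = a • v + b • w := by
    have hli : LinearIndependent F ![v, w] := LinearIndependent.pair_iff.2 hind
    have hspan := hli.span_eq_top_of_card_eq_finrank (by rw [hdim, Fintype.card_fin])
    have hu : f (v + w) ∈ Submodule.span F (Set.range ![v, w]) := hspan ▸ Submodule.mem_top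
    rw [Matrix.range_cons_cons_empty, Submodule.mem_span_pair] at hu
    obtain ⟨a, b, hab⟩ := hu
    exact ⟨a, b, hab.symm⟩
  have hμ0 : μ ≠ 0 := fun e => by simp [e] at hμ
  have hfm : f (v - w) = a • v - b • w := by
    have h1 : m • (v + w) = (2 : F) • (v - w) := by rw [smul_add, hm, hmw, smul_sub, neg_smul]; abel
    have h3 := h.f_smul m hvw
    rw [h1, hf22 _ hvmw, hab, hmσ, hminv, mul_smul, h.hz, smul_neg, smul_add, hlin, hlin, hm, hmw] at h3
    have h4 : (-2 : F) • f (v - w) = (-2 : F) • (a • v - b • w) := by rw [h3]; module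
    exact smul_right_injective V (neg_ne_zero.2 h2) h4
  have hb : b = a * μ := by
    have h1 : i • (v + w) = -(v - w) := by
      rw [smul_add, ← hw, ← mul_smul i i, hi2, h.hz]; abel
    have h3 := h.f_smul i hvw
    rw [h1, hfneg _ hvmw, hfm, hab, smul_add, hlin, hlin, hiv, hiw, smul_smul, smul_smul] at h3
    exact (huniq (-a) b (b * μ) (a * μ) (by rw [add_comm ((b * μ) • v), ← h3]; module)).2
  subst hb
  have hu : v + μ • w ≠ 0 := fun e => one_ne_zero (hind 1 μ (by rw [one_smul]; exact e)).1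
  have hab' : f (v + w) = a • (v + μ • w) := by rw [hab, smul_add, smul_smul]
  obtain ⟨x, hx⟩ := h.htr _ hvw
  have hinvol : f (f (v + w)) = v + w := by rw [← hx, h.hf, h.hf, h.hσ2]
  have ha : a ≠ 0 := fun e => by
    have h1 : f (v + w) = 0 := by rw [hab', e, zero_smul]
    rw [← hx, h.hf, smul_eq_zero_iff_eq] at h1
    exact h.hv h1
  have hid := h.hid w hw0 (fun e => hvw (by rw [e, add_neg_cancel]))
  rw [hfw, hab'] at hid
  -- the value at `v + μ w`
  have hne : f (v + μ • w) = v - a • (v + μ • w) := hid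
  have h3 := hinvol
  rw [hab'] at h3
  -- multiply by scalars `1, 2, -1, -2`
  have hcases : ∀ r : F, r ≠ 0 → (∃ n : ℕ, r = (2 : F) ^ n) → ∀ u : V, u ≠ 0 → f (r • u) = r⁻¹ • f u := by
    rintro r - ⟨n, rfl⟩ u hu
    induction n generalizing u with
    | zero => simp
    | succ n ih =>
      rw [pow_succ, mul_smul, ih _ (smul_ne_zero h2 hu), hf22 u hu, smul_smul, mul_inv]
      congr 1
      rw [show (-2 : F) = (2 : F)⁻¹ from eq_inv_of_mul_eq_one_left (by linear_combination -h22)]
  rw [hcases a ha (hpow2 a ha) _ hu, hne, smul_sub, smul_smul, inv_mul_cancel₀ ha, one_smul] at h3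
  obtain ⟨e1, e2⟩ := huniq (a⁻¹ - 1) (-μ) 1 1 (by rw [one_smul, one_smul, ← h3]; module)
  exact h2 (by linear_combination hμ + (μ - 1) * e2)

end Field

/-- A group with a twisted regular action has a subgroup of index two. -/
theorem Twist.exists_index_two (h : Twist z σ f v) : ∃ N : Subgroup E, N.index = 2 := by
  classical
  by_contra hcon
  push Not at hcon
  have hS := h.setup hcon
  have hne : ¬ (⊤ : Subgroup E) ≤ center E := fun hc => exists_index_two_of_comm hS hc
  obtain ⟨k, i, hk2, hkσ, hi2, hik, hσi, hwz, -, hE12⟩ := hS.structure hne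
  let φ : E →* AddMonoid.End V := DistribMulAction.toAddMonoidEnd E V
  have hφ : ∀ (x : E) (u : V), φ x u = x • u := fun _ _ => rfl
  have hcc : ∀ a ∈ φ '' (center E : Set E), ∀ b ∈ φ '' (center E : Set E), a * b = b * a := by
    rintro _ ⟨a, ha, rfl⟩ _ ⟨b, -, rfl⟩
    rw [← map_mul, ← map_mul, mem_center_iff.1 ha b]
  let R := Subring.closure (φ '' (center E : Set E))
  let _ : CommRing R := Subring.closureCommRingOfComm hcc
  have hRc : ∀ r ∈ R, ∀ x, φ x * r = r * φ x := by
    intro r hr x
    induction hr using Subring.closure_induction with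
    | mem y hy =>
      obtain ⟨w, hw, rfl⟩ := hy
      rw [← map_mul, ← map_mul, mem_center_iff.1 hw x]
    | zero => rw [mul_zero, zero_mul]
    | one => rw [mul_one, one_mul]
    | add a b _ _ ha hb => rw [mul_add, add_mul, ha, hb]
    | neg a _ ha => exact Commute.neg_right ha
    | mul a b _ _ ha hb => rw [← mul_assoc, ha, mul_assoc, hb, mul_assoc]
  have hlin : ∀ (x : E) (r : R) (u : V), x • (r • u) = r • x • u := fun x r u =>
    DFunLike.congr_fun (hRc r r.2 x) u
  have hkill : ∀ r : R, r • v = 0 → r = 0 := fun r h0 => by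
    refine Subtype.ext (AddMonoidHom.ext fun u => ?_)
    by_cases hu : u = 0
    · subst hu; exact map_zero _
    · obtain ⟨x, rfl⟩ := h.htr u hu
      show r • x • v = 0
      rw [← hlin, h0, smul_zero]
  have : Finite R := Finite.of_injective (fun r : R => r • v) fun r s hrs =>
    sub_eq_zero.1 (hkill _ (by rw [sub_smul, sub_eq_zero]; exact hrs))
  have : Nontrivial R := ⟨⟨0, 1, fun e => h.hv (by
    rw [← one_smul R v, ← e, zero_smul])⟩⟩
  have : NoZeroDivisors R := ⟨fun {a b} hab => by
    rw [or_iff_not_imp_right]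
    intro hb
    obtain ⟨x, hx⟩ := h.htr (b • v) fun e => hb (hkill b e)
    refine hkill a ?_
    have h1 : x • (a • v) = 0 := by rw [hlin, hx, smul_smul, hab, zero_smul]
    exact (smul_eq_zero_iff_eq x).1 h1⟩
  have : IsDomain R := NoZeroDivisors.to_isDomain R
  let _ : Field R := (Finite.isDomain_to_isField R).toField
  haveI := Fintype.ofFinite R
  have h2R : (2 : R) ≠ 0 := fun e => h.hv2 (by rw [← two_smul R v, e, zero_smul])
  set Q := Nat.card R with hQ
  have hVcard : Nat.card V = Q ^ Module.finrank R V := Module.natCard_eq_pow_finrank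
  set d := Module.finrank R V with hd
  have hEV : Nat.card E + 1 = Nat.card V := by
    haveI := Fintype.ofFinite V
    haveI := Fintype.ofFinite E
    let g : E → {u : V // u ≠ 0} := fun x => ⟨x • v, (smul_ne_zero_iff_ne x).2 h.hv⟩
    have hg : Function.Bijective g := ⟨fun x y e => h.eq_of_smul (congrArg Subtype.val e),
      fun ⟨u, hu⟩ => (h.htr u hu).imp fun x hx => Subtype.ext hx⟩
    rw [Nat.card_eq_of_bijective g hg, Nat.card_eq_fintype_card, Nat.card_eq_fintype_card,
      Fintype.card_subtype_compl, Fintype.card_subtype_eq]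
    exact Nat.sub_add_cancel Fintype.card_pos
  -- the centre inside the scalars
  let ι : center E →* Rˣ := MonoidHom.toHomUnits
    { toFun := fun w => (⟨φ w, Subring.subset_closure ⟨w, w.2, rfl⟩⟩ : R)
      map_one' := Subtype.ext (map_one φ)
      map_mul' := fun a b => Subtype.ext (map_mul φ _ _) }
  have hι : ∀ (w : center E) (u : V), (w : E) • u = ((ι w : Rˣ) : R) • u := fun w u => rfl
  have hιinj : Function.Injective ι := fun a b e => Subtype.ext (h.eq_of_smul (by rw [hι, hι, e]))
  have hQu : Nat.card Rˣ = Q - 1 := Nat.card_units R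
  have hZdvd : Nat.card (center E) ∣ Q - 1 := hQu ▸ Subgroup.card_dvd_of_injective ι hιinj
  have hzc : z ∈ center E := mem_center_iff.2 fun g => (hS.hzc g).symm
  have hZeven : 2 ∣ Nat.card (center E) := by
    have h1 := orderOf_dvd_natCard (⟨z, hzc⟩ : center E)
    rwa [← Subgroup.orderOf_coe, orderOf_eq_prime (p := 2) (by rw [pow_two, hS.hz2]) hS.hz1] at h1
  haveI : IsCyclic (center E) := isCyclic_of_injective ι hιinj
  have hZ4 : ¬ 4 ∣ Nat.card (center E) := fun h4 => by
    obtain ⟨g, hg⟩ := IsCyclic.exists_generator (α := center E)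
    have hog : orderOf g = Nat.card (center E) := orderOf_eq_card_of_forall_mem_zpowers hg
    obtain ⟨q, hq⟩ := h4
    set w := g ^ q
    have hw4 : orderOf w = 4 := by
      have hq0 : q ≠ 0 := fun e => (Nat.card_pos (α := center E)).ne' (by rw [hq, e, mul_zero])
      rw [orderOf_pow' g hq0, hog, hq, Nat.gcd_mul_left_left, Nat.mul_div_cancel _ (Nat.pos_of_ne_zero hq0)]
    refine hwz w w.2 ?_
    rcases hS.huniq ((w : E) * w) (by
      have h1 : (w : E) ^ 4 = 1 := by rw [← SubgroupClass.coe_pow, ← hw4, pow_orderOf_eq_one]; rfl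
      simpa only [pow_succ, pow_zero, one_mul, mul_assoc] using h1) with e | e
    · exfalso
      have h1 := orderOf_dvd_of_pow_eq_one (x := w) (n := 2) (Subtype.ext (by
        rw [SubgroupClass.coe_pow, pow_two]; exact e))
      rw [hw4] at h1
      norm_num at h1
    · exact e
  -- the possible sizes
  have hQ3 : 3 ≤ Q := by
    have h1 : 1 < Q := Finite.one_lt_card_iff_nontrivial.2 inferInstance
    by_contra hlt
    have hQ2 : Q = 2 := by omega
    rw [hQ2] at hZdvd
    have := Nat.le_of_dvd (by norm_num) (hZeven.trans hZdvd)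
    omega
  have hd2 : 2 ≤ d := by
    by_contra hlt
    have hd1 : d ≤ 1 := by omega
    have hd0 : d ≠ 0 := fun e => by
      rw [e, pow_zero] at hVcard
      have := Nat.card_pos (α := E)
      omega
    haveI : Module.Finite R V := Module.Finite.of_finite
    refine hne fun x _ => mem_center_iff.2 fun y => h.eq_of_smul ?_
    have hone := (finrank_eq_one_iff_of_nonzero' v h.hv).1 (show Module.finrank R V = 1 by omega)
    obtain ⟨rx, hrx⟩ := hone (x • v)
    obtain ⟨ry, hry⟩ := hone (y • v)
    rw [mul_smul, mul_smul, ← hry, hlin, ← hrx, hlin, ← hry, smul_smul, smul_smul, mul_comm]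
  have hdeq : d = 2 ∧ (Nat.card (center E) = Q - 1 ∨ Q = 5) := by
    have hZle := Nat.le_of_dvd (by omega) hZdvd
    clear_value Q
    have hd2' : d = 2 := by
      by_contra hd3
      have h3 : Q ^ 3 ≤ Q ^ d := Nat.pow_le_pow_right (by omega) (by omega)
      rw [show Q ^ 3 = Q * Q * Q by ring] at h3
      rcases (show Q = 3 ∨ 4 ≤ Q by omega) with hQ4 | hQ4
      · rw [hQ4] at h3 hVcard hZle
        omega
      · have := Nat.mul_le_mul_right Q (Nat.mul_le_mul hQ4 hQ4)
        omega
    refine ⟨hd2', ?_⟩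
    rw [hd2', show Q ^ 2 = Q * Q by ring] at hVcard
    have hQ11 : Q ≤ 11 := by
      by_contra hlt
      have := Nat.mul_le_mul_right Q (show 12 ≤ Q by omega)
      omega
    have hZpos : 0 < Nat.card (center E) := Nat.card_pos
    rcases (show Q = 3 ∨ Q = 4 ∨ Q = 5 ∨ Q = 6 ∨ Q = 7 ∨ Q = 8 ∨ Q = 9 ∨ Q = 10 ∨ Q = 11 by omega) with
      e | e | e | e | e | e | e | e | e <;> rw [e] at hZdvd hVcard hZle ⊢ <;>
      (obtain ⟨o, ho⟩ := hZdvd; obtain ⟨ev, hev⟩ := hZeven
       have ho12 : o ≤ 10 := by nlinarith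
       interval_cases o <;> omega)
  obtain ⟨hd2', hcase⟩ := hdeq
  rcases hcase with hfull | h5
  · have hscal : ∀ r : R, r ≠ 0 → ∃ w ∈ center E, ∀ u : V, w • u = r • u := by
      intro r hr
      have hbij : Function.Bijective ι := hιinj.bijective_of_nat_card_le (by rw [hQu, hfull])
      obtain ⟨w, hw⟩ := hbij.2 (Units.mk0 r hr)
      exact ⟨w, w.2, fun u => by rw [hι, hw]; rfl⟩
    have hinv : ∀ w ∈ center E, σ w = w⁻¹ := by
      intro w hw
      have hσw : σ w ∈ center E := mem_center_iff.2 fun g => by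
        have h1 := congrArg σ (mem_center_iff.1 hw (σ g))
        rwa [map_mul, map_mul, hS.hσ2] at h1
      set p := w * σ w
      have hc : Commute w (σ w) := (mem_center_iff.1 hσw w)
      obtain ⟨m, hm⟩ := hZeven
      have hmodd : Odd m := Nat.not_even_iff_odd.1 fun ⟨j, hj⟩ => hZ4 ⟨j, by omega⟩
      have hwm : w ^ m = 1 ∨ w ^ m = z := hS.huniq _ (by
        rw [← pow_add, ← two_mul, ← hm]
        exact congrArg Subtype.val (pow_card_eq_one' (x := (⟨w, hw⟩ : center E))))
      have hp : p ^ m = 1 := by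
        rw [hc.mul_pow, ← map_pow]
        rcases hwm with e | e <;> rw [e]
        · rw [map_one, mul_one]
        · rw [hS.sigma_z, hS.hz2]
      rcases hS.hfix p (by rw [map_mul, hS.hσ2]; exact hc.eq.symm) with e | e
      · exact eq_inv_of_mul_eq_one_right e
      · exfalso
        rw [e] at hp
        obtain ⟨j, rfl⟩ := hmodd
        rw [pow_succ, pow_mul, pow_two, hS.hz2, one_pow, one_mul] at hp
        exact hS.hz1 hp
    exact h.false_of_full hS h2R hlin hd2' hscal hinv hk2 hkσ hik hwz
  · have h5R : (5 : R) = 0 := by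
      have := Nat.cast_card_eq_zero R
      rw [← Nat.card_eq_fintype_card, ← hQ, h5] at this
      exact_mod_cast this
    refine h.false_of_five hS h5R h2R hlin hd2' (fun r hr => ?_) hk2 hkσ hi2 hik hσi
    let u2 : Rˣ := Units.mk0 2 h2R
    have hu2 : orderOf u2 = 2 ^ (1 + 1) := orderOf_eq_prime_pow (p := 2) (n := 1)
      (fun e => by
        have e' : ((2 : R) ^ 2) = 1 := by simpa [u2] using congrArg Units.val e
        exact h2R (by linear_combination 4 * e' - 2 * h5R))
      (Units.ext (by simp [u2]; linear_combination 3 * h5R))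
    have htop : zpowers u2 = ⊤ := Subgroup.eq_top_of_card_eq _ (by rw [Nat.card_zpowers, hu2, hQu, h5]; rfl)
    have hmem : Units.mk0 r hr ∈ zpowers u2 := htop ▸ mem_top _
    rw [← SetLike.mem_coe, ← (isOfFinOrder_of_finite u2).powers_eq_zpowers] at hmem
    obtain ⟨n, hn⟩ := hmem
    exact ⟨n, (congrArg Units.val hn).symm.trans (by simp [u2])⟩

end CfsgLib.Perm.Nearfield
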