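import Cfsg.Agent.Lib.Perm.SharplyThree
import Cfsg.Agent.Lib.Perm.NearfieldInvolution
import Cfsg.Agent.Lib.Core.FPFComplement

/-!
In a sharply triply transitive group of even degree at least four the two-point stabiliser has a
subgroup of index two.
-/

set_option autoImplicit false
set_option linter.all false
set_option maxHeartbeats 1000000

namespace CfsgLib.Perm.SharplyThree

open MulAction

variable {G : Type*} [Group G] {α : Type*} [MulAction G α]

theorem exists_index_two_two_stab [Finite G] [Fintype α] (h3 : IsMultiplyPretransitive G α 3)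
    (hsharp : ∀ x : Fin 3 ↪ α, stabilizer G x = ⊥) (heven : Even (Fintype.card α))
    {a b c : α} (hab : a ≠ b) (hac : a ≠ c) (hbc : b ≠ c) {s : G}
    (hsa : s • a = b) (hsb : s • b = a) (hsc : s • c = c) :
    ∃ N : Subgroup ↥(stabilizer G a ⊓ stabilizer G b), N.index = 2 := by
  classical
  haveI := h3
  let _ := Fintype.ofFinite (SubMulAction.ofStabilizer G a)
  have hne : ∀ y : SubMulAction.ofStabilizer G a, (y : α) ≠ a := fun y => y.2
  have hcardX : Fintype.card α = Fintype.card (SubMulAction.ofStabilizer G a) + 1 := by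
    have e : (SubMulAction.ofStabilizer G a) ≃ {x : α // x ≠ a} :=
      ⟨fun y => ⟨y, hne y⟩, fun x => ⟨x.1, x.2⟩, fun y => rfl, fun x => rfl⟩
    rw [Fintype.card_congr e, Fintype.card_subtype_compl, Fintype.card_subtype_eq]
    have := Fintype.card_pos_iff.2 ⟨a⟩
    omega
  have hX2 : 2 ≤ Fintype.card (SubMulAction.ofStabilizer G a) :=
    Fintype.one_lt_card_iff.2 ⟨⟨b, hab.symm⟩, ⟨c, hac.symm⟩, fun e => hbc (congrArg Subtype.val e)⟩
  have h2X : IsMultiplyPretransitive (stabilizer G a) (SubMulAction.ofStabilizer G a) 2 := by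
    rw [is_two_pretransitive_iff]
    intro x y x' y' hxy hxy'
    obtain ⟨g, ga, gx, gy⟩ := exists_triple h3 (hne x).symm (hne y).symm (fun e => hxy (Subtype.ext e))
      (hne x').symm (hne y').symm (fun e => hxy' (Subtype.ext e))
    exact ⟨⟨g, ga⟩, Subtype.ext gx, Subtype.ext gy⟩
  obtain ⟨p, j, K, hp, hj, hcard, hKn, hKc, hKexp, hKcard, -, hKtr, hKst, -⟩ :=
    CfsgLib.Perm.SharplyTwo.exists_kernel h2X hX2 (fun n u v huv hu hv => by
      apply Subtype.ext
      exact eq_one_of_fix hsharp (hne u).symm (hne v).symm (fun e => huv (Subtype.ext e)) n.2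
        (congrArg Subtype.val hu) (congrArg Subtype.val hv))
  have hp2 : p ≠ 2 := by
    rintro rfl
    rw [hcardX, hcard, Nat.even_add_one, Nat.even_pow] at heven
    exact heven ⟨even_two, by omega⟩
  let _ : CommGroup K := { mul_comm := hKc.is_comm.comm }
  -- regularity of the kernel
  let pt : K → α := fun k => ((k : stabilizer G a) : G) • b
  have hpt : ∀ k, pt k ≠ a := fun k e => hab.symm
    (MulAction.injective _ (e.trans (k : stabilizer G a).2.symm))
  have hptinj : ∀ k l, pt k = pt l → k = l := by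
    intro k l e
    have h : l⁻¹ * k ∈ stabilizer K (⟨b, hab.symm⟩ : SubMulAction.ofStabilizer G a) :=
      Subtype.ext (show (((l⁻¹ * k : K) : stabilizer G a) : G) • b = b by
        simp only [Subgroup.coe_mul, Subgroup.coe_inv, mul_smul]
        exact inv_smul_eq_iff.2 e)
    rw [hKst, Subgroup.mem_bot, inv_mul_eq_one] at h
    exact h.symm
  have hptsurj : ∀ x, x ≠ a → ∃ k, pt k = x := by
    intro x hx
    obtain ⟨k, hk⟩ := hKtr.exists_smul_eq (⟨b, hab.symm⟩ : SubMulAction.ofStabilizer G a) ⟨x, hx⟩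
    exact ⟨k, congrArg Subtype.val hk⟩
  let H := stabilizer G a ⊓ stabilizer G b
  let cj : H → (K →* K) := fun h =>
    { toFun := fun k => ⟨⟨(h : G), h.2.1⟩ * (k : stabilizer G a) * ⟨(h : G), h.2.1⟩⁻¹,
        hKn.conj_mem _ k.2 _⟩
      map_one' := by ext; simp
      map_mul' := fun k l => by ext; simp }
  have hcjpt : ∀ (h : H) k, pt (cj h k) = (h : G) • pt k := by
    intro h k
    show ((h : G) * ((k : stabilizer G a) : G) * (h : G)⁻¹) • b = (h : G) • ((k : stabilizer G a) : G) • b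
    rw [mul_smul, mul_smul, inv_smul_eq_iff.2 h.2.2.symm]
  letI : DistribMulAction H (Additive K) :=
    { smul := fun h k => Additive.ofMul (cj h k.toMul)
      one_smul := fun k => congrArg Additive.ofMul (hptinj _ _ (by rw [hcjpt]; exact one_smul G _))
      mul_smul := fun g h k => congrArg Additive.ofMul (hptinj _ _ (by
        show pt (cj (g * h) k.toMul) = pt (cj g (cj h k.toMul))
        rw [hcjpt, hcjpt, hcjpt, Subgroup.coe_mul, mul_smul]))
      smul_zero := fun h => congrArg Additive.ofMul (map_one (cj h))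
      smul_add := fun h k l => congrArg Additive.ofMul (map_mul (cj h) k.toMul l.toMul) }
  -- points
  let ev : Additive K → α := fun u => pt u.toMul
  have hevinj : Function.Injective ev := fun u w e => congrArg Additive.ofMul (hptinj _ _ e)
  have hev0 : ev 0 = b := one_smul G b
  have heva : ∀ u, ev u ≠ a := fun u => hpt _
  have hevs : ∀ x, x ≠ a → ∃ u, ev u = x := fun x hx => (hptsurj x hx).elim fun k hk => ⟨Additive.ofMul k, hk⟩
  have hevh : ∀ (h : H) u, ev (h • u) = (h : G) • ev u := fun h u => hcjpt h u.toMul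
  let τ : Additive K → G := fun u => ((u.toMul : stabilizer G a) : G)
  have hτ : ∀ u w, τ u • ev w = ev (u + w) := fun u w => (mul_smul _ _ b).symm
  have hτa : ∀ u, τ u • a = a := fun u => (u.toMul : stabilizer G a).2
  obtain ⟨v, hv⟩ := hevs c hac.symm
  have hv0 : v ≠ 0 := fun e => hbc (by rw [← hv, e, hev0])
  have hexp : ∀ u : Additive K, p • u = 0 := fun u =>
    congrArg Additive.ofMul (Subtype.ext (hKexp _ u.toMul.2))
  have htwo : ∀ u : Additive K, u + u = 0 → u = 0 := fun u hu => by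
    obtain ⟨t, ht⟩ := hp.odd_of_ne_two hp2
    have := hexp u
    rwa [ht, add_nsmul, mul_nsmul, two_nsmul, one_nsmul, hu, nsmul_zero, zero_add] at this
  have hfree : ∀ (h : H) (u : Additive K), u ≠ 0 → h • u = u → h = 1 := fun h u hu he =>
    Subtype.ext (eq_one_of_fix hsharp hab (heva u).symm
      (fun e => hu (hevinj (e.symm.trans hev0.symm))) h.2.1 h.2.2 (by rw [← hevh, he]))
  have htr : ∀ u : Additive K, u ≠ 0 → ∃ h : H, h • v = u := by
    intro u hu
    obtain ⟨g, ga, gb, gc⟩ := exists_triple h3 hab hac hbc hab (heva u).symm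
      (fun e => hu (hevinj (e.symm.trans hev0.symm)))
    exact ⟨⟨g, ga, gb⟩, hevinj (by rw [hevh, hv]; exact gc)⟩
  -- the central involution
  obtain ⟨z, hzv⟩ := htr (-v) (neg_ne_zero.2 hv0)
  have hz2 : z * z = 1 := hfree _ v hv0 (by rw [mul_smul, hzv, smul_neg, hzv, neg_neg])
  have hz1 : z ≠ 1 := fun e => hv0 (htwo v (by
    rw [e, one_smul] at hzv; exact add_eq_zero_iff_eq_neg.2 hzv))
  have hzneg : ∀ u : Additive K, z • u = -u := fun u => by
    by_contra hu
    exact hz1 (hfree z (z • u + u) (fun e => hu (eq_neg_of_add_eq_zero_left e))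
      (by rw [smul_add, ← mul_smul, hz2, one_smul, add_comm]))
  have huniq : ∀ x : H, x * x = 1 → x = 1 ∨ x = z := fun x hx => by
    by_cases h1 : x • v + v = 0
    · refine Or.inr ?_
      have h2 : (z⁻¹ * x) • v = v := by
        rw [mul_smul, inv_smul_eq_iff, hzneg]
        exact eq_neg_of_add_eq_zero_left h1
      exact (inv_mul_eq_one.1 (hfree _ v hv0 h2)).symm
    · exact Or.inl (hfree x _ h1 (by rw [smul_add, ← mul_smul, hx, one_smul, add_comm]))
  -- the twist
  have hs2 : s * s = 1 := eq_one_of_fix hsharp hab hac hbc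
    (by rw [mul_smul, hsa, hsb]) (by rw [mul_smul, hsb, hsa]) (by rw [mul_smul, hsc, hsc])
  have hsinv : s⁻¹ = s := inv_eq_of_mul_eq_one_right hs2
  have hsH : ∀ h : H, s * (h : G) * s ∈ H := fun h =>
    ⟨by show (s * (h : G) * s) • a = a; rw [mul_smul, mul_smul, hsa, h.2.2, hsb],
      by show (s * (h : G) * s) • b = b; rw [mul_smul, mul_smul, hsb, h.2.1, hsa]⟩
  let σ₀ : H →* H :=
    { toFun := fun h => ⟨s * (h : G) * s, hsH h⟩
      map_one' := Subtype.ext (show s * (1 : G) * s = 1 by rw [mul_one, hs2])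
      map_mul' := fun g h => Subtype.ext (show s * ((g : G) * h) * s = s * g * s * (s * h * s) by
        calc s * ((g : G) * h) * s = s * g * 1 * h * s := by group
          _ = s * g * s * (s * h * s) := by rw [← hs2]; group) }
  have hσσ : ∀ h, σ₀ (σ₀ h) = h := fun h => Subtype.ext (show s * (s * (h : G) * s) * s = h by
    calc s * (s * (h : G) * s) * s = (s * s) * h * (s * s) := by group
      _ = h := by rw [hs2, one_mul, mul_one])
  let σ : MulAut H := MonoidHom.toMulEquiv σ₀ σ₀ (MonoidHom.ext hσσ) (MonoidHom.ext hσσ)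
  have hσapp : ∀ h : H, ((σ h : H) : G) = s * h * s := fun h => rfl
  have hsv : s • ev v = ev v := by rw [hv, hsc]
  have hσz : σ z = z := by
    rcases huniq (σ z) (by rw [← map_mul, hz2, map_one]) with e | e
    exacts [absurd (σ.map_eq_one_iff.1 e) hz1, e]
  have hsh : ∀ h : H, s • ev (h • v) = ev (σ h • v) := fun h => by
    rw [hevh, hevh, hσapp, mul_smul, mul_smul, hsv]
  have hsnv : s • ev (-v) = ev (-v) := by rw [← hzv, hsh, hσz]
  have : Nonempty (Additive K) := ⟨0⟩
  let f : Additive K → Additive K := fun u => Function.invFun ev (s • ev u)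
  have hevf : ∀ u, u ≠ 0 → ev (f u) = s • ev u := fun u hu => by
    obtain ⟨h, rfl⟩ := htr u hu
    exact Function.invFun_eq ⟨_, (hsh h).symm⟩
  have hf : ∀ h : H, f (h • v) = σ h • v := fun h => hevinj (by
    rw [hevf _ ((smul_ne_zero_iff_ne h).2 hv0), hsh])
  have hfne : ∀ u, u ≠ 0 → f u ≠ 0 := fun u hu => by
    obtain ⟨h, rfl⟩ := htr u hu
    rw [hf]; exact (smul_ne_zero_iff_ne _).2 hv0
  have hfix : ∀ h, σ h = h → h = 1 ∨ h = z := fun h he => by
    by_contra hcon
    push Not at hcon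
    have h1 : s • ev (h • v) = ev (h • v) := by rw [hsh, he]
    have d1 : ev v ≠ ev (-v) := fun e => hv0 (htwo v (add_eq_zero_iff_eq_neg.2 (hevinj e)))
    have d2 : ev v ≠ ev (h • v) := fun e => hcon.1 (hfree h v hv0 (hevinj e).symm)
    have d3 : ev (-v) ≠ ev (h • v) := fun e => hcon.2 (inv_mul_eq_one.1 (hfree (z⁻¹ * h) v hv0 (by
      rw [mul_smul, inv_smul_eq_iff, hzv]; exact (hevinj e).symm))).symm
    have hs1 := eq_one_of_fix hsharp d1 d2 d3 hsv hsnv h1
    exact hab (by rw [← hsa, hs1, one_smul])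
  -- the functional equation
  have hid : s * τ v * s = τ v * (z : G) * s * τ v := by
    have hz' : ∀ u, (z : G) • ev u = ev (-u) := fun u => by rw [← hevh, hzneg]
    have e1 : (s * τ v * s) • a = (τ v * (z : G) * s * τ v) • a := by
      simp only [mul_smul]
      rw [hτa, hsa, ← hev0, hτ, hz', hτ, add_zero, neg_zero, add_zero, hsv]
    have e2 : (s * τ v * s) • b = (τ v * (z : G) * s * τ v) • b := by
      simp only [mul_smul]
      rw [hsb, hτa, hsa, ← hev0, hτ, add_zero, hsv, hz', hτ, add_neg_cancel]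
    have e3 : (s * τ v * s) • ev (-v) = (τ v * (z : G) * s * τ v) • ev (-v) := by
      simp only [mul_smul]
      rw [hsnv, hτ, add_neg_cancel, hev0, hsb, show (z : G) • a = a from z.2.1, hτa]
    exact inv_mul_eq_one.1 (eq_one_of_fix hsharp hab (heva (-v)).symm
      (fun e => hv0 (neg_eq_zero.1 (hevinj (e.symm.trans hev0.symm))))
      (by rw [mul_smul, ← e1, inv_smul_smul]) (by rw [mul_smul, ← e2, inv_smul_smul])
      (by rw [mul_smul, ← e3, inv_smul_smul]))
  refine CfsgLib.Perm.Nearfield.Twist.exists_index_two (z := z) (σ := σ) (f := f) (v := v)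
    { hv := hv0
      hv2 := fun e => hv0 (htwo v e)
      hz := hzneg
      htr := htr
      hfree := hfree
      hf := hf
      hσ2 := hσσ
      hfix := hfix
      hodd := ?_
      hid := ?_ }
  · intro S hS
    let ι : H →* stabilizer G a := Subgroup.inclusion inf_le_left
    have hι : Function.Injective ι := Subgroup.inclusion_injective _
    have hA : S.map ι ≤ Subgroup.normalizer (K : Set (stabilizer G a)) := by
      rw [Subgroup.normalizer_eq_top_iff.2 hKn]; exact le_top
    have hfpf : ∀ x ∈ S.map ι, x ≠ 1 → K ⊓ Subgroup.centralizer {x} = ⊥ := by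
      rintro _ ⟨h, -, rfl⟩ hne1
      rw [Subgroup.eq_bot_iff_forall]
      rintro k ⟨hk, hc⟩
      have hc' : k * ι h = ι h * k := Subgroup.mem_centralizer_singleton_iff.1 hc
      by_contra hk1
      have hu : Additive.ofMul (⟨k, hk⟩ : K) ≠ 0 := fun e => hk1 (congrArg Subtype.val (congrArg Additive.toMul e))
      have h1 : ι h * k * (ι h)⁻¹ = k := by rw [← hc', mul_inv_cancel_right]
      exact hne1 (by rw [hfree h _ hu (congrArg Additive.ofMul (Subtype.ext h1)), map_one])
    have hKne : K ≠ ⊥ := by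
      rintro rfl
      rw [Subgroup.card_bot] at hKcard
      omega
    have hodd' : ¬ 2 ∣ Nat.card ↥(S.map ι) := by rwa [Subgroup.card_map_of_injective hι]
    have := CfsgLib.Core.FPF.isZGroup_of_odd hA hfpf hKne hodd'
    exact IsZGroup.of_injective (f := (S.equivMapOfInjective ι hι).toMonoidHom)
      (S.equivMapOfInjective ι hι).injective
  · intro u hu hu'
    have hvu : v + u ≠ 0 := fun e => hu' (eq_neg_of_add_eq_zero_right e)
    have hfu : v + f u ≠ 0 := fun e => hu' (hevinj (MulAction.injective s (by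
      show s • ev u = s • ev (-v)
      rw [← hevf u hu, eq_neg_of_add_eq_zero_right e, hsnv])))
    refine hevinj ?_
    have h1 := congrArg (fun g : G => g • ev u) hid
    simp only [mul_smul] at h1
    rw [hτ v u, ← hevf _ hvu, ← hevf u hu, hτ, ← hevf _ hfu, ← hevh, hzneg, hτ] at h1
    rw [h1, sub_eq_add_neg]

end CfsgLib.Perm.SharplyThree

namespace CfsgLib.Perm.SharplyThree

open MulAction

variable {G : Type*} [Group G] {α : Type*} [MulAction G α]

/-- The character can be chosen invariant under the swap. -/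
theorem exists_invariant_char [Finite G] [Fintype α] (h3 : IsMultiplyPretransitive G α 3)
    (hsharp : ∀ x : Fin 3 ↪ α, stabilizer G x = ⊥) (heven : Even (Fintype.card α))
    {a b c : α} (hab : a ≠ b) (hac : a ≠ c) (hbc : b ≠ c) {s : G}
    (hsa : s • a = b) (hsb : s • b = a) (hsc : s • c = c) :
    ∃ χ : ↥(stabilizer G a ⊓ stabilizer G b) →* ℤˣ, (∃ x, χ x = -1) ∧
      ∀ x y : ↥(stabilizer G a ⊓ stabilizer G b), (y : G) = s * (x : G) * s⁻¹ → χ y = χ x := by
  classical
  have hex := exists_index_two_two_stab h3 hsharp heven hab hac hbc hsa hsb hsc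
  set H := stabilizer G a ⊓ stabilizer G b with hH
  obtain ⟨N, hN⟩ := hex
  have hs2 : s * s = 1 := eq_one_of_fix hsharp hab hac hbc
    (by rw [mul_smul, hsa, hsb]) (by rw [mul_smul, hsb, hsa]) (by rw [mul_smul, hsc, hsc])
  have hsinv : s⁻¹ = s := inv_eq_of_mul_eq_one_right hs2
  have hsH : ∀ h : H, s * (h : G) * s⁻¹ ∈ H := fun h => by
    rw [hsinv]
    exact ⟨by show (s * (h : G) * s) • a = a; rw [mul_smul, mul_smul, hsa, h.2.2, hsb],
      by show (s * (h : G) * s) • b = b; rw [mul_smul, mul_smul, hsb, h.2.1, hsa]⟩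
  let χ₀ : H →* ℤˣ :=
    { toFun := fun x => if x ∈ N then 1 else -1
      map_one' := if_pos N.one_mem
      map_mul' := fun x y => by
        have h := Subgroup.mul_mem_iff_of_index_two hN (a := x) (b := y)
        by_cases hx : x ∈ N <;> by_cases hy : y ∈ N <;> simp_all }
  let σ : H →* H :=
    { toFun := fun h => ⟨_, hsH h⟩
      map_one' := Subtype.ext (show s * (1 : G) * s⁻¹ = 1 by group)
      map_mul' := fun g h => Subtype.ext (show s * ((g : G) * h) * s⁻¹ = s * g * s⁻¹ * (s * h * s⁻¹) by group) }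
  have hσσ : ∀ h, σ (σ h) = h := fun h => Subtype.ext (show s * (s * (h : G) * s⁻¹) * s⁻¹ = h by
    calc s * (s * (h : G) * s⁻¹) * s⁻¹ = (s * s) * h * (s * s)⁻¹ := by group
      _ = h := by rw [hs2, one_mul, inv_one, mul_one])
  obtain ⟨g, hg⟩ : ∃ g, χ₀ g = -1 := by
    by_contra hcon
    push Not at hcon
    have : N = ⊤ := by
      rw [eq_top_iff]
      intro g _
      by_contra hg
      exact hcon g (if_neg hg)
    rw [this, Subgroup.index_top] at hN
    exact absurd hN (by norm_num)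
  by_cases hinv : ∀ x, χ₀ (σ x) = χ₀ x
  · refine ⟨χ₀, ⟨g, hg⟩, fun x y hy => ?_⟩
    rw [show y = σ x from Subtype.ext hy, hinv]
  · push Not at hinv
    obtain ⟨x, hx⟩ := hinv
    refine ⟨χ₀ * χ₀.comp σ, ⟨x, ?_⟩, fun x y hy => ?_⟩
    · rcases Int.units_eq_one_or (χ₀ x * χ₀ (σ x)) with h | h
      · exact absurd (by rw [mul_eq_one_iff_eq_inv.1 h, Int.units_inv_eq_self]) hx
      · exact h
    · rw [show y = σ x from Subtype.ext hy]
      show χ₀ (σ x) * χ₀ (σ (σ x)) = χ₀ x * χ₀ (σ x)
      rw [hσσ, mul_comm]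

/-- A sharply triply transitive group of even degree has a subgroup of index two. -/
theorem exists_hom_of_even [Finite G] [Fintype α] (h3 : IsMultiplyPretransitive G α 3)
    (hsharp : ∀ x : Fin 3 ↪ α, stabilizer G x = ⊥) (heven : Even (Fintype.card α))
    {a b c : α} (hab : a ≠ b) (hac : a ≠ c) (hbc : b ≠ c) {s : G}
    (hsa : s • a = b) (hsb : s • b = a) (hsc : s • c = c) :
    ∃ φ : G →* ℤˣ, ∃ x, φ x = -1 := by
  classical
  have hex := exists_invariant_char h3 hsharp heven hab hac hbc hsa hsb hsc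
  set H := stabilizer G a ⊓ stabilizer G b with hH
  obtain ⟨χ, ⟨x, hx⟩, hχ⟩ := hex
  have hs2 : s * s = 1 := eq_one_of_fix hsharp hab hac hbc
    (by rw [mul_smul, hsa, hsb]) (by rw [mul_smul, hsb, hsa]) (by rw [mul_smul, hsc, hsc])
  have hsinv : s⁻¹ = s := inv_eq_of_mul_eq_one_right hs2
  let C : Subgroup G :=
    { carrier := {g | (g • a = a ∧ g • b = b) ∨ (g • a = b ∧ g • b = a)}
      one_mem' := Or.inl ⟨one_smul _ _, one_smul _ _⟩
      mul_mem' := by
        rintro g h (⟨g1, g2⟩ | ⟨g1, g2⟩) (⟨h1, h2⟩ | ⟨h1, h2⟩)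
        · exact Or.inl ⟨by rw [mul_smul, h1, g1], by rw [mul_smul, h2, g2]⟩
        · exact Or.inr ⟨by rw [mul_smul, h1, g2], by rw [mul_smul, h2, g1]⟩
        · exact Or.inr ⟨by rw [mul_smul, h1, g1], by rw [mul_smul, h2, g2]⟩
        · exact Or.inl ⟨by rw [mul_smul, h1, g2], by rw [mul_smul, h2, g1]⟩
      inv_mem' := by
        rintro g (⟨g1, g2⟩ | ⟨g1, g2⟩)
        · exact Or.inl ⟨inv_smul_eq_iff.2 g1.symm, inv_smul_eq_iff.2 g2.symm⟩
        · exact Or.inr ⟨inv_smul_eq_iff.2 g2.symm, inv_smul_eq_iff.2 g1.symm⟩ }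
  have hout : ∀ {g : G}, g ∈ C → g • a ≠ a → g * s ∈ H := fun {g} hg ha => by
    rcases hg with ⟨g1, -⟩ | ⟨g1, g2⟩
    · exact absurd g1 ha
    · exact ⟨show (g * s) • a = a by rw [mul_smul, hsa, g2], show (g * s) • b = b by rw [mul_smul, hsb, g1]⟩
  have hin : ∀ {g : G}, g ∈ C → g • a = a → g ∈ H := fun {g} hg ha => by
    rcases hg with ⟨g1, g2⟩ | ⟨g1, -⟩
    · exact ⟨g1, g2⟩
    · exact absurd (ha.symm.trans g1) hab
  let f : C → ℤˣ := fun g =>
    if ha : (g : G) • a = a then χ ⟨g, hin g.2 ha⟩ else χ ⟨g * s, hout g.2 ha⟩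
  have hfH : ∀ (g : C) (e : H), (g : G) = e → f g = χ e := fun g e he => by
    have ha : (g : G) • a = a := by rw [he]; exact e.2.1
    simp only [f, dif_pos ha]
    exact congrArg χ (Subtype.ext he)
  have hfS : ∀ (g : C) (e : H), (g : G) = e * s → f g = χ e := fun g e he => by
    have ha : ¬ (g : G) • a = a := by
      rw [he, mul_smul, hsa, show (e : G) • b = b from e.2.2]; exact hab.symm
    simp only [f, dif_neg ha]
    exact congrArg χ (Subtype.ext (show (g : G) * s = e by rw [he, mul_assoc, hs2, mul_one]))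
  have hdec : ∀ g : C, ∃ e : H, (g : G) = e ∨ (g : G) = e * s := fun g => by
    by_cases ha : (g : G) • a = a
    · exact ⟨⟨g, hin g.2 ha⟩, Or.inl rfl⟩
    · exact ⟨⟨g * s, hout g.2 ha⟩, Or.inr (by simp [mul_assoc, hs2])⟩
  have hsH : ∀ h : H, s * (h : G) * s⁻¹ ∈ H := fun h => by
    rw [hsinv]
    exact ⟨by show (s * (h : G) * s) • a = a; rw [mul_smul, mul_smul, hsa, h.2.2, hsb],
      by show (s * (h : G) * s) • b = b; rw [mul_smul, mul_smul, hsb, h.2.1, hsa]⟩
  let fh : C →* ℤˣ :=
    { toFun := f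
      map_one' := (hfH 1 1 rfl).trans χ.map_one
      map_mul' := fun g g' => by
        obtain ⟨e, he⟩ := hdec g
        obtain ⟨e', he'⟩ := hdec g'
        rcases he with he | he <;> rcases he' with he' | he'
        · rw [hfH g e he, hfH g' e' he', hfH (g * g') (e * e') (by simp [he, he']), map_mul]
        · rw [hfH g e he, hfS g' e' he', hfS (g * g') (e * e') (by simp [he, he', mul_assoc]), map_mul]
        · rw [hfS g e he, hfH g' e' he', hfS (g * g') (e * ⟨_, hsH e'⟩) (by simp [he, he', mul_assoc]),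
            map_mul, hχ e' ⟨_, hsH e'⟩ rfl]
        · rw [hfS g e he, hfS g' e' he', hfH (g * g') (e * ⟨_, hsH e'⟩) (by
            simp [he, he', hsinv, mul_assoc]), map_mul, hχ e' ⟨_, hsH e'⟩ rfl] }
  refine ⟨MonoidHom.transfer fh, x, ?_⟩
  haveI : Fintype (Quotient (orbitRel (Subgroup.zpowers (x : G)) (G ⧸ C))) := Fintype.ofFinite _
  rw [MonoidHom.transfer_eq_prod_quotient_orbitRel_zpowers_quot (ϕ := fh) (x : G)]
  let q1 : G ⧸ C := ((1 : G) : G ⧸ C)
  have hfix1 : (x : G) • q1 = q1 := QuotientGroup.eq.2 (show ((x : G) * 1)⁻¹ * 1 ∈ C by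
    rw [mul_one, mul_one]; exact inv_mem (show (x : G) ∈ C from Or.inl ⟨x.2.1, x.2.2⟩))
  have hout1 : (Quotient.mk'' q1 : Quotient (orbitRel (Subgroup.zpowers (x : G)) (G ⧸ C))).out = q1 := by
    obtain ⟨⟨y, hy⟩, hy'⟩ := Quotient.exact' (Quotient.out_eq' (Quotient.mk'' q1 :
      Quotient (orbitRel (Subgroup.zpowers (x : G)) (G ⧸ C))))
    obtain ⟨i, rfl⟩ := Subgroup.mem_zpowers_iff.1 hy
    rw [← hy']
    show (x : G) ^ i • q1 = q1
    exact mem_stabilizer_iff.1 (zpow_mem (show (x : G) ∈ stabilizer G q1 from hfix1) i)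
  rw [Fintype.prod_eq_single (Quotient.mk'' q1)]
  · have hd : q1.out ∈ C := by simpa using (QuotientGroup.eq.1 (q1.out_eq'.symm : q1 = _))
    have hxC : (x : G) ∈ C := Or.inl ⟨x.2.1, x.2.2⟩
    refine ((congrArg fh (Subtype.ext ?_)).trans (?_ : fh ((⟨_, hd⟩ : C)⁻¹ * ⟨_, hxC⟩ * ⟨_, hd⟩) = -1))
    · simp only [Subgroup.coe_mul, Subgroup.coe_inv, hout1]
      rw [Function.minimalPeriod_eq_one_iff_isFixedPt.2 hfix1, pow_one]
    · rw [map_mul, map_mul, map_inv, mul_comm, ← mul_assoc, mul_inv_cancel, one_mul]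
      exact (hfH _ x rfl).trans hx
  · intro q hq
    set k := Function.minimalPeriod ((x : G) • ·) q.out
    set d := q.out.out
    have hmem := QuotientGroup.out_conj_pow_minimalPeriod_mem C (x : G) q.out
    show fh ⟨d⁻¹ * (x : G) ^ k * d, hmem⟩ = 1
    by_cases hk : (x : G) ^ k = 1
    · exact (congrArg fh (Subtype.ext (show d⁻¹ * (x : G) ^ k * d = 1 by rw [hk]; group))).trans fh.map_one
    have hka : (x : G) ^ k • a = a := pow_mem (show (x : G) ∈ stabilizer G a from x.2.1) k
    have hkb : (x : G) ^ k • b = b := pow_mem (show (x : G) ∈ stabilizer G b from x.2.2) k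
    have hthree : ∀ u : α, (x : G) ^ k • u = u → u = a ∨ u = b := fun u hu => by
      by_contra hcon
      push Not at hcon
      exact hk (eq_one_of_fix hsharp hab hcon.1.symm hcon.2.symm hka hkb hu)
    rcases hmem with ⟨m1, m2⟩ | ⟨m1, m2⟩
    · exfalso
      rw [mul_smul, mul_smul, inv_smul_eq_iff] at m1 m2
      refine hq ?_
      have hdC : d ∈ C := by
        rcases hthree _ m1 with e | e <;> rcases hthree _ m2 with e' | e'
        · exact absurd (MulAction.injective d (e.trans e'.symm)) hab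
        · exact Or.inl ⟨e, e'⟩
        · exact Or.inr ⟨e, e'⟩
        · exact absurd (MulAction.injective d (e.trans e'.symm)) hab
      exact (Quotient.out_eq' q).symm.trans (congrArg Quotient.mk''
        ((QuotientGroup.out_eq' q.out).symm.trans (QuotientGroup.eq.2 (by simpa using inv_mem hdC))))
    · set y : G := d⁻¹ * (x : G) ^ k * d with hy
      have hua : y • d⁻¹ • a = d⁻¹ • a := by rw [hy, mul_smul, mul_smul, smul_inv_smul, hka]
      have hu1 : d⁻¹ • a ≠ a := fun e => by rw [e, m1] at hua; exact hab hua.symm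
      have hu2 : d⁻¹ • a ≠ b := fun e => by rw [e, m2] at hua; exact hab hua
      obtain ⟨h, ha', hb', hc'⟩ := exists_triple h3 hab hac hbc hab hu1.symm hu2.symm
      have hh : y = h * s * h⁻¹ := (inv_mul_eq_one.1 (eq_one_of_fix hsharp hab hu1.symm hu2.symm
        (g := (h * s * h⁻¹)⁻¹ * y)
        (by rw [mul_smul, m1, inv_smul_eq_iff, mul_smul, mul_smul, inv_smul_eq_iff.2 ha'.symm, hsa, hb'])
        (by rw [mul_smul, m2, inv_smul_eq_iff, mul_smul, mul_smul, inv_smul_eq_iff.2 hb'.symm, hsb, ha'])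
        (by rw [mul_smul, hua, inv_smul_eq_iff, mul_smul, mul_smul, inv_smul_eq_iff.2 hc'.symm, hsc, hc']))).symm
      let e : H := ⟨h, ha', hb'⟩
      refine (hfS ⟨y, Or.inr ⟨m1, m2⟩⟩ (e * (⟨_, hsH e⟩ : H)⁻¹) ?_).trans ?_
      · show y = h * (s * h * s⁻¹)⁻¹ * s
        rw [hh, hsinv]
        calc h * s * h⁻¹ = h * s⁻¹ * h⁻¹ := by rw [hsinv]
          _ = h * (s⁻¹ * h⁻¹ * s⁻¹) * s := by group
          _ = h * (s * h * s)⁻¹ * s := by group
      · rw [map_mul, map_inv, hχ e ⟨_, hsH e⟩ rfl, mul_inv_cancel]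

end CfsgLib.Perm.SharplyThree
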