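import Mathlib.GroupTheory.GroupAction.MultiplePrimitivity
import Mathlib.GroupTheory.Sylow

/-!
Regular normal subgroups of multiply primitive groups.
-/

namespace CfsgLib.Perm

open MulAction
open scoped Pointwise

variable {G X : Type*} [Group G] [MulAction G X]

/-- A pair of points which is a block for a primitive pointwise stabiliser is trivial. -/
theorem pair_block_trivial (s : Set X)
    [IsPreprimitive (fixingSubgroup G s) (SubMulAction.ofFixingSubgroup G s)] {u v : X}
    (hu : u ∉ s) (hv : v ∉ s)
    (h : ∀ g ∈ fixingSubgroup G s, ∀ w ∈ ({u, v} : Set X), g • w ∈ ({u, v} : Set X) →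
      g • u ∈ ({u, v} : Set X) ∧ g • v ∈ ({u, v} : Set X)) :
    u = v ∨ ∀ z, z ∉ s → z = u ∨ z = v := by
  let B : Set (SubMulAction.ofFixingSubgroup G s) := {z | (z : X) ∈ ({u, v} : Set X)}
  have hB : IsBlock (fixingSubgroup G s) B := by
    rw [isBlock_iff_smul_eq_of_mem]
    intro g w hw hgw
    ext z
    rw [Set.mem_smul_set_iff_inv_smul_mem]
    obtain ⟨hgu, hgv⟩ := h g g.2 w hw hgw
    constructor
    · intro hz
      have hz' : (g : G)⁻¹ • (z : X) ∈ ({u, v} : Set X) := hz
      rcases hz' with hz' | hz'
      · rw [inv_smul_eq_iff] at hz'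
        show (z : X) ∈ ({u, v} : Set X)
        rw [hz']; exact hgu
      · rw [Set.mem_singleton_iff, inv_smul_eq_iff] at hz'
        show (z : X) ∈ ({u, v} : Set X)
        rw [hz']; exact hgv
    · intro hz
      show (g : G)⁻¹ • (z : X) ∈ ({u, v} : Set X)
      by_cases huv : u = v
      · subst huv
        simp only [Set.mem_insert_iff, Set.mem_singleton_iff, or_self] at hgu hz ⊢
        change (z : X) ∈ ({u, u} : Set X) at hz
        simp only [Set.mem_insert_iff, Set.mem_singleton_iff, or_self] at hz
        rw [inv_smul_eq_iff, hgu, hz]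
      · have hne : (g : G) • u ≠ (g : G) • v := fun he => huv (MulAction.injective (g : G) he)
        simp only [Set.mem_insert_iff, Set.mem_singleton_iff] at hgu hgv
        change (z : X) ∈ ({u, v} : Set X) at hz
        simp only [Set.mem_insert_iff, Set.mem_singleton_iff] at hz ⊢
        rw [inv_smul_eq_iff, inv_smul_eq_iff]
        grind
  rcases IsPreprimitive.isTrivialBlock_of_isBlock hB with hs | hu'
  · left
    exact congrArg Subtype.val (hs (show (⟨u, hu⟩ : SubMulAction.ofFixingSubgroup G s) ∈ B from Or.inl rfl)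
      (show (⟨v, hv⟩ : SubMulAction.ofFixingSubgroup G s) ∈ B from Or.inr rfl))
  · right
    intro z hz
    have : (⟨z, hz⟩ : SubMulAction.ofFixingSubgroup G s) ∈ B := hu' ▸ Set.mem_univ _
    exact this

variable [Fintype X] (N : Subgroup G) [N.Normal]

/-- In a 2-primitive group a regular normal subgroup has exponent two unless the degree is three. -/
theorem regular_normal_two_primitive (h2 : IsMultiplyPreprimitive G X 2)
    (hX : 2 ≤ Fintype.card X) (htrans : IsPretransitive N X)
    (hreg : ∀ x : X, stabilizer N x = ⊥) :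
    Fintype.card X = 3 ∨ ((∀ n ∈ N, n ^ 2 = 1) ∧ ∃ m : ℕ, Fintype.card X = 2 ^ m) := by
  classical
  obtain ⟨x⟩ : Nonempty X := Fintype.card_pos_iff.1 (by omega)
  by_cases h3 : Fintype.card X = 3
  · exact Or.inl h3
  refine Or.inr ?_
  have hfree : ∀ n : N, n • x = x → n = 1 := by
    intro n hn
    have : n ∈ stabilizer N x := hn
    rwa [hreg x, Subgroup.mem_bot] at this
  have hsq : ∀ n : N, n ^ 2 = 1 := by
    intro n
    by_contra hn
    have hne : n ≠ 1 := fun h => hn (by rw [h, one_pow])
    have hu : n • x ≠ x := fun h => hne (hfree n h)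
    have hv : n⁻¹ • x ≠ x := fun h => hne (by rw [← inv_inv n, hfree _ h, inv_one])
    have : IsPreprimitive (fixingSubgroup G ({x} : Set X)) (SubMulAction.ofFixingSubgroup G ({x} : Set X)) :=
      IsMultiplyPreprimitive.isPreprimitive_ofFixingSubgroup G 2 (by rw [Set.encard_singleton]; rfl)
    have hconj : ∀ g ∈ fixingSubgroup G ({x} : Set X), ∀ k : N,
        g • (k • x) = (⟨g * k * g⁻¹, (inferInstance : N.Normal).conj_mem _ k.2 g⟩ : N) • x := by
      intro g hg k
      rw [mem_fixingSubgroup_iff] at hg
      show g • (k : G) • x = (g * k * g⁻¹) • x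
      rw [mul_smul, mul_smul, inv_smul_eq_iff.2 (hg x rfl).symm]
    have hinj : ∀ k l : N, k • x = l • x → k = l := by
      intro k l hkl
      exact (inv_mul_eq_one.1 (hfree (l⁻¹ * k) (by rw [mul_smul, hkl, inv_smul_smul]))).symm
    rcases pair_block_trivial (u := n • x) (v := n⁻¹ • x) ({x} : Set X) hu hv (fun g hg w hw hgw => by
      have hcases : (⟨g * n * g⁻¹, (inferInstance : N.Normal).conj_mem _ n.2 g⟩ : N) = n ∨
          (⟨g * n * g⁻¹, (inferInstance : N.Normal).conj_mem _ n.2 g⟩ : N) = n⁻¹ := by
        rcases hw with rfl | rfl <;> rw [hconj g hg] at hgw <;> rcases hgw with h | h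
        · exact Or.inl (hinj _ _ h)
        · exact Or.inr (hinj _ _ h)
        · right
          have := congrArg (fun k : N => (k : G)⁻¹) (hinj _ _ h)
          apply Subtype.ext
          simpa [mul_assoc] using this
        · left
          have := congrArg (fun k : N => (k : G)⁻¹) (hinj _ _ h)
          apply Subtype.ext
          simpa [mul_assoc] using this
      have hinv : (⟨g * (n⁻¹ : N) * g⁻¹, (inferInstance : N.Normal).conj_mem _ (n⁻¹ : N).2 g⟩ : N) =
          (⟨g * n * g⁻¹, (inferInstance : N.Normal).conj_mem _ n.2 g⟩ : N)⁻¹ := by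
        apply Subtype.ext
        simp [mul_assoc]
      rw [hconj g hg, hconj g hg, hinv]
      rcases hcases with h | h <;> rw [h] <;> simp) with h | h
    · exact hn (by
        have := hinj _ _ h
        rw [pow_two]
        exact mul_eq_one_iff_eq_inv.2 this)
    · apply h3
      have huniv : (Finset.univ : Finset X) = {x, n • x, n⁻¹ • x} := by
        ext z
        simp only [Finset.mem_univ, Finset.mem_insert, Finset.mem_singleton, true_iff]
        by_cases hz : z = x
        · exact Or.inl hz
        · exact Or.inr (h z hz)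
      have huv : n • x ≠ n⁻¹ • x := fun h => hn (by
        rw [pow_two]
        exact mul_eq_one_iff_eq_inv.2 (hinj _ _ h))
      rw [← Finset.card_univ, huniv, Finset.card_eq_three]
      exact ⟨x, _, _, Ne.symm hu, Ne.symm hv, huv, rfl⟩
  refine ⟨fun n hn => congrArg Subtype.val (hsq ⟨n, hn⟩), ?_⟩
  have hbij : Function.Bijective (fun n : N => n • x) := by
    refine ⟨fun k l hkl => ?_, fun z => exists_smul_eq N x z⟩
    exact (inv_mul_eq_one.1 (hfree (l⁻¹ * k) (by rw [mul_smul, (show k • x = l • x from hkl), inv_smul_smul]))).symm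
  have : Fact (Nat.Prime 2) := ⟨Nat.prime_two⟩
  have : Finite N := Finite.of_injective _ hbij.1
  obtain ⟨m, hm⟩ := IsPGroup.iff_card.1 (show IsPGroup 2 N from fun n => ⟨1, by rw [pow_one]; exact hsq n⟩)
  exact ⟨m, by rw [← Nat.card_eq_fintype_card, ← Nat.card_congr (Equiv.ofBijective _ hbij), hm]⟩

end CfsgLib.Perm
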