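import Mathlib
import Cfsg.Agent.Lib.Perm.RegularNormal
import Cfsg.Agent.Lib.Char.Frobenius
import Cfsg.Agent.S0696

/-!
# Normal subgroups of multiply transitive groups

* `isMultiplyPretransitive_succ`, `false_of_sharp`, `jordan`, `of_multiply_primitive`, `wagner`.
-/

set_option autoImplicit false
set_option linter.all false

namespace CfsgLib.Perm.Jordan

open MulAction SubMulAction
open scoped Pointwise

universe u v

section Basic

variable {G : Type u} [Group G] {X : Type v} [MulAction G X] (N : Subgroup G)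

theorem isMultiplyPretransitive_succ [IsPretransitive N X] (a : X) (m : ℕ)
    (h : IsMultiplyPretransitive (N.subgroupOf (stabilizer G a)) (ofStabilizer G a) m) :
    IsMultiplyPretransitive N X (m + 1) := by
  rw [show m + 1 = m.succ from rfl, ofStabilizer.isMultiplyPretransitive (a := a)]
  refine ⟨fun x y => ?_⟩
  let tr : (Fin m ↪ ofStabilizer N a) → (Fin m ↪ ofStabilizer G a) := fun z =>
    ⟨fun i => ⟨(z i : X), (z i).2⟩, fun i j hij => z.injective (Subtype.ext (by have := congrArg Subtype.val hij; exact this))⟩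
  obtain ⟨⟨⟨g, hga⟩, hgN⟩, hg⟩ := h.exists_smul_eq (tr x) (tr y)
  refine ⟨⟨⟨g, hgN⟩, hga⟩, Function.Embedding.ext fun i => Subtype.ext ?_⟩
  have hi := congrArg Subtype.val (DFunLike.congr_fun hg i)
  exact hi

theorem stabilizer_eq_bot [IsPretransitive N X] {a : X} (h : stabilizer N a = ⊥) (x : X) :
    stabilizer N x = ⊥ := by
  obtain ⟨k, rfl⟩ := exists_smul_eq N a x
  rw [eq_bot_iff]
  intro n hn
  have hmem : k⁻¹ * n * k ∈ stabilizer N a := by
    rw [mem_stabilizer_iff, mul_smul, mul_smul, (hn : n • k • a = k • a), inv_smul_smul]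
  rw [h, Subgroup.mem_bot] at hmem
  rw [Subgroup.mem_bot]
  calc n = k * (k⁻¹ * n * k) * k⁻¹ := by group
    _ = 1 := by rw [hmem]; group

theorem faithful_ofStabilizer [FaithfulSMul G X] (a : X) :
    FaithfulSMul (stabilizer G a) (ofStabilizer G a) := by
  refine ⟨fun {g h} hgh => Subtype.ext (FaithfulSMul.eq_of_smul_eq_smul (α := X) fun x => ?_)⟩
  by_cases hx : x = a
  · rw [hx, (g.2 : (g : G) • a = a), (h.2 : (h : G) • a = a)]
  · exact congrArg Subtype.val (hgh ⟨x, hx⟩)

theorem isPretransitive_of_normal [FaithfulSMul G X] [IsPreprimitive G X] [N.Normal] (hN : N ≠ ⊥) :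
    IsPretransitive N X := by
  refine IsQuasiPreprimitive.isPretransitive_of_normal fun h => hN ?_
  refine N.eq_bot_iff_forall.2 fun n hn => FaithfulSMul.eq_of_smul_eq_smul (α := X) fun y => ?_
  rw [one_smul]
  exact Set.eq_univ_iff_forall.1 h y ⟨n, hn⟩

end Basic

variable {G : Type u} [Group G] [Finite G] {X : Type v} [Fintype X] [MulAction G X]

/-- No normal subgroup of a triply primitive group of degree at least 5 is regular, nor is the
stabiliser of a point in it non-trivial and semiregular elsewhere. -/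
theorem false_of_sharp (h3 : IsMultiplyPreprimitive G X 3) (h5 : 5 ≤ Fintype.card X)
    (N : Subgroup G) [N.Normal] [IsPretransitive N X] (a : X)
    (hsharp : ∀ n : N, n • a = a → ∀ b : X, b ≠ a → n • b = b → n = 1) : False := by
  classical
  by_cases hreg : stabilizer N a = ⊥
  · rcases Cfsg.Agent.S0696.result (by omega) h3 N inferInstance (stabilizer_eq_bot N hreg) with h | h <;>
      omega
  haveI : Nontrivial X := Fintype.one_lt_card_iff_nontrivial.1 (by omega)
  obtain ⟨b, hab⟩ := exists_ne a
  haveI : Fintype N := Fintype.ofFinite N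
  have hfix : ∀ n : N, ∀ c d : X, c ≠ d → n • c = c → n • d = d → n = 1 := by
    intro n c d hcd hc hd
    obtain ⟨k, hk⟩ := exists_smul_eq N c a
    have hk' : k⁻¹ • a = c := inv_smul_eq_iff.2 hk.symm
    have h1 : k * n * k⁻¹ = 1 := hsharp _ (by rw [mul_smul, mul_smul, hk', hc, hk]) (k • d)
      (fun e => hcd (MulAction.injective k (hk.trans e.symm)))
      (by rw [mul_smul, mul_smul, inv_smul_smul, hd])
    calc n = k⁻¹ * (k * n * k⁻¹) * k := by group
      _ = 1 := by rw [h1]; group
  have hH : Cfsg.IsFrobeniusComplement (stabilizer N a) := by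
    refine ⟨hreg, fun h => ?_, fun g hg => ?_⟩
    · obtain ⟨n, hn⟩ := exists_smul_eq N a b
      have : n ∈ stabilizer N a := h ▸ Subgroup.mem_top n
      exact hab (hn.symm.trans this)
    · rw [eq_bot_iff]
      intro n hn
      obtain ⟨hn1, hn2⟩ := Subgroup.mem_inf.1 hn
      rw [Subgroup.mem_bot]
      rw [CfsgLib.Frobenius.mem_conj_smul, mem_stabilizer_iff, mul_smul, mul_smul,
        inv_smul_eq_iff] at hn2
      exact hfix n a (g • a) (fun e => hg e.symm) hn1 hn2
  obtain ⟨K, hKset, hKn, hKc⟩ := CfsgLib.Frobenius.exists_normal_complement hH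
  have hKmem : ∀ n : N, n ∈ K ↔ n = 1 ∨ ∀ y : X, n • y ≠ y := by
    intro n
    rw [← SetLike.mem_coe, hKset, Cfsg.frobeniusKernel, Set.mem_setOf_eq]
    refine or_congr Iff.rfl ⟨fun h y hy => ?_, fun h g hg => ?_⟩
    · obtain ⟨g, rfl⟩ := exists_smul_eq N a y
      refine h g ?_
      rw [CfsgLib.Frobenius.mem_conj_smul, mem_stabilizer_iff, mul_smul, mul_smul, hy, inv_smul_smul]
    · rw [CfsgLib.Frobenius.mem_conj_smul, mem_stabilizer_iff, mul_smul, mul_smul,
        inv_smul_eq_iff] at hg
      exact h _ hg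
  let M : Subgroup G := K.map N.subtype
  haveI hMn : M.Normal := by
    refine ⟨?_⟩
    rintro _ ⟨n, hn, rfl⟩ g
    refine ⟨⟨g * n * g⁻¹, ‹N.Normal›.conj_mem _ n.2 g⟩, (hKmem _).2 ?_, rfl⟩
    rcases (hKmem n).1 hn with rfl | hfree
    · exact Or.inl (Subtype.ext (by simp))
    · refine Or.inr fun y hy => hfree (g⁻¹ • y) ?_
      have hy' : (g * n * g⁻¹ : G) • y = y := hy
      rw [mul_smul, mul_smul, ← eq_inv_smul_iff] at hy'
      exact hy'
  have hMreg : ∀ y : X, stabilizer M y = ⊥ := by
    intro y
    rw [eq_bot_iff]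
    rintro ⟨_, n, hn, rfl⟩ hy
    rw [Subgroup.mem_bot]
    rcases (hKmem n).1 hn with rfl | hfree
    · rfl
    · exact absurd hy (hfree y)
  have hMtr : IsPretransitive M X := by
    have hcard : Nat.card K = Nat.card X := by
      have h1 : Nat.card K * Nat.card (stabilizer N a) = Nat.card N := hKc.card_mul
      have h2 : (stabilizer N a).index * Nat.card (stabilizer N a) = Nat.card N := Subgroup.index_mul_card _
      rw [index_stabilizer_of_transitive] at h2
      exact Nat.eq_of_mul_eq_mul_right Nat.card_pos (h1.trans h2.symm)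
    have hbij : Function.Bijective (fun k : K => (k : N) • a) := by
      refine (Nat.bijective_iff_injective_and_card _).2 ⟨fun k l hkl => ?_, hcard⟩
      have he : (l⁻¹ * k : K) = 1 := by
        rcases (hKmem _).1 (l⁻¹ * k : K).2 with h | h
        · exact Subtype.ext h
        · refine absurd ?_ (h a)
          show ((l : N)⁻¹ * (k : N)) • a = a
          rw [mul_smul, show (k : N) • a = (l : N) • a from hkl, inv_smul_smul]
      exact (inv_mul_eq_one.1 he).symm
    refine ⟨fun y z => ?_⟩
    obtain ⟨k, hk⟩ := hbij.2 y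
    obtain ⟨l, hl⟩ := hbij.2 z
    refine ⟨⟨_, Subgroup.mem_map_of_mem _ (l * k⁻¹ : K).2⟩, ?_⟩
    show ((l : N) * (k : N)⁻¹) • y = z
    rw [mul_smul, ← hk]
    show (l : N) • (k : N)⁻¹ • (k : N) • a = z
    rw [inv_smul_smul]
    exact hl
  rcases Cfsg.Agent.S0696.result (by omega) h3 M hMtr hMreg with h | h <;> omega

omit [Finite G] [Fintype X] in
theorem sharp_of_stab_regular (N : Subgroup G) (a : X)
    (h : ∀ x : ofStabilizer G a, stabilizer (N.subgroupOf (stabilizer G a)) x = ⊥) :
    ∀ n : N, n • a = a → ∀ b : X, b ≠ a → n • b = b → n = 1 := by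
  intro n hna b hb hnb
  have hm : (⟨⟨(n : G), hna⟩, n.2⟩ : N.subgroupOf (stabilizer G a)) ∈
      stabilizer (N.subgroupOf (stabilizer G a)) (⟨b, hb⟩ : ofStabilizer G a) := Subtype.ext hnb
  rw [h, Subgroup.mem_bot] at hm
  exact Subtype.ext (congrArg (fun z : N.subgroupOf (stabilizer G a) => ((z : stabilizer G a) : G)) hm)

omit [Finite G] [Fintype X] in
theorem regular_of_subgroupOf_eq_bot (N : Subgroup G) (a : X)
    (h : N.subgroupOf (stabilizer G a) = ⊥) : stabilizer N a = ⊥ := by
  rw [eq_bot_iff]
  intro n hn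
  rw [Subgroup.mem_bot]
  have h1 : (⟨(n : G), hn⟩ : stabilizer G a) ∈ N.subgroupOf (stabilizer G a) := n.2
  rw [h, Subgroup.mem_bot] at h1
  exact Subtype.ext (show (n : G) = 1 from congrArg Subtype.val h1)

omit [Finite G] in
theorem card_ofStabilizer (a : X) [Fintype (ofStabilizer G a)] :
    Fintype.card (ofStabilizer G a) + 1 = Fintype.card X := by
  rw [← Nat.card_eq_fintype_card, ← Nat.card_eq_fintype_card]
  exact nat_card_ofStabilizer_add_one_eq G a

/-- Jordan's theorem on normal subgroups. -/
theorem jordan : ∀ {k : ℕ} {G : Type u} [Group G] [Finite G] {X : Type v} [Fintype X]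
    [MulAction G X] [FaithfulSMul G X], 2 ≤ k → k < Fintype.card X →
    IsMultiplyPretransitive G X k → ∀ (N : Subgroup G) [N.Normal], N ≠ ⊥ →
    IsMultiplyPretransitive N X (k - 1) ∨
      (k = 3 ∧ (∀ x : X, stabilizer N x = ⊥) ∧ ∀ n ∈ N, n ^ 2 = 1) := by
  classical
  intro k
  induction k with
  | zero => intro G _ _ X _ _ _ h; omega
  | succ k ih =>
    intro G _ _ X _ _ _ hk hdeg hG N _ hN
    haveI := hG
    have h2 : IsMultiplyPretransitive G X 2 :=
      isMultiplyPretransitive_of_le hk (by rw [Nat.card_eq_fintype_card]; omega)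
    haveI := isPreprimitive_of_is_two_pretransitive h2
    haveI : IsPretransitive N X := isPretransitive_of_normal N hN
    rcases (show k = 1 ∨ 2 ≤ k by omega) with rfl | hk2
    · exact Or.inl (is_one_pretransitive_iff.2 inferInstance)
    obtain ⟨a⟩ : Nonempty X := Fintype.card_pos_iff.1 (by omega)
    haveI := faithful_ofStabilizer (G := G) a
    have hprim : ∀ m, m ≤ k → IsMultiplyPreprimitive G X m := by
      intro m hm
      haveI : IsMultiplyPretransitive G X m.succ :=
        isMultiplyPretransitive_of_le (by omega : m.succ ≤ k + 1)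
          (by rw [Nat.card_eq_fintype_card]; omega)
      exact isMultiplyPreprimitive_of_isMultiplyPretransitive_succ G X
        (by rw [ENat.card_eq_coe_fintype_card]; exact_mod_cast (show m.succ ≤ Fintype.card X by omega))
    by_cases hbot : N.subgroupOf (stabilizer G a) = ⊥
    · have hreg := stabilizer_eq_bot N (regular_of_subgroupOf_eq_bot N a hbot)
      rcases (show k = 2 ∨ 3 ≤ k by omega) with rfl | hk3
      · refine Or.inr ⟨rfl, hreg, ?_⟩
        rcases CfsgLib.Perm.regular_normal_two_primitive N (hprim 2 le_rfl) (by omega) inferInstance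
          hreg with h | h
        · omega
        · exact h.1
      · rcases Cfsg.Agent.S0696.result (by omega) (hprim 3 hk3) N inferInstance hreg with h | h <;> omega
    · have hcard := card_ofStabilizer (G := G) a
      have hGa : IsMultiplyPretransitive (stabilizer G a) (ofStabilizer G a) k :=
        ofStabilizer.isMultiplyPretransitive.1 hG
      rcases ih (G := stabilizer G a) (X := ofStabilizer G a) hk2 (by omega) hGa
        (N.subgroupOf (stabilizer G a)) hbot with h | ⟨hk3, hreg, -⟩
      · left
        have := isMultiplyPretransitive_succ N a (k - 1) h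
        rwa [show k - 1 + 1 = k + 1 - 1 by omega] at this
      · exact (false_of_sharp (hprim 3 (by omega)) (by omega) N a
          (sharp_of_stab_regular N a hreg)).elim

/-- Non-regular normal subgroups of multiply primitive groups. -/
theorem of_multiply_primitive : ∀ {k : ℕ} {G : Type u} [Group G] [Finite G] {X : Type v} [Fintype X]
    [MulAction G X] [FaithfulSMul G X], 1 ≤ k → k ≤ Fintype.card X →
    IsMultiplyPreprimitive G X k → ∀ (N : Subgroup G) [N.Normal], N ≠ ⊥ →
    (∃ a : X, stabilizer N a ≠ ⊥) →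
    IsMultiplyPretransitive N X k ∨ IsMultiplyPretransitive G X (Fintype.card X - 1) := by
  classical
  intro k
  induction k with
  | zero => intro G _ _ X _ _ _ h; omega
  | succ k ih =>
    intro G _ _ X _ _ _ hk hdeg hG N _ hN hnr
    have h1 : IsMultiplyPreprimitive G X 1 := isMultiplyPreprimitive_of_le G X hG hk
      (by rw [ENat.card_eq_coe_fintype_card]; exact_mod_cast hdeg)
    haveI := (is_one_preprimitive_iff G X).1 h1
    haveI : IsPretransitive N X := isPretransitive_of_normal N hN
    rcases Nat.eq_zero_or_pos k with rfl | hk1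
    · exact Or.inl (is_one_pretransitive_iff.2 inferInstance)
    obtain ⟨a, ha⟩ := hnr
    haveI := faithful_ofStabilizer (G := G) a
    haveI := hG
    have hGa : IsMultiplyPreprimitive (stabilizer G a) (ofStabilizer G a) k :=
      isMultiplyPreprimitive_ofStabilizer G X
    have hbot : N.subgroupOf (stabilizer G a) ≠ ⊥ := fun h => ha (regular_of_subgroupOf_eq_bot N a h)
    have hcard := card_ofStabilizer (G := G) a
    by_cases hreg : ∀ x : ofStabilizer G a, stabilizer (N.subgroupOf (stabilizer G a)) x = ⊥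
    · rcases (show k = 1 ∨ 2 ≤ k by omega) with rfl | hk2
      · left
        haveI := (is_one_preprimitive_iff _ _).1 hGa
        exact isMultiplyPretransitive_succ N a 1
          (is_one_pretransitive_iff.2 (isPretransitive_of_normal _ hbot))
      · right
        have h4 : Fintype.card X ≤ 4 := by
          by_contra h
          exact false_of_sharp (isMultiplyPreprimitive_of_le G X hG (by omega)
            (by rw [ENat.card_eq_coe_fintype_card]; exact_mod_cast hdeg)) (by omega) N a
            (sharp_of_stab_regular N a hreg)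
        exact isMultiplyPretransitive_of_le (n := k + 1) (by omega)
          (by rw [Nat.card_eq_fintype_card]; omega)
    · push Not at hreg
      rcases ih (G := stabilizer G a) (X := ofStabilizer G a) hk1 (by omega) hGa
        (N.subgroupOf (stabilizer G a)) hbot hreg with h | h
      · exact Or.inl (isMultiplyPretransitive_succ N a k h)
      · right
        rw [show Fintype.card X - 1 = (Fintype.card (ofStabilizer G a) - 1).succ by omega,
          ofStabilizer.isMultiplyPretransitive (a := a)]
        exact h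

set_option maxHeartbeats 1000000 in
/-- Wagner's theorem. -/
theorem wagner [FaithfulSMul G X] (hodd : Odd (Fintype.card X)) (h5 : 5 ≤ Fintype.card X)
    (hG : IsMultiplyPretransitive G X 3) (N : Subgroup G) [N.Normal] (hN : N ≠ ⊥) :
    IsMultiplyPretransitive N X 3 := by
  classical
  haveI := hG
  haveI : Fact (Nat.Prime 2) := ⟨Nat.prime_two⟩
  have hG2 : IsMultiplyPretransitive G X 2 :=
    isMultiplyPretransitive_of_le (n := 3) (by omega) (by rw [Nat.card_eq_fintype_card]; omega)
  haveI := isPreprimitive_of_is_two_pretransitive hG2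
  haveI : IsPretransitive N X := isPretransitive_of_normal N hN
  have hN2 : IsMultiplyPretransitive N X 2 := by
    rcases jordan (k := 3) (by norm_num) (by omega) hG N hN with h | ⟨-, hreg, hexp⟩
    · exact h
    · exfalso
      obtain ⟨x⟩ : Nonempty X := Fintype.card_pos_iff.1 (by omega)
      have hb : Function.Bijective (fun n : N => n • x) := by
        refine ⟨fun m n hmn => ?_, exists_smul_eq N x⟩
        have : n⁻¹ * m ∈ stabilizer N x := by
          rw [mem_stabilizer_iff, mul_smul, show m • x = n • x from hmn, inv_smul_smul]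
        rw [hreg, Subgroup.mem_bot, inv_mul_eq_one] at this
        exact this.symm
      have hp : IsPGroup 2 N := fun n => ⟨1, by rw [pow_one]; exact Subtype.ext (hexp n n.2)⟩
      obtain ⟨m, hm⟩ := IsPGroup.iff_card.1 hp
      rw [Nat.card_eq_of_bijective _ hb, Nat.card_eq_fintype_card] at hm
      rcases m with _ | m
      · omega
      · rw [hm, Nat.odd_iff, pow_succ] at hodd
        omega
  haveI : Nontrivial X := Fintype.one_lt_card_iff_nontrivial.1 (by omega)
  rw [is_two_pretransitive_iff] at hN2
  -- the crucial point: `N_ab` is transitive on the remaining points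
  have key : ∀ a b c d : X, a ≠ b → c ≠ a → c ≠ b → d ≠ a → d ≠ b →
      ∃ n : N, n • a = a ∧ n • b = b ∧ n • c = d := by
    intro a b c d hab hca hcb hda hdb
    let P : Subgroup N := stabilizer N a ⊓ stabilizer N b
    let S0 : Subgroup N := stabilizer N ({a, b} : Set X)
    have hmemS : ∀ n : N, n ∈ S0 ↔ n ∈ P ∨ (n • a = b ∧ n • b = a) := by
      intro n
      constructor
      · intro hn
        have hn' : ({n • a, n • b} : Set X) = {a, b} := by
          have h : n • ({a, b} : Set X) = {a, b} := hn
          simpa [Set.smul_set_insert, Set.smul_set_singleton] using h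
        rcases Set.pair_eq_pair_iff.1 hn' with h | h
        · exact Or.inl ⟨h.1, h.2⟩
        · exact Or.inr h
      · intro hn
        show n • ({a, b} : Set X) = {a, b}
        rw [Set.smul_set_insert, Set.smul_set_singleton]
        rcases hn with ⟨h1, h2⟩ | ⟨h1, h2⟩
        · rw [show n • a = a from h1, show n • b = b from h2]
        · rw [h1, h2, Set.pair_comm]
    obtain ⟨h, hha, hhb⟩ := hN2 hab (Ne.symm hab)
    -- a Sylow 2-subgroup of the setwise stabiliser is not inside `P`
    obtain ⟨S⟩ : Nonempty (Sylow 2 S0) := inferInstance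
    set T : Subgroup N := (S : Subgroup S0).map S0.subtype with hT
    have hTS0 : T ≤ S0 := Subgroup.map_subtype_le _
    have hidx : (P.subgroupOf S0).index = 2 := by
      rw [Subgroup.index_eq_two_iff]
      refine ⟨⟨h, (hmemS h).2 (Or.inr ⟨hha, hhb⟩)⟩, fun z => ?_⟩
      rcases (hmemS z).1 z.2 with hz | ⟨hza, hzb⟩
      · refine Or.inr ⟨hz, fun hmul => ?_⟩
        obtain ⟨h1, -⟩ : ((z : N) * h) • a = a ∧ ((z : N) * h) • b = b := hmul
        rw [mul_smul, hha, (hz.2 : (z : N) • b = b)] at h1
        exact hab h1.symm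
      · refine Or.inl ⟨?_, fun hz => hab ((hz.1 : (z : N) • a = a).symm.trans hza)⟩
        show ((z : N) * h) • a = a ∧ ((z : N) * h) • b = b
        rw [mul_smul, mul_smul, hha, hhb]
        exact ⟨hzb, hza⟩
    have hS0card : Nat.card S0 = 2 * Nat.card P := by
      rw [← Subgroup.index_mul_card (P.subgroupOf S0), hidx]
      congr 1
      refine Nat.card_congr (Subgroup.subgroupOfEquivOfLe ?_).toEquiv
      exact fun n hn => (hmemS n).2 (Or.inl hn)
    have hTcard : Nat.card T = 2 ^ (Nat.card S0).factorization 2 := by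
      rw [hT, Subgroup.card_map_of_injective S0.subtype_injective, S.card_eq_multiplicity]
    -- two points fixed by `T` coincide
    have hTfix : ∀ u v : X, u ≠ v → (∀ t ∈ T, t • u = u) → (∀ t ∈ T, t • v = v) → False := by
      intro u v huv hu hv
      obtain ⟨g, hgu, hgv⟩ := hN2 huv hab
      have hle : T.map (MulAut.conj g).toMonoidHom ≤ P := by
        rintro _ ⟨t, ht, rfl⟩
        have ea : g⁻¹ • a = u := inv_smul_eq_iff.2 hgu.symm
        have eb : g⁻¹ • b = v := inv_smul_eq_iff.2 hgv.symm
        refine ⟨?_, ?_⟩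
        · show (g * t * g⁻¹) • a = a
          rw [mul_smul, mul_smul, ea, hu t ht, hgu]
        · show (g * t * g⁻¹) • b = b
          rw [mul_smul, mul_smul, eb, hv t ht, hgv]
      have h1 := Subgroup.card_dvd_of_le hle
      rw [Subgroup.card_map_of_injective (MulAut.conj g).injective, hTcard, hS0card,
        Nat.factorization_mul (by norm_num) Nat.card_pos.ne'] at h1
      simp only [Finsupp.add_apply, Nat.Prime.factorization_self Nat.prime_two] at h1
      have hcardP : Nat.card P ≠ 0 := Nat.card_pos.ne'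
      have := (Nat.prime_two.pow_dvd_iff_le_factorization hcardP).1 h1
      omega
    have hTp : IsPGroup 2 T := S.2.map _
    have hdvd : ¬ 2 ∣ Nat.card {x : X // x ≠ a ∧ x ≠ b} := by
      have e : Nat.card {x : X // x ≠ a ∧ x ≠ b} = Fintype.card X - 2 := by
        rw [Nat.card_eq_fintype_card, Fintype.card_subtype,
          show (Finset.univ.filter fun x : X => x ≠ a ∧ x ≠ b) = ({a, b} : Finset X)ᶜ by ext; simp,
          Finset.card_compl, Finset.card_pair hab]
      rw [e]
      have := Nat.odd_iff.1 hodd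
      omega
    have hTmove : ∀ t ∈ T, ∀ x : X, x ≠ a ∧ x ≠ b → t • x ≠ a ∧ t • x ≠ b := by
      intro t ht x hx
      have ht' := (hmemS t⁻¹).1 (S0.inv_mem (hTS0 ht))
      constructor <;> intro e <;> have e' := (inv_smul_eq_iff.2 e.symm) <;> rcases ht' with h' | h'
      · exact hx.1 (e'.symm.trans h'.1)
      · exact hx.2 (e'.symm.trans h'.1)
      · exact hx.2 (e'.symm.trans h'.2)
      · exact hx.1 (e'.symm.trans h'.2)
    letI : MulAction T {x : X // x ≠ a ∧ x ≠ b} :=
      { smul := fun t x => ⟨(t : N) • (x : X), hTmove t t.2 x x.2⟩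
        one_smul := fun x => Subtype.ext (one_smul N (x : X))
        mul_smul := fun s t x => Subtype.ext (mul_smul (s : N) (t : N) (x : X)) }
    obtain ⟨⟨e, hea, heb⟩, he⟩ := hTp.nonempty_fixed_point_of_prime_not_dvd_card _ hdvd
    have hTe : ∀ t ∈ T, t • e = e := fun t ht => congrArg Subtype.val (he ⟨t, ht⟩)
    -- every point is in the `P`-orbit of `e`
    have horb : ∀ x : X, x ≠ a → x ≠ b → ∃ n ∈ P, n • e = x := by
      intro x hxa hxb
      obtain ⟨g, hg⟩ : ∃ g : G, g • a = a ∧ g • b = b ∧ g • e = x := by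
        let u : Fin 3 ↪ X := ⟨![a, b, e], by
          intro i j hij
          fin_cases i <;> fin_cases j <;>
            simp [hab, hea, heb, Ne.symm hab, Ne.symm hea, Ne.symm heb] at hij ⊢⟩
        let w : Fin 3 ↪ X := ⟨![a, b, x], by
          intro i j hij
          fin_cases i <;> fin_cases j <;>
            simp [hab, hxa, hxb, Ne.symm hab, Ne.symm hxa, Ne.symm hxb] at hij ⊢⟩
        obtain ⟨g, hg⟩ := exists_smul_eq G u w
        exact ⟨g, DFunLike.congr_fun hg 0, DFunLike.congr_fun hg 1, DFunLike.congr_fun hg 2⟩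
      -- the conjugate of `T` by `g` is a Sylow subgroup of `S0`, conjugate to `T` under `S0`
      have hga : g⁻¹ • a = a := inv_smul_eq_iff.2 hg.1.symm
      have hgb : g⁻¹ • b = b := inv_smul_eq_iff.2 hg.2.1.symm
      let c : N →* N := (MulAut.conjNormal g : MulAut N).toMonoidHom
      have hc : ∀ n : N, ((c n : N) : G) = g * n * g⁻¹ := fun n => MulAut.conjNormal_apply g n
      have hcS : T.map c ≤ S0 := by
        rintro _ ⟨t, ht, rfl⟩
        rcases (hmemS t).1 (hTS0 ht) with ⟨h1, h2⟩ | ⟨h1, h2⟩
        · refine (hmemS _).2 (Or.inl ⟨?_, ?_⟩)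
          · show ((c t : N) : G) • a = a
            rw [hc, mul_smul, mul_smul, hga, show (t : G) • a = a from h1, hg.1]
          · show ((c t : N) : G) • b = b
            rw [hc, mul_smul, mul_smul, hgb, show (t : G) • b = b from h2, hg.2.1]
        · refine (hmemS _).2 (Or.inr ⟨?_, ?_⟩)
          · show ((c t : N) : G) • a = b
            rw [hc, mul_smul, mul_smul, hga, show (t : G) • a = b from h1, hg.2.1]
          · show ((c t : N) : G) • b = a
            rw [hc, mul_smul, mul_smul, hgb, show (t : G) • b = a from h2, hg.1]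
      let S' : Sylow 2 S0 := Sylow.ofCard ((T.map c).subgroupOf S0) (by
        rw [Nat.card_congr (Subgroup.subgroupOfEquivOfLe hcS).toEquiv,
          Subgroup.card_map_of_injective (f := c) (MulAut.conjNormal g : MulAut N).injective, hTcard])
      obtain ⟨s, hs⟩ := exists_smul_eq S0 S S'
      have hfix : ∀ t ∈ T, t • (s : N)⁻¹ • x = (s : N)⁻¹ • x := by
        intro t ht
        obtain ⟨t₀, ht₀, he₀⟩ := ht
        subst he₀
        have hm : s * t₀ * s⁻¹ ∈ (S' : Subgroup S0) := by
          rw [← hs, Sylow.coe_subgroup_smul]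
          exact ⟨t₀, ht₀, rfl⟩
        have hm' : (((s * t₀ * s⁻¹ : S0)) : N) ∈ T.map c := hm
        obtain ⟨t₁, ht₁, ht₁e⟩ := hm'
        have hx1 : (c t₁) • x = x := by
          show ((c t₁ : N) : G) • x = x
          rw [hc, mul_smul, mul_smul, inv_smul_eq_iff.2 hg.2.2.symm,
            show (t₁ : G) • e = e from hTe t₁ ht₁, hg.2.2]
        rw [ht₁e] at hx1
        have hx2 : ((s : N) * (t₀ : N) * (s : N)⁻¹) • x = x := hx1
        rw [mul_smul, mul_smul, ← eq_inv_smul_iff] at hx2
        exact hx2
      have hse : (s : N)⁻¹ • x = e := by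
        by_contra hne
        exact hTfix _ _ hne hfix hTe
      have hsx : (s : N) • e = x := by rw [← hse, smul_inv_smul]
      by_cases hsP : (s : N) ∈ P
      · exact ⟨_, hsP, hsx⟩
      · have hswap := ((hmemS s).1 s.2).resolve_left hsP
        obtain ⟨t, htT, htP⟩ : ∃ t ∈ T, t ∉ P := by
          by_contra hcon
          push Not at hcon
          have hle : (S : Subgroup S0) ≤ P.subgroupOf S0 := fun z hz =>
            hcon _ (Subgroup.mem_map_of_mem _ hz)
          exact S.not_dvd_index ((dvd_of_eq hidx.symm).trans (Subgroup.index_dvd_of_le hle))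
        have htswap := ((hmemS t).1 (hTS0 htT)).resolve_left htP
        refine ⟨(s : N) * t, ⟨?_, ?_⟩, by rw [mul_smul, hTe t htT, hsx]⟩
        · show ((s : N) * t) • a = a
          rw [mul_smul, htswap.1, hswap.2]
        · show ((s : N) * t) • b = b
          rw [mul_smul, htswap.2, hswap.1]
    obtain ⟨n₁, ⟨h1a, h1b⟩, h1⟩ := horb c hca hcb
    obtain ⟨n₂, ⟨h2a, h2b⟩, h2⟩ := horb d hda hdb
    have h1a' : n₁⁻¹ • a = a := inv_smul_eq_iff.2 (h1a : n₁ • a = a).symm
    have h1b' : n₁⁻¹ • b = b := inv_smul_eq_iff.2 (h1b : n₁ • b = b).symm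
    refine ⟨n₂ * n₁⁻¹, ?_, ?_, ?_⟩
    · rw [mul_smul, h1a']; exact h2a
    · rw [mul_smul, h1b']; exact h2b
    · rw [mul_smul, ← h1, inv_smul_smul, h2]
  refine ⟨fun u w => ?_⟩
  have hu : ∀ i j, i ≠ j → u i ≠ u j := fun i j hij e => hij (u.injective e)
  have hw : ∀ i j, i ≠ j → w i ≠ w j := fun i j hij e => hij (w.injective e)
  obtain ⟨g, hg0, hg1⟩ := hN2 (hu 0 1 (by decide)) (hw 0 1 (by decide))
  obtain ⟨n, hn0, hn1, hn2⟩ := key (w 0) (w 1) (g • u 2) (w 2) (hw _ _ (by decide))
    (fun e => hu 2 0 (by decide) (MulAction.injective g (e.trans hg0.symm)))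
    (fun e => hu 2 1 (by decide) (MulAction.injective g (e.trans hg1.symm)))
    (hw _ _ (by decide)) (hw _ _ (by decide))
  refine ⟨n * g, Function.Embedding.ext fun i => ?_⟩
  show (n * g) • u i = w i
  fin_cases i <;> simp only [mul_smul]
  · rw [show g • u ⟨0, _⟩ = w 0 from hg0]; exact hn0
  · rw [show g • u ⟨1, _⟩ = w 1 from hg1]; exact hn1
  · exact hn2

end CfsgLib.Perm.Jordan
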