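import Mathlib
import Cfsg.Agent.Lib.Char.Frobenius

/-!
# Finite sharply doubly transitive groups

* `exists_kernel`: the regular normal elementary abelian subgroup.
-/

set_option autoImplicit false
set_option linter.all false

namespace CfsgLib.Perm.SharplyTwo

open MulAction

variable {G : Type*} [Group G] [Finite G] {X : Type*} [Fintype X] [MulAction G X]

theorem exists_fpf_kernel [IsPretransitive G X] (a : X) (hX : 2 ≤ Fintype.card X)
    (hfix : ∀ n : G, ∀ c d : X, c ≠ d → n • c = c → n • d = d → n = 1) :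
    ∃ K : Subgroup G, K.Normal ∧ (∀ n : G, n ∈ K ↔ n = 1 ∨ ∀ y : X, n • y ≠ y) ∧
      Nat.card K = Fintype.card X := by
  classical
  have hidx : (stabilizer G a).index = Fintype.card X := by
    rw [index_stabilizer_of_transitive, Nat.card_eq_fintype_card]
  by_cases hreg : stabilizer G a = ⊥
  · have hfree : ∀ n : G, n = 1 ∨ ∀ y : X, n • y ≠ y := by
      intro n
      refine or_iff_not_imp_left.2 fun hn y hy => hn ?_
      obtain ⟨k, rfl⟩ := exists_smul_eq G a y
      have hm : k⁻¹ * n * k ∈ stabilizer G a := by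
        rw [mem_stabilizer_iff, mul_smul, mul_smul, hy, inv_smul_smul]
      rw [hreg, Subgroup.mem_bot] at hm
      calc n = k * (k⁻¹ * n * k) * k⁻¹ := by group
        _ = 1 := by rw [hm]; group
    refine ⟨⊤, inferInstance, fun n => ⟨fun _ => hfree n, fun _ => Subgroup.mem_top n⟩, ?_⟩
    rw [Subgroup.card_top, ← hidx, hreg, Subgroup.index_bot]
  haveI : Fintype G := Fintype.ofFinite G
  haveI : Nontrivial X := Fintype.one_lt_card_iff_nontrivial.1 (by omega)
  obtain ⟨b, hab⟩ := exists_ne a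
  have hH : Cfsg.IsFrobeniusComplement (stabilizer G a) := by
    refine ⟨hreg, fun h => ?_, fun g hg => ?_⟩
    · obtain ⟨n, hn⟩ := exists_smul_eq G a b
      have : n ∈ stabilizer G a := h ▸ Subgroup.mem_top n
      exact hab (hn.symm.trans this)
    · rw [eq_bot_iff]
      intro n hn
      obtain ⟨hn1, hn2⟩ := Subgroup.mem_inf.1 hn
      rw [Subgroup.mem_bot]
      rw [CfsgLib.Frobenius.mem_conj_smul, mem_stabilizer_iff, mul_smul, mul_smul,
        inv_smul_eq_iff] at hn2
      exact hfix n a (g • a) (fun e => hg e.symm) hn1 hn2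
  obtain ⟨K, hKset, hKn, hKc⟩ := CfsgLib.Frobenius.exists_normal_complement hH
  refine ⟨K, hKn, fun n => ?_, ?_⟩
  · rw [← SetLike.mem_coe, hKset, Cfsg.frobeniusKernel, Set.mem_setOf_eq]
    refine or_congr Iff.rfl ⟨fun h y hy => ?_, fun h g hg => ?_⟩
    · obtain ⟨g, rfl⟩ := exists_smul_eq G a y
      refine h g ?_
      rw [CfsgLib.Frobenius.mem_conj_smul, mem_stabilizer_iff, mul_smul, mul_smul, hy, inv_smul_smul]
    · rw [CfsgLib.Frobenius.mem_conj_smul, mem_stabilizer_iff, mul_smul, mul_smul,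
        inv_smul_eq_iff] at hg
      exact h _ hg
  · rw [← hidx]
    have h1 : Nat.card K * Nat.card (stabilizer G a) = Nat.card G := hKc.card_mul
    exact Nat.eq_of_mul_eq_mul_right Nat.card_pos (h1.trans (Subgroup.index_mul_card _).symm)

/-- The regular normal subgroup of a sharply doubly transitive group. -/
theorem exists_kernel (h2 : IsMultiplyPretransitive G X 2) (hX : 2 ≤ Fintype.card X)
    (hfix : ∀ n : G, ∀ c d : X, c ≠ d → n • c = c → n • d = d → n = 1) :
    ∃ (p j : ℕ) (K : Subgroup G), p.Prime ∧ 1 ≤ j ∧ Fintype.card X = p ^ j ∧ K.Normal ∧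
      IsMulCommutative K ∧ (∀ n ∈ K, n ^ p = 1) ∧ Nat.card K = Fintype.card X ∧
      (∀ n : G, n ∈ K ↔ n = 1 ∨ ∀ y : X, n • y ≠ y) ∧ IsPretransitive K X ∧
      (∀ y : X, stabilizer K y = ⊥) ∧ ¬ p ∣ K.index := by
  classical
  haveI := h2
  haveI : IsPretransitive G X := isPretransitive_of_is_two_pretransitive
  obtain ⟨a⟩ : Nonempty X := Fintype.card_pos_iff.1 (by omega)
  obtain ⟨K, hKn, hKmem, hKcard⟩ := exists_fpf_kernel a hX hfix
  have hfree : ∀ k ∈ K, ∀ y : X, k • y = y → k = 1 := fun k hk y hy =>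
    ((hKmem k).1 hk).resolve_right fun h => h y hy
  have hreg : ∀ y : X, stabilizer K y = ⊥ := by
    intro y
    rw [eq_bot_iff]
    exact fun k hk => Subgroup.mem_bot.2 (Subtype.ext (hfree k k.2 y hk))
  have hbij : Function.Bijective (fun k : K => (k : G) • a) := by
    refine (Nat.bijective_iff_injective_and_card _).2 ⟨fun k l hkl => ?_, by
      rw [hKcard, Nat.card_eq_fintype_card]⟩
    have h1 : ((l : G)⁻¹ * (k : G)) • a = a := by
      rw [mul_smul, show (k : G) • a = (l : G) • a from hkl, inv_smul_smul]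
    exact Subtype.ext (inv_mul_eq_one.1 (hfree _ (K.mul_mem (K.inv_mem l.2) k.2) a h1)).symm
  have htr : IsPretransitive K X := by
    refine ⟨fun y z => ?_⟩
    obtain ⟨k, hk⟩ := hbij.2 y
    obtain ⟨l, hl⟩ := hbij.2 z
    refine ⟨l * k⁻¹, ?_⟩
    show ((l : G) * (k : G)⁻¹) • y = z
    rw [mul_smul, ← hk]
    show (l : G) • (k : G)⁻¹ • (k : G) • a = z
    rw [inv_smul_smul]
    exact hl
  rw [is_two_pretransitive_iff] at h2
  -- the stabiliser of `a` is transitive on the non-identity elements of `K`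
  have hconjK : ∀ k ∈ K, ∀ l ∈ K, k ≠ 1 → l ≠ 1 → ∃ g : G, g * k * g⁻¹ = l := by
    intro k hk l hl hk1 hl1
    obtain ⟨g, hga, hgk⟩ := h2 (fun e => hk1 (hfree k hk a e.symm) : a ≠ k • a)
      (fun e => hl1 (hfree l hl a e.symm) : a ≠ l • a)
    refine ⟨g, ?_⟩
    have h1 : (l⁻¹ * (g * k * g⁻¹)) • a = a := by
      rw [mul_smul, mul_smul, mul_smul, inv_smul_eq_iff.2 hga.symm, hgk, inv_smul_smul]
    exact (inv_mul_eq_one.1 (hfree _ (K.mul_mem (K.inv_mem hl) (hKn.conj_mem k hk g)) a h1)).symm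
  haveI : Nontrivial K := Finite.one_lt_card_iff_nontrivial.1 (by rw [hKcard]; omega)
  obtain ⟨p, hp, hpd⟩ := Nat.exists_prime_and_dvd (n := Nat.card K) (by rw [hKcard]; omega)
  haveI := Fact.mk hp
  obtain ⟨x, hx⟩ := exists_prime_orderOf_dvd_card' (G := K) p hpd
  have hx1 : (x : G) ≠ 1 := fun e => hp.ne_one (by
    rw [← hx, Subtype.ext (show (x : G) = ((1 : K) : G) from e), orderOf_one])
  have hexp : ∀ n ∈ K, n ^ p = 1 := by
    intro n hn
    by_cases hn1 : n = 1
    · rw [hn1, one_pow]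
    · obtain ⟨g, rfl⟩ := hconjK _ x.2 _ hn hx1 hn1
      rw [conj_pow, show (x : G) ^ p = 1 by
        rw [← hx, ← Subgroup.orderOf_coe, pow_orderOf_eq_one], mul_one, mul_inv_cancel]
  have hpK : IsPGroup p K := fun n => ⟨1, by rw [pow_one]; exact Subtype.ext (hexp n n.2)⟩
  obtain ⟨j, hj⟩ := IsPGroup.iff_card.1 hpK
  have hj1 : 1 ≤ j := by
    by_contra h
    rw [hKcard, show j = 0 by omega, pow_zero] at hj
    omega
  have hcomm : IsMulCommutative K := by
    obtain ⟨z, hz, hz1⟩ :=
      (Subgroup.center K).nontrivial_iff_exists_ne_one.1 hpK.center_nontrivial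
    refine ⟨⟨fun s t => ?_⟩⟩
    by_cases hs : (s : G) = 1
    · exact Subtype.ext (by simp [hs])
    · obtain ⟨g, hg⟩ := hconjK _ z.2 _ s.2 (fun e => hz1 (Subtype.ext e)) hs
      have hm : g⁻¹ * (t : G) * g ∈ K := by simpa using hKn.conj_mem t t.2 g⁻¹
      have h1 := congrArg Subtype.val (Subgroup.mem_center_iff.1 hz ⟨_, hm⟩)
      simp only [Subgroup.coe_mul] at h1
      apply Subtype.ext
      show (s : G) * t = t * s
      rw [← hg]
      calc g * (z : G) * g⁻¹ * t = g * ((z : G) * (g⁻¹ * t * g)) * g⁻¹ := by group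
        _ = g * ((g⁻¹ * t * g) * (z : G)) * g⁻¹ := by rw [h1]
        _ = _ := by group
  refine ⟨p, j, K, hp, hj1, by rw [← hKcard, hj], hKn, hcomm, hexp, hKcard, hKmem, htr, hreg, ?_⟩
  -- the index of `K` is the order of a stabiliser, which divides `n - 1`
  have hn : p ∣ Fintype.card X := hKcard ▸ hpd
  intro hpi
  have hst : K.index = Nat.card (stabilizer G a) := by
    have h1 := K.index_mul_card
    have h2 := (stabilizer G a).index_mul_card
    rw [hKcard] at h1
    rw [index_stabilizer_of_transitive, Nat.card_eq_fintype_card, mul_comm] at h2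
    exact Nat.eq_of_mul_eq_mul_right (by omega) (h1.trans h2.symm)
  haveI : Nontrivial X := Fintype.one_lt_card_iff_nontrivial.1 (by omega)
  obtain ⟨b, hab⟩ := exists_ne a
  have hb : Function.Bijective (fun g : stabilizer G a =>
      (⟨(g : G) • b, fun e => hab (MulAction.injective (g : G) (e.trans g.2.symm))⟩ : {y : X // y ≠ a})) := by
    refine ⟨fun g k hgk => ?_, fun y => ?_⟩
    · have h1 : (g : G) • b = (k : G) • b := congrArg Subtype.val hgk
      have h3 := hfix ((k : G)⁻¹ * g) a b (Ne.symm hab)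
        (by rw [mul_smul, show (g : G) • a = a from g.2, inv_smul_eq_iff, show (k : G) • a = a from k.2])
        (by rw [mul_smul, h1, inv_smul_smul])
      exact Subtype.ext (inv_mul_eq_one.1 h3).symm
    · obtain ⟨g, hga, hgb⟩ := h2 (Ne.symm hab) (Ne.symm y.2)
      exact ⟨⟨g, hga⟩, Subtype.ext hgb⟩
  rw [hst, Nat.card_eq_of_bijective _ hb, Nat.card_eq_fintype_card, Fintype.card_subtype,
    show (Finset.univ.filter fun y : X => y ≠ a) = ({a} : Finset X)ᶜ by ext; simp,
    Finset.card_compl, Finset.card_singleton] at hpi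
  have := Nat.dvd_sub hn hpi
  rw [show Fintype.card X - (Fintype.card X - 1) = 1 by omega] at this
  exact hp.one_lt.ne' (Nat.eq_one_of_dvd_one this)

end CfsgLib.Perm.SharplyTwo
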