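import Mathlib
import Cfsg.Agent.Lib.Char.Exceptional.ZassenhausOdd

/-! Zassenhaus groups (not assumed simple) with two-point stabilisers of odd order whose elements
die in every abelian quotient: the two-point stabiliser is abelian and inverted by swaps. -/

set_option autoImplicit false

open Cfsg
open CfsgLib.Char.Exceptional

universe u

namespace CfsgLib.Perm

variable {G : Type u} {Ω : Type*} [Group G] [Finite G] [MulAction G Ω] [Fintype Ω]

/-- The transfer relation: a linear function of the point stabiliser takes inverse values on an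
element of the two-point stabiliser and on its image under a swap. -/
theorem zass_transfer_of_hom_trivial (hZ : IsZassenhausGroup G Ω) {a b : Ω} (hab : a ≠ b)
    {A : Type*} [CommGroup A] (f : MulAction.stabilizer G a →* A) {w x : G} (hwa : w • a = b)
    (hxa : x • a = a) (hxb : x • b = b) (hw : (w⁻¹ * x * w) • a = a) (hhom : ∀ φ : G →* A, φ x = 1) :
    f ⟨x, hxa⟩ * f ⟨w⁻¹ * x * w, hw⟩ = 1 := by
  classical
  revert f
  set N := MulAction.stabilizer G a with hN
  intro f
  by_cases hx1 : x = 1
  · subst hx1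
    rw [show (⟨1, hxa⟩ : N) = 1 from rfl, show (⟨w⁻¹ * 1 * w, hw⟩ : N) = 1 from Subtype.ext (by simp),
      map_one, mul_one]
  haveI : Fintype (Quotient (MulAction.orbitRel (Subgroup.zpowers x) (G ⧸ N))) := Fintype.ofFinite _
  have h := MonoidHom.transfer_eq_prod_quotient_orbitRel_zpowers_quot (ϕ := f) x
  rw [hhom (MonoidHom.transfer f)] at h
  let q1 : G ⧸ N := ((1 : G) : G ⧸ N)
  let q2 : G ⧸ N := ((w : G) : G ⧸ N)
  have hfix1 : x • q1 = q1 := QuotientGroup.eq.2 (show (x * 1)⁻¹ * 1 ∈ N by
    rw [mul_one, mul_one]; exact inv_mem (show x ∈ N from hxa))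
  have hfix2 : x • q2 = q2 := QuotientGroup.eq.2 (show (x * w)⁻¹ * w ∈ N by
    rw [show (x * w)⁻¹ * w = (w⁻¹ * x * w)⁻¹ by group]; exact inv_mem hw)
  have hmem : ∀ c : G, (c : G ⧸ N) = q1 ↔ c • a = a := fun c => by
    rw [eq_comm, QuotientGroup.eq, inv_one, one_mul]; rfl
  have hmem2 : ∀ c : G, (c : G ⧸ N) = q2 ↔ c • a = b := fun c => by
    rw [eq_comm, QuotientGroup.eq]
    show (w⁻¹ * c) • a = a ↔ _
    rw [mul_smul, inv_smul_eq_iff, hwa]
  have hout : ∀ q : G ⧸ N, x • q = q →
      (Quotient.mk'' q : Quotient (MulAction.orbitRel (Subgroup.zpowers x) (G ⧸ N))).out = q := by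
    intro q hq
    have h1 := Quotient.exact' (Quotient.out_eq' (Quotient.mk'' q :
      Quotient (MulAction.orbitRel (Subgroup.zpowers x) (G ⧸ N))))
    obtain ⟨⟨y, hy⟩, hy'⟩ := h1
    obtain ⟨i, rfl⟩ := Subgroup.mem_zpowers_iff.1 hy
    rw [← hy']
    show x ^ i • q = q
    exact MulAction.mem_stabilizer_iff.1 (zpow_mem (show x ∈ MulAction.stabilizer G q from hq) i)
  have hne : (Quotient.mk'' q1 : Quotient (MulAction.orbitRel (Subgroup.zpowers x) (G ⧸ N))) ≠
      Quotient.mk'' q2 := by
    intro he
    have h1 := congrArg Quotient.out he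
    rw [hout _ hfix1, hout _ hfix2] at h1
    have := (hmem w).1 h1.symm
    exact hab (this.symm.trans hwa)
  rw [Fintype.prod_eq_mul (Quotient.mk'' q1) (Quotient.mk'' q2) hne] at h
  · rw [h]
    have hterm : ∀ (q : G ⧸ N) (c : G), x • q = q → (c : G ⧸ N) = q →
        ∀ (hm : c⁻¹ * x * c ∈ N),
        f ⟨(Quotient.mk'' q : Quotient (MulAction.orbitRel (Subgroup.zpowers x) (G ⧸ N))).out.out⁻¹ *
          x ^ Function.minimalPeriod (x • ·) (Quotient.mk'' q :
            Quotient (MulAction.orbitRel (Subgroup.zpowers x) (G ⧸ N))).out *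
          (Quotient.mk'' q : Quotient (MulAction.orbitRel (Subgroup.zpowers x) (G ⧸ N))).out.out,
          QuotientGroup.out_conj_pow_minimalPeriod_mem N x _⟩ = f ⟨c⁻¹ * x * c, hm⟩ := by
      intro q c hq hc hm
      have hd : c⁻¹ * q.out ∈ N := QuotientGroup.eq.1 (hc.trans q.out_eq'.symm)
      have he : (⟨(Quotient.mk'' q : Quotient (MulAction.orbitRel (Subgroup.zpowers x) (G ⧸ N))).out.out⁻¹ *
          x ^ Function.minimalPeriod (x • ·) (Quotient.mk'' q :
            Quotient (MulAction.orbitRel (Subgroup.zpowers x) (G ⧸ N))).out *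
          (Quotient.mk'' q : Quotient (MulAction.orbitRel (Subgroup.zpowers x) (G ⧸ N))).out.out,
          QuotientGroup.out_conj_pow_minimalPeriod_mem N x _⟩ : N) =
          (⟨c⁻¹ * q.out, hd⟩ : N)⁻¹ * ⟨c⁻¹ * x * c, hm⟩ * ⟨c⁻¹ * q.out, hd⟩ := by
        apply Subtype.ext
        simp only [Subgroup.coe_mul, Subgroup.coe_inv, hout q hq]
        rw [Function.minimalPeriod_eq_one_iff_isFixedPt.2 hq, pow_one]
        group
      rw [he, map_mul, map_mul, map_inv, mul_comm, ← mul_assoc, mul_inv_cancel, one_mul]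
    rw [hterm q1 1 hfix1 rfl (show (1 : G)⁻¹ * x * 1 ∈ N by rw [inv_one, one_mul, mul_one]; exact hxa),
      hterm q2 w hfix2 rfl hw]
    congr 2
    exact Subtype.ext (by simp)
  · rintro q ⟨hq1, hq2⟩
    refine (congrArg f (Subtype.ext ?_)).trans f.map_one
    set k := Function.minimalPeriod (x • ·) q.out
    suffices hk : x ^ k = 1 by
      show q.out.out⁻¹ * x ^ k * q.out.out = 1
      rw [hk]
      group
    have hfix : (x ^ k) • (q.out.out • a) = q.out.out • a := by
      have h1 : q.out.out⁻¹ * x ^ k * q.out.out ∈ N :=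
        QuotientGroup.out_conj_pow_minimalPeriod_mem N x q.out
      have h2 : (q.out.out⁻¹ * x ^ k * q.out.out) • a = a := h1
      rw [mul_smul, mul_smul, inv_smul_eq_iff] at h2
      exact h2
    by_contra hk
    have hka : x ^ k • a = a := pow_mem (show x ∈ MulAction.stabilizer G a from hxa) k
    have hkb : x ^ k • b = b := pow_mem (show x ∈ MulAction.stabilizer G b from hxb) k
    rcases zass_fix_two hZ hk hab hka hkb hfix with hc | hc
    · refine hq1 ?_
      exact (Quotient.out_eq' q).symm.trans (congrArg Quotient.mk'' ((QuotientGroup.out_eq' q.out).symm.trans ((hmem _).2 hc)))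
    · refine hq2 ?_
      exact (Quotient.out_eq' q).symm.trans (congrArg Quotient.mk'' ((QuotientGroup.out_eq' q.out).symm.trans ((hmem2 _).2 hc)))

/-- The two-point stabiliser is abelian and a swap inverts it. -/
theorem zass_two_stab_inverted_of_hom_trivial (hZ : IsZassenhausGroup G Ω) {a b : Ω} (hab : a ≠ b)
    (hodd : Odd (Nat.card ↥(MulAction.stabilizer G a ⊓ MulAction.stabilizer G b : Subgroup G)))
    (hhom : ∀ (A : Type u) [CommGroup A] (φ : G →* A),
      ∀ x ∈ (MulAction.stabilizer G a ⊓ MulAction.stabilizer G b : Subgroup G), φ x = 1)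
    {w : G} (hwa : w • a = b) (hwb : w • b = a) :
    IsZGroup ↥(MulAction.stabilizer G a ⊓ MulAction.stabilizer G b : Subgroup G) ∧
    IsMulCommutative ↥(MulAction.stabilizer G a ⊓ MulAction.stabilizer G b : Subgroup G) ∧
    ∀ x ∈ (MulAction.stabilizer G a ⊓ MulAction.stabilizer G b : Subgroup G), w⁻¹ * x * w = x⁻¹ := by
  classical
  obtain ⟨H, hHa, hHcard, hHfix, -⟩ := zass_exists_kernel hZ hab
  set E := (MulAction.stabilizer G a ⊓ MulAction.stabilizer G b : Subgroup G) with hE
  set N := MulAction.stabilizer G a with hN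
  have hEN : E ≤ N := inf_le_left
  have h3 := zass_three_le hZ
  have hdisj : ∀ u ∈ H, u • b = b → u = 1 := fun u hu h => by
    by_contra hu1
    exact hab (hHfix u hu hu1 b h).symm
  have hfpf : ∀ x ∈ E, x ≠ 1 → H ⊓ Subgroup.centralizer {x} = ⊥ := by
    intro x hx hx1
    rw [Subgroup.eq_bot_iff_forall]
    rintro u ⟨hu, hc⟩
    have hc' : u * x = x * u := Subgroup.mem_centralizer_singleton_iff.1 hc
    have h : x • (u • b) = u • b := by
      rw [smul_smul, ← hc', mul_smul, show x • b = b from hx.2]
    rcases zass_fix_two hZ hx1 hab hx.1 hx.2 h with h' | h'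
    · exact absurd (MulAction.injective u (h'.trans (hHa hu : u • a = a).symm)) hab.symm
    · exact hdisj u hu h'
  have hHne : H ≠ ⊥ := by
    rintro rfl
    rw [Subgroup.card_bot] at hHcard
    omega
  have hEH : E ≤ Subgroup.normalizer (H : Set G) := by
    rw [zass_kernel_normalizer hZ hHa hHcard hHfix]
    exact hEN
  haveI : IsZGroup E := CfsgLib.Core.FPF.isZGroup_of_odd hEH hfpf hHne
    (fun h => (Nat.not_even_iff_odd.2 hodd) (even_iff_two_dvd.2 h))
  -- the stabiliser maps onto the abelianisation of `E`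
  let H' := H.subgroupOf N
  haveI : H'.Normal := Subgroup.normal_subgroupOf_iff_le_normalizer hHa |>.2
    (zass_kernel_normalizer hZ hHa hHcard hHfix).ge
  let ι : E →* N ⧸ H' := (QuotientGroup.mk' H').comp (Subgroup.inclusion hEN)
  have hinj : Function.Injective ι := by
    rw [← MonoidHom.ker_eq_bot_iff, Subgroup.eq_bot_iff_forall]
    intro x hx
    have hxH : (x : G) ∈ H := (QuotientGroup.eq_one_iff (N := H') (Subgroup.inclusion hEN x)).1 hx
    exact Subtype.ext (hdisj _ hxH x.2.2)
  have hbij : Function.Bijective ι := by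
    refine hinj.bijective_of_nat_card_le ?_
    rw [← Subgroup.index_eq_card]
    have h1 := H'.index_mul_card
    have hcN : Nat.card N = Nat.card H * Nat.card E := by
      have := zass_card_stab hZ hab
      rwa [show Fintype.card Ω - 1 = Nat.card H by omega] at this
    rw [show Nat.card H' = Nat.card H from Nat.card_congr (Subgroup.subgroupOfEquivOfLe hHa).toEquiv,
      hcN, mul_comm] at h1
    exact (Nat.eq_of_mul_eq_mul_left Nat.card_pos h1).le
  let f : N →* Abelianization E :=
    Abelianization.of.comp ((MulEquiv.ofBijective ι hbij).symm.toMonoidHom.comp (QuotientGroup.mk' H'))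
  have hf : ∀ y : E, f (Subgroup.inclusion hEN y) = Abelianization.of y := fun y =>
    congrArg Abelianization.of ((MulEquiv.ofBijective ι hbij).symm_apply_apply y)
  -- the action on `E`
  let σ : E → E := fun x => ⟨w⁻¹ * (x : G) * w, zass_swap_conj_mem hwa hwb x.2⟩
  have hσ : ∀ x : E, x * σ x ∈ commutator E := by
    intro x
    have h := zass_transfer_of_hom_trivial hZ hab f hwa x.2.1 x.2.2 (zass_swap_conj_mem hwa hwb x.2).1 (fun φ => hhom _ φ x x.2)
    rw [← Abelianization.ker_of, MonoidHom.mem_ker, map_mul, ← hf, ← hf]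
    exact h
  -- the commutator subgroup is central
  haveI := IsZGroup.isCyclic_commutator E
  have hcent : commutator E ≤ Subgroup.center E := by
    intro d hd
    rw [Subgroup.mem_center_iff]
    intro x
    obtain ⟨g0, hg0⟩ := IsCyclic.exists_generator (α := commutator E)
    have hpow : ∀ z : commutator E, ∃ i : ℤ, g0 ^ i = z := fun z => Subgroup.mem_zpowers_iff.1 (hg0 z)
    -- conjugation by any element, and by `w`, are powers on the commutator subgroup
    have hconj : ∀ y : E, ∃ r : ℤ, ∀ z ∈ commutator E, y * z * y⁻¹ = z ^ r := by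
      intro y
      let ψ : commutator E →* commutator E :=
        { toFun := fun z => ⟨y * z * y⁻¹, (inferInstance : (commutator E).Normal).conj_mem _ z.2 y⟩
          map_one' := Subtype.ext (by simp)
          map_mul' := fun z z' => Subtype.ext (by simp only [Subgroup.coe_mul]; group) }
      obtain ⟨r, hr⟩ := MonoidHom.map_cyclic ψ
      exact ⟨r, fun z hz => congrArg Subtype.val (hr ⟨z, hz⟩)⟩
    let σh : E →* E :=
      { toFun := σ
        map_one' := Subtype.ext (by simp [σ])
        map_mul' := fun y z => Subtype.ext (by simp [σ, Subgroup.coe_mul, mul_assoc]) }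
    obtain ⟨r, hr⟩ := hconj x
    -- conjugation by `σ x` equals conjugation by `x`
    have h1 : ∀ z ∈ commutator E, σ x * z * (σ x)⁻¹ = z ^ r := by
      intro z hz
      have hsurj : Function.Surjective σh := Finite.surjective_of_injective fun p q hpq => by
        have h := congrArg Subtype.val hpq
        exact Subtype.ext (mul_left_cancel (mul_right_cancel (show w⁻¹ * (p : G) * w = w⁻¹ * q * w from h)))
      obtain ⟨z', rfl⟩ := hsurj z
      have hz' : z' ∈ commutator E := by
        have hmap : (commutator E).map σh = commutator E := by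
          rw [_root_.commutator_def, Subgroup.map_commutator, Subgroup.map_top_of_surjective σh hsurj]
        rw [← hmap] at hz
        obtain ⟨z'', hz'', he⟩ := Subgroup.mem_map.1 hz
        have hinjσ : Function.Injective σh := Finite.injective_iff_surjective.2 hsurj
        exact hinjσ he ▸ hz''
      rw [← map_zpow, ← hr z' hz', map_mul, map_mul, map_inv]
      rfl
    -- so `x ^ 2` centralises it
    have h2 : ∀ z ∈ commutator E, Commute (x ^ 2) z := by
      intro z hz
      obtain ⟨c, hc, hxc⟩ : ∃ c ∈ commutator E, σ x = x⁻¹ * c := ⟨_, hσ x, by group⟩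
      have hcz : c * z = z * c := congrArg Subtype.val
        ((IsCyclic.commutative (α := commutator E)).is_comm.comm ⟨c, hc⟩ ⟨z, hz⟩)
      have e1 : x⁻¹ * z * x = x * z * x⁻¹ := by
        rw [hr z hz, ← h1 z hz, hxc, mul_inv_rev, inv_inv, mul_assoc x⁻¹ c z, hcz]
        group
      calc x ^ 2 * z = x * (x * z * x⁻¹) * x := by rw [pow_two]; group
        _ = x * (x⁻¹ * z * x) * x := by rw [e1]
        _ = z * x ^ 2 := by rw [pow_two]; group
    have hox : Odd (orderOf x) := hodd.of_dvd_nat (orderOf_dvd_natCard x)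
    obtain ⟨j, hj⟩ := hox
    have hx : x = (x ^ 2) ^ (j + 1) := by
      rw [← pow_mul, show 2 * (j + 1) = orderOf x + 1 by omega, pow_succ, pow_orderOf_eq_one, one_mul]
    rw [hx]
    exact ((h2 d hd).pow_left (j + 1)).eq
  haveI : Group.IsNilpotent E :=
    Subgroup.isNilpotent_of_ker_le_center (Abelianization.of (G := E))
      (by rw [Abelianization.ker_of]; exact hcent)
  have hcomm : commutator E = ⊥ := by
    haveI : IsMulCommutative E := IsCyclic.commutative
    exact (commutator_eq_bot_iff (G := E)).2 inferInstance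
  refine ⟨‹IsZGroup E›, (commutator_eq_bot_iff (G := E)).1 hcomm, fun x hx => ?_⟩
  have h := hσ ⟨x, hx⟩
  rw [hcomm, Subgroup.mem_bot] at h
  exact eq_inv_of_mul_eq_one_right (congrArg Subtype.val h)

end CfsgLib.Perm
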