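import Mathlib
import Cfsg.Agent.Lib.Perm.ZassenhausAbelianBound
import Cfsg.Agent.Lib.Perm.ZassenhausTorus
import Cfsg.Agent.Lib.Perm.SharplyTwo
import Cfsg.Agent.Lib.Perm.Jordan
import Cfsg.Agent.S0739

/-! A Zassenhaus group with two-point stabilisers of odd order and abelian point kernel is simple. -/

set_option autoImplicit false

open Cfsg
open CfsgLib.Char.Exceptional

universe u v

namespace CfsgLib.Perm

variable {G : Type u} {Ω : Type v} [Group G] [Finite G] [MulAction G Ω] [Fintype Ω]

/-- The two-point stabiliser acts freely on the other points. -/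
theorem zass_card_two_stab_dvd (hZ : IsZassenhausGroup G Ω) {a b : Ω} (hab : a ≠ b) :
    Nat.card ↥(MulAction.stabilizer G a ⊓ MulAction.stabilizer G b : Subgroup G) ∣ Fintype.card Ω - 2 := by
  classical
  set E := (MulAction.stabilizer G a ⊓ MulAction.stabilizer G b : Subgroup G) with hE
  let X := {c : Ω // c ≠ a ∧ c ≠ b}
  let act : MulAction E X :=
    { smul := fun x c => ⟨(x : G) • (c : Ω), fun h => c.2.1 (MulAction.injective (x : G)
        (h.trans (x.2.1 : (x : G) • a = a).symm)), fun h => c.2.2 (MulAction.injective (x : G)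
        (h.trans (x.2.2 : (x : G) • b = b).symm))⟩
      one_smul := fun c => Subtype.ext (one_smul G _)
      mul_smul := fun x y c => Subtype.ext (mul_smul (x : G) y _) }
  letI := act
  have hfree : ∀ c : X, MulAction.stabilizer E c = ⊥ := by
    intro c
    rw [Subgroup.eq_bot_iff_forall]
    intro x hx
    by_contra hx1
    have hc : (x : G) • (c : Ω) = c := congrArg Subtype.val (hx : x • c = c)
    rcases zass_fix_two hZ (fun h => hx1 (Subtype.ext h)) hab x.2.1 x.2.2 hc with h | h
    exacts [c.2.1 h, c.2.2 h]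
  have h1 := Nat.card_congr (MulAction.selfEquivOrbitsQuotientProd hfree)
  rw [Nat.card_prod] at h1
  have h2 : Nat.card X = Fintype.card Ω - 2 := by
    rw [Nat.card_eq_fintype_card, Fintype.card_subtype,
      show (Finset.univ.filter fun c : Ω => c ≠ a ∧ c ≠ b) = Finset.univ \ {a, b} by ext c; simp,
      Finset.card_sdiff_of_subset (Finset.subset_univ _), Finset.card_pair hab, Finset.card_univ]
  exact Dvd.intro_left _ (h1.symm.trans h2)

/-- A regular normal subgroup of a Zassenhaus group with two-point stabilisers of odd order is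
the only one. -/
theorem zass_regular_normal_eq (h2 : MulAction.IsMultiplyPretransitive G Ω 2) [FaithfulSMul G Ω]
    {a b : Ω} (hab : a ≠ b) {x : G} (hxa : x • a = a) (hxb : x • b = b)
    (hfix : ∀ c : Ω, x • c = c → c = a ∨ c = b)
    {M M' : Subgroup G} [M.Normal] [M'.Normal] [MulAction.IsPretransitive M Ω]
    [MulAction.IsPretransitive M' Ω] (hM : ∀ m ∈ M, ∀ c : Ω, m • c = c → m = 1)
    (hM' : ∀ m ∈ M', ∀ c : Ω, m • c = c → m = 1) : M' ≤ M := by
  classical
  haveI := h2
  haveI : MulAction.IsPretransitive G Ω := MulAction.isPretransitive_of_is_two_pretransitive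
  haveI : MulAction.IsPreprimitive G Ω :=
    MulAction.isPreprimitive_of_is_two_pretransitive ‹_›
  -- `M` has exponent two
  obtain ⟨⟨m, hm⟩, hmb⟩ := MulAction.exists_smul_eq M a b
  change m • a = b at hmb
  have hinj : ∀ y ∈ M, ∀ z ∈ M, y • a = z • a → y = z := fun y hy z hz h =>
    (inv_mul_eq_one.1 (hM _ (mul_mem (inv_mem hz) hy) a (by rw [mul_smul, h, inv_smul_smul]))).symm
  have hm1 : m ≠ 1 := fun h => hab (by rw [← hmb, h, one_smul])
  have hxm : x * m * x⁻¹ = m := hinj _ (‹M.Normal›.conj_mem m hm x) _ hm (by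
    rw [mul_smul, mul_smul, inv_smul_eq_iff.2 hxa.symm, hmb, hxb])
  have hm2 : m * m = 1 := by
    have h1 : x • ((m * m) • a) = (m * m) • a := by
      rw [← mul_smul, show x * (m * m) = (x * m * x⁻¹) * (x * m * x⁻¹) * x by group, hxm, mul_smul _ x, hxa]
    rcases hfix _ h1 with h | h
    · exact hM _ (mul_mem hm hm) a h
    · exfalso
      exact hm1 (mul_eq_left.1 (hinj _ (mul_mem hm hm) _ hm (h.trans hmb.symm)))
  have hexp : ∀ y ∈ M, y * y = 1 := by
    intro y hy
    by_cases hy1 : y = 1
    · rw [hy1, one_mul]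
    have hya : a ≠ y • a := fun h => hy1 (hM y hy a h.symm)
    obtain ⟨g, hga, hgb⟩ := MulAction.is_two_pretransitive_iff.1 h2 hab hya
    have hg : g * m * g⁻¹ = y := hinj _ (‹M.Normal›.conj_mem m hm g) _ hy (by
      rw [mul_smul, mul_smul, inv_smul_eq_iff.2 hga.symm, hmb, hgb])
    rw [← hg, show g * m * g⁻¹ * (g * m * g⁻¹) = g * (m * m) * g⁻¹ by group, hm2, mul_one, mul_inv_cancel]
  have hMcomm : ∀ y ∈ M, ∀ z ∈ M, y * z = z * y := by
    intro y hy z hz
    have h1 := hexp _ (mul_mem hy hz)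
    rw [eq_inv_of_mul_eq_one_left h1, mul_inv_rev, inv_eq_of_mul_eq_one_right (hexp y hy),
      inv_eq_of_mul_eq_one_right (hexp z hz)]
  intro y hy
  by_cases hint : M ⊓ M' = ⊥
  · have hcomm : ∀ z ∈ M, y * z = z * y := by
      intro z hz
      have h1 : y * z * y⁻¹ * z⁻¹ ∈ M ⊓ M' := by
        refine ⟨M.mul_mem (‹M.Normal›.conj_mem z hz y) (M.inv_mem hz), ?_⟩
        rw [show y * z * y⁻¹ * z⁻¹ = y * (z * y⁻¹ * z⁻¹) by group]
        exact M'.mul_mem hy (‹M'.Normal›.conj_mem _ (M'.inv_mem hy) z)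
      rw [hint, Subgroup.mem_bot, mul_inv_eq_one, mul_inv_eq_iff_eq_mul] at h1
      exact h1
    obtain ⟨⟨z, hz⟩, hzy⟩ := MulAction.exists_smul_eq M a (y • a)
    change z • a = y • a at hzy
    suffices z⁻¹ * y = 1 by rw [← inv_mul_eq_one.1 this]; exact hz
    refine FaithfulSMul.eq_of_smul_eq_smul (α := Ω) fun c => ?_
    obtain ⟨⟨w, hw⟩, rfl⟩ := MulAction.exists_smul_eq M a c
    show (z⁻¹ * y) • w • a = (1 : G) • w • a
    rw [one_smul, ← mul_smul, show z⁻¹ * y * w = z⁻¹ * (y * w) by group, hcomm w hw, ← mul_assoc,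
      hMcomm _ (inv_mem hz) _ hw, mul_assoc, mul_smul, mul_smul z⁻¹, ← hzy, inv_smul_smul]
  · haveI : (M ⊓ M').Normal := inferInstance
    haveI := Jordan.isPretransitive_of_normal (X := Ω) _ hint
    obtain ⟨⟨z, hz⟩, hzy⟩ := MulAction.exists_smul_eq ↥(M ⊓ M') a (y • a)
    change z • a = y • a at hzy
    have : y = z := by
      have h1 := hM' (z⁻¹ * y) (mul_mem (inv_mem hz.2) hy) a (by rw [mul_smul, ← hzy, inv_smul_smul])
      exact (inv_mul_eq_one.1 h1).symm
    rw [this]; exact hz.1

set_option maxHeartbeats 1000000 in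
/-- A Zassenhaus group with two-point stabilisers of odd order `d` and abelian point kernel is
simple and has `n - 2 ≤ 2 d`. -/
theorem zass_abelian_kernel_simple : ∀ (d : ℕ) (G : Type u) (Ω : Type v) [Group G] [Finite G]
    [MulAction G Ω] [Fintype Ω], IsZassenhausGroup G Ω → ∀ a b : Ω, a ≠ b →
    Nat.card ↥(MulAction.stabilizer G a ⊓ MulAction.stabilizer G b : Subgroup G) = d → Odd d →
    ∀ H : Subgroup G, H ≤ MulAction.stabilizer G a → Nat.card H + 1 = Fintype.card Ω →
    (∀ u ∈ H, u ≠ 1 → ∀ c : Ω, u • c = c → c = a) → (∀ x ∈ H, ∀ y ∈ H, x * y = y * x) →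
    IsSimpleGroup G ∧ Fintype.card Ω - 2 ≤ 2 * d := by
  intro d
  induction d using Nat.strong_induction_on with
  | _ d ih =>
  intro G Ω _ _ _ _ hZ a b hab hd hodd H hHa hHcard hHfix hHab
  classical
  subst hd
  haveI := hZ.1
  haveI := hZ.2.1
  haveI := zass_trans hZ
  haveI : MulAction.IsPreprimitive G Ω := MulAction.isPreprimitive_of_is_two_pretransitive hZ.2.1
  set E := (MulAction.stabilizer G a ⊓ MulAction.stabilizer G b : Subgroup G) with hE
  have h3 := zass_three_le hZ
  have hHtrans : ∀ p q : Ω, p ≠ a → q ≠ a → ∃ u ∈ H, u • p = q := by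
    intro p q hp hq
    have hbij : Function.Bijective (fun u : H => (⟨(u : G) • p, fun e => hp (MulAction.injective (u : G)
        (e.trans (hHa u.2 : (u : G) • a = a).symm))⟩ : {x : Ω // x ≠ a})) := by
      refine Function.Injective.bijective_of_nat_card_le (fun u v e => ?_) ?_
      · by_contra huv
        have h1 : (v : G)⁻¹ * u ≠ 1 := fun h => huv (Subtype.ext (inv_mul_eq_one.1 h).symm)
        exact hp (hHfix _ (mul_mem (inv_mem v.2) u.2) h1 p
          (by rw [mul_smul]; exact inv_smul_eq_iff.2 (congrArg Subtype.val e)))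
      · rw [Nat.card_eq_fintype_card (α := {x : Ω // x ≠ a}), Fintype.card_subtype_compl,
          Fintype.card_subtype_eq]
        omega
    obtain ⟨u, hu⟩ := hbij.2 ⟨q, hq⟩
    exact ⟨u, u.2, congrArg Subtype.val hu⟩
  by_cases hnil : ∀ q : ℕ, q.Prime → q ∣ Nat.card E →
      ¬ ∃ N : Subgroup G, N.Normal ∧ N.index = q ^ (Nat.card G).factorization q
  · -- no normal complements: the group is simple
    have hhom := Cfsg.Agent.S0739.hom_trivial hZ hab hodd hnil
    obtain ⟨w, hwa, hwb⟩ := zass_pre hZ hab hab.symm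
    obtain ⟨-, hEcomm, -⟩ := zass_two_stab_inverted_of_hom_trivial hZ hab hodd
      (fun A _ φ => hhom A φ) hwa hwb
    have hnorm := zass_kernel_normalizer hZ hHa hHcard hHfix
    obtain ⟨x, hx1, hxa, hxb⟩ := zass_two_stab_ne_bot hZ hab
    have hxE : x ∈ E := ⟨hxa, hxb⟩
    -- `H` consists of commutators with `x`
    have hcomm : ∀ v ∈ H, ∃ u ∈ H, x * u * x⁻¹ * u⁻¹ = v := by
      have hmem : ∀ u : H, x * u * x⁻¹ * (u : G)⁻¹ ∈ H := fun u => mul_mem
        ((Subgroup.mem_set_normalizer_iff.1 (hnorm.ge hxa) u).1 u.2) (inv_mem u.2)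
      have hinj : Function.Injective fun u : H => (⟨_, hmem u⟩ : H) := by
        intro u v huv
        have h1 : x * u * x⁻¹ * (u : G)⁻¹ = x * v * x⁻¹ * (v : G)⁻¹ := congrArg Subtype.val huv
        set y := (v : G)⁻¹ * u with hy
        have hyx : x * y * x⁻¹ = y := by
          calc x * y * x⁻¹ = (x * v * x⁻¹)⁻¹ * (x * u * x⁻¹ * (u : G)⁻¹) * u := by rw [hy]; group
            _ = y := by rw [h1, hy]; group
        by_contra hne
        have hy1 : y ≠ 1 := fun h => hne (Subtype.ext (inv_mul_eq_one.1 h).symm)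
        have hyH : y ∈ H := mul_mem (inv_mem v.2) u.2
        have hfix : x • (y • b) = y • b := by
          rw [← mul_smul, show x * y = (x * y * x⁻¹) * x by group, hyx, mul_smul, hxb]
        rcases zass_fix_two hZ hx1 hab hxa hxb hfix with h | h
        · exact hab (MulAction.injective y ((hHa hyH : y • a = a).trans h.symm))
        · exact hab (hHfix y hyH hy1 b h).symm
      intro v hv
      obtain ⟨u, hu⟩ := (Finite.surjective_of_injective hinj) ⟨v, hv⟩
      exact ⟨u, u.2, congrArg Subtype.val hu⟩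
    have hsplit : ∀ g : G, g • a = a → ∃ u ∈ H, ∃ y ∈ E, g = u * y := by
      intro g hg
      obtain ⟨u, hu, hub⟩ := hHtrans b (g • b) hab.symm
        (fun e => hab.symm (MulAction.injective g (e.trans hg.symm)))
      refine ⟨u, hu, u⁻¹ * g, ⟨?_, ?_⟩, (mul_inv_cancel_left _ _).symm⟩
      · show (u⁻¹ * g) • a = a
        rw [mul_smul, hg, inv_smul_eq_iff]; exact (hHa hu : u • a = a).symm
      · show (u⁻¹ * g) • b = b
        rw [mul_smul, ← hub, inv_smul_smul]
    -- the point stabiliser dies in every abelian quotient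
    have hkill : ∀ (A : Type u) [CommGroup A] (φ : G →* A), ∀ g : G, g • a = a → φ g = 1 := by
      intro A _ φ g hg
      obtain ⟨u, hu, y, hy, rfl⟩ := hsplit g hg
      obtain ⟨v, -, rfl⟩ := hcomm u hu
      simp [hhom A φ y hy, hhom A φ x hxE]
    have hcov : ∀ N : Subgroup G, N.Normal → N ≠ ⊥ → ∀ g : G, ∃ n ∈ N, ∃ s : G, s • a = a ∧ g = n * s := by
      intro N _ hN g
      haveI := Jordan.isPretransitive_of_normal (X := Ω) _ hN
      obtain ⟨⟨n, hn⟩, hna⟩ := MulAction.exists_smul_eq N a (g • a)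
      change n • a = g • a at hna
      exact ⟨n, hn, n⁻¹ * g, by rw [mul_smul, ← hna, inv_smul_smul], (mul_inv_cancel_left _ _).symm⟩
    haveI : Nontrivial G := ⟨⟨x, 1, hx1⟩⟩
    haveI hsimple : IsSimpleGroup G := by
      refine ⟨fun N hN => or_iff_not_imp_left.2 fun hN1 => ?_⟩
      haveI := hN
      let π := QuotientGroup.mk' N
      have hπ : ∀ q : G ⧸ N, ∃ s : G, s • a = a ∧ π s = q := by
        intro q
        obtain ⟨g, rfl⟩ := QuotientGroup.mk'_surjective N q
        obtain ⟨n, hn, s, hs, rfl⟩ := hcov N hN hN1 g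
        exact ⟨s, hs, by simp [π, (QuotientGroup.eq_one_iff n).2 hn]⟩
      have hHn : (H.map π).Normal := by
        refine ⟨fun q hq r => ?_⟩
        obtain ⟨u, hu, rfl⟩ := Subgroup.mem_map.1 hq
        obtain ⟨s, hs, rfl⟩ := hπ r
        exact Subgroup.mem_map.2 ⟨s * u * s⁻¹,
          (Subgroup.mem_set_normalizer_iff.1 (hnorm.ge hs) u).1 hu, by simp⟩
      haveI := hHn
      let ρ := (QuotientGroup.mk' (H.map π)).comp π
      have hρ : ∀ q : (G ⧸ N) ⧸ H.map π, ∃ y ∈ E, ρ y = q := by
        intro q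
        obtain ⟨r, rfl⟩ := QuotientGroup.mk'_surjective (H.map π) q
        obtain ⟨s, hs, rfl⟩ := hπ r
        obtain ⟨u, hu, y, hy, rfl⟩ := hsplit s hs
        refine ⟨y, hy, ?_⟩
        have : ρ u = 1 := (QuotientGroup.eq_one_iff (N := H.map π) (π u)).2 (Subgroup.mem_map_of_mem π hu)
        show ρ y = ρ (u * y)
        rw [map_mul, this, one_mul]
      let _ : CommGroup ((G ⧸ N) ⧸ H.map π) :=
        { mul_comm := fun q r => by
            obtain ⟨y, hy, rfl⟩ := hρ q
            obtain ⟨z, hz, rfl⟩ := hρ r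
            rw [← map_mul, ← map_mul]
            exact congrArg ρ (congrArg Subtype.val (hEcomm.is_comm.comm ⟨y, hy⟩ ⟨z, hz⟩)) }
      have htop : ∀ q : G ⧸ N, q ∈ H.map π := by
        intro q
        obtain ⟨s, hs, rfl⟩ := hπ q
        exact (QuotientGroup.eq_one_iff (N := H.map π) (π s)).1 (hkill _ ρ s hs)
      let _ : CommGroup (G ⧸ N) :=
        { mul_comm := fun q r => by
            obtain ⟨u, hu, rfl⟩ := Subgroup.mem_map.1 (htop q)
            obtain ⟨v, hv, rfl⟩ := Subgroup.mem_map.1 (htop r)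
            rw [← map_mul, ← map_mul, hHab u hu v hv] }
      rw [eq_top_iff]
      intro g _
      obtain ⟨s, hs, hsg⟩ := hπ (π g)
      rw [← QuotientGroup.eq_one_iff]
      show π g = 1
      rw [← hsg]
      exact hkill _ π s hs
    haveI := Fintype.ofFinite G
    exact ⟨hsimple, zass_abelian_kernel_bound hZ hab hodd hHa hHcard hHfix hHab⟩
  · -- a normal complement gives a smaller group
    exfalso
    push Not at hnil
    obtain ⟨q, hq, hqE, N, hNn, hNi⟩ := hnil
    haveI := Fact.mk hq
    have hdvd2 := zass_card_two_stab_dvd hZ hab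
    rw [← hE] at hdvd2
    have hq2 : q ≠ 2 := fun h => (Nat.not_even_iff_odd.2 hodd) (even_iff_two_dvd.2 (h ▸ hqE))
    have hq2' : 2 < q := lt_of_le_of_ne hq.two_le (Ne.symm hq2)
    have hqn : q ∣ Fintype.card Ω - 2 := hqE.trans hdvd2
    have hqh : ¬ q ∣ Nat.card H := fun h => by
      have h1 := Nat.dvd_sub h hqn
      rw [show Nat.card H - (Fintype.card Ω - 2) = 1 by omega] at h1
      exact hq.not_dvd_one h1
    set v := (Nat.card G).factorization q with hv
    have hHN : H ≤ N := by
      intro u hu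
      rw [← QuotientGroup.eq_one_iff, ← orderOf_eq_one_iff]
      refine Nat.eq_one_of_dvd_coprimes (a := q ^ v) (b := Nat.card H)
        (Nat.Coprime.pow_left _ ((hq.coprime_iff_not_dvd).2 hqh)) ?_ ?_
      · rw [← hNi, Subgroup.index_eq_card]; exact orderOf_dvd_natCard _
      · exact (orderOf_map_dvd (QuotientGroup.mk' N) u).trans (Subgroup.orderOf_dvd_natCard H hu)
    have hNne : N ≠ ⊥ := by
      intro hN
      have : H = ⊥ := le_bot_iff.1 (hN ▸ hHN)
      rw [this, Subgroup.card_bot] at hHcard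
      omega
    haveI := Jordan.isPretransitive_of_normal (X := Ω) _ hNne
    have hN2 : MulAction.IsMultiplyPretransitive N Ω 2 := by
      rw [MulAction.is_two_pretransitive_iff]
      have hto : ∀ p p' : Ω, p ≠ p' → ∃ n : N, n • p = a ∧ n • p' = b := by
        intro p p' hp
        obtain ⟨n, hn⟩ := MulAction.exists_smul_eq N p a
        obtain ⟨u, hu, hub⟩ := hHtrans (n • p') b
          (fun e => hp (MulAction.injective n (hn.trans e.symm))) hab.symm
        refine ⟨⟨u, hHN hu⟩ * n, ?_, ?_⟩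
        · rw [mul_smul, hn]; exact (hHa hu : u • a = a)
        · rw [mul_smul]; exact hub
      intro p p' q₁ q₂ hp hq'
      obtain ⟨n, hn1, hn2⟩ := hto p p' hp
      obtain ⟨m, hm1, hm2⟩ := hto q₁ q₂ hq'
      exact ⟨m⁻¹ * n, by rw [mul_smul, hn1, inv_smul_eq_iff, hm1],
        by rw [mul_smul, hn2, inv_smul_eq_iff, hm2]⟩
    have hfixN : ∀ g : N, ∀ p p' p'' : Ω, p ≠ p' → p' ≠ p'' → p ≠ p'' → g • p = p → g • p' = p' →
        g • p'' = p'' → g = 1 := fun g p p' p'' h1 h2 h3 e1 e2 e3 =>
      Subtype.ext (hZ.2.2.1 g p p' p'' h1 h2 h3 e1 e2 e3)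
    -- fixed-point-free normal regular subgroups of `N` normal in `G` are impossible
    have hregular : ∀ M : Subgroup G, M.Normal → (∀ p p' : Ω, ∃ m ∈ M, m • p = p') →
        (∀ m ∈ M, ∀ c : Ω, m • c = c → m = 1) → False := by
      intro M hMn hMt hMf
      obtain ⟨p, hp⟩ := hZ.2.2.2.2 M hMn ⟨fun p p' => by
        obtain ⟨m, hm, hm'⟩ := hMt p p'
        exact ⟨⟨m, hm⟩, hm'⟩⟩
      refine hp ((Subgroup.eq_bot_iff_forall _).2 fun m hm => Subtype.ext ?_)
      exact hMf m m.2 p hm
    by_cases hd1 : ∀ g : N, g • a = a → g • b = b → g = 1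
    · -- `N` is sharply doubly transitive
      haveI := hN2
      have hfix2 : ∀ n : N, ∀ c e : Ω, c ≠ e → n • c = c → n • e = e → n = 1 := by
        intro n c e hce hnc hne
        obtain ⟨k, hkc, hke⟩ := MulAction.is_two_pretransitive_iff.1 hN2 hce hab
        have h1 := hd1 (k * n * k⁻¹)
          (by rw [← hkc, mul_smul, mul_smul, inv_smul_smul, hnc])
          (by rw [← hke, mul_smul, mul_smul, inv_smul_smul, hne])
        exact conj_eq_one_iff.1 h1
      obtain ⟨p, j, K, -, -, -, -, -, -, -, hKmem, hKt, hKs, -⟩ :=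
        CfsgLib.Perm.SharplyTwo.exists_kernel hN2 (by omega) hfix2
      refine hregular (K.map N.subtype) ⟨?_⟩ ?_ ?_
      · rintro _ ⟨n, hn, rfl⟩ g
        refine ⟨⟨g * n * g⁻¹, hNn.conj_mem n n.2 g⟩, (hKmem _).2 ?_, rfl⟩
        rcases (hKmem n).1 hn with h | h
        · left
          apply Subtype.ext
          simp [h]
        · right
          intro y hy
          refine h (g⁻¹ • y) ?_
          show (n : G) • g⁻¹ • y = g⁻¹ • y
          have hy' : (g * (n : G) * g⁻¹) • y = y := hy
          rw [mul_smul, mul_smul, smul_eq_iff_eq_inv_smul] at hy'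
          exact hy'
      · intro p p'
        obtain ⟨m, hm⟩ := MulAction.exists_smul_eq K p p'
        exact ⟨_, Subgroup.mem_map_of_mem N.subtype m.2, hm⟩
      · rintro _ ⟨n, hn, rfl⟩ c hc
        have : (⟨n, hn⟩ : K) ∈ MulAction.stabilizer K c := hc
        rw [hKs, Subgroup.mem_bot] at this
        have h1 : n = 1 := congrArg Subtype.val this
        rw [h1]; rfl
    · push Not at hd1
      obtain ⟨x, hxa, hxb, hx1⟩ := hd1
      have hxfix : ∀ c : Ω, x • c = c → c = a ∨ c = b := fun c hc => by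
        by_contra hcon
        push Not at hcon
        exact hx1 (hfixN x a b c hab (Ne.symm hcon.2) (Ne.symm hcon.1) hxa hxb hc)
      have hZN : IsZassenhausGroup N Ω := by
        refine ⟨inferInstance, hN2, hfixN, ⟨x, hx1, a, b, hab, hxa, hxb⟩, fun M hMn hMt => ?_⟩
        by_contra hcon
        push Not at hcon
        have hMfree : ∀ m ∈ M, ∀ c : Ω, m • c = c → m = 1 := fun m hm c hc => by
          have : (⟨m, hm⟩ : M) ∈ MulAction.stabilizer M c := hc
          rw [hcon c, Subgroup.mem_bot] at this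
          exact congrArg Subtype.val this
        have hMinv : ∀ g : G, M.map (MulAut.conjNormal g).toMonoidHom = M := by
          intro g
          set M' := M.map (MulAut.conjNormal g : MulAut N).toMonoidHom with hM'
          haveI : M'.Normal := Subgroup.Normal.map hMn _ (MulAut.conjNormal g).surjective
          haveI : MulAction.IsPretransitive M' Ω := ⟨fun p p' => by
            obtain ⟨m, hm⟩ := MulAction.exists_smul_eq M (g⁻¹ • p) (g⁻¹ • p')
            refine ⟨⟨_, Subgroup.mem_map_of_mem _ m.2⟩, ?_⟩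
            show ((MulAut.conjNormal g (m : N) : N) : G) • p = p'
            rw [MulAut.conjNormal_apply, mul_smul, mul_smul]
            have hm' : ((m : N) : G) • g⁻¹ • p = g⁻¹ • p' := hm
            rw [hm', smul_inv_smul]⟩
          haveI := hMn
          have hM'free : ∀ m ∈ M', ∀ c : Ω, m • c = c → m = 1 := by
            rintro _ ⟨m, hm, rfl⟩ c hc
            have hc' : ((MulAut.conjNormal g m : N) : G) • c = c := hc
            rw [MulAut.conjNormal_apply, mul_smul, mul_smul, smul_eq_iff_eq_inv_smul] at hc'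
            rw [hMfree m hm _ hc', map_one]
          exact le_antisymm (zass_regular_normal_eq hN2 hab hxa hxb hxfix hMfree hM'free)
            (zass_regular_normal_eq hN2 hab hxa hxb hxfix hM'free hMfree)
        refine hregular (M.map N.subtype) ⟨?_⟩ ?_ ?_
        · rintro _ ⟨n, hn, rfl⟩ g
          refine ⟨MulAut.conjNormal g n, ?_, ?_⟩
          · show MulAut.conjNormal g n ∈ M
            rw [← hMinv g]
            exact Subgroup.mem_map_of_mem _ hn
          · exact MulAut.conjNormal_apply g n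
        · intro p p'
          obtain ⟨m, hm⟩ := MulAction.exists_smul_eq M p p'
          exact ⟨_, Subgroup.mem_map_of_mem N.subtype m.2, hm⟩
        · rintro _ ⟨n, hn, rfl⟩ c hc
          rw [hMfree n hn c hc, map_one]
      set d' := Nat.card ↥(MulAction.stabilizer N a ⊓ MulAction.stabilizer N b : Subgroup N) with hd'
      have hcard : Nat.card E = q ^ v * d' := by
        have h1 := zass_card hZ hab
        have h2 := zass_card hZN hab
        rw [← hE] at h1
        rw [← hd'] at h2
        rw [← N.index_mul_card, hNi, h2] at h1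
        have hpos : 0 < Fintype.card Ω * (Fintype.card Ω - 1) := Nat.mul_pos (by omega) (by omega)
        refine Nat.eq_of_mul_eq_mul_left hpos ?_
        linarith
      have hv1 : 1 ≤ v := (hq.dvd_iff_one_le_factorization Nat.card_pos.ne').1
        (hqE.trans (Subgroup.card_subgroup_dvd_card E))
      have hqv : 3 ≤ q ^ v := le_trans hq2' (Nat.le_self_pow (by omega) q)
      have hd'pos : 0 < d' := Nat.card_pos
      have hlt : d' < Nat.card E := by rw [hcard]; nlinarith
      have hodd' : Odd d' := hodd.of_dvd_nat (hcard ▸ dvd_mul_left d' _)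
      obtain ⟨-, hb⟩ := ih d' hlt N Ω hZN a b hab rfl hodd' (H.subgroupOf N)
        (fun u hu => (hHa (Subgroup.mem_subgroupOf.1 hu) : (u : G) • a = a))
        (by rw [Nat.card_congr (Subgroup.subgroupOfEquivOfLe hHN).toEquiv, hHcard])
        (fun u hu hu1 c hc => hHfix u (Subgroup.mem_subgroupOf.1 hu) (fun h => hu1 (Subtype.ext h)) c hc)
        (fun p hp p' hp' => Subtype.ext (hHab _ (Subgroup.mem_subgroupOf.1 hp) _ (Subgroup.mem_subgroupOf.1 hp')))
      have hle : Nat.card E ≤ Fintype.card Ω - 2 := Nat.le_of_dvd (by omega) hdvd2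
      rw [hcard] at hle
      have h9 := Nat.mul_le_mul_right d' hqv
      omega

end CfsgLib.Perm
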