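import Mathlib
import Cfsg.Agent.Lib.Char.Exceptional.Zassenhaus

/-! Zassenhaus groups with two-point stabilisers of even order: the involution count. -/

set_option autoImplicit false

open Cfsg
open CfsgLib.Char.Exceptional

namespace CfsgLib.Perm

variable {G Ω : Type*} [Group G] [Finite G] [MulAction G Ω] [Fintype Ω]

omit [Finite G] [Fintype Ω] in
theorem involution_smul_smul {t : G} (ht : orderOf t = 2) (c : Ω) : t • t • c = c := by
  rw [smul_smul, ← pow_two, ← ht, pow_orderOf_eq_one, one_smul]

/-- At most `|E|` elements send `x` to `y` and `y` to `x`, for `E` a two-point stabiliser. -/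
theorem zass_swappers_card_le [Fintype G] [DecidableEq Ω] (hZ : IsZassenhausGroup G Ω) {a b : Ω}
    (hab : a ≠ b) {x y : Ω} (hxy : x ≠ y) :
    (Finset.univ.filter fun t : G => t • x = y ∧ t • y = x).card ≤
      Nat.card ↥(MulAction.stabilizer G a ⊓ MulAction.stabilizer G b : Subgroup G) := by
  classical
  rw [zass_card_two_stab hZ hab hxy]
  set S := Finset.univ.filter fun t : G => t • x = y ∧ t • y = x with hS
  rcases S.eq_empty_or_nonempty with h | ⟨s, hs⟩
  · simp [h]
  have hmem : ∀ t ∈ S, t • x = y ∧ t • y = x := fun t ht => (Finset.mem_filter.1 ht).2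
  have hin : ∀ t ∈ S, t * s ∈ (MulAction.stabilizer G x ⊓ MulAction.stabilizer G y : Subgroup G) := by
    intro t ht
    exact ⟨(by rw [mul_smul, (hmem s hs).1, (hmem t ht).2] : (t * s) • x = x),
      (by rw [mul_smul, (hmem s hs).2, (hmem t ht).1] : (t * s) • y = y)⟩
  rw [← Fintype.card_coe, ← Nat.card_eq_fintype_card]
  refine Nat.card_le_card_of_injective (fun t : S => (⟨(t : G) * s, hin t t.2⟩ :
    ↥(MulAction.stabilizer G x ⊓ MulAction.stabilizer G y : Subgroup G))) fun t t' h => ?_
  exact Subtype.ext (mul_right_cancel (congrArg Subtype.val h))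

/-- Involutions fixing two points: there are at least `n (n - 1) / 2` of them, each moving all other
points. -/
theorem zass_even_count [Fintype G] [DecidableEq Ω] (hZ : IsZassenhausGroup G Ω) {a b : Ω} (hab : a ≠ b)
    (heven : Even (Nat.card ↥(MulAction.stabilizer G a ⊓ MulAction.stabilizer G b : Subgroup G))) :
    ∃ S : Finset G, (∀ t ∈ S, orderOf t = 2 ∧ ∃ x y : Ω, x ≠ y ∧ t • x = x ∧ t • y = y) ∧
      (Finset.univ : Finset Ω).offDiag.card * (Fintype.card Ω - 2) ≤
        2 * ∑ q ∈ (Finset.univ : Finset Ω).offDiag,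
          (S.filter fun t => t • q.1 = q.2 ∧ t • q.2 = q.1).card := by
  classical
  haveI : Fact (Nat.Prime 2) := ⟨Nat.prime_two⟩
  set d := Nat.card ↥(MulAction.stabilizer G a ⊓ MulAction.stabilizer G b : Subgroup G) with hd
  obtain ⟨z0, hz0⟩ := exists_prime_orderOf_dvd_card'
    (G := ↥(MulAction.stabilizer G a ⊓ MulAction.stabilizer G b : Subgroup G)) 2 heven.two_dvd
  rw [← Subgroup.orderOf_coe] at hz0
  -- an involution for each pair
  have hex : ∀ q : Ω × Ω, q.1 ≠ q.2 → ∃ t : G, orderOf t = 2 ∧ t • q.1 = q.1 ∧ t • q.2 = q.2 := by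
    intro q hq
    obtain ⟨k, hka, hkb⟩ := zass_pre hZ hab hq
    refine ⟨k * (z0 : G) * k⁻¹, ?_, ?_, ?_⟩
    · rw [← hz0]; exact orderOf_injective (MulAut.conj k).toMonoidHom (MulAut.conj k).injective _
    · rw [← hka, mul_smul, mul_smul, inv_smul_smul, show (z0 : G) • a = a from z0.2.1]
    · rw [← hkb, mul_smul, mul_smul, inv_smul_smul, show (z0 : G) • b = b from z0.2.2]
  choose! f hf using hex
  set D := (Finset.univ : Finset Ω).offDiag with hD
  have hmemD : ∀ q, q ∈ D ↔ q.1 ≠ q.2 := fun q => by simp [hD]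
  have hne1 : ∀ q ∈ D, f q ≠ 1 := fun q hq h => by
    have := (hf q ((hmemD q).1 hq)).1
    rw [h, orderOf_one] at this
    omega
  -- each involution arises from at most two ordered pairs
  have hfib : ∀ t ∈ D.image f, (D.filter fun q => f q = t).card ≤ 2 := by
    intro t ht
    obtain ⟨⟨x, y⟩, hq, rfl⟩ := Finset.mem_image.1 ht
    have hsub : (D.filter fun r => f r = f (x, y)) ⊆ {(x, y), (y, x)} := by
      rintro ⟨u, v⟩ hr
      rw [Finset.mem_filter] at hr
      obtain ⟨-, hfx, hfy⟩ := hf _ ((hmemD _).1 hq)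
      obtain ⟨-, hfu, hfv⟩ := hf _ ((hmemD _).1 hr.1)
      rw [hr.2] at hfu hfv
      have huv : u ≠ v := (hmemD _).1 hr.1
      simp only at hfu hfv hfx hfy
      rcases zass_fix_two hZ (hne1 _ hq) ((hmemD _).1 hq) hfx hfy hfu with rfl | rfl <;>
        rcases zass_fix_two hZ (hne1 _ hq) ((hmemD _).1 hq) hfx hfy hfv with rfl | rfl <;>
          first | exact absurd rfl huv | simp
    exact (Finset.card_le_card hsub).trans Finset.card_le_two
  have h1 : D.card ≤ 2 * (D.image f).card := Finset.card_le_mul_card_image D 2 hfib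
  -- each moves all but two points
  have h2 : ∀ t ∈ D.image f, Fintype.card Ω - 2 ≤ (D.filter fun q => t • q.1 = q.2 ∧ t • q.2 = q.1).card := by
    intro t ht
    obtain ⟨⟨x, y⟩, hq, rfl⟩ := Finset.mem_image.1 ht
    obtain ⟨ho, hfx, hfy⟩ := hf _ ((hmemD _).1 hq)
    calc Fintype.card Ω - 2 ≤ ((Finset.univ : Finset Ω) \ {x, y}).card := by
          rw [Finset.card_sdiff_of_subset (Finset.subset_univ _), Finset.card_univ]
          have := Finset.card_le_two (a := x) (b := y)
          omega
      _ ≤ _ := by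
          refine Finset.card_le_card_of_injOn (fun c => (c, f (x, y) • c)) (fun c hc => ?_)
            fun c _ c' _ h => congrArg Prod.fst h
          simp only [Finset.coe_sdiff, Set.mem_sdiff, Finset.coe_univ, Set.mem_univ, true_and,
            Finset.mem_coe, Finset.mem_insert, Finset.mem_singleton, not_or] at hc
          refine Finset.mem_filter.2 ⟨(hmemD _).2 ?_, rfl, involution_smul_smul ho c⟩
          intro he
          rcases zass_fix_two hZ (hne1 _ hq) ((hmemD _).1 hq) hfx hfy he.symm with h | h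
          exacts [hc.1 h, hc.2 h]
  refine ⟨D.image f, fun t ht => ?_, ?_⟩
  · obtain ⟨q, hq, rfl⟩ := Finset.mem_image.1 ht
    exact ⟨(hf q ((hmemD q).1 hq)).1, q.1, q.2, (hmemD q).1 hq, (hf q ((hmemD q).1 hq)).2⟩
  have h3 : (D.image f).card * (Fintype.card Ω - 2) ≤
      ∑ q ∈ D, ((D.image f).filter fun t => t • q.1 = q.2 ∧ t • q.2 = q.1).card := by
    calc (D.image f).card * (Fintype.card Ω - 2)
        ≤ ∑ t ∈ D.image f, (D.filter fun q => t • q.1 = q.2 ∧ t • q.2 = q.1).card := by
          rw [← smul_eq_mul, ← Finset.sum_const]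
          exact Finset.sum_le_sum h2
      _ = ∑ q ∈ D, ((D.image f).filter fun t => t • q.1 = q.2 ∧ t • q.2 = q.1).card := by
          simp only [Finset.card_eq_sum_ones, Finset.sum_filter]
          exact Finset.sum_comm
  calc D.card * (Fintype.card Ω - 2) ≤ 2 * (D.image f).card * (Fintype.card Ω - 2) :=
        Nat.mul_le_mul_right _ h1
    _ ≤ _ := by rw [mul_assoc]; exact Nat.mul_le_mul_left 2 h3

/-- A two-point stabiliser of even order has at least `(n - 2) / 2` elements. -/
theorem zass_even_large (hZ : IsZassenhausGroup G Ω) {a b : Ω} (hab : a ≠ b)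
    (heven : Even (Nat.card ↥(MulAction.stabilizer G a ⊓ MulAction.stabilizer G b : Subgroup G))) :
    Fintype.card Ω - 2 ≤
      2 * Nat.card ↥(MulAction.stabilizer G a ⊓ MulAction.stabilizer G b : Subgroup G) := by
  classical
  haveI := Fintype.ofFinite G
  obtain ⟨S, -, hS⟩ := zass_even_count hZ hab heven
  set D := (Finset.univ : Finset Ω).offDiag with hD
  have hle : ∀ q ∈ D, (S.filter fun t => t • q.1 = q.2 ∧ t • q.2 = q.1).card ≤
      Nat.card ↥(MulAction.stabilizer G a ⊓ MulAction.stabilizer G b : Subgroup G) := fun q hq =>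
    (Finset.card_le_card (Finset.filter_subset_filter _ (Finset.subset_univ S))).trans
      (zass_swappers_card_le hZ hab (Finset.mem_offDiag.1 hq).2.2)
  have h := hS.trans (Nat.mul_le_mul_left 2 (Finset.sum_le_card_nsmul D _ _ hle))
  rw [smul_eq_mul, ← mul_assoc, mul_comm 2, mul_assoc] at h
  exact Nat.le_of_mul_le_mul_left h (Finset.card_pos.2 ⟨(a, b), by simp [hD, hab]⟩)

/-- In the extremal case every swap is an involution with exactly two fixed points. -/
theorem zass_even_swap (hZ : IsZassenhausGroup G Ω) {a b : Ω} (hab : a ≠ b)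
    (heven : Even (Nat.card ↥(MulAction.stabilizer G a ⊓ MulAction.stabilizer G b : Subgroup G)))
    (hd : 2 * Nat.card ↥(MulAction.stabilizer G a ⊓ MulAction.stabilizer G b : Subgroup G) ≤
      Fintype.card Ω - 2)
    {s : G} (hsa : s • a = b) (hsb : s • b = a) :
    orderOf s = 2 ∧ ∃ x y : Ω, x ≠ y ∧ s • x = x ∧ s • y = y := by
  classical
  haveI := Fintype.ofFinite G
  obtain ⟨S, hmem, hS⟩ := zass_even_count hZ hab heven
  set D := (Finset.univ : Finset Ω).offDiag with hD
  set d := Nat.card ↥(MulAction.stabilizer G a ⊓ MulAction.stabilizer G b : Subgroup G)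
  have hle : ∀ q ∈ D, (S.filter fun t => t • q.1 = q.2 ∧ t • q.2 = q.1).card ≤ d := fun q hq =>
    (Finset.card_le_card (Finset.filter_subset_filter _ (Finset.subset_univ S))).trans
      (zass_swappers_card_le hZ hab (Finset.mem_offDiag.1 hq).2.2)
  have hsum : ∑ q ∈ D, (S.filter fun t => t • q.1 = q.2 ∧ t • q.2 = q.1).card = ∑ _q ∈ D, d := by
    refine le_antisymm (Finset.sum_le_sum hle) ?_
    rw [Finset.sum_const, smul_eq_mul]
    have h := (Nat.mul_le_mul_left D.card hd).trans hS
    rw [← mul_assoc, mul_comm D.card 2, mul_assoc] at h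
    exact Nat.le_of_mul_le_mul_left h (by norm_num)
  have hmemD : (a, b) ∈ D := by simp [hD, hab]
  have heq := (Finset.sum_eq_sum_iff_of_le hle).1 hsum (a, b) hmemD
  have hs : s ∈ S.filter fun t => t • a = b ∧ t • b = a := by
    by_contra hs
    have hlt : (S.filter fun t => t • a = b ∧ t • b = a).card <
        (Finset.univ.filter fun t : G => t • a = b ∧ t • b = a).card :=
      Finset.card_lt_card ⟨Finset.filter_subset_filter _ (Finset.subset_univ S),
        fun h => hs (h (Finset.mem_filter.2 ⟨Finset.mem_univ s, hsa, hsb⟩))⟩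
    have h2 := zass_swappers_card_le hZ hab hab
    simp only at heq
    omega
  exact hmem s (Finset.mem_filter.1 hs).1

end CfsgLib.Perm
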