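import Mathlib
import Cfsg.Agent.Lib.Perm.ZassenhausEven
import Cfsg.Agent.Lib.Char.Exceptional.ZassenhausOdd
import Cfsg.Agent.Lib.Char.Exceptional.ZassenhausCount
import Cfsg.Agent.S0738
import Cfsg.Agent.Lib.Classical.SmallIso

/-! A Zassenhaus group with two-point stabilisers of even order `(n - 2) / 2` is `PSL(2, q)`. -/

set_option autoImplicit false

open Cfsg
open CfsgLib.Char.Exceptional
open scoped LinearAlgebra.Projectivization MatrixGroups

namespace CfsgLib.Perm

/-- On an odd finite field the inversion is the only map `x ↦ r(x) / x` of the required shape. -/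
theorem twist_eq_one {F : Type*} [Field F] [Fintype F] (hodd : Fintype.card F % 2 = 1) {m : F}
    {r : F → F} (hr : ∀ x, ¬ IsSquare x → r x = m)
    (hrel : ∀ z : F, IsSquare z → z ≠ 0 → z ≠ -1 → r (1 + z) = 1) (hm1 : IsSquare (-1 : F)) :
    m = 1 := by
  by_contra hm
  have key : ∀ z : F, IsSquare z → IsSquare (1 + z) := by
    intro z hz
    by_cases h0 : z = 0
    · rw [h0, add_zero]; exact IsSquare.one
    by_cases h1 : z = -1
    · rw [h1, add_neg_cancel]; exact IsSquare.zero
    by_contra h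
    exact hm ((hr _ h).symm.trans (hrel z hz h0 h1))
  have hall : ∀ x : F, IsSquare x := by
    intro x
    obtain ⟨a, b, hab⟩ := FiniteField.exists_root_sum_quadratic (f := (Polynomial.X ^ 2 : Polynomial F))
      (g := Polynomial.X ^ 2 - Polynomial.C x) (Polynomial.degree_X_pow 2)
      (Polynomial.degree_X_pow_sub_C (by decide) _) hodd
    simp only [Polynomial.eval_pow, Polynomial.eval_X, Polynomial.eval_sub, Polynomial.eval_C] at hab
    have hx : x = a ^ 2 + b ^ 2 := by linear_combination -hab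
    by_cases ha : a = 0
    · exact ⟨b, by rw [hx, ha]; ring⟩
    obtain ⟨c, hc⟩ := key ((b / a) ^ 2) (IsSquare.sq _)
    exact ⟨a * c, by
      rw [hx, show a * c * (a * c) = a ^ 2 * (c * c) by ring, ← hc]
      field_simp⟩
  obtain ⟨ν, hν⟩ := FiniteField.exists_nonsquare (F := F) (fun h => by
    rw [FiniteField.even_card_iff_char_two] at h
    omega)
  exact hν (hall ν)

variable {G Ω : Type*} [Group G] [Finite G] [MulAction G Ω] [Fintype Ω]

set_option maxHeartbeats 1000000 in
/-- Recognition of `PSL(2, q)`. -/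
theorem iso_psl_of_half (hZ : IsZassenhausGroup G Ω) {a b : Ω} (hab : a ≠ b)
    (heven : Even (Nat.card ↥(MulAction.stabilizer G a ⊓ MulAction.stabilizer G b : Subgroup G)))
    (hd : 2 * Nat.card ↥(MulAction.stabilizer G a ⊓ MulAction.stabilizer G b : Subgroup G) ≤
      Fintype.card Ω - 2) :
    ∃ (p f : ℕ) (F : Type) (_ : Field F) (_ : Fintype F), p.Prime ∧ p ≠ 2 ∧
      Fintype.card F = p ^ f ∧ Fintype.card Ω = p ^ f + 1 ∧
      Nonempty (G ≃* Matrix.ProjectiveSpecialLinearGroup (Fin 2) F) := by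
  classical
  set N := MulAction.stabilizer G a with hN
  set E := (MulAction.stabilizer G a ⊓ MulAction.stabilizer G b : Subgroup G) with hE
  have hEN : E ≤ N := inf_le_left
  have h3 := zass_three_le hZ
  have hge := zass_even_large hZ hab heven
  change _ ≤ 2 * Nat.card E at hge
  have hdn : 2 * Nat.card E + 2 = Fintype.card Ω := by omega
  obtain ⟨d', hd'⟩ := heven
  -- the kernel
  obtain ⟨K, hKa, hKcard, hKfix, -⟩ := zass_exists_kernel hZ hab
  let pt : K → Ω := fun k => (k : G) • b
  have hpt : ∀ k, pt k ≠ a := fun k e => hab.symm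
    (MulAction.injective (k : G) (e.trans (hKa k.2 : (k : G) • a = a).symm))
  have hptinj : ∀ k l, pt k = pt l → k = l := by
    intro k l e
    by_contra hkl
    have h1 : (l : G)⁻¹ * k ≠ 1 := fun h => hkl (Subtype.ext (inv_mul_eq_one.1 h).symm)
    exact hab (hKfix _ (mul_mem (inv_mem l.2) k.2) h1 b
      (by rw [mul_smul]; exact inv_smul_eq_iff.2 e)).symm
  have hptsurj : ∀ x, x ≠ a → ∃ k, pt k = x := by
    have hbij : Function.Bijective (fun k : K => (⟨pt k, hpt k⟩ : {x : Ω // x ≠ a})) := by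
      refine Function.Injective.bijective_of_nat_card_le
        (fun k l h => hptinj k l (congrArg Subtype.val h)) ?_
      rw [Nat.card_eq_fintype_card (α := {x : Ω // x ≠ a}), Fintype.card_subtype_compl, Fintype.card_subtype_eq]
      omega
    intro x hx
    obtain ⟨k, hk⟩ := hbij.2 ⟨x, hx⟩
    exact ⟨k, congrArg Subtype.val hk⟩
  have hnorm : N = Subgroup.normalizer (K : Set G) := (zass_kernel_normalizer hZ hKa hKcard hKfix).symm
  have hKn : (K.subgroupOf N).Normal :=
    (Subgroup.normal_subgroupOf_iff_le_normalizer hKa).2 hnorm.le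
  obtain ⟨hKcomm, p, f, hp, hpow, hn⟩ := Cfsg.Agent.S0738.result hZ hab (by omega) K hKa hKn
    (fun y z hy hz => by
      obtain ⟨k, hk⟩ := hptsurj y hy
      obtain ⟨l, hl⟩ := hptsurj z hz
      refine ⟨l * k⁻¹, ?_, fun u (hu : (u : G) • y = z) => ?_⟩
      · show ((l * k⁻¹ : K) : G) • y = z
        rw [← hk, ← hl]
        simp only [pt, Subgroup.coe_mul, Subgroup.coe_inv, mul_smul, inv_smul_smul]
      · apply eq_mul_inv_of_mul_eq
        apply hptinj
        show ((u * k : K) : G) • b = pt l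
        rw [Subgroup.coe_mul, mul_smul, show (k : G) • b = y from hk, hu, hl])
  haveI : Fact p.Prime := ⟨hp⟩
  haveI := hKcomm
  let _ : CommGroup K := { mul_comm := hKcomm.is_comm.comm }
  have hKq : Nat.card K = p ^ f := by omega
  have hp2 : p ≠ 2 := by
    rintro rfl
    rcases Nat.eq_zero_or_pos f with rfl | hf
    · simp at hn; omega
    · obtain ⟨c, hc⟩ := dvd_pow_self 2 hf.ne'
      omega
  have hf0 : f ≠ 0 := by rintro rfl; simp at hn; omega
  -- a swap with its fixed points
  obtain ⟨s, hsa, hsb⟩ := zass_pre hZ hab hab.symm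
  obtain ⟨hs, c, c', hcc, hsc, hsc'⟩ := zass_even_swap hZ hab (by rw [← hE]; exact ⟨d', hd'⟩)
    (by rw [← hE]; omega) hsa hsb
  have hs1 : s ≠ 1 := fun h => hab (by rw [← hsa, h, one_smul])
  have hs2 : s * s = 1 := by rw [← pow_two, ← hs, pow_orderOf_eq_one]
  have hsinv : s⁻¹ = s := inv_eq_of_mul_eq_one_right hs2
  have hss : ∀ x : Ω, s • s • x = x := fun x => by rw [← mul_smul, hs2, one_smul]
  have hca : c ≠ a := fun e => hab (e.symm.trans (hsc.symm.trans (by rw [e, hsa])))
  have hcb : c ≠ b := fun e => hab.symm (e.symm.trans (hsc.symm.trans (by rw [e, hsb])))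
  have hinv : ∀ h ∈ E, s * h * s⁻¹ = h⁻¹ := by
    intro h hh
    have h1 : (s * h) • a = b := by rw [mul_smul, show h • a = a from hh.1, hsa]
    have h2 : (s * h) • b = a := by rw [mul_smul, show h • b = b from hh.2, hsb]
    obtain ⟨ho, -⟩ := zass_even_swap hZ hab (by rw [← hE]; exact ⟨d', hd'⟩) (by rw [← hE]; omega) h1 h2
    have h4 : (s * h) * (s * h) = 1 := by rw [← pow_two, ← ho, pow_orderOf_eq_one]
    rw [hsinv]
    refine eq_inv_of_mul_eq_one_left ?_
    rw [← h4]; group
  have hEcomm : ∀ h l : E, (h : G) * l = l * h := by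
    intro h l
    have e1 : s * ((h : G) * l) * s⁻¹ = (s * h * s⁻¹) * (s * l * s⁻¹) := by group
    rw [hinv _ h.2, hinv _ l.2, hinv _ (mul_mem h.2 l.2), mul_inv_rev, ← mul_inv_rev, ← mul_inv_rev] at e1
    exact inv_injective e1
  have hhc : ∀ h : E, s • (h : G) • c = (h : G)⁻¹ • c := fun h => by
    rw [← hinv h h.2, mul_smul, mul_smul, inv_smul_eq_iff.2 hsc.symm]
  obtain ⟨k₁, hk₁⟩ := hptsurj c hca
  -- conjugation on the kernel
  have hmem : ∀ (h : E) (k : K), (h : G) * k * (h : G)⁻¹ ∈ K := fun h k =>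
    (Subgroup.mem_normalizer_iff.1 (hnorm.le (hEN h.2)) _).1 k.2
  let cj : E → (K →* K) := fun h =>
    { toFun := fun k => ⟨_, hmem h k⟩
      map_one' := Subtype.ext (by simp)
      map_mul' := fun k l => Subtype.ext (by simp only [Subgroup.coe_mul]; group) }
  have hcjpt : ∀ (h : E) k, pt (cj h k) = (h : G) • pt k := by
    intro h k
    show ((h : G) * (k : G) * (h : G)⁻¹) • b = (h : G) • (k : G) • b
    rw [mul_smul, mul_smul, inv_smul_eq_iff.2 (show (h : G) • b = b from h.2.2).symm]
  let φ : E → AddMonoid.End (Additive K) := fun h => MonoidHom.toAdditive (cj h)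
  have hφcomm : ∀ x ∈ Set.range φ, ∀ y ∈ Set.range φ, x * y = y * x := by
    rintro _ ⟨h, rfl⟩ _ ⟨l, rfl⟩
    refine AddMonoidHom.ext fun (k : Additive K) => ?_
    refine congrArg Additive.ofMul (hptinj _ _ ?_)
    show pt (cj h (cj l k.toMul)) = pt (cj l (cj h k.toMul))
    rw [hcjpt, hcjpt, hcjpt, hcjpt, ← mul_smul, hEcomm h l, mul_smul]
  let R := Subring.closure (Set.range φ)
  let _ : CommRing R := Subring.closureCommRingOfComm hφcomm
  have hRc : ∀ r ∈ R, ∀ h, φ h * r = r * φ h := by
    intro r hr h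
    induction hr using Subring.closure_induction with
    | mem x hx => exact hφcomm _ ⟨h, rfl⟩ x hx
    | zero => rw [mul_zero, zero_mul]
    | one => rw [mul_one, one_mul]
    | add x y _ _ hx hy => rw [mul_add, add_mul, hx, hy]
    | neg x _ hx => exact Commute.neg_right hx
    | mul x y _ _ hx hy => rw [← mul_assoc, hx, mul_assoc, hy, mul_assoc]
  have hfree : ∀ k : K, k ≠ 1 → Function.Injective fun h : E => cj h k := by
    intro k hk h l e
    have e1 : (h : G) • pt k = (l : G) • pt k := by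
      rw [← hcjpt, ← hcjpt]; exact congrArg pt e
    by_contra hne
    have hx1 : (l : G)⁻¹ * h ≠ 1 := fun e' => hne (Subtype.ext (inv_mul_eq_one.1 e').symm)
    have hxE : (l : G)⁻¹ * h ∈ E := mul_mem (inv_mem l.2) h.2
    rcases zass_fix_two hZ hx1 hab hxE.1 hxE.2
      (show ((l : G)⁻¹ * h) • pt k = pt k by rw [mul_smul, e1, inv_smul_smul]) with h' | h'
    · exact hpt k h'
    · exact hk (hptinj k 1 (h'.trans (one_smul G b).symm))
  -- irreducibility
  have hirr : ∀ W : Subgroup K, (∀ h : E, ∀ k ∈ W, cj h k ∈ W) → W ≠ ⊥ → W = ⊤ := by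
    intro W hW hbot
    by_contra htop
    obtain ⟨u, hu, hu1⟩ := W.bot_or_exists_ne_one.resolve_left hbot
    obtain ⟨v, hv⟩ : ∃ v, v ∉ W := by
      by_contra h
      push Not at h
      exact htop (eq_top_iff.2 fun x _ => h x)
    have hv1 : v ≠ 1 := fun h => hv (h ▸ W.one_mem)
    have hA : Nat.card E ≤ ((W : Set K) \ {1}).ncard := by
      rw [← Nat.card_coe_set_eq]
      refine Nat.card_le_card_of_injective (fun h : E => (⟨cj h u, hW h u hu, fun e => hu1 ?_⟩ :
        ((W : Set K) \ {1} : Set K))) fun h l e => hfree u hu1 (congrArg Subtype.val e)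
      apply hptinj
      apply MulAction.injective (h : G)
      show (h : G) • pt u = (h : G) • pt 1
      rw [← hcjpt, ← hcjpt, show cj h u = 1 from e, map_one]
    have hB : Nat.card E ≤ ((W : Set K)ᶜ).ncard := by
      rw [← Nat.card_coe_set_eq]
      refine Nat.card_le_card_of_injective (fun h : E => (⟨cj h v, fun e => hv ?_⟩ :
        ((W : Set K)ᶜ : Set K))) fun h l e => hfree v hv1 (congrArg Subtype.val e)
      have h2 := hW h⁻¹ _ e
      have h3 : cj h⁻¹ (cj h v) = v := hptinj _ _ (by rw [hcjpt, hcjpt]; exact inv_smul_smul (h : G) (pt v))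
      rwa [h3] at h2
    rw [Set.ncard_diff_singleton_of_mem W.one_mem, ← Nat.card_coe_set_eq] at hA
    rw [Set.ncard_compl, ← Nat.card_coe_set_eq] at hB
    simp only [SetLike.coe_sort_coe] at hA hB
    have hWK := Subgroup.card_subgroup_dvd_card W
    have hW1 : Nat.card W ≠ 1 := fun h => hbot (Subgroup.card_eq_one.1 h)
    have hlt : Nat.card W < Nat.card K := lt_of_le_of_ne (Nat.le_of_dvd Nat.card_pos hWK)
      fun h => htop (Subgroup.eq_top_of_card_eq W h)
    have hpW : p ∣ Nat.card W := by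
      rw [hKq] at hWK
      obtain ⟨j, -, hj⟩ := (Nat.dvd_prime_pow hp).1 hWK
      rw [hj] at hW1 ⊢
      exact dvd_pow_self p (fun h => hW1 (by rw [h, pow_zero]))
    have h2 : 2 * Nat.card W = Nat.card K + 1 := by omega
    have hpK : p ∣ Nat.card K := hKq ▸ dvd_pow_self p hf0
    exact hp.not_dvd_one ((Nat.dvd_add_right hpK).1 (h2 ▸ hpW.mul_left 2))
  have hkill : ∀ r ∈ R, ∀ k : Additive K, k ≠ 0 → r k = 0 → r = 0 := by
    intro r hr k hk h0
    let W : Subgroup K :=
      { carrier := {l | r (Additive.ofMul l) = 0}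
        one_mem' := map_zero r
        mul_mem' := fun {x y} (hx : r (Additive.ofMul x) = 0) (hy : r (Additive.ofMul y) = 0) => by
          show r (Additive.ofMul x + Additive.ofMul y) = 0
          rw [map_add, hx, hy, add_zero]
        inv_mem' := fun {x} (hx : r (Additive.ofMul x) = 0) => by
          show r (-Additive.ofMul x) = 0
          rw [map_neg, hx, neg_zero] }
    have hW : W = ⊤ := by
      refine hirr W (fun h l (hl : r (Additive.ofMul l) = 0) => ?_) fun hb => hk ?_
      · show r (φ h (Additive.ofMul l)) = 0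
        have e := DFunLike.congr_fun (hRc r hr h) (Additive.ofMul l)
        simp only [AddMonoid.End.coe_mul, Function.comp_apply] at e
        rw [← e, hl, map_zero]
      · have : k.toMul ∈ W := h0
        rw [hb, Subgroup.mem_bot] at this
        rw [← ofMul_toMul k, this]; rfl
    refine DFunLike.ext _ _ fun l => ?_
    exact (hW ▸ Subgroup.mem_top l.toMul : l.toMul ∈ W)
  set e₁ : Additive K := Additive.ofMul k₁
  have he₁ : e₁ ≠ 0 := fun e => hcb (by
    rw [← hk₁, show k₁ = 1 from congrArg Additive.toMul e]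
    exact one_smul G b)
  let ev : R → Additive K := fun r => (r : AddMonoid.End (Additive K)) e₁
  have hev : Function.Bijective ev := by
    refine ⟨fun r r' e => ?_, fun l => ?_⟩
    · refine sub_eq_zero.1 (Subtype.ext (hkill _ (R.sub_mem r.2 r'.2) e₁ he₁ ?_))
      show (r : AddMonoid.End (Additive K)) e₁ - (r' : AddMonoid.End (Additive K)) e₁ = 0
      exact sub_eq_zero.2 e
    · let W : Subgroup K :=
        { carrier := {l | ∃ r ∈ R, r e₁ = Additive.ofMul l}
          one_mem' := ⟨0, R.zero_mem, rfl⟩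
          mul_mem' := fun {x y} ⟨r, hr, hx⟩ ⟨r', hr', hy⟩ => ⟨r + r', R.add_mem hr hr', by
            show r e₁ + r' e₁ = _
            rw [hx, hy]; rfl⟩
          inv_mem' := fun {x} ⟨r, hr, hx⟩ => ⟨-r, R.neg_mem hr, by
            show -(r e₁) = _
            rw [hx]; rfl⟩ }
      have hW : W = ⊤ := by
        refine hirr W (fun h x ⟨r, hr, hx⟩ => ⟨φ h * r, R.mul_mem (Subring.subset_closure ⟨h, rfl⟩) hr, ?_⟩)
          fun hb => he₁ ?_
        · show φ h (r e₁) = _
          rw [hx]; rfl
        · have : k₁ ∈ W := ⟨1, R.one_mem, rfl⟩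
          rw [hb, Subgroup.mem_bot] at this
          show Additive.ofMul k₁ = 0
          rw [this]; rfl
      obtain ⟨r, hr, hrl⟩ := (hW ▸ Subgroup.mem_top l.toMul : l.toMul ∈ W)
      exact ⟨⟨r, hr⟩, hrl⟩
  have : Finite R := Finite.of_injective ev hev.1
  have hRcard : Nat.card R = p ^ f := by
    rw [Nat.card_eq_of_bijective ev hev, show Nat.card (Additive K) = Nat.card K from rfl, hKq]
  have : Nontrivial R := Finite.one_lt_card_iff_nontrivial.1 (by rw [hRcard]; exact Nat.one_lt_pow hf0 hp.one_lt)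
  have : NoZeroDivisors R := ⟨fun {x y} hxy => by
    rw [or_iff_not_imp_right]
    intro hy
    have hy' : (y : AddMonoid.End (Additive K)) e₁ ≠ 0 := fun e => hy (hev.1 (e.trans rfl))
    exact Subtype.ext (hkill _ x.2 _ hy' (DFunLike.congr_fun (congrArg Subtype.val hxy) e₁))⟩
  have : IsDomain R := NoZeroDivisors.to_isDomain R
  let _ : Field R := (Finite.isDomain_to_isField R).toField
  let _ : Fintype R := Fintype.ofFinite R
  let _instG : Fintype (GaloisField p f) := Fintype.ofFinite _
  obtain ⟨F, _instF, _instFt, hFcard, ⟨θ⟩⟩ : ∃ (F : Type) (_ : Field F) (_ : Fintype F),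
      Fintype.card F = p ^ f ∧ Nonempty (F ≃+* R) :=
    ⟨GaloisField p f, inferInstance, _instG,
      by rw [← Nat.card_eq_fintype_card, GaloisField.card p f hf0],
      ⟨FiniteField.ringEquivOfCardEq (K := GaloisField p f) (K' := R)
        (by rw [← Nat.card_eq_fintype_card, GaloisField.card p f hf0, ← Nat.card_eq_fintype_card, hRcard])⟩⟩
  have hodd : Fintype.card F % 2 = 1 := by omega
  have hchar : ringChar F ≠ 2 := fun h => by
    rw [FiniteField.even_card_iff_char_two] at h
    omega
  have hdiv : Fintype.card F / 2 = Nat.card E := by omega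
  -- the points
  let kOf : F → K := fun r => Additive.toMul (ev (θ r))
  let P : F → Ω := fun r => pt (kOf r)
  have hPinj : Function.Injective P := fun r r' e =>
    θ.injective (hev.1 (congrArg Additive.ofMul (hptinj _ _ e)))
  have hPne : ∀ r, P r ≠ a := fun r => hpt _
  have hPsurj : ∀ x, x ≠ a → ∃ r, P r = x := by
    intro x hx
    obtain ⟨k, rfl⟩ := hptsurj x hx
    obtain ⟨u, hu⟩ := hev.2 (Additive.ofMul k)
    exact ⟨θ.symm u, by simp only [P, kOf, RingEquiv.apply_symm_apply, hu]; rfl⟩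
  have hP0 : P 0 = b := by
    show pt (Additive.toMul (ev (θ 0))) = b
    rw [map_zero]
    exact one_smul G b
  have hP1 : P 1 = c := by
    show pt (Additive.toMul (ev (θ 1))) = c
    rw [map_one]
    exact hk₁
  have hPadd : ∀ t r, P (t + r) = (kOf t : G) • P r := by
    intro t r
    show pt (Additive.toMul (ev (θ (t + r)))) = _
    rw [map_add]
    show ((kOf t * kOf r : K) : G) • b = _
    exact mul_smul (kOf t : G) (kOf r : G) b
  let uH : E → F := fun h => θ.symm ⟨φ h, Subring.subset_closure ⟨h, rfl⟩⟩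
  have hPmul : ∀ (h : E) r, P (uH h * r) = (h : G) • P r := by
    intro h r
    show pt (Additive.toMul (ev (θ (uH h * r)))) = _
    rw [map_mul, RingEquiv.apply_symm_apply]
    exact hcjpt h (kOf r)
  have hHc : ∀ h : E, P (uH h) = (h : G) • c := fun h => by rw [← mul_one (uH h), hPmul, hP1]
  have huH1 : uH 1 = 1 := hPinj (by rw [hHc, hP1]; exact one_smul G c)
  have huHmul : ∀ h l : E, uH (h * l) = uH h * uH l := fun h l => hPinj (by
    rw [hHc, hPmul, hHc, Subgroup.coe_mul, mul_smul])
  have huH0 : ∀ h : E, uH h ≠ 0 := fun h e => by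
    have h1 := hHc h
    rw [e, hP0] at h1
    exact hcb (MulAction.injective (h : G) ((show (h : G) • b = b from h.2.2).trans h1)).symm
  have huHinj : Function.Injective uH := fun h l e => by
    have e1 : (h : G) • c = (l : G) • c := by rw [← hHc, ← hHc, e]
    refine hfree k₁ (fun e' => hcb ?_) (hptinj _ _ (by rw [hcjpt, hcjpt, hk₁, e1]))
    rw [← hk₁, e']; exact one_smul G b
  have huHpow : ∀ (h : E) (n : ℕ), uH (h ^ n) = uH h ^ n := by
    intro h n
    induction n with
    | zero => rw [pow_zero, pow_zero, huH1]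
    | succ n ih => rw [pow_succ, pow_succ, huHmul, ih]
  have hsq : ∀ h : E, IsSquare (uH h) := fun h => by
    rw [FiniteField.isSquare_iff hchar (huH0 h), hdiv, ← huHpow, pow_card_eq_one', huH1]
  have hsurjsq : ∀ x : F, x ≠ 0 → IsSquare x → ∃ h : E, uH h = x := by
    intro x hx hxs
    rw [FiniteField.isSquare_iff hchar hx, hdiv] at hxs
    haveI := Fintype.ofFinite E
    have hsub : Finset.univ.image uH = (Polynomial.nthRoots (Nat.card E) (1 : F)).toFinset := by
      refine Finset.eq_of_subset_of_card_le (fun y hy => ?_) ?_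
      · obtain ⟨h, -, rfl⟩ := Finset.mem_image.1 hy
        rw [Multiset.mem_toFinset, Polynomial.mem_nthRoots Nat.card_pos, ← huHpow, pow_card_eq_one', huH1]
      · rw [Finset.card_image_of_injective _ huHinj, Finset.card_univ, ← Nat.card_eq_fintype_card]
        exact (Multiset.toFinset_card_le _).trans (Polynomial.card_nthRoots _ _)
    have hx' : x ∈ Finset.univ.image uH := by
      rw [hsub, Multiset.mem_toFinset, Polynomial.mem_nthRoots Nat.card_pos, hxs]
    obtain ⟨h, -, hh⟩ := Finset.mem_image.1 hx'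
    exact ⟨h, hh⟩
  have hm1 : IsSquare (-1 : F) := by
    rw [FiniteField.isSquare_iff hchar (neg_ne_zero.2 one_ne_zero), hdiv, hd']
    exact Even.neg_one_pow ⟨d', rfl⟩
  have hsmul : ∀ (h : E) (x : F) (y : F), s • P x = P y → s • P (uH h * x) = P ((uH h)⁻¹ * y) := by
    intro h x y e
    have e1 : s * (h : G) = (h : G)⁻¹ * s := by
      rw [← hinv h h.2, inv_mul_cancel_right]
    rw [hPmul, ← mul_smul, e1, mul_smul, e, inv_smul_eq_iff, ← hPmul, mul_inv_cancel_left₀ (huH0 h)]
  have hPsq : ∀ x : F, x ≠ 0 → IsSquare x → s • P x = P x⁻¹ := by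
    intro x hx hxs
    obtain ⟨h, rfl⟩ := hsurjsq x hx hxs
    have := hsmul h 1 1 (by rw [hP1, hsc])
    rwa [mul_one, mul_one] at this
  have hPnz : ∀ x : F, x ≠ 0 → ∃ y : F, y ≠ 0 ∧ s • P x = P y := by
    intro x hx
    obtain ⟨y, hy⟩ := hPsurj (s • P x) (fun e => hx (hPinj (by
      rw [hP0, ← hss (P x), e, hsa])))
    refine ⟨y, fun e => hPne x ?_, hy.symm⟩
    rw [← hss (P x), ← hy, e, hP0, hsb]
  obtain ⟨ν, hν⟩ := FiniteField.exists_nonsquare (F := F) hchar
  have hν0 : ν ≠ 0 := fun e => hν (e ▸ IsSquare.zero)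
  obtain ⟨ν', hν'0, hν'⟩ := hPnz ν hν0
  have hν's : ¬ IsSquare ν' := fun h => by
    have e1 := hPsq ν' hν'0 h
    rw [← hν', hss] at e1
    exact hν (hPinj e1 ▸ h.inv)
  set m := ν * ν' with hm
  have hPns : ∀ x : F, ¬ IsSquare x → s • P x = P (m / x) := by
    intro x hx
    have hx0 : x ≠ 0 := fun e => hx (e ▸ IsSquare.zero)
    have hsqd : IsSquare (x / ν) := by
      rw [FiniteField.isSquare_iff hchar (div_ne_zero hx0 hν0), div_pow]
      have h1 := FiniteField.pow_dichotomy hchar hx0
      have h2 := FiniteField.pow_dichotomy hchar hν0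
      rw [FiniteField.isSquare_iff hchar hx0] at hx
      rw [FiniteField.isSquare_iff hchar hν0] at hν
      rw [h1.resolve_left hx, h2.resolve_left hν]
      norm_num
    obtain ⟨h, hh⟩ := hsurjsq _ (div_ne_zero hx0 hν0) hsqd
    have := hsmul h ν ν' hν'
    rw [hh, div_mul_cancel₀ x hν0] at this
    rw [this, hm]
    congr 1
    field_simp
  let r : F → F := fun x => if IsSquare x then 1 else m
  have hPr : ∀ x : F, x ≠ 0 → s • P x = P (r x / x) := by
    intro x hx
    by_cases h : IsSquare x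
    · rw [hPsq x hx h, show r x = 1 from if_pos h, one_div]
    · rw [hPns x h, show r x = m from if_neg h]
  have hr1 : r 1 = 1 := if_pos IsSquare.one
  have hrm : r (-1) = 1 := if_pos hm1
  -- the key relation
  let g : G := s * (kOf (-1) : G) * s * (kOf 1 : G) * s
  have hτ : ∀ t, (kOf t : G) • a = a := fun t => hKa (kOf t).2
  have hga : g • a = a := by
    simp only [g, mul_smul]
    rw [hsa, ← hP0, ← hPadd, add_zero, hPr 1 one_ne_zero, hr1, div_one, ← hPadd, neg_add_cancel, hP0, hsb]
  have hgb : g • b = P (-1) := by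
    simp only [g, mul_smul]
    rw [hsb, hτ, hsa, ← hP0, ← hPadd, add_zero, hPr _ (neg_ne_zero.2 one_ne_zero), hrm, one_div, inv_neg, inv_one]
  have hgm : g • P (-1) = b := by
    simp only [g, mul_smul]
    rw [hPr _ (neg_ne_zero.2 one_ne_zero), hrm, one_div, inv_neg, inv_one, ← hPadd, add_neg_cancel, hP0,
      hsb, hτ, hsa]
  have hrel : ∀ z : F, IsSquare z → z ≠ 0 → z ≠ -1 → r (1 + z) = 1 := by
    intro z hz hz0 hz1
    have hh : ((kOf (-1) : G))⁻¹ * g ∈ E := by
      refine ⟨?_, ?_⟩
      · show (((kOf (-1) : G))⁻¹ * g) • a = a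
        rw [mul_smul, hga, inv_smul_eq_iff, hτ]
      · show (((kOf (-1) : G))⁻¹ * g) • b = b
        rw [mul_smul, hgb, inv_smul_eq_iff, ← hP0, ← hPadd, add_zero]
    set h : E := ⟨_, hh⟩ with hhdef
    have hgh : ∀ x, g • P x = P (-1 + uH h * x) := by
      intro x
      rw [hPadd (-1) (uH h * x), hPmul h x, ← mul_smul (kOf (-1) : G) (h : G) (P x)]
      show g • P x = ((kOf (-1) : G) * ((kOf (-1) : G)⁻¹ * g)) • P x
      rw [mul_inv_cancel_left]
    have hl : uH h = -1 := by
      have e := hgh (-1)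
      rw [hgm, ← hP0] at e
      linear_combination hPinj e
    have e := hgh z
    rw [hl] at e
    have hw : 1 + r z / z ≠ 0 := by
      rw [show r z = 1 from if_pos hz]
      intro e0
      apply hz1
      field_simp at e0
      linear_combination e0
    simp only [g, mul_smul] at e
    rw [hPr z hz0, ← hPadd, hPr _ hw, ← hPadd] at e
    have hne : -1 + -1 * z ≠ 0 := fun e0 => hz1 (by linear_combination -e0)
    have e2 := congrArg (s • ·) e
    simp only [hss] at e2
    rw [hPr _ hne] at e2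
    have e3 := hPinj e2
    have hrz : r z = 1 := if_pos hz
    have hrw : r (1 + 1 / z) = r (1 + z) := by
      have hiff : IsSquare (1 + 1 / z) ↔ IsSquare (1 + z) := by
        refine ⟨fun hs' => ?_, fun hs' => ?_⟩
        · have e : 1 + z = (1 + 1 / z) * z := by field_simp; ring
          exact e ▸ hs'.mul hz
        · have e : 1 + 1 / z = (1 + z) / z := by field_simp; ring
          exact e ▸ hs'.div hz
      simp only [r, hiff]
    have hrn : r (-1 + -1 * z) = r (1 + z) := by
      have hiff : IsSquare (-1 + -1 * z) ↔ IsSquare (1 + z) := by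
        refine ⟨fun hs' => ?_, fun hs' => ?_⟩
        · have e : 1 + z = (-1 + -1 * z) * -1 := by ring
          exact e ▸ hs'.mul hm1
        · have e : -1 + -1 * z = (1 + z) * -1 := by ring
          exact e ▸ hs'.mul hm1
      simp only [r, hiff]
    rw [hrz, hrw, hrn] at e3
    have h1z : (1 + z) ≠ 0 := fun e0 => hz1 (by linear_combination e0)
    have hA : r (1 + z) / (1 + 1 / z) = z * (r (1 + z) / (1 + z)) := by
      rw [show 1 + 1 / z = (1 + z) / z by field_simp; ring, div_div_eq_mul_div]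
      ring
    have hB : r (1 + z) / (-1 + -1 * z) = -(r (1 + z) / (1 + z)) := by
      rw [show -1 + -1 * z = -(1 + z) by ring, div_neg]
    rw [hA, hB] at e3
    have h2 : (1 + z) * (r (1 + z) / (1 + z)) = r (1 + z) := mul_div_cancel₀ _ h1z
    linear_combination e3 - h2
  have hm1' : m = 1 := twist_eq_one hodd (fun x hx => if_neg hx) hrel hm1
  have hPinv : ∀ x : F, x ≠ 0 → s • P x = P x⁻¹ := by
    intro x hx
    rw [hPr x hx]
    simp only [r, hm1', ite_self, one_div]
  -- the projective line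
  have v1 : ∀ x : F, (![x, 1] : Fin 2 → F) ≠ 0 := fun x h => one_ne_zero (congrFun h 1)
  have v0 : (![1, 0] : Fin 2 → F) ≠ 0 := fun h => one_ne_zero (congrFun h 0)
  let Ψ : Ω → ℙ F (Fin 2 → F) := fun x =>
    if hx : x = a then Projectivization.mk F ![1, 0] v0
    else Projectivization.mk F ![(hPsurj x hx).choose, 1] (v1 _)
  have hΨa : Ψ a = Projectivization.mk F ![1, 0] v0 := dif_pos rfl
  have hΨP : ∀ x, Ψ (P x) = Projectivization.mk F ![x, 1] (v1 x) := by
    intro x
    simp only [Ψ, dif_neg (hPne x)]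
    congr 1
    rw [hPinj (hPsurj (P x) (hPne x)).choose_spec]
  have hcases : ∀ x, x = a ∨ ∃ y, P y = x := fun x => (em (x = a)).imp_right (hPsurj x)
  have hΨ : Function.Injective Ψ := by
    intro x y e
    rcases hcases x with rfl | ⟨u, rfl⟩ <;> rcases hcases y with rfl | ⟨v, rfl⟩
    · rfl
    · exfalso
      rw [hΨa, hΨP, Projectivization.mk_eq_mk_iff'] at e
      obtain ⟨z, hz⟩ := e
      have h1 := congrFun hz 1
      have h0 := congrFun hz 0
      simp at h1 h0
      simp [h1] at h0
    · exfalso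
      rw [hΨa, hΨP, Projectivization.mk_eq_mk_iff'] at e
      obtain ⟨z, hz⟩ := e
      have h1 := congrFun hz 1
      simp at h1
    · rw [hΨP, hΨP, Projectivization.mk_eq_mk_iff'] at e
      obtain ⟨z, hz⟩ := e
      have h1 := congrFun hz 1
      have h0 := congrFun hz 0
      simp at h1 h0
      subst h1
      rw [one_mul] at h0
      rw [h0]
  -- the subgroup of elements acting through SL(2)
  let L : Subgroup G :=
    { carrier := {g | ∃ M : SL(2, F), ∀ x, Ψ (g • x) = M • Ψ x}
      one_mem' := ⟨1, fun x => by rw [one_smul, one_smul]⟩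
      mul_mem' := by
        rintro g g' ⟨M, hM⟩ ⟨M', hM'⟩
        exact ⟨M * M', fun x => by rw [mul_smul, mul_smul, hM, hM']⟩
      inv_mem' := by
        rintro g ⟨M, hM⟩
        exact ⟨M⁻¹, fun x => by rw [eq_inv_smul_iff, ← hM, smul_inv_smul]⟩ }
  have hsl : ∀ (M : SL(2, F)) (v : Fin 2 → F) (hv : v ≠ 0) (w : Fin 2 → F) (hw : w ≠ 0) (t : F),
      t • w = (M : Matrix (Fin 2) (Fin 2) F).mulVec v →
      M • Projectivization.mk F v hv = Projectivization.mk F w hw := by
    intro M v hv w hw t e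
    rw [Projectivization.smul_mk, Projectivization.mk_eq_mk_iff']
    exact ⟨t, e⟩
  have hKL : ∀ k : K, (k : G) ∈ L := by
    intro k
    obtain ⟨u, hu⟩ := hev.2 (Additive.ofMul k)
    have hk : k = kOf (θ.symm u) := by
      simp only [kOf, RingEquiv.apply_symm_apply, hu]; rfl
    set t := θ.symm u
    refine ⟨⟨!![1, t; 0, 1], by simp [Matrix.det_fin_two]⟩, fun x => ?_⟩
    rcases hcases x with rfl | ⟨y, rfl⟩
    · rw [show (k : G) • x = x from hKa k.2, hΨa]
      refine (hsl _ _ v0 _ v0 1 ?_).symm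
      ext i; fin_cases i <;> simp [Matrix.mulVec, dotProduct]
    · rw [hk, ← hPadd, hΨP, hΨP]
      refine (hsl _ _ (v1 y) _ (v1 (t + y)) 1 ?_).symm
      ext i; fin_cases i <;> simp [Matrix.mulVec, dotProduct] <;> ring
  have hHL : ∀ h : E, (h : G) ∈ L := by
    intro h
    obtain ⟨μ, hμ⟩ := hsq h
    have hμ0 : μ ≠ 0 := fun e => huH0 h (by rw [hμ, e, mul_zero])
    refine ⟨⟨!![μ, 0; 0, μ⁻¹], by simp [Matrix.det_fin_two, hμ0]⟩, fun x => ?_⟩
    rcases hcases x with rfl | ⟨y, rfl⟩
    · rw [show (h : G) • x = x from h.2.1, hΨa]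
      refine (hsl _ _ v0 _ v0 μ ?_).symm
      ext i; fin_cases i <;> simp [Matrix.mulVec, dotProduct]
    · rw [← hPmul, hΨP, hΨP]
      refine (hsl _ _ (v1 y) _ (v1 _) μ⁻¹ ?_).symm
      ext i; fin_cases i <;> simp [Matrix.mulVec, dotProduct, hμ] <;> field_simp
  have hsL : s ∈ L := by
    obtain ⟨i, hi⟩ := hm1
    have hi0 : i ≠ 0 := fun e => by rw [e, mul_zero] at hi; exact neg_ne_zero.2 one_ne_zero hi
    refine ⟨⟨!![0, i; i, 0], by simp [Matrix.det_fin_two, ← hi]⟩, fun x => ?_⟩
    rcases hcases x with rfl | ⟨y, rfl⟩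
    · rw [hsa, ← hP0, hΨP, hΨa]
      refine (hsl _ _ v0 _ (v1 0) i ?_).symm
      ext j; fin_cases j <;> simp [Matrix.mulVec, dotProduct]
    · by_cases hy : y = 0
      · subst hy
        rw [hP0, hsb, hΨa, ← hP0, hΨP]
        refine (hsl _ _ (v1 0) _ v0 i ?_).symm
        ext j; fin_cases j <;> simp [Matrix.mulVec, dotProduct]
      · rw [hPinv y hy, hΨP, hΨP]
        refine (hsl _ _ (v1 y) _ (v1 _) (i * y) ?_).symm
        ext j; fin_cases j <;> simp [Matrix.mulVec, dotProduct, hy]
  have hstab : ∀ g : G, g • a = a → g ∈ L := by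
    intro g hg
    obtain ⟨k, hk⟩ := hptsurj (g • b) (fun e => hab.symm (MulAction.injective g (e.trans hg.symm)))
    have hmem' : (k : G)⁻¹ * g ∈ E := by
      refine ⟨?_, ?_⟩
      · show ((k : G)⁻¹ * g) • a = a
        rw [mul_smul, hg, inv_smul_eq_iff.2 (hKa k.2 : (k : G) • a = a).symm]
      · show ((k : G)⁻¹ * g) • b = b
        rw [mul_smul, ← hk]
        exact inv_smul_smul _ b
    have := L.mul_mem (hKL k) (hHL ⟨_, hmem'⟩)
    rwa [mul_inv_cancel_left] at this
  have hall : ∀ g : G, g ∈ L := by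
    intro g
    by_cases hg : g • a = a
    · exact hstab g hg
    obtain ⟨k, hk⟩ := hptsurj (g • a) hg
    have hm' : ((k : G) * s)⁻¹ * g ∈ L := by
      apply hstab
      rw [mul_smul, inv_smul_eq_iff, mul_smul, hsa]
      exact hk.symm
    have := L.mul_mem (L.mul_mem (hKL k) hsL) hm'
    rwa [mul_inv_cancel_left] at this
  -- the isomorphism
  have hΨs : Function.Surjective Ψ := by
    refine ((Nat.bijective_iff_injective_and_card Ψ).2 ⟨hΨ, ?_⟩).2
    rw [CfsgLib.Classical.Two.card_line, Nat.card_eq_fintype_card, hn, hFcard]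
  have huniq : ∀ M M' : Matrix.ProjectiveSpecialLinearGroup (Fin 2) F,
      (∀ x, M • Ψ x = M' • Ψ x) → M = M' := by
    intro M M' h
    refine FaithfulSMul.eq_of_smul_eq_smul (α := ℙ F (Fin 2 → F)) fun v => ?_
    obtain ⟨x, rfl⟩ := hΨs v
    exact h x
  choose τ hτ' using hall
  let π : SL(2, F) → Matrix.ProjectiveSpecialLinearGroup (Fin 2) F := fun M => QuotientGroup.mk M
  have hπ : ∀ (M : SL(2, F)) v, π M • v = M • v := fun M v =>
    Matrix.ProjectiveSpecialLinearGroup.smul_proj_mk M v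
  let T : G →* Matrix.ProjectiveSpecialLinearGroup (Fin 2) F :=
    { toFun := fun g => π (τ g)
      map_one' := huniq _ _ fun x => by rw [hπ, ← hτ', one_smul, one_smul]
      map_mul' := fun g g' => huniq _ _ fun x => by
        rw [hπ, ← hτ', mul_smul, mul_smul, hπ, hπ, hτ', hτ'] }
  have hTinj : Function.Injective T := by
    rw [← MonoidHom.ker_eq_bot_iff, Subgroup.eq_bot_iff_forall]
    intro g hg
    haveI := hZ.1
    refine FaithfulSMul.eq_of_smul_eq_smul (α := Ω) fun x => hΨ ?_
    rw [hτ', ← hπ, one_smul, show π (τ g) = 1 from hg, one_smul]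
  refine ⟨p, f, F, _instF, _instFt, hp, hp2, hFcard, hn, ⟨MulEquiv.ofBijective T
    ((Nat.bijective_iff_injective_and_card _).2 ⟨hTinj, ?_⟩)⟩⟩
  have h1 := CfsgLib.Classical.Two.card_PSL_two (F := F)
  rw [hFcard] at h1
  have hgcd : Nat.gcd 2 (p ^ f - 1) = 2 := Nat.gcd_eq_left ⟨Nat.card E, by omega⟩
  rw [hgcd] at h1
  have h2 := zass_card hZ hab
  rw [← hE, hn, Nat.add_sub_cancel] at h2
  rw [h2]
  have h4 : p ^ f = 2 * Nat.card E + 1 := by omega
  have h5 : (p ^ f) ^ 2 - 1 = 4 * Nat.card E * (Nat.card E + 1) := by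
    rw [h4]
    zify [Nat.one_le_pow 2 (2 * Nat.card E + 1) (by omega)]
    ring
  rw [h5] at h1
  rw [h4] at h1 ⊢
  nlinarith [h1]

end CfsgLib.Perm
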