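import Mathlib
import Cfsg.Agent.Lib.Perm.ZassenhausAbelianSimple
import Cfsg.Agent.Lib.Perm.ZassenhausPSL
import Cfsg.Agent.Lib.Perm.ZassenhausPSLOdd

/-! Zassenhaus groups with abelian point kernel. -/

set_option autoImplicit false

open Cfsg
open CfsgLib.Char.Exceptional

universe u v

namespace CfsgLib.Perm

variable {G : Type u} {Ω : Type v} [Group G] [Finite G] [MulAction G Ω] [Fintype Ω]

/-- A full two-point stabiliser makes the action sharply triply transitive. -/
theorem zass_sharply_three (hZ : IsZassenhausGroup G Ω) {a b : Ω} (hab : a ≠ b)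
    (hd : Nat.card ↥(MulAction.stabilizer G a ⊓ MulAction.stabilizer G b : Subgroup G) =
      Fintype.card Ω - 2) :
    MulAction.IsMultiplyPretransitive G Ω 3 ∧ ∀ t : Fin 3 ↪ Ω, MulAction.stabilizer G t = ⊥ := by
  classical
  set E := (MulAction.stabilizer G a ⊓ MulAction.stabilizer G b : Subgroup G) with hE
  have htrans : ∀ p q : Ω, p ≠ a → p ≠ b → q ≠ a → q ≠ b → ∃ x ∈ E, x • p = q := by
    intro p q hpa hpb hqa hqb
    let X := {c : Ω // c ≠ a ∧ c ≠ b}
    have hmem : ∀ x : E, (x : G) • p ≠ a ∧ (x : G) • p ≠ b := fun x =>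
      ⟨fun h => hpa (MulAction.injective (x : G) (h.trans (x.2.1 : (x : G) • a = a).symm)),
        fun h => hpb (MulAction.injective (x : G) (h.trans (x.2.2 : (x : G) • b = b).symm))⟩
    have hinj : Function.Injective fun x : E => (⟨(x : G) • p, hmem x⟩ : X) := by
      intro x y h
      have h' : (x : G) • p = (y : G) • p := congrArg Subtype.val h
      by_contra hne
      have hxy : ((y⁻¹ * x : E) : G) ≠ 1 := fun e => hne (inv_mul_eq_one.1 (Subtype.ext e)).symm
      rcases zass_fix_two hZ hxy hab (y⁻¹ * x).2.1 (y⁻¹ * x).2.2 (c := p)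
        (by rw [Subgroup.coe_mul, Subgroup.coe_inv, mul_smul, h', inv_smul_smul]) with e | e
      exacts [hpa e, hpb e]
    have hX : Nat.card X = Fintype.card Ω - 2 := by
      rw [Nat.card_eq_fintype_card, Fintype.card_subtype,
        show (Finset.univ.filter fun c : Ω => c ≠ a ∧ c ≠ b) = Finset.univ \ {a, b} by ext c; simp,
        Finset.card_sdiff_of_subset (Finset.subset_univ _), Finset.card_pair hab, Finset.card_univ]
    obtain ⟨x, hx⟩ := (hinj.bijective_of_nat_card_le (hX.trans hd.symm).le).2 ⟨q, hqa, hqb⟩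
    exact ⟨x, x.2, congrArg Subtype.val hx⟩
  refine ⟨⟨fun s t => ?_⟩, fun t => ?_⟩
  · have hne : ∀ (s : Fin 3 ↪ Ω) (i j : Fin 3), i ≠ j → s i ≠ s j := fun s i j h e => h (s.injective e)
    obtain ⟨g, hg0, hg1⟩ := zass_pre hZ (hne s 0 1 (by decide)) hab
    obtain ⟨k, hk0, hk1⟩ := zass_pre hZ hab (hne t 0 1 (by decide))
    obtain ⟨x, ⟨hxa, hxb⟩, hx⟩ := htrans (g • s 2) (k⁻¹ • t 2)
      (fun e => hne s 2 0 (by decide) (MulAction.injective g (e.trans hg0.symm)))
      (fun e => hne s 2 1 (by decide) (MulAction.injective g (e.trans hg1.symm)))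
      (fun e => hne t 2 0 (by decide) (by rw [← hk0, ← e, smul_inv_smul]))
      (fun e => hne t 2 1 (by decide) (by rw [← hk1, ← e, smul_inv_smul]))
    have hxa' : x • a = a := hxa
    have hxb' : x • b = b := hxb
    refine ⟨k * x * g, Function.Embedding.ext fun i => ?_⟩
    show (k * x * g) • s i = t i
    fin_cases i
    · rw [mul_smul, mul_smul]; simp only [Fin.mk_zero, Fin.zero_eta]; rw [hg0, hxa', hk0]
    · rw [mul_smul, mul_smul]; simp only [Fin.mk_one]; rw [hg1, hxb', hk1]
    · show (k * x * g) • s 2 = t 2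
      rw [mul_smul, mul_smul, hx, smul_inv_smul]
  · rw [Subgroup.eq_bot_iff_forall]
    intro g hg
    have h : ∀ i, g • t i = t i := fun i => DFunLike.congr_fun (hg : g • t = t) i
    exact hZ.2.2.1 g (t 0) (t 1) (t 2) (fun e => by simpa using t.injective e)
      (fun e => by simpa using t.injective e) (fun e => by simpa using t.injective e) (h 0) (h 1) (h 2)

/-- Zassenhaus groups with abelian point kernel. -/
theorem zass_abelian_kernel_classify (hZ : IsZassenhausGroup G Ω) (a : Ω) (H : Subgroup G)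
    (hHa : H ≤ MulAction.stabilizer G a) (hHab : IsMulCommutative H)
    (hreg : ∀ y z : Ω, y ≠ a → z ≠ a → ∃! u : H, (u : G) • y = z) :
    (MulAction.IsMultiplyPretransitive G Ω 3 ∧ ∀ t : Fin 3 ↪ Ω, MulAction.stabilizer G t = ⊥) ∨
      ∃ (K : Type) (_ : Field K) (_ : Fintype K), ringChar K ≠ 2 ∧
        Nonempty (G ≃* Matrix.ProjectiveSpecialLinearGroup (Fin 2) K) := by
  classical
  have h3 := zass_three_le hZ
  haveI : Nontrivial Ω := Fintype.one_lt_card_iff_nontrivial.1 (by omega)
  obtain ⟨b, hb⟩ := exists_ne a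
  have hab : a ≠ b := hb.symm
  have hHfix : ∀ u ∈ H, u ≠ 1 → ∀ c : Ω, u • c = c → c = a := by
    intro u hu hu1 c hc
    by_contra hca
    obtain ⟨w, -, hw⟩ := hreg c c hca hca
    exact hu1 (congrArg Subtype.val ((hw ⟨u, hu⟩ hc).trans (hw 1 (one_smul G c)).symm))
  have hHcard : Nat.card H + 1 = Fintype.card Ω := by
    have hmem : ∀ u : H, (u : G) • b ≠ a := fun u e => hb
      (MulAction.injective (u : G) (e.trans (hHa u.2 : (u : G) • a = a).symm))
    have hbij : Function.Bijective fun u : H => (⟨(u : G) • b, hmem u⟩ : {c : Ω // c ≠ a}) := by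
      refine ⟨fun u v h => ?_, fun z => ?_⟩
      · obtain ⟨w, -, hw⟩ := hreg b ((v : G) • b) hb (hmem v)
        exact (hw u (congrArg Subtype.val h)).trans (hw v rfl).symm
      · obtain ⟨u, hu, -⟩ := hreg b z hb z.2
        exact ⟨u, Subtype.ext hu⟩
    rw [Nat.card_eq_of_bijective _ hbij, Nat.card_eq_fintype_card (α := {c : Ω // c ≠ a}),
      Fintype.card_subtype_compl, Fintype.card_subtype_eq]
    omega
  set d := Nat.card ↥(MulAction.stabilizer G a ⊓ MulAction.stabilizer G b : Subgroup G) with hd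
  have hdvd := zass_card_two_stab_dvd hZ hab
  rw [← hd] at hdvd
  have hle : d ≤ Fintype.card Ω - 2 := Nat.le_of_dvd (by omega) hdvd
  by_cases hfull : d = Fintype.card Ω - 2
  · exact Or.inl (zass_sharply_three hZ hab hfull)
  have hhalf : 2 * d ≤ Fintype.card Ω - 2 := by
    obtain ⟨m, hm⟩ := hdvd
    have hm2 : 2 ≤ m := by
      by_contra hcon
      interval_cases m <;> omega
    rw [hm, mul_comm 2 d]
    exact Nat.mul_le_mul_left d hm2
  right
  have key : ∃ (p f : ℕ) (F : Type) (_ : Field F) (_ : Fintype F), p.Prime ∧ p ≠ 2 ∧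
      Fintype.card F = p ^ f ∧ Fintype.card Ω = p ^ f + 1 ∧
      Nonempty (G ≃* Matrix.ProjectiveSpecialLinearGroup (Fin 2) F) := by
    rcases Nat.even_or_odd d with hev | hod
    · exact iso_psl_of_half hZ hab hev hhalf
    · obtain ⟨hsimple, hge⟩ := zass_abelian_kernel_simple d G Ω hZ a b hab rfl hod H hHa hHcard hHfix
        (fun x hx y hy => congrArg Subtype.val (hHab.is_comm.comm ⟨x, hx⟩ ⟨y, hy⟩))
      haveI := hsimple
      exact iso_psl_of_half_odd hZ hab hod (by rw [← hd]; omega)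
  obtain ⟨p, f, F, iF, iFt, hp, hp2, hF, -, hiso⟩ := key
  refine ⟨F, iF, iFt, fun h => ?_, hiso⟩
  rw [FiniteField.even_card_iff_char_two, hF, Nat.pow_mod] at h
  rcases hp.eq_two_or_odd with h' | h'
  · exact hp2 h'
  · rw [h', one_pow] at h; simp at h

end CfsgLib.Perm
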