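import Cfsg.Agent.Lib.Char.Exceptional.ZassenhausOdd
import Cfsg.Agent.Lib.Perm.ZassenhausEven
import Cfsg.Agent.Lib.Perm.ZassenhausAbelianSimple
import Cfsg.Agent.Lib.Perm.ZassenhausAbelianMain
import Cfsg.Agent.Lib.Perm.SharplyThreeEven

/-! Simple Zassenhaus groups: the two-point stabiliser is cyclic and inverted by a swap. -/

set_option autoImplicit false

open Cfsg
open CfsgLib.Char.Exceptional

namespace CfsgLib.Perm

variable {G Ω : Type*} [Group G] [Finite G] [MulAction G Ω] [Fintype Ω]

/-- With two-point stabilisers of even order, a simple group has the extremal degree. -/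
theorem zass_simple_even_half [IsSimpleGroup G] (hZ : IsZassenhausGroup G Ω) {a b : Ω} (hab : a ≠ b)
    (heven : Even (Nat.card ↥(MulAction.stabilizer G a ⊓ MulAction.stabilizer G b : Subgroup G))) :
    2 * Nat.card ↥(MulAction.stabilizer G a ⊓ MulAction.stabilizer G b : Subgroup G) ≤
      Fintype.card Ω - 2 := by
  classical
  obtain ⟨k, hk⟩ := zass_card_two_stab_dvd hZ hab
  have hlarge := zass_even_large hZ hab heven
  have h3 := zass_three_le hZ
  set d := Nat.card ↥(MulAction.stabilizer G a ⊓ MulAction.stabilizer G b : Subgroup G)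
  have hdpos : 0 < d := Nat.card_pos
  by_contra hlt
  have hk1 : k = 1 := by
    rcases k with _ | _ | k
    · omega
    · rfl
    · exact absurd (Nat.mul_le_mul_left d (show 2 ≤ k + 2 by omega)) (by rw [← hk]; omega)
  subst hk1
  rw [mul_one] at hk
  obtain ⟨h3t, hsharp⟩ := zass_sharply_three hZ hab hk.symm
  obtain ⟨c, hca, hcb⟩ : ∃ c : Ω, c ≠ a ∧ c ≠ b := by
    by_contra hcon
    push Not at hcon
    have : (Finset.univ : Finset Ω) ⊆ {a, b} := fun c _ => by
      by_cases hc : c = a
      · simp [hc]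
      · simp [hcon c hc]
    have h2 := (Finset.card_le_card this).trans Finset.card_le_two
    rw [Finset.card_univ] at h2
    omega
  obtain ⟨s, hsa, hsb, hsc⟩ := SharplyThree.exists_triple h3t hab hca.symm hcb.symm hab.symm hcb.symm hca.symm
  have hev : Even (Fintype.card Ω) := by
    obtain ⟨e, he⟩ := heven
    exact ⟨e + 1, by omega⟩
  obtain ⟨φ, x, hx⟩ := SharplyThree.exists_hom_of_even h3t hsharp hev hab hca.symm hcb.symm hsa hsb hsc
  rcases IsSimpleGroup.eq_bot_or_eq_top_of_normal φ.ker φ.normal_ker with h | h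
  · have hinj := (MonoidHom.ker_eq_bot_iff φ).1 h
    have h2 : Nat.card G ≤ 2 := (Nat.card_le_card_of_injective φ hinj).trans
      (by rw [Nat.card_eq_fintype_card, Fintype.card_units_int])
    have h4 : d ≤ 2 := (Subgroup.card_le_card_group _).trans h2
    obtain ⟨e, he⟩ := heven
    haveI := zass_trans hZ
    have h5 : Fintype.card Ω ≤ 2 := by
      rw [← Nat.card_eq_fintype_card]
      exact (Nat.card_le_card_of_surjective (fun g : G => g • a)
        (MulAction.surjective_smul G a)).trans h2
    omega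
  · have : x ∈ φ.ker := h ▸ Subgroup.mem_top x
    rw [MonoidHom.mem_ker.1 this] at hx
    exact absurd hx (by decide)

/-- The two-point stabiliser of a simple Zassenhaus group is cyclic and inverted by a swap. -/
theorem zass_simple_torus [IsSimpleGroup G] (hZ : IsZassenhausGroup G Ω) {a b : Ω} (hab : a ≠ b) :
    IsCyclic ↥(MulAction.stabilizer G a ⊓ MulAction.stabilizer G b : Subgroup G) ∧
      ∃ v : G, orderOf v = 2 ∧ v • a = b ∧ v • b = a ∧
        ∀ h ∈ (MulAction.stabilizer G a ⊓ MulAction.stabilizer G b : Subgroup G), v * h * v⁻¹ = h⁻¹ := by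
  classical
  obtain ⟨H, hHa, hHcard, hHfix, -⟩ := zass_exists_kernel hZ hab
  set E := (MulAction.stabilizer G a ⊓ MulAction.stabilizer G b : Subgroup G) with hE
  obtain ⟨w, hwa, hwb⟩ := zass_pre hZ hab hab.symm
  obtain ⟨v, hv2, hva, hvb, hinv⟩ : ∃ v : G, orderOf v = 2 ∧ v • a = b ∧ v • b = a ∧
      ∀ h ∈ E, v * h * v⁻¹ = h⁻¹ := by
    rcases Nat.even_or_odd (Nat.card ↥E) with heven | hodd
    · have hd := zass_simple_even_half hZ hab heven
      have hw := (zass_even_swap hZ hab heven hd hwa hwb).1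
      refine ⟨w, hw, hwa, hwb, fun h hh => ?_⟩
      have hwh := (zass_even_swap hZ hab heven hd (s := w * h)
        (by rw [mul_smul, show h • a = a from hh.1, hwa]) (by rw [mul_smul, show h • b = b from hh.2, hwb])).1
      have e1 : w * h * (w * h) = 1 := by rw [← pow_two, ← hwh, pow_orderOf_eq_one]
      have e2 : w * w = 1 := by rw [← pow_two, ← hw, pow_orderOf_eq_one]
      rw [inv_eq_of_mul_eq_one_right e2]
      exact eq_inv_of_mul_eq_one_left (by rw [mul_assoc (w * h), e1])
    · set d := Nat.card ↥E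
      obtain ⟨j, hj⟩ := hodd
      have hwE : w ^ 2 ∈ E := by
        rw [pow_two]
        exact ⟨show (w * w) • a = a by rw [mul_smul, hwa, hwb], show (w * w) • b = b by rw [mul_smul, hwb, hwa]⟩
      have hpow : (w ^ 2) ^ d = 1 :=
        congrArg Subtype.val (pow_card_eq_one' (x := (⟨w ^ 2, hwE⟩ : E)))
      have hv : (w ^ d) • a = b ∧ (w ^ d) • b = a := by
        have hz : (w ^ 2) ^ j ∈ E := E.pow_mem hwE j
        rw [hj, pow_succ', pow_mul]
        exact ⟨by rw [mul_smul, show ((w ^ 2) ^ j) • a = a from hz.1, hwa],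
          by rw [mul_smul, show ((w ^ 2) ^ j) • b = b from hz.2, hwb]⟩
      have hv2 : orderOf (w ^ d) = 2 := orderOf_eq_prime
        (by rw [← pow_mul, mul_comm, pow_mul, hpow])
        (fun e => hab (by rw [← hv.1, e, one_smul]))
      refine ⟨w ^ d, hv2, hv.1, hv.2, fun h hh => ?_⟩
      have := zass_two_stab_inverted hZ hab ⟨j, hj⟩ hv.1 hv.2 h hh
      have e2 : (w ^ d)⁻¹ = w ^ d := inv_eq_of_mul_eq_one_right (by rw [← pow_two, ← hv2, pow_orderOf_eq_one])
      rw [e2] at this ⊢
      exact this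
  refine ⟨?_, v, hv2, hva, hvb, hinv⟩
  haveI : IsMulCommutative E := ⟨⟨fun x y => Subtype.ext (by
    have h1 := hinv _ (mul_mem x.2 y.2)
    rw [show v * ((x : G) * y) * v⁻¹ = (v * x * v⁻¹) * (v * y * v⁻¹) by group, hinv _ x.2, hinv _ y.2,
      ← mul_inv_rev, inv_inj] at h1
    exact h1.symm)⟩⟩
  have h3 := zass_three_le hZ
  have hdisj : ∀ u ∈ H, u • b = b → u = 1 := fun u hu h => by
    by_contra hu1
    exact hab (hHfix u hu hu1 b h).symm
  have hfpf : ∀ x ∈ E, x ≠ 1 → H ⊓ Subgroup.centralizer {x} = ⊥ := by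
    intro x hx hx1
    rw [Subgroup.eq_bot_iff_forall]
    rintro u ⟨hu, hc⟩
    have hc' : u * x = x * u := Subgroup.mem_centralizer_singleton_iff.1 hc
    have h : x • (u • b) = u • b := by
      rw [smul_smul, ← hc', mul_smul, show x • b = b from hx.2]
    rcases zass_fix_two hZ hx1 hab hx.1 hx.2 h with h' | h'
    · exact absurd (MulAction.injective u (h'.trans (hHa hu : u • a = a).symm)) hab.symm
    · exact hdisj u hu h'
  have hHne : H ≠ ⊥ := by
    rintro rfl
    rw [Subgroup.card_bot] at hHcard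
    omega
  have hEH : E ≤ Subgroup.normalizer (H : Set G) := by
    rw [zass_kernel_normalizer hZ hHa hHcard hHfix]
    exact inf_le_left
  exact CfsgLib.Core.FPF.isCyclic_of_isMulCommutative hEH hfpf hHne le_rfl

end CfsgLib.Perm
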