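import Cfsg.Agent.S0727
import Cfsg.Agent.Lib.Perm.SharplyTwo
import Cfsg.Agent.Lib.Recog.PrimeGraph

/-!
# Triply transitive groups of odd degree in which only the identity fixes three points
-/

set_option autoImplicit false

namespace CfsgLib.Perm.SharplyThreeOdd

open MulAction

/-- Such a group is `SL(2, 2^a)` in its action on `2^a + 1` points. -/
theorem exists_iso_sl {α : Type*} [Fintype α] [DecidableEq α] (hm : 3 ≤ Fintype.card α)
    (hodd : Odd (Fintype.card α)) (G : Subgroup (Equiv.Perm α)) (h3 : IsMultiplyPretransitive G α 3)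
    (hfix : ∀ (g : G) (x y z : α), x ≠ y → x ≠ z → y ≠ z → g • x = x → g • y = y → g • z = z → g = 1) :
    ∃ a : ℕ, 1 ≤ a ∧ Fintype.card α = 2 ^ a + 1 ∧ ∃ (F : Type) (_ : Field F) (_ : Fintype F),
      Fintype.card F = 2 ^ a ∧ Nonempty (G ≃* Matrix.SpecialLinearGroup (Fin 2) F) := by
  classical
  haveI := h3
  have hsharp : ∀ x : Fin 3 ↪ α, stabilizer G x = ⊥ := by
    intro x
    rw [Subgroup.eq_bot_iff_forall]
    intro g hg
    have h : ∀ i, g • x i = x i := fun i => DFunLike.congr_fun (mem_stabilizer_iff.1 hg) i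
    exact hfix g (x 0) (x 1) (x 2) (x.injective.ne (by decide)) (x.injective.ne (by decide))
      (x.injective.ne (by decide)) (h 0) (h 1) (h 2)
  obtain ⟨α₀⟩ : Nonempty α := Fintype.card_pos_iff.1 (by omega)
  haveI : IsMultiplyPretransitive G α 1 :=
    isMultiplyPretransitive_of_le (n := 3) (by norm_num) (by rw [Nat.card_eq_fintype_card]; omega)
  haveI : IsPretransitive G α := is_one_pretransitive_iff.1 inferInstance
  have h2 : IsMultiplyPretransitive (stabilizer G α₀) (SubMulAction.ofStabilizer G α₀) 2 :=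
    SubMulAction.ofStabilizer.isMultiplyPretransitive.1 h3
  haveI : Fintype (SubMulAction.ofStabilizer G α₀) := Fintype.ofFinite _
  have hcard : Fintype.card (SubMulAction.ofStabilizer G α₀) + 1 = Fintype.card α := by
    rw [← Nat.card_eq_fintype_card, SubMulAction.nat_card_ofStabilizer_eq, Nat.card_eq_fintype_card]
    omega
  obtain ⟨q, j, -, hq, hj, hqj, -⟩ := CfsgLib.Perm.SharplyTwo.exists_kernel h2 (by omega)
    (fun n c d hcd hc hd => Subtype.ext (hfix n.1 α₀ c.1 d.1 (fun h => c.2 h.symm) (fun h => d.2 h.symm)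
      (fun h => hcd (Subtype.ext h)) n.2 (congrArg Subtype.val hc) (congrArg Subtype.val hd)))
  have hq2 : q = 2 := by
    have h2 : 2 ∣ Fintype.card (SubMulAction.ofStabilizer G α₀) := by
      obtain ⟨k, hk⟩ := hodd
      exact ⟨k, by omega⟩
    rw [hqj] at h2
    exact ((Nat.prime_dvd_prime_iff_eq Nat.prime_two hq).1 (Nat.prime_two.dvd_of_dvd_pow h2)).symm
  subst hq2
  have hm' : Fintype.card α = 2 ^ j + 1 := by omega
  obtain ⟨F, _, _, hF, ⟨e⟩⟩ := Cfsg.Agent.S0727.result hj hm' G h3 hsharp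
  haveI : Fact (Nat.Prime 2) := ⟨Nat.prime_two⟩
  haveI : CharP F 2 := charP_of_card_eq_prime_pow (f := j) hF
  obtain ⟨g⟩ := CfsgLib.Recog.AffineTwo.psl_equiv_sl F
  have hsurj : Function.Surjective (Matrix.ProjectiveSpecialLinearGroup.toPGL (n := Fin 2) (R := F)) := by
    refine Matrix.ProjectiveSpecialLinearGroup.toPGL_surj_of_roots fun r => ?_
    obtain ⟨k, hk⟩ := FiniteField.isSquare_of_char_two (ringChar.eq F 2) (r : F)
    have hk0 : k ≠ 0 := fun h => r.ne_zero (by rw [hk, h, mul_zero])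
    exact ⟨Units.mk0 k hk0, Units.ext (by rw [Units.val_pow_eq_pow_val, Fintype.card_fin, pow_two, Units.val_mk0, hk])⟩
  exact ⟨j, hj, hm', F, inferInstance, inferInstance, hF,
    ⟨(e.trans (MulEquiv.ofBijective _ ⟨Matrix.ProjectiveSpecialLinearGroup.toPGL_injective, hsurj⟩).symm).trans g⟩⟩

end CfsgLib.Perm.SharplyThreeOdd
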