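import Mathlib
import Cfsg.Agent.Lib.Perm.ZassenhausAbelianSimple
import Cfsg.Agent.Lib.Char.Exceptional.ZassenhausCount

/-! Normal subgroups of Zassenhaus groups. -/

set_option autoImplicit false

open Cfsg
open CfsgLib.Char.Exceptional

universe u v

namespace CfsgLib.Perm

variable {G : Type u} {Ω : Type v} [Group G] [MulAction G Ω] [Fintype Ω]

omit [Fintype Ω] in
theorem zass_group_finite [Finite Ω] (hZ : IsZassenhausGroup G Ω) : Finite G := by
  haveI := hZ.1
  refine Finite.of_injective (fun g : G => fun x : Ω => g • x) fun g k h => ?_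
  exact FaithfulSMul.eq_of_smul_eq_smul fun x => congrFun h x

/-- A regular normal subgroup of `G` is impossible. -/
theorem zass_no_regular (hZ : IsZassenhausGroup G Ω) (M : Subgroup G) (hMn : M.Normal)
    (hMt : ∀ p p' : Ω, ∃ m ∈ M, m • p = p') (hMf : ∀ m ∈ M, ∀ c : Ω, m • c = c → m = 1) : False := by
  obtain ⟨p, hp⟩ := hZ.2.2.2.2 M hMn ⟨fun p p' => by
    obtain ⟨m, hm, hm'⟩ := hMt p p'
    exact ⟨⟨m, hm⟩, hm'⟩⟩
  refine hp ((Subgroup.eq_bot_iff_forall _).2 fun m hm => Subtype.ext ?_)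
  exact hMf m m.2 p hm

theorem zass_normal_transitive (hZ : IsZassenhausGroup G Ω) (N : Subgroup G) [N.Normal] (hN : N ≠ ⊥) :
    MulAction.IsPretransitive N Ω := by
  haveI := hZ.1
  haveI := hZ.2.1
  haveI : MulAction.IsPreprimitive G Ω := MulAction.isPreprimitive_of_is_two_pretransitive hZ.2.1
  exact Jordan.isPretransitive_of_normal (X := Ω) N hN

/-- A non-trivial normal subgroup meets every two-point stabiliser non-trivially. -/
theorem zass_normal_meets (hZ : IsZassenhausGroup G Ω) (N : Subgroup G) [N.Normal] (hN : N ≠ ⊥)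
    {a b : Ω} (hab : a ≠ b) : ∃ x ∈ N, x ≠ 1 ∧ x • a = a ∧ x • b = b := by
  classical
  haveI := zass_group_finite hZ
  haveI := zass_normal_transitive hZ N hN
  have h3 := zass_three_le hZ
  by_contra hcon
  push Not at hcon
  have hfix : ∀ n : N, ∀ p p' : Ω, p ≠ p' → n • p = p → n • p' = p' → n = 1 := by
    intro n p p' hpp hp hp'
    by_contra hn
    obtain ⟨k, hka, hkb⟩ := zass_pre hZ hpp hab
    refine hcon (k * n * k⁻¹) (Subgroup.Normal.conj_mem ‹_› _ n.2 k)
      (fun h => hn (Subtype.ext (conj_eq_one_iff.1 h))) ?_ ?_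
    · rw [← hka, mul_smul, mul_smul, inv_smul_smul, show (n : G) • p = p from hp]
    · rw [← hkb, mul_smul, mul_smul, inv_smul_smul, show (n : G) • p' = p' from hp']
  obtain ⟨K, -, hKmem, hKcard⟩ := SharplyTwo.exists_fpf_kernel (G := N) a (by omega) hfix
  have hfree : ∀ n ∈ K, ∀ c : Ω, n • c = c → n = 1 := fun n hn c hc =>
    ((hKmem n).1 hn).resolve_right fun h => h c hc
  refine zass_no_regular hZ (K.map N.subtype) ⟨?_⟩ ?_ ?_
  · rintro _ ⟨n, hn, rfl⟩ g
    refine ⟨⟨g * n * g⁻¹, Subgroup.Normal.conj_mem ‹_› _ n.2 g⟩, (hKmem _).2 ?_, rfl⟩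
    rcases (hKmem n).1 hn with h | h
    · left
      exact Subtype.ext (by simp [h])
    · right
      intro y hy
      refine h (g⁻¹ • y) ?_
      show (n : G) • g⁻¹ • y = g⁻¹ • y
      have hy' : (g * (n : G) * g⁻¹) • y = y := hy
      rw [mul_smul, mul_smul, smul_eq_iff_eq_inv_smul] at hy'
      exact hy'
  · intro p p'
    have hbij : Function.Bijective fun k : K => ((k : N) : G) • p := by
      refine Function.Injective.bijective_of_nat_card_le (fun k l h => ?_)
        (by rw [hKcard, Nat.card_eq_fintype_card])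
      have h1 := hfree _ (K.mul_mem (K.inv_mem l.2) k.2) p (by
        show (((l : N) : G)⁻¹ * ((k : N) : G)) • p = p
        rw [mul_smul, show ((k : N) : G) • p = ((l : N) : G) • p from h, inv_smul_smul])
      exact Subtype.ext (inv_mul_eq_one.1 h1).symm
    obtain ⟨k, hk⟩ := hbij.2 p'
    exact ⟨_, Subgroup.mem_map_of_mem N.subtype k.2, hk⟩
  · rintro _ ⟨n, hn, rfl⟩ c hc
    rw [hfree n hn c hc, map_one]

/-- A non-trivial normal subgroup contains the point kernels. -/
theorem zass_normal_kernel_le (hZ : IsZassenhausGroup G Ω) (N : Subgroup G) [N.Normal] (hN : N ≠ ⊥)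
    {a b : Ω} (hab : a ≠ b) {H : Subgroup G} (hHa : H ≤ MulAction.stabilizer G a)
    (hHcard : Nat.card H + 1 = Fintype.card Ω)
    (hHfix : ∀ u ∈ H, u ≠ 1 → ∀ c : Ω, u • c = c → c = a) : H ≤ N := by
  haveI := zass_group_finite hZ
  obtain ⟨x, hxN, hx1, hxa, hxb⟩ := zass_normal_meets hZ N hN hab
  have hnorm := zass_kernel_normalizer hZ hHa hHcard hHfix
  have hxH : ∀ u ∈ H, x * u * x⁻¹ ∈ H := fun u hu =>
    (Subgroup.mem_set_normalizer_iff.1 (hnorm.ge hxa) u).1 hu
  have hmem : ∀ u : H, x * u * x⁻¹ * (u : G)⁻¹ ∈ H := fun u => mul_mem (hxH u u.2) (inv_mem u.2)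
  have hinj : Function.Injective fun u : H => (⟨_, hmem u⟩ : H) := by
    intro u v huv
    have h1 : x * u * x⁻¹ * (u : G)⁻¹ = x * v * x⁻¹ * (v : G)⁻¹ := congrArg Subtype.val huv
    set y := (v : G)⁻¹ * u with hy
    have hyx : x * y * x⁻¹ = y := by
      calc x * y * x⁻¹ = (x * v * x⁻¹)⁻¹ * (x * u * x⁻¹ * (u : G)⁻¹) * u := by rw [hy]; group
        _ = y := by rw [h1, hy]; group
    by_contra hne
    have hy1 : y ≠ 1 := fun h => hne (Subtype.ext (inv_mul_eq_one.1 h).symm)
    have hyH : y ∈ H := mul_mem (inv_mem v.2) u.2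
    have hfix : x • (y • b) = y • b := by
      rw [← mul_smul, show x * y = (x * y * x⁻¹) * x by group, hyx, mul_smul, hxb]
    rcases zass_fix_two hZ hx1 hab hxa hxb hfix with h | h
    · exact hab (MulAction.injective y ((hHa hyH : y • a = a).trans h.symm))
    · exact hab (hHfix y hyH hy1 b h).symm
  intro v hv
  obtain ⟨u, hu⟩ := (Finite.surjective_of_injective hinj) ⟨v, hv⟩
  have hu' : x * u * x⁻¹ * (u : G)⁻¹ = v := congrArg Subtype.val hu
  rw [← hu', show x * u * x⁻¹ * (u : G)⁻¹ = x * ((u : G) * x⁻¹ * (u : G)⁻¹) by group]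
  exact N.mul_mem hxN (Subgroup.Normal.conj_mem ‹_› _ (N.inv_mem hxN) _)

/-- A non-trivial normal subgroup of a Zassenhaus group is one. -/
theorem zass_normal_isZassenhaus (hZ : IsZassenhausGroup G Ω) (N : Subgroup G) [N.Normal] (hN : N ≠ ⊥) :
    IsZassenhausGroup N Ω := by
  classical
  haveI := zass_group_finite hZ
  haveI := hZ.1
  haveI := zass_normal_transitive hZ N hN
  have h3 := zass_three_le hZ
  haveI : Nontrivial Ω := Fintype.one_lt_card_iff_nontrivial.1 (by omega)
  obtain ⟨a, b, hab⟩ := exists_pair_ne Ω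
  obtain ⟨H, hHa, hHcard, hHfix, -⟩ := zass_exists_kernel hZ hab
  have hHN := zass_normal_kernel_le hZ N hN hab hHa hHcard hHfix
  have hHtrans : ∀ p q : Ω, p ≠ a → q ≠ a → ∃ u ∈ H, u • p = q := by
    intro p q hp hq
    have hbij : Function.Bijective (fun u : H => (⟨(u : G) • p, fun e => hp (MulAction.injective (u : G)
        (e.trans (hHa u.2 : (u : G) • a = a).symm))⟩ : {x : Ω // x ≠ a})) := by
      refine Function.Injective.bijective_of_nat_card_le (fun u v e => ?_) ?_
      · by_contra huv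
        have h1 : (v : G)⁻¹ * u ≠ 1 := fun h => huv (Subtype.ext (inv_mul_eq_one.1 h).symm)
        exact hp (hHfix _ (mul_mem (inv_mem v.2) u.2) h1 p
          (by rw [mul_smul]; exact inv_smul_eq_iff.2 (congrArg Subtype.val e)))
      · rw [Nat.card_eq_fintype_card (α := {x : Ω // x ≠ a}), Fintype.card_subtype_compl,
          Fintype.card_subtype_eq]
        omega
    obtain ⟨u, hu⟩ := hbij.2 ⟨q, hq⟩
    exact ⟨u, u.2, congrArg Subtype.val hu⟩
  have hN2 : MulAction.IsMultiplyPretransitive N Ω 2 := by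
    rw [MulAction.is_two_pretransitive_iff]
    have hto : ∀ p p' : Ω, p ≠ p' → ∃ n : N, n • p = a ∧ n • p' = b := by
      intro p p' hp
      obtain ⟨n, hn⟩ := MulAction.exists_smul_eq N p a
      obtain ⟨u, hu, hub⟩ := hHtrans (n • p') b
        (fun e => hp (MulAction.injective n (hn.trans e.symm))) hab.symm
      refine ⟨⟨u, hHN hu⟩ * n, ?_, ?_⟩
      · rw [mul_smul, hn]; exact (hHa hu : u • a = a)
      · rw [mul_smul]; exact hub
    intro p p' q₁ q₂ hp hq'
    obtain ⟨n, hn1, hn2⟩ := hto p p' hp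
    obtain ⟨m, hm1, hm2⟩ := hto q₁ q₂ hq'
    exact ⟨m⁻¹ * n, by rw [mul_smul, hn1, inv_smul_eq_iff, hm1],
      by rw [mul_smul, hn2, inv_smul_eq_iff, hm2]⟩
  obtain ⟨x, hxN, hx1, hxa, hxb⟩ := zass_normal_meets hZ N hN hab
  set x' : N := ⟨x, hxN⟩ with hx'
  have hxfix : ∀ c : Ω, x' • c = c → c = a ∨ c = b := fun c hc => zass_fix_two hZ hx1 hab hxa hxb hc
  refine ⟨inferInstance, hN2, fun g p p' p'' h1 h2 h3 e1 e2 e3 => Subtype.ext (hZ.2.2.1 g p p' p'' h1 h2 h3 e1 e2 e3),
    ⟨x', fun h => hx1 (congrArg Subtype.val h), a, b, hab, hxa, hxb⟩, fun M hMn hMt => ?_⟩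
  by_contra hcon
  push Not at hcon
  have hMfree : ∀ m ∈ M, ∀ c : Ω, m • c = c → m = 1 := fun m hm c hc => by
    have : (⟨m, hm⟩ : M) ∈ MulAction.stabilizer M c := hc
    rw [hcon c, Subgroup.mem_bot] at this
    exact congrArg Subtype.val this
  have hMinv : ∀ g : G, M.map (MulAut.conjNormal g).toMonoidHom = M := by
    intro g
    set M' := M.map (MulAut.conjNormal g : MulAut N).toMonoidHom with hM'
    haveI : M'.Normal := Subgroup.Normal.map hMn _ (MulAut.conjNormal g).surjective
    haveI : MulAction.IsPretransitive M' Ω := ⟨fun p p' => by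
      obtain ⟨m, hm⟩ := MulAction.exists_smul_eq M (g⁻¹ • p) (g⁻¹ • p')
      refine ⟨⟨_, Subgroup.mem_map_of_mem _ m.2⟩, ?_⟩
      show ((MulAut.conjNormal g (m : N) : N) : G) • p = p'
      rw [MulAut.conjNormal_apply, mul_smul, mul_smul]
      have hm' : ((m : N) : G) • g⁻¹ • p = g⁻¹ • p' := hm
      rw [hm', smul_inv_smul]⟩
    haveI := hMn
    have hM'free : ∀ m ∈ M', ∀ c : Ω, m • c = c → m = 1 := by
      rintro _ ⟨m, hm, rfl⟩ c hc
      have hc' : ((MulAut.conjNormal g m : N) : G) • c = c := hc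
      rw [MulAut.conjNormal_apply, mul_smul, mul_smul, smul_eq_iff_eq_inv_smul] at hc'
      rw [hMfree m hm _ hc', map_one]
    exact le_antisymm (zass_regular_normal_eq hN2 hab (x := x') hxa hxb hxfix hMfree hM'free)
      (zass_regular_normal_eq hN2 hab (x := x') hxa hxb hxfix hM'free hMfree)
  refine zass_no_regular hZ (M.map N.subtype) ⟨?_⟩ ?_ ?_
  · rintro _ ⟨n, hn, rfl⟩ g
    refine ⟨MulAut.conjNormal g n, ?_, ?_⟩
    · show MulAut.conjNormal g n ∈ M
      rw [← hMinv g]
      exact Subgroup.mem_map_of_mem _ hn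
    · exact MulAut.conjNormal_apply g n
  · intro p p'
    obtain ⟨m, hm⟩ := MulAction.exists_smul_eq M p p'
    exact ⟨_, Subgroup.mem_map_of_mem N.subtype m.2, hm⟩
  · rintro _ ⟨n, hn, rfl⟩ c hc
    rw [hMfree n hn c hc, map_one]

open Classical in
/-- A Zassenhaus group of odd degree is simple. -/
theorem zass_odd_degree_simple (hZ : IsZassenhausGroup G Ω) (hoddn : Odd (Fintype.card Ω)) :
    IsSimpleGroup G := by
  haveI := zass_group_finite hZ
  haveI := Fintype.ofFinite G
  haveI := hZ.1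
  haveI := zass_trans hZ
  have h3 := zass_three_le hZ
  haveI : Nontrivial Ω := Fintype.one_lt_card_iff_nontrivial.1 (by omega)
  obtain ⟨a, b, hab⟩ := exists_pair_ne Ω
  obtain ⟨x0, hx01, hx0a, hx0b⟩ := zass_two_stab_ne_bot hZ hab
  haveI : Nontrivial G := ⟨⟨x0, 1, hx01⟩⟩
  refine ⟨fun N hN => or_iff_not_imp_left.2 fun hN1 => ?_⟩
  haveI := hN
  obtain ⟨H, hHa, hHcard, hHfix, -⟩ := zass_exists_kernel hZ hab
  have hHN := zass_normal_kernel_le hZ N hN1 hab hHa hHcard hHfix
  set E := (MulAction.stabilizer G a ⊓ MulAction.stabilizer G b : Subgroup G) with hE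
  have hdvd := zass_card_two_stab_dvd hZ hab
  rw [← hE] at hdvd
  obtain ⟨j, hj⟩ := hoddn
  have hoddE : Odd (Nat.card E) := Odd.of_dvd_nat ⟨j - 1, by omega⟩ hdvd
  set I := Finset.univ.filter fun t : G => orderOf t = 2 with hI
  have hsq : ∀ t ∈ I, ∀ p : Ω, t • t • p = p := fun t ht p => by
    rw [smul_smul, ← pow_two, ← (Finset.mem_filter.1 ht).2, pow_orderOf_eq_one, one_smul]
  have hfix1 : ∀ t ∈ I, (Finset.univ.filter fun c : Ω => t • c = c).card = 1 := by
    intro t ht
    have hle : (Finset.univ.filter fun c : Ω => t • c = c).card ≤ 1 :=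
      Finset.card_le_one.2 fun p hp q hq => zass_involution_fix_le hZ hab hoddE (Finset.mem_filter.1 ht).2
        (Finset.mem_filter.1 hp).2 (Finset.mem_filter.1 hq).2
    have hσ : (MulAction.toPermHom G Ω t) ^ 2 ^ 1 = 1 := by
      rw [pow_one, ← map_pow, ← (Finset.mem_filter.1 ht).2, pow_orderOf_eq_one, map_one]
    haveI := Fact.mk Nat.prime_two
    have h := Equiv.Perm.card_compl_support_modEq hσ
    have he : (MulAction.toPermHom G Ω t).supportᶜ = Finset.univ.filter fun c : Ω => t • c = c := by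
      ext c; simp
    rw [he] at h
    have h' : (Finset.univ.filter fun c : Ω => t • c = c).card % 2 = Fintype.card Ω % 2 := h
    omega
  have hconj : ∀ (g : G), ∀ t ∈ I, g * t * g⁻¹ ∈ I := fun g t ht => Finset.mem_filter.2
    ⟨Finset.mem_univ _, ((MulAut.conj g).orderOf_eq t).trans (Finset.mem_filter.1 ht).2⟩
  -- involutions lie in `N`
  have hIN : ∀ t ∈ I, t ∈ N := by
    intro t ht
    obtain ⟨c, hc⟩ := Finset.card_eq_one.1 (hfix1 t ht)
    have htc : t • c = c := (Finset.mem_filter.1 (hc ▸ Finset.mem_singleton_self c :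
      c ∈ Finset.univ.filter fun c : Ω => t • c = c)).2
    obtain ⟨g, hg⟩ := MulAction.exists_smul_eq G c a
    have h1 : g * t * g⁻¹ ∈ H := by
      refine zass_mem_kernel hZ hHa hHcard hHfix (by rw [← hg, mul_smul, mul_smul, inv_smul_smul, htc]) ?_
      intro p hp
      have hp' : t • g⁻¹ • p = g⁻¹ • p := by
        rw [mul_smul, mul_smul, smul_eq_iff_eq_inv_smul] at hp
        exact hp
      have : g⁻¹ • p ∈ ({c} : Finset Ω) := hc ▸ Finset.mem_filter.2 ⟨Finset.mem_univ _, hp'⟩
      rw [Finset.mem_singleton, inv_smul_eq_iff, hg] at this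
      exact this
    have h2 := Subgroup.Normal.conj_mem hN _ (hHN h1) g⁻¹
    rwa [show g⁻¹ * (g * t * g⁻¹) * g⁻¹⁻¹ = t by group] at h2
  -- the involutions of a point kernel
  set k := (I.filter fun t => t • a = a).card with hk
  have hfixc : ∀ c : Ω, (I.filter fun t => t • c = c).card = k := by
    intro c
    obtain ⟨g, rfl⟩ := MulAction.exists_smul_eq G a c
    refine (Finset.card_equiv (MulAut.conj g).toEquiv fun t => ?_).symm
    simp only [I, Finset.mem_filter, Finset.mem_univ, true_and]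
    show _ ↔ orderOf ((MulAut.conj g) t) = 2 ∧ _
    rw [(MulAut.conj g).orderOf_eq]
    refine and_congr_right fun _ => ?_
    show _ ↔ (g * t * g⁻¹) • g • a = g • a
    rw [mul_smul, mul_smul, inv_smul_smul, smul_left_cancel_iff]
  have hIcard : I.card = Fintype.card Ω * k := by
    rw [← smul_eq_mul, ← Finset.card_univ, ← Finset.sum_const, ← Finset.sum_congr rfl (fun c _ => hfixc c)]
    simp only [Finset.card_filter]
    rw [Finset.sum_comm, Finset.card_eq_sum_ones I]
    refine Finset.sum_congr rfl fun t ht => ?_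
    rw [← Finset.card_filter, hfix1 t ht]
  -- swaps of a pair
  set c₀ := (I.filter fun t => t • a = b).card with hc₀
  have hpair : ∀ p q : Ω, p ≠ q → (I.filter fun t => t • p = q).card = c₀ := by
    intro p q hpq
    obtain ⟨g, hga, hgb⟩ := zass_pre hZ hpq hab
    refine Finset.card_equiv (MulAut.conj g).toEquiv fun t => ?_
    simp only [I, Finset.mem_filter, Finset.mem_univ, true_and]
    show _ ↔ orderOf ((MulAut.conj g) t) = 2 ∧ _
    rw [(MulAut.conj g).orderOf_eq]
    refine and_congr_right fun _ => ?_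
    show _ ↔ (g * t * g⁻¹) • a = b
    rw [← hga, ← hgb, mul_smul, mul_smul, inv_smul_smul, smul_left_cancel_iff]
  have hc₀k : c₀ = k := by
    have h1 : ∑ c : Ω, (I.filter fun t => ¬ t • c = c).card = Fintype.card Ω * ((Fintype.card Ω - 1) * c₀) := by
      rw [Finset.sum_congr rfl (g := fun _ => (Fintype.card Ω - 1) * c₀) fun c _ => ?_, Finset.sum_const,
        Finset.card_univ, smul_eq_mul]
      rw [Finset.card_eq_sum_card_fiberwise (f := fun t : G => t • c) (t := Finset.univ.erase c)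
        (fun t ht => Finset.mem_coe.2 (Finset.mem_erase.2
          ⟨(Finset.mem_filter.1 (Finset.mem_coe.1 ht)).2, Finset.mem_univ _⟩))]
      rw [Finset.sum_congr rfl (g := fun _ => c₀) fun q hq => ?_, Finset.sum_const,
        Finset.card_erase_of_mem (Finset.mem_univ c), Finset.card_univ, smul_eq_mul]
      rw [← hpair c q (Finset.mem_erase.1 hq).1.symm]
      congr 1
      ext t
      simp only [Finset.mem_filter]
      exact ⟨fun h => ⟨h.1.1, h.2⟩, fun h => ⟨⟨h.1, h.2 ▸ (Finset.mem_erase.1 hq).1⟩, h.2⟩⟩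
    have h2 : ∑ c : Ω, (I.filter fun t => ¬ t • c = c).card = I.card * (Fintype.card Ω - 1) := by
      simp only [Finset.card_filter]
      rw [Finset.sum_comm, ← smul_eq_mul, ← Finset.sum_const]
      refine Finset.sum_congr rfl fun t ht => ?_
      rw [← Finset.card_filter]
      have h3 := Finset.card_filter_add_card_filter_not (s := (Finset.univ : Finset Ω)) (fun c : Ω => t • c = c)
      rw [hfix1 t ht, Finset.card_univ] at h3
      omega
    rw [h2, hIcard, mul_assoc, mul_comm k] at h1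
    exact (Nat.eq_of_mul_eq_mul_left (by omega) (Nat.eq_of_mul_eq_mul_left (by omega) h1)).symm
  have hkpos : 0 < k := by
    rcases Nat.eq_zero_or_pos k with h0 | h0
    · exfalso
      have hI0 : I.card = 0 := by rw [hIcard, h0, mul_zero]
      obtain ⟨t, ht⟩ := exists_prime_orderOf_dvd_card' (G := G) (hp := ⟨Nat.prime_two⟩) 2 (by
        rw [zass_card hZ hab, show Fintype.card Ω - 1 = 2 * j by omega]
        exact ⟨Fintype.card Ω * (j * Nat.card E), by ring⟩)
      rw [Finset.card_eq_zero] at hI0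
      exact Finset.notMem_empty t (hI0 ▸ Finset.mem_filter.2 ⟨Finset.mem_univ t, ht⟩)
    · exact h0
  -- the two-point stabiliser acts freely on the involutions fixing `a`
  have hdk : Nat.card E ≤ k := by
    obtain ⟨t, ht⟩ := Finset.card_pos.1 (hk ▸ hkpos)
    obtain ⟨htI, hta⟩ := Finset.mem_filter.1 ht
    rw [hk, ← Fintype.card_coe, ← Nat.card_eq_fintype_card]
    refine Nat.card_le_card_of_injective (fun x : E => (⟨(x : G) * t * (x : G)⁻¹,
      Finset.mem_filter.2 ⟨hconj x t htI, by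
        rw [mul_smul, mul_smul, inv_smul_eq_iff.2 (x.2.1 : (x : G) • a = a).symm, hta,
          (x.2.1 : (x : G) • a = a)]⟩⟩ : ↥(I.filter fun t => t • a = a))) fun x y hxy => ?_
    have hxy' : (x : G) * t * (x : G)⁻¹ = (y : G) * t * (y : G)⁻¹ := congrArg Subtype.val hxy
    by_contra hne
    set z := (y : G)⁻¹ * x with hz
    have hz1 : z ≠ 1 := fun h => hne (Subtype.ext (inv_mul_eq_one.1 h).symm)
    have hzt : z * t * z⁻¹ = t := by
      calc z * t * z⁻¹ = (y : G)⁻¹ * ((x : G) * t * (x : G)⁻¹) * y := by rw [hz]; group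
        _ = t := by rw [hxy']; group
    have hzE : z ∈ E := mul_mem (inv_mem y.2) x.2
    have h : z • (t • b) = t • b := by
      rw [← mul_smul, show z * t = z * t * z⁻¹ * z by group, hzt, mul_smul, show z • b = b from hzE.2]
    rcases zass_fix_two hZ hz1 hab hzE.1 hzE.2 h with h' | h'
    · exact hab (MulAction.injective t (hta.trans h'.symm))
    · exact hab (zass_involution_fix_le hZ hab hoddE (Finset.mem_filter.1 htI).2 hta h')
  obtain ⟨w, hw⟩ := Finset.card_pos.1 (show 0 < (I.filter fun t => t • a = b).card by omega)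
  obtain ⟨hwI, hwab⟩ := Finset.mem_filter.1 hw
  have hkE : k ≤ Nat.card ↥(E ⊓ N) := by
    rw [← hc₀k, hc₀, ← Fintype.card_coe, ← Nat.card_eq_fintype_card]
    refine Nat.card_le_card_of_injective (fun t : ↥(I.filter fun t => t • a = b) =>
      (⟨w * t, ⟨?_, ?_⟩, ?_⟩ : ↥(E ⊓ N))) fun t t' h => ?_
    · show (w * (t : G)) • a = a
      rw [mul_smul, (Finset.mem_filter.1 t.2).2, ← hwab, hsq w hwI]
    · show (w * (t : G)) • b = b
      have e1 : (t : G) • a = b := (Finset.mem_filter.1 t.2).2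
      have e2 : (t : G) • b = a :=
        (congrArg ((t : G) • ·) e1).symm.trans (hsq _ (Finset.mem_filter.1 t.2).1 a)
      rw [mul_smul, e2, hwab]
    · exact N.mul_mem (hIN w hwI) (hIN _ (Finset.mem_filter.1 t.2).1)
    · exact Subtype.ext (mul_left_cancel (congrArg Subtype.val h))
  have hEN : E ≤ N := by
    have h : E ⊓ N = E := Subgroup.eq_of_le_of_card_ge inf_le_left (hdk.trans hkE)
    rw [← h]; exact inf_le_right
  haveI := zass_normal_transitive hZ N hN1
  have hstab : ∀ g : G, g • a = a → g ∈ N := by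
    intro g hg
    by_cases hgb : g • b = b
    · exact hEN ⟨hg, hgb⟩
    have hmem : ∀ u : H, (u : G) • b ≠ a := fun u e => hab.symm
      (MulAction.injective (u : G) (e.trans (hHa u.2 : (u : G) • a = a).symm))
    have hbij : Function.Bijective fun u : H => (⟨(u : G) • b, hmem u⟩ : {c : Ω // c ≠ a}) := by
      refine Function.Injective.bijective_of_nat_card_le (fun u v e => ?_) ?_
      · by_contra huv
        exact hab (hHfix _ (mul_mem (inv_mem v.2) u.2) (fun h => huv (Subtype.ext (inv_mul_eq_one.1 h).symm)) b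
          (by rw [mul_smul]; exact inv_smul_eq_iff.2 (congrArg Subtype.val e))).symm
      · rw [Nat.card_eq_fintype_card (α := {x : Ω // x ≠ a}), Fintype.card_subtype_compl,
          Fintype.card_subtype_eq]
        omega
    obtain ⟨u, hu⟩ := hbij.2 ⟨g • b, fun e => hab.symm (MulAction.injective g (e.trans hg.symm))⟩
    have hu' : (u : G) • b = g • b := congrArg Subtype.val hu
    rw [show g = (u : G) * ((u : G)⁻¹ * g) by group]
    refine N.mul_mem (hHN u.2) (hEN ⟨?_, ?_⟩)
    · show ((u : G)⁻¹ * g) • a = a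
      rw [mul_smul, hg, inv_smul_eq_iff, (hHa u.2 : (u : G) • a = a)]
    · show ((u : G)⁻¹ * g) • b = b
      rw [mul_smul, ← hu', inv_smul_smul]
  rw [eq_top_iff]
  intro g _
  obtain ⟨⟨n, hn⟩, hna⟩ := MulAction.exists_smul_eq N a (g • a)
  change n • a = g • a at hna
  rw [show g = n * (n⁻¹ * g) by group]
  exact N.mul_mem hn (hstab _ (by rw [mul_smul, ← hna, inv_smul_smul]))

/-- The structure equation in a simple Zassenhaus group with abelian point kernel of even order. -/
theorem zass_structure_equation [Finite G] [IsSimpleGroup G] (hZ : IsZassenhausGroup G Ω) {a : Ω}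
    (U : Subgroup G) (hUle : U ≤ MulAction.stabilizer G a)
    (hreg : ∀ c d : Ω, c ≠ a → d ≠ a → ∃! u : U, (u : G) • c = d)
    (hU2 : IsPGroup 2 U) (hUab : ∀ u ∈ U, ∀ u' ∈ U, u * u' = u' * u)
    (v : G) (hv1 : v ≠ 1) (hv2 : v * v = 1) (hva : v • a ≠ a) :
    ∃! u₀ : G, u₀ ∈ U ∧ u₀ ≠ 1 ∧ v * u₀ * v = u₀ * v * u₀ := by
  classical
  haveI := Fintype.ofFinite G
  haveI := hZ.1
  have h3 := zass_three_le hZ
  set b := v • a with hb
  have hab : a ≠ b := Ne.symm hva
  have hvb : v • b = a := by rw [hb, smul_smul, hv2, one_smul]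
  have hvord : orderOf v = 2 := orderOf_eq_prime (by rw [pow_two, hv2]) hv1
  have hHfix : ∀ u ∈ U, u ≠ 1 → ∀ c : Ω, u • c = c → c = a := by
    intro u hu hu1 c hc
    by_contra hca
    obtain ⟨w, -, hw⟩ := hreg c c hca hca
    exact hu1 (congrArg Subtype.val ((hw ⟨u, hu⟩ hc).trans (hw 1 (one_smul G c)).symm))
  have hHcard : Nat.card U + 1 = Fintype.card Ω := by
    have hmem : ∀ u : U, (u : G) • b ≠ a := fun u e => hva
      (MulAction.injective (u : G) (e.trans (hUle u.2 : (u : G) • a = a).symm))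
    have hbij : Function.Bijective fun u : U => (⟨(u : G) • b, hmem u⟩ : {c : Ω // c ≠ a}) := by
      refine ⟨fun u w h => ?_, fun z => ?_⟩
      · obtain ⟨y, -, hy⟩ := hreg b ((w : G) • b) hva (hmem w)
        exact (hy u (congrArg Subtype.val h)).trans (hy w rfl).symm
      · obtain ⟨u, hu, -⟩ := hreg b z hva z.2
        exact ⟨u, Subtype.ext hu⟩
    rw [Nat.card_eq_of_bijective _ hbij, Nat.card_eq_fintype_card (α := {c : Ω // c ≠ a}),
      Fintype.card_subtype_compl, Fintype.card_subtype_eq]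
    omega
  set E := (MulAction.stabilizer G a ⊓ MulAction.stabilizer G b : Subgroup G) with hE
  obtain ⟨m, hm⟩ := IsPGroup.iff_card.1 hU2
  have hm0 : m ≠ 0 := by rintro rfl; omega
  have hdvd := zass_card_two_stab_dvd hZ hab
  rw [← hE] at hdvd
  obtain ⟨m', rfl⟩ : ∃ m', m = m' + 1 := ⟨m - 1, by omega⟩
  rw [pow_succ] at hm
  have hoddE : Odd (Nat.card E) := Odd.of_dvd_nat ⟨2 ^ m' - 1, by
    have := Nat.one_le_two_pow (n := m'); omega⟩ hdvd
  -- sharply triply transitive: the kernel is elementary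
  have hfull : Nat.card E = Fintype.card Ω - 2 := by
    have h1 := zass_abelian_kernel_bound hZ hab hoddE hUle hHcard hHfix hUab
    rw [← hE] at h1
    obtain ⟨r, hr⟩ := hdvd
    have hr2 : r ≤ 2 := by
      by_contra hcon
      have : Nat.card E * 3 ≤ Nat.card E * r := Nat.mul_le_mul_left _ (by omega)
      have := Nat.card_pos (α := E)
      omega
    interval_cases r <;> omega
  have hexp : ∀ u ∈ U, u * u = 1 := by
    intro u hu
    by_cases hu1 : u = 1
    · rw [hu1, one_mul]
    haveI := Fact.mk Nat.prime_two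
    obtain ⟨t, ht⟩ := exists_prime_orderOf_dvd_card' (G := U) 2 (by rw [hm]; exact dvd_mul_left 2 _)
    have ht1 : (t : G) ≠ 1 := fun h => by
      rw [← Subgroup.orderOf_coe, h, orderOf_one] at ht; omega
    have hne : ∀ w ∈ U, w ≠ 1 → w • b ≠ a ∧ w • b ≠ b := fun w hw hw1 =>
      ⟨fun e => hva (MulAction.injective w (e.trans (hUle hw : w • a = a).symm)),
        fun e => hva (hHfix w hw hw1 b e)⟩
    have hinj : Function.Injective fun x : E => (⟨(x : G) • ((t : G) • b),
        fun e => (hne _ t.2 ht1).1 (MulAction.injective (x : G) (e.trans (x.2.1 : (x : G) • a = a).symm)),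
        fun e => (hne _ t.2 ht1).2 (MulAction.injective (x : G) (e.trans (x.2.2 : (x : G) • b = b).symm))⟩ :
        {c : Ω // c ≠ a ∧ c ≠ b}) := by
      intro x y h
      by_contra hxy
      have h' : (x : G) • (t : G) • b = (y : G) • (t : G) • b := congrArg Subtype.val h
      have hz : ((y⁻¹ * x : E) : G) ≠ 1 := fun e => hxy (inv_mul_eq_one.1 (Subtype.ext e)).symm
      rcases zass_fix_two hZ hz hab (y⁻¹ * x).2.1 (y⁻¹ * x).2.2 (c := (t : G) • b) (by
        rw [Subgroup.coe_mul, Subgroup.coe_inv, mul_smul, h', inv_smul_smul]) with e | e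
      exacts [(hne _ t.2 ht1).1 e, (hne _ t.2 ht1).2 e]
    have hX : Nat.card {c : Ω // c ≠ a ∧ c ≠ b} = Fintype.card Ω - 2 := by
      rw [Nat.card_eq_fintype_card, Fintype.card_subtype,
        show (Finset.univ.filter fun c : Ω => c ≠ a ∧ c ≠ b) = Finset.univ \ {a, b} by ext c; simp,
        Finset.card_sdiff_of_subset (Finset.subset_univ _), Finset.card_pair hab, Finset.card_univ]
    obtain ⟨x, hx⟩ := (hinj.bijective_of_nat_card_le (hX.trans hfull.symm).le).2 ⟨u • b, hne u hu hu1⟩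
    have hx' : (x : G) • (t : G) • b = u • b := congrArg Subtype.val hx
    have hxU : (x : G) * t * (x : G)⁻¹ ∈ U := (Subgroup.mem_set_normalizer_iff.1
      ((zass_kernel_normalizer hZ hUle hHcard hHfix).ge x.2.1) (t : G)).1 t.2
    obtain ⟨y, -, hy⟩ := hreg b (u • b) hva (hne u hu hu1).1
    have h1 : ((x : G) * t * (x : G)⁻¹) = u := congrArg Subtype.val
      ((hy ⟨_, hxU⟩ (by show ((x : G) * t * (x : G)⁻¹) • b = u • b; rw [mul_smul, mul_smul, inv_smul_eq_iff.2 (x.2.2 : (x : G) • b = b).symm, hx'])).trans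
        (hy ⟨u, hu⟩ rfl).symm)
    rw [← h1, show (x : G) * t * (x : G)⁻¹ * ((x : G) * t * (x : G)⁻¹) = x * ((t : G) * t) * (x : G)⁻¹ by group,
      show (t : G) * t = 1 by rw [← pow_two, ← ht, ← Subgroup.orderOf_coe, pow_orderOf_eq_one], mul_one,
      mul_inv_cancel]
  -- the fixed point of `v`
  have hfix1 := zass_involution_fix_card hZ hab hoddE hvord
  rw [← hHcard, hm, show (2 ^ m' * 2 + 1) % 2 = 1 by omega] at hfix1
  obtain ⟨c, hc⟩ := Finset.card_eq_one.1 hfix1
  have hvc : v • c = c := (Finset.mem_filter.1 (hc ▸ Finset.mem_singleton_self c :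
    c ∈ Finset.univ.filter fun c : Ω => v • c = c)).2
  have hcuniq : ∀ p : Ω, v • p = p → p = c := fun p hp =>
    Finset.mem_singleton.1 (hc ▸ Finset.mem_filter.2 ⟨Finset.mem_univ p, hp⟩)
  have hca : c ≠ a := fun e => hva (by rw [hb, ← e, hvc])
  have hcb : c ≠ b := fun e => hab (by rw [← hvb, ← e, hvc])
  obtain ⟨⟨u, hu⟩, hub, huniq⟩ := hreg b c hva hca
  change u • b = c at hub
  have hua : u • a = a := hUle hu
  have huc : u • c = b := by rw [← hub, smul_smul, hexp u hu, one_smul]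
  refine ⟨u, ⟨hu, fun e => hcb (by rw [← hub, e, one_smul]), ?_⟩, ?_⟩
  · refine (inv_mul_eq_one.1 (hZ.2.2.1 ((u * v * u)⁻¹ * (v * u * v)) a b c hab hcb.symm hca.symm ?_ ?_ ?_)).symm
    · simp only [mul_smul, inv_smul_eq_iff, hua, ← hb, hub, hvc]
    · simp only [mul_smul, inv_smul_eq_iff, hvb, hua, ← hb, hub, hvc, huc]
    · simp only [mul_smul, inv_smul_eq_iff, hvc, huc, hvb, hua]
  · rintro w ⟨hw, -, hweq⟩
    have h1 := congrArg (fun g : G => g • a) hweq
    simp only [mul_smul, ← hb, show w • a = a from hUle hw] at h1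
    exact congrArg Subtype.val (huniq ⟨w, hw⟩ (hcuniq _ h1))

end CfsgLib.Perm
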