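import Cfsg.Agent.Lib.Perm.SimpleCount
import Mathlib.GroupTheory.SpecificGroups.Cyclic
import Mathlib.GroupTheory.Perm.Cycle.Type

/-!
Normalisers of Sylow subgroups of prime order, used to exclude simple groups of given orders.
-/

namespace CfsgLib.Perm

open Subgroup

variable {G : Type*} [Group G] [Finite G]

/-- The normaliser order times the Sylow number is the group order. -/
theorem card_normalizer_mul_card_sylow {p : ℕ} [Fact p.Prime] (P : Sylow p G) :
    Nat.card (normalizer ((P : Subgroup G) : Set G)) * Nat.card (Sylow p G) = Nat.card G := by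
  have h : Nat.card (Sylow p G) = (normalizer ((P : Subgroup G) : Set G)).index :=
    P.card_eq_index_normalizer
  rw [h, card_mul_index]

/-- For a cyclic Sylow subgroup of prime order, `|N : C|` divides `p - 1`. -/
theorem relIndex_centralizer_dvd_sub_one {p : ℕ} [Fact p.Prime] (P : Subgroup G)
    (hP : Nat.card P = p) :
    (centralizer (P : Set G)).relIndex (normalizer (P : Set G)) ∣ p - 1 := by
  have key := card_dvd_of_injective _ (QuotientGroup.kerLift_injective P.normalizerMonoidHom)
  rw [normalizerMonoidHom_ker, ← index, ← relIndex] at key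
  have : IsCyclic P := isCyclic_of_prime_card hP
  rw [IsCyclic.card_mulAut, hP, Nat.totient_prime Fact.out] at key
  exact key

/-- The index of the centraliser in the normaliser divides the normaliser's order. -/
theorem relIndex_centralizer_dvd_div {p : ℕ} [Fact p.Prime] (P : Subgroup G)
    (hP : Nat.card P = p) {a : ℕ} (hN : Nat.card (normalizer (P : Set G)) = p * a) :
    (centralizer (P : Set G)).relIndex (normalizer (P : Set G)) ∣ a := by
  have hcyc : IsCyclic P := isCyclic_of_prime_card hP
  have hPC : P ≤ centralizer (P : Set G) := by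
    let _ : CommGroup P := IsCyclic.commGroup
    intro x hx
    rw [mem_centralizer_iff]
    intro y hy
    exact congrArg Subtype.val (mul_comm (⟨y, hy⟩ : P) ⟨x, hx⟩)
  have h1 := relIndex_dvd_of_le_left (normalizer (P : Set G)) hPC
  have h2 := card_mul_index (P.subgroupOf (normalizer (P : Set G)))
  rw [Nat.card_congr (subgroupOfEquivOfLe (H := P) le_normalizer).toEquiv, hP, hN] at h2
  have h3 : P.relIndex (normalizer (P : Set G)) = a :=
    Nat.eq_of_mul_eq_mul_left (Fact.out : p.Prime).pos h2
  exact h3 ▸ h1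

/-- Burnside: a simple group has no Sylow subgroup of prime order whose normaliser order,
divided by `p`, is coprime to `p - 1`. -/
theorem false_of_normalizer_coprime [IsSimpleGroup G] {p : ℕ} [Fact p.Prime] (P : Sylow p G)
    (hP : Nat.card (P : Subgroup G) = p) (hne : ¬ IsPGroup p G) {a : ℕ}
    (hN : Nat.card (normalizer ((P : Subgroup G) : Set G)) = p * a)
    (hco : Nat.Coprime a (p - 1)) : False := by
  have h1 := relIndex_centralizer_dvd_sub_one (P : Subgroup G) hP
  have h2 := relIndex_centralizer_dvd_div (P : Subgroup G) hP hN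
  have h3 := Nat.eq_one_of_dvd_coprimes hco h2 h1
  rw [relIndex_eq_one] at h3
  have hdvd : p ∣ Nat.card G := hP ▸ card_subgroup_dvd_card _
  exact not_normalizer_le_centralizer P hdvd hne h3

/-- The sign of a permutation whose square is one. -/
theorem sign_of_sq_eq_one {β : Type*} [Fintype β] [DecidableEq β] {σ : Equiv.Perm β}
    (h : σ ^ 2 = 1) : Equiv.Perm.sign σ = (-1) ^ (σ.support.card / 2) ∧ 2 ∣ σ.support.card := by
  have hall : ∀ n ∈ σ.cycleType, n = 2 := by
    intro n hn
    have h1 := Equiv.Perm.two_le_of_mem_cycleType hn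
    have h2 := Equiv.Perm.dvd_of_mem_cycleType hn
    have h3 : orderOf σ ∣ 2 := orderOf_dvd_of_pow_eq_one h
    have := Nat.le_of_dvd (by norm_num) (h2.trans h3)
    omega
  have hrep := Multiset.eq_replicate_card.2 hall
  have hsum := Equiv.Perm.sum_cycleType σ
  rw [hrep, Multiset.sum_replicate, smul_eq_mul] at hsum
  refine ⟨?_, ⟨σ.cycleType.card, by rw [← hsum, mul_comm]⟩⟩
  rw [Equiv.Perm.sign_of_cycleType, hrep, Multiset.sum_replicate, Multiset.card_replicate,
    smul_eq_mul, ← hsum, Nat.mul_div_cancel _ (by norm_num), pow_add, pow_mul,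
    Int.units_pow_two (( -1) ^ _), one_mul]

/-- A pair of Sylow subgroups with large intersection. -/
theorem exists_sylow_pair_index_le (p k : ℕ) [Fact p.Prime]
    (h : ¬ Nat.card (Sylow p G) ≡ 1 [MOD p ^ k]) :
    ∃ P R : Sylow p G, P ≠ R ∧
      ((R : Subgroup G).subgroupOf (P : Subgroup G)).index ≤ p ^ (k - 1) := by
  have hp : p.Prime := Fact.out
  obtain ⟨P⟩ := (inferInstance : Nonempty (Sylow p G))
  by_contra hcon
  push Not at hcon
  apply h
  classical
  have : Fintype (Sylow p G) := Fintype.ofFinite _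
  set Φ := MulAction.orbitRel.Quotient (P : Subgroup G) (Sylow p G) with hΦ
  -- every orbit other than {P} has length divisible by p ^ k
  have horb : ∀ R : Sylow p G, R ≠ P →
      p ^ k ∣ Nat.card (MulAction.orbit (P : Subgroup G) R) := by
    intro R hR
    have h1 := MulAction.index_stabilizer (P : Subgroup G) R
    have h2 : MulAction.stabilizer (P : Subgroup G) R =
        (R : Subgroup G).subgroupOf (P : Subgroup G) := by
      ext g
      rw [MulAction.mem_stabilizer_iff, Subgroup.mem_subgroupOf]
      show (g : G) • R = R ↔ _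
      rw [Sylow.smul_eq_iff_mem_normalizer]
      have h3 := P.isPGroup'.inf_normalizer_sylow R
      constructor
      · intro hg
        have : (g : G) ∈ (P : Subgroup G) ⊓ (R : Subgroup G) := h3 ▸ ⟨g.2, hg⟩
        exact this.2
      · intro hg
        exact Subgroup.le_normalizer hg
    have h4 := hcon P R (Ne.symm hR)
    rw [Nat.card_coe_set_eq, ← h1, h2]
    obtain ⟨i, hi⟩ := P.isPGroup'.index ((R : Subgroup G).subgroupOf (P : Subgroup G))
    rw [hi] at h4 ⊢
    have := (Nat.pow_lt_pow_iff_right hp.one_lt).1 h4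
    exact pow_dvd_pow p (by omega)
  have key : Nat.card (Sylow p G) ≡ 1 [MOD p ^ k] := by
    rw [Nat.card_congr (MulAction.selfEquivSigmaOrbits' (P : Subgroup G) (Sylow p G)),
      Nat.card_sigma]
    rw [← Finset.add_sum_erase _ _ (Finset.mem_univ (Quotient.mk'' P : Φ))]
    have h1 : Nat.card (MulAction.orbitRel.Quotient.orbit (Quotient.mk'' P : Φ)) = 1 := by
      rw [MulAction.orbitRel.Quotient.orbit_mk]
      rw [Nat.card_eq_one_iff_unique]
      refine ⟨⟨?_⟩, ⟨⟨P, MulAction.mem_orbit_self P⟩⟩⟩
      rintro ⟨a, g, rfl⟩ ⟨b, g', rfl⟩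
      apply Subtype.ext
      show (g : G) • P = (g' : G) • P
      rw [Sylow.smul_eq_iff_mem_normalizer.2 (Subgroup.le_normalizer g.2),
        Sylow.smul_eq_iff_mem_normalizer.2 (Subgroup.le_normalizer g'.2)]
    rw [h1]
    have h2 : p ^ k ∣ ∑ x ∈ Finset.univ.erase (Quotient.mk'' P : Φ),
        Nat.card (MulAction.orbitRel.Quotient.orbit x) := by
      apply Finset.dvd_sum
      intro x hx
      induction x using Quotient.inductionOn' with
      | h R =>
        rw [MulAction.orbitRel.Quotient.orbit_mk]
        apply horb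
        rintro rfl
        simp at hx
    rw [Nat.ModEq, Nat.add_mod, Nat.mod_eq_zero_of_dvd h2, add_zero, Nat.mod_mod]
  exact key

/-- A proper subgroup of index at most `m` forces `2 |G| ∣ m!`. -/
theorem two_mul_card_dvd_factorial_of_index_le [IsSimpleGroup G] (hG : ¬ IsMulCommutative G)
    (H : Subgroup G) (hH : H ≠ ⊤) {m : ℕ} (hm : H.index ≤ m) : 2 * Nat.card G ∣ m.factorial :=
  (two_mul_card_dvd_factorial_index hG H hH).trans (Nat.factorial_dvd_factorial hm)

/-- The Sylow number is one of the divisors of `m` congruent to one modulo `p`, other than one. -/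
theorem card_sylow_mem [IsSimpleGroup G] {p q k m : ℕ} [Fact p.Prime] (h : Nat.card G = p ^ k * m)
    (hk : k ≠ 0) (hq : q.Prime) (hqp : q ≠ p) (hqm : q ∣ m) :
    Nat.card (Sylow p G) ∣ m ∧ Nat.card (Sylow p G) % p = 1 ∧ Nat.card (Sylow p G) ≠ 1 := by
  refine ⟨card_sylow_dvd_of_card_eq h, ?_, ?_⟩
  · have := card_sylow_modEq_one p G
    rwa [Nat.ModEq, Nat.one_mod_eq_one.2 (Fact.out : p.Prime).ne_one] at this
  · refine card_sylow_ne_one ?_ ?_
    · rw [h]; exact Dvd.dvd.mul_right (dvd_pow_self p hk) m
    · exact not_isPGroup_of_dvd hq hqp (by rw [h]; exact Dvd.dvd.mul_left hqm _)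

end CfsgLib.Perm
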