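import Cfsg.Agent.Lib.Perm.SelfCentDegree
import Cfsg.Agent.Lib.Perm.SylowNormalizer

/-!
# A Sylow subgroup of prime order with normaliser of twice that order

In a simple group the degree equation of `SelfCentDegree` applies.
-/

set_option autoImplicit false

namespace CfsgLib.Perm

open Subgroup
open scoped commutatorElement

variable {G : Type*} [Group G] [Finite G] [IsSimpleGroup G]

/-- The subgroup generated by a non-identity element of a subgroup of prime order is the whole
subgroup. -/
theorem zpowers_eq_of_prime_card {P : Subgroup G} {p : ℕ} (hp : p.Prime) (hP : Nat.card P = p)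
    {x : G} (hx : x ∈ P) (hx1 : x ≠ 1) : zpowers x = P := by
  refine Subgroup.eq_of_le_of_card_ge (zpowers_le.2 hx) ?_
  rw [hP, Nat.card_zpowers]
  have h : orderOf x ∣ p := hP ▸ Subgroup.orderOf_dvd_natCard P hx
  rcases (Nat.dvd_prime hp).1 h with h | h
  · exact absurd (orderOf_eq_one_iff.1 h) hx1
  · exact h.ge

/-- The centraliser of a subgroup of prime order is the centraliser of any non-identity element. -/
theorem centralizer_eq_of_prime_card {P : Subgroup G} {p : ℕ} (hp : p.Prime) (hP : Nat.card P = p)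
    {x : G} (hx : x ∈ P) (hx1 : x ≠ 1) : centralizer ({x} : Set G) = centralizer (P : Set G) := by
  rw [← zpowers_eq_of_prime_card hp hP hx hx1]
  refine le_antisymm (fun y hy => ?_) (fun y hy => ?_)
  · rw [mem_centralizer_iff]
    intro z hz
    obtain ⟨k, rfl⟩ := hz
    exact (Commute.zpow_left (mem_centralizer_singleton_iff.1 hy).symm k).eq
  · rw [mem_centralizer_singleton_iff]
    exact ((mem_centralizer_iff.1 hy) x (mem_zpowers x)).symm

/-- For `|N(P)| = 2 p`: there are integers `x, v` and an involution centraliser order `C` with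
`p C² x (x + 1) = |G| (x - v)²`, `x ≡ 1 mod p`, and `x`, `x + 1` dividing the order. -/
theorem exists_degree_of_card_normalizer_two_mul' {p : ℕ} [Fact p.Prime] (hp5 : 5 ≤ p)
    (P : Sylow p G) (hP : Nat.card (P : Subgroup G) = p) (hne : ¬ IsPGroup p G)
    (hN : Nat.card (normalizer ((P : Subgroup G) : Set G)) = 2 * p) :
    ∃ (x v : ℤ) (u : G), orderOf u = 2 ∧ x ≠ 1 ∧ x ≠ -1 ∧ x.natAbs ∣ Nat.card G ∧
      (x + 1).natAbs ∣ Nat.card G ∧ (p : ℤ) ∣ x - 1 ∧
      (p : ℤ) * (Nat.card (centralizer ({u} : Set G)) : ℤ) ^ 2 * (x * (x + 1)) =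
        (Nat.card G : ℤ) * (x - v) ^ 2 ∧ v.natAbs ≤ x.natAbs ∧
      ∀ y : G, orderOf y = 2 → IsConj u y := by
  have hp : p.Prime := Fact.out
  let _ := Fintype.ofFinite G
  set A : Subgroup G := (P : Subgroup G) with hA
  have hPC : A ≤ centralizer (A : Set G) := by
    have hcyc : IsCyclic A := isCyclic_of_prime_card hP
    intro x hx
    rw [mem_centralizer_iff]
    intro y hy
    exact congrArg Subtype.val
      ((IsCyclic.commGroup (α := A)).mul_comm (⟨y, hy⟩ : A) ⟨x, hx⟩)
  have hCN : centralizer (A : Set G) ≤ normalizer (A : Set G) := centralizer_le_normalizer _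
  have h1 := relIndex_centralizer_dvd_div A hP (a := 2) (by rw [hN, mul_comm])
  have h2 : (centralizer (A : Set G)).relIndex (normalizer (A : Set G)) ≠ 1 := by
    intro h
    rw [relIndex_eq_one] at h
    exact not_normalizer_le_centralizer P (hP ▸ card_subgroup_dvd_card _) hne h
  have h3 : (centralizer (A : Set G)).relIndex (normalizer (A : Set G)) = 2 :=
    ((Nat.dvd_prime Nat.prime_two).1 h1).resolve_left h2
  have h4 : Nat.card (centralizer (A : Set G)) = p := by
    have h := index_mul_card ((centralizer (A : Set G)).subgroupOf (normalizer (A : Set G)))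
    rw [Nat.card_congr (subgroupOfEquivOfLe hCN).toEquiv, hN] at h
    change (centralizer (A : Set G)).relIndex (normalizer (A : Set G)) * _ = _ at h
    rw [h3] at h
    omega
  have h5 : centralizer (A : Set G) = A := (eq_of_le_of_card_ge hPC (by rw [h4, hP])).symm
  have hself : CfsgLib.CA.SelfCent A := fun x hx hx1 => by
    rw [centralizer_eq_of_prime_card hp hP hx hx1, h5]
  have hind : A.relIndex (normalizer (A : Set G)) = 2 := by rw [h5] at h3; exact h3
  obtain ⟨u, hu, hu'⟩ : ∃ u ∈ normalizer (A : Set G), u ∉ A := by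
    by_contra h
    push Not at h
    have hle : normalizer (A : Set G) ≤ A := h
    rw [← relIndex_eq_one] at hle
    omega
  have hperf : commutator G = ⊤ := by
    rcases (inferInstance : (commutator G).Normal).eq_bot_or_eq_top with h | h
    · exfalso
      refine not_comm_of_not_prime (G := G) (fun hpr => hne ?_) ?_
      · have hdvd : p ∣ Nat.card G := hP ▸ card_subgroup_dvd_card _
        exact IsPGroup.of_card (n := 1) (by rw [pow_one, (Nat.prime_dvd_prime_iff_eq hp hpr).1 hdvd])
      · exact ⟨⟨fun a b => by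
          have hab : ⁅a, b⁆ ∈ commutator G := by
            rw [_root_.commutator_def]; exact commutator_mem_commutator (mem_top a) (mem_top b)
          rw [h, mem_bot] at hab
          exact commutatorElement_eq_one_iff_mul_comm.1 hab⟩⟩
    · exact h
  obtain ⟨x, v, hx1, hx2, hd1, hd2, hm, heq, hv, hall⟩ :=
    SelfCentDegree.exists_degree_of_index_two' hself hperf hind (by rw [hP]; exact hp5) hu hu'
  refine ⟨x, v, u, ?_, hx1, hx2, hd1, hd2, ?_, ?_, hv, fun y hy => ?_⟩
  · refine orderOf_eq_prime ?_ (fun h => hu' (h ▸ A.one_mem))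
    rw [pow_two]
    exact (SelfCentDegree.sq_eq_one_and_inverts hself hind hu hu').1
  · rw [hP] at hm; exact hm
  · rw [hP] at heq; exact heq
  · have hy2 : y * y = 1 := by rw [← pow_two, ← hy, pow_orderOf_eq_one]
    refine (hall y hy2).resolve_right ?_
    rintro ⟨K, hK, hyK, hKne⟩
    rcases hK.eq_bot_or_eq_top with h | h
    · rw [h, mem_bot] at hyK
      rw [hyK, orderOf_one] at hy
      omega
    · exact hKne h

/-- The degree equation alone. -/
theorem exists_degree_of_card_normalizer_two_mul {p : ℕ} [Fact p.Prime] (hp5 : 5 ≤ p)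
    (P : Sylow p G) (hP : Nat.card (P : Subgroup G) = p) (hne : ¬ IsPGroup p G)
    (hN : Nat.card (normalizer ((P : Subgroup G) : Set G)) = 2 * p) :
    ∃ (x v : ℤ) (u : G), orderOf u = 2 ∧ x ≠ 1 ∧ x ≠ -1 ∧ x.natAbs ∣ Nat.card G ∧
      (x + 1).natAbs ∣ Nat.card G ∧ (p : ℤ) ∣ x - 1 ∧
      (p : ℤ) * (Nat.card (centralizer ({u} : Set G)) : ℤ) ^ 2 * (x * (x + 1)) =
        (Nat.card G : ℤ) * (x - v) ^ 2 := by
  obtain ⟨x, v, u, h1, h2, h3, h4, h5, h6, h7, -, -⟩ :=
    exists_degree_of_card_normalizer_two_mul' hp5 P hP hne hN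
  exact ⟨x, v, u, h1, h2, h3, h4, h5, h6, h7⟩

/-- If all involutions are conjugate, the centraliser of one contains a Sylow `2`-subgroup. -/
theorem two_part_dvd_card_centralizer {k m : ℕ} (hk : k ≠ 0) (hG : Nat.card G = 2 ^ k * m)
    (hm : ¬ 2 ∣ m) {u : G} (hu : ∀ y : G, orderOf y = 2 → IsConj u y) :
    2 ^ k ∣ Nat.card (centralizer ({u} : Set G)) := by
  have : Fact (Nat.Prime 2) := ⟨Nat.prime_two⟩
  obtain ⟨S⟩ := (inferInstance : Nonempty (Sylow 2 G))
  have hS : Nat.card (S : Subgroup G) = 2 ^ k := sylow_card_eq S hG hm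
  have : Nontrivial (S : Subgroup G) := Finite.one_lt_card_iff_nontrivial.1 (by
    rw [hS]; exact Nat.one_lt_two_pow hk)
  have := S.isPGroup'.center_nontrivial
  obtain ⟨n, hn⟩ := (S.isPGroup'.to_subgroup (Subgroup.center (S : Subgroup G))).exists_card_eq
  obtain ⟨z, hz⟩ := exists_prime_orderOf_dvd_card' (G := Subgroup.center (S : Subgroup G)) 2 (by
    rcases n with _ | n
    · have := Finite.one_lt_card (α := Subgroup.center (S : Subgroup G))
      rw [hn, pow_zero] at this
      omega
    · rw [hn]; exact dvd_pow_self 2 (Nat.succ_ne_zero n))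
  set z' : G := ((z : (S : Subgroup G)) : G) with hz'
  obtain ⟨c, hc⟩ := isConj_iff.1 (hu z' (by rw [hz', Subgroup.orderOf_coe, Subgroup.orderOf_coe, hz]))
  have hle : (S : Subgroup G) ≤ centralizer ({z'} : Set G) := fun x hx => by
    rw [mem_centralizer_singleton_iff]
    exact congrArg Subtype.val ((mem_center_iff.1 z.2) ⟨x, hx⟩)
  have hcard : Nat.card (centralizer ({z'} : Set G)) = Nat.card (centralizer ({u} : Set G)) := by
    refine Nat.card_congr
      { toFun := fun x => ⟨c⁻¹ * x * c, ?_⟩
        invFun := fun x => ⟨c * x * c⁻¹, ?_⟩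
        left_inv := fun x => Subtype.ext (by show c * (c⁻¹ * x * c) * c⁻¹ = x; group)
        right_inv := fun x => Subtype.ext (by show c⁻¹ * (c * x * c⁻¹) * c = x; group) }
    · have h := mem_centralizer_singleton_iff.1 x.2
      rw [mem_centralizer_singleton_iff, ← show c⁻¹ * z' * c = u by rw [← hc]; group]
      calc c⁻¹ * x.1 * c * (c⁻¹ * z' * c) = c⁻¹ * (x.1 * z') * c := by group
        _ = c⁻¹ * (z' * x.1) * c := by rw [h]
        _ = c⁻¹ * z' * c * (c⁻¹ * x.1 * c) := by group
    · have h := mem_centralizer_singleton_iff.1 x.2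
      rw [mem_centralizer_singleton_iff, ← hc]
      calc c * x.1 * c⁻¹ * (c * u * c⁻¹) = c * (x.1 * u) * c⁻¹ := by group
        _ = c * (u * x.1) * c⁻¹ := by rw [h]
        _ = c * u * c⁻¹ * (c * x.1 * c⁻¹) := by group
  rw [← hcard, ← hS]
  exact card_dvd_of_le hle

end CfsgLib.Perm
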