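import Cfsg.Agent.Lib.Perm.SylowNormalizer
import Mathlib.GroupTheory.PGroup
import Mathlib.GroupTheory.Sylow
import Mathlib.GroupTheory.Perm.Centralizer
import Mathlib.Tactic

/-!
# Fixed Sylow subgroups of involutions

For a Sylow subgroup of prime order: how many Sylow subgroups an element normalises, and
consequences for centralisers of involutions in simple groups.
-/

set_option autoImplicit false

namespace CfsgLib.Perm

open Subgroup
open scoped Pointwise

variable {G : Type*} [Group G] [Finite G] {p : ℕ} [Fact p.Prime]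

/-- The Sylow subgroups normalised by `z`. -/
abbrev fixedSylows (p : ℕ) (z : G) : Type _ := {R : Sylow p G // z • R = R}

theorem smul_eq_of_mem {R : Sylow p G} {r : G} (hr : r ∈ (R : Subgroup G)) : r • R = R :=
  Sylow.smul_eq_iff_mem_normalizer.2 (le_normalizer hr)

/-- A Sylow subgroup of prime order fixes only itself among the Sylow subgroups. -/
theorem eq_of_smul_eq (R : Sylow p G) (hR : Nat.card (R : Subgroup G) = p) {r : G}
    (hr : r ∈ (R : Subgroup G)) (hr1 : r ≠ 1) {S : Sylow p G} (h : r • S = S) : S = R := by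
  rw [Sylow.smul_eq_iff_mem_normalizer] at h
  have h2 : r ∈ (R : Subgroup G) ⊓ (S : Subgroup G) := by
    rw [← R.isPGroup'.inf_normalizer_sylow S]
    exact ⟨hr, h⟩
  have hle : (R : Subgroup G) ≤ S := by
    intro x hx
    have hz : zpowers r = (R : Subgroup G) := by
      refine eq_of_le_of_card_ge (zpowers_le.2 hr) ?_
      rw [hR, Nat.card_zpowers]
      have hd : orderOf r ∣ p := hR ▸ orderOf_dvd_natCard _ hr
      rcases (Nat.dvd_prime Fact.out).1 hd with h | h
      · exact absurd (orderOf_eq_one_iff.1 h) hr1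
      · exact h.ge
    rw [← hz] at hx
    exact (zpowers_le.2 h2.2) hx
  exact Sylow.ext (R.is_maximal' S.isPGroup' hle)

/-- An element centralising a Sylow subgroup of order `p` normalises `1 mod p` Sylow subgroups. -/
theorem card_fixedSylows_modEq (R : Sylow p G) (hR : Nat.card (R : Subgroup G) = p) {z : G}
    (hz : z ∈ centralizer ((R : Subgroup G) : Set G)) :
    Nat.card (fixedSylows p z) % p = 1 := by
  classical
  have hp : p.Prime := Fact.out
  have hcomm : ∀ r : (R : Subgroup G), z * r = r * z := fun r =>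
    ((mem_centralizer_iff.1 hz) r r.2).symm
  let _ : MulAction (R : Subgroup G) (fixedSylows p z) :=
    { smul := fun r S => ⟨(r : G) • S.1, by rw [smul_smul, hcomm, ← smul_smul, S.2]⟩
      one_smul := fun S => Subtype.ext (one_smul G S.1)
      mul_smul := fun r s S => Subtype.ext (mul_smul (r : G) (s : G) S.1) }
  have h := R.isPGroup'.card_modEq_card_fixedPoints (fixedSylows p z)
  obtain ⟨r, hr⟩ := (R : Subgroup G).ne_bot_iff_exists_ne_one.1 (by
    intro e; rw [e, card_bot] at hR; exact hp.ne_one hR.symm)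
  have hR0 : z • R = R := Sylow.smul_eq_iff_mem_normalizer.2 (centralizer_le_normalizer _ hz)
  have h1 : Nat.card (MulAction.fixedPoints (R : Subgroup G) (fixedSylows p z)) = 1 := by
    rw [Nat.card_eq_one_iff_unique]
    refine ⟨⟨fun S T => ?_⟩, ⟨⟨⟨R, hR0⟩, fun s => Subtype.ext (smul_eq_of_mem s.2)⟩⟩⟩
    have hS : S.1.1 = R := eq_of_smul_eq R hR r.2 (fun e => hr (Subtype.ext e))
      (congrArg Subtype.val (S.2 r))
    have hT : T.1.1 = R := eq_of_smul_eq R hR r.2 (fun e => hr (Subtype.ext e))
      (congrArg Subtype.val (T.2 r))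
    exact Subtype.ext (Subtype.ext (hS.trans hT.symm))
  rw [h1] at h
  rw [h, Nat.one_mod_eq_one.2 hp.ne_one]

/-- An element normalising but not centralising a Sylow subgroup of order `p` normalises at most
one Sylow subgroup in each of its orbits. -/
theorem card_fixedSylows_le (R : Sylow p G) (hR : Nat.card (R : Subgroup G) = p) {z : G}
    (hz : z • R = R) (hz' : z ∉ centralizer ((R : Subgroup G) : Set G)) :
    p * (Nat.card (fixedSylows p z) - 1) + 1 ≤ Nat.card (Sylow p G) := by
  classical
  have hp : p.Prime := Fact.out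
  have hN := Sylow.smul_eq_iff_mem_normalizer.1 hz
  let F := {S : fixedSylows p z // S.1 ≠ R}
  let T := {S : Sylow p G // S ≠ R}
  let f : F × (R : Subgroup G) → T := fun q => ⟨(q.2 : G) • q.1.1.1, fun e => q.1.2 (by
    have := congrArg (fun S => (q.2 : G)⁻¹ • S) e
    simpa [inv_smul_smul, smul_eq_of_mem ((R : Subgroup G).inv_mem q.2.2)] using this)⟩
  have hf : Function.Injective f := by
    rintro ⟨⟨⟨S, hS⟩, hSR⟩, r⟩ ⟨⟨⟨S', hS'⟩, hSR'⟩, r'⟩ e
    have e' : (r : G) • S = (r' : G) • S' := congrArg Subtype.val e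
    have hd : ((r'⁻¹ * r : (R : Subgroup G)) : G) • S = S' := by
      rw [Subgroup.coe_mul, Subgroup.coe_inv, mul_smul, e', inv_smul_smul]
    set s : (R : Subgroup G) := r'⁻¹ * r with hs
    have hconj : z * s * z⁻¹ ∈ (R : Subgroup G) := (mem_normalizer_iff.1 hN s).1 s.2
    have hfix : ((s : G)⁻¹ * (z * s * z⁻¹)) • S = S := by
      have hS'' : z⁻¹ • S = S := inv_smul_eq_iff.2 hS.symm
      rw [mul_smul, mul_smul, mul_smul, hS'', hd, hS', ← hd, inv_smul_smul]
    have hone : (s : G)⁻¹ * (z * s * z⁻¹) = 1 := by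
      by_contra hne
      exact hSR (eq_of_smul_eq R hR (mul_mem (inv_mem s.2) hconj) hne hfix)
    have hs1 : s = 1 := by
      by_contra hne
      refine hz' ?_
      have hz1 : zpowers (s : G) = (R : Subgroup G) := by
        refine eq_of_le_of_card_ge (zpowers_le.2 s.2) ?_
        rw [hR, Nat.card_zpowers]
        have hd' : orderOf (s : G) ∣ p := (Subgroup.orderOf_dvd_natCard _ s.2).trans hR.dvd
        rcases (Nat.dvd_prime hp).1 hd' with h | h
        · exact absurd (OneMemClass.coe_eq_one.1 (orderOf_eq_one_iff.1 h)) hne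
        · exact h.ge
      rw [mem_centralizer_iff]
      intro y hy
      rw [← hz1] at hy
      obtain ⟨k, rfl⟩ := hy
      refine (Commute.zpow_left ?_ k).eq
      have := inv_mul_eq_one.1 hone
      show (s : G) * z = z * s
      conv_lhs => rw [this]
      group
    have hrr : r' = r := inv_mul_eq_one.1 hs1
    subst hrr
    have hSS : S = S' := by simpa [hs] using hd
    subst hSS
    rfl
  have h1 := Nat.card_le_card_of_injective f hf
  rw [Nat.card_prod, hR] at h1
  have hsub : ∀ (X : Type _) [Finite X] (a : X), Nat.card {x : X // x ≠ a} + 1 = Nat.card X := by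
    intro X _ a
    let _ := Fintype.ofFinite X
    rw [Nat.card_eq_fintype_card, Nat.card_eq_fintype_card, Fintype.card_subtype_compl,
      Fintype.card_subtype_eq]
    have : 0 < Fintype.card X := Fintype.card_pos_iff.2 ⟨a⟩
    omega
  have h2 := hsub (Sylow p G) R
  have h3 : Nat.card F + 1 = Nat.card (fixedSylows p z) := by
    rw [← hsub (fixedSylows p z) ⟨R, hz⟩]
    congr 1
    exact Nat.card_congr (Equiv.subtypeEquivRight fun S => by simp [Subtype.ext_iff])
  have h4 : Nat.card F * p + 1 ≤ Nat.card (Sylow p G) := by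
    have : Nat.card T + 1 = Nat.card (Sylow p G) := h2
    omega
  rw [← h3, Nat.add_sub_cancel, mul_comm]
  exact h4

/-- In a simple group an involution moves a multiple of four Sylow subgroups. -/
theorem card_fixedSylows_four [IsSimpleGroup G] (hG : ¬ IsMulCommutative G) {z : G}
    (hz : z * z = 1) : 4 ∣ Nat.card (Sylow p G) - Nat.card (fixedSylows p z) ∧
      Nat.card (fixedSylows p z) ≤ Nat.card (Sylow p G) := by
  classical
  let _ := Fintype.ofFinite (Sylow p G)
  set σ := MulAction.toPermHom G (Sylow p G) z with hσ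
  have hσ2 : σ ^ 2 = 1 := by rw [hσ, ← map_pow, pow_two, hz, map_one]
  obtain ⟨hs, hev⟩ := sign_of_sq_eq_one hσ2
  have h1 := hom_comm_trivial hG (Equiv.Perm.sign.comp (MulAction.toPermHom G (Sylow p G))) z
  rw [MonoidHom.comp_apply, ← hσ, hs] at h1
  have hsupp : σ.support.card + Nat.card (fixedSylows p z) = Nat.card (Sylow p G) := by
    rw [Nat.card_eq_fintype_card, Nat.card_eq_fintype_card, Fintype.card_subtype,
      ← Finset.card_add_card_compl σ.support]
    congr 2
    ext w
    simp [hσ]
  obtain ⟨k, hk⟩ := hev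
  refine ⟨⟨k / 2, ?_⟩, by omega⟩
  rcases Nat.even_or_odd k with ⟨j, hj⟩ | hj
  · omega
  · rw [hk, Nat.mul_div_cancel_left _ (by norm_num), hj.neg_one_pow] at h1
    exact absurd h1 (by decide)

/-- If every Sylow subgroup normalised by `z` is centralised, they are Sylow subgroups of the
centraliser. -/
theorem card_fixedSylows_le_centralizer {z : G}
    (h : ∀ R : Sylow p G, z • R = R → z ∈ centralizer ((R : Subgroup G) : Set G)) :
    Nat.card (fixedSylows p z) ≤ Nat.card (Sylow p (centralizer ({z} : Set G))) := by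
  have hle : ∀ R : fixedSylows p z, (R.1 : Subgroup G) ≤ centralizer ({z} : Set G) := by
    intro R x hx
    rw [mem_centralizer_singleton_iff]
    exact (mem_centralizer_iff.1 (h R.1 R.2)) x hx
  exact Nat.card_le_card_of_injective (fun R => R.1.subtype (hle R)) fun R S e => Subtype.ext
    (Sylow.subtype_injective e)

/-- An element `y` of odd prime order `p` and a commuting involution `z` cannot act on the cosets
of `H ∋ y, z`, `z` central in `H`, when there are fewer than `2 p` and fewer than `p + 5` cosets. -/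
theorem false_of_small_index [IsSimpleGroup G] (hG : ¬ IsMulCommutative G) (hp2 : p ≠ 2)
    (H : Subgroup G) (hH : H ≠ ⊤) (h2p : H.index < 2 * p) (h5 : H.index < p + 5) {y z : G}
    (hy : orderOf y = p) (hyH : y ∈ H) (hz : orderOf z = 2) (hzH : z ∈ H) (hyz : z * y = y * z) :
    False := by
  classical
  have hp : p.Prime := Fact.out
  let _ := Fintype.ofFinite (G ⧸ H)
  set φ := MulAction.toPermHom G (G ⧸ H)
  have hinj := toPermHom_quotient_injective H hH
  set c := φ y with hc
  set σ := φ z with hσ
  have hcard : Fintype.card (G ⧸ H) = H.index := by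
    rw [← Nat.card_eq_fintype_card, ← Subgroup.index_eq_card]
  have hco : orderOf c = p := by rw [hc, orderOf_injective φ hinj, hy]
  have hcyc : c.IsCycle := Equiv.Perm.isCycle_of_prime_order (by rw [hco]; exact hp) (by
    rw [hco]
    exact lt_of_le_of_lt ((Finset.card_le_univ _).trans hcard.le) h2p)
  have hsuppc : c.support.card = p := by rw [← hcyc.orderOf, hco]
  have hcomm : ∀ w, σ (c w) = c (σ w) := fun w => by
    have := congrArg (fun k => φ k w) hyz
    simp only [map_mul, Equiv.Perm.mul_apply, ← hσ, ← hc] at this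
    exact this
  have hσsupp : ∀ w, w ∈ c.support → σ w ∈ c.support := fun w hw => by
    rw [Equiv.Perm.mem_support] at hw ⊢
    rw [← hcomm]
    exact fun e => hw (σ.injective e)
  have hσ2 : ∀ w, σ (σ w) = w := fun w => by
    have : σ * σ = 1 := by rw [hσ, ← map_mul, ← pow_two, ← hz, pow_orderOf_eq_one, map_one]
    exact Equiv.ext_iff.1 this w
  -- `σ` fixes the support of `c`
  have hfixsupp : ∀ w ∈ c.support, σ w = w := by
    let τ : Equiv.Perm {w // w ∈ c.support} :=
      ⟨fun w => ⟨σ w, hσsupp w w.2⟩, fun w => ⟨σ w, hσsupp w w.2⟩,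
        fun w => Subtype.ext (hσ2 w), fun w => Subtype.ext (hσ2 w)⟩
    obtain ⟨w₀, hw₀⟩ : ∃ w, τ w = w := by
      have : Fact (Nat.Prime 2) := ⟨Nat.prime_two⟩
      refine Equiv.Perm.exists_fixed_point_of_prime (p := 2) (n := 1) ?_ (σ := τ) ?_
      · rw [Fintype.card_coe, hsuppc]
        exact fun h => hp2 ((Nat.prime_dvd_prime_iff_eq Nat.prime_two hp).1 h).symm
      · ext w; simp [pow_succ, τ, hσ2]
    intro w hw
    obtain ⟨k, hk⟩ := hcyc.exists_pow_eq (Equiv.Perm.mem_support.1 w₀.2) (Equiv.Perm.mem_support.1 hw)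
    have hk' : ∀ k : ℕ, σ ((c ^ k) w₀) = (c ^ k) (σ w₀) := by
      intro k
      induction k with
      | zero => simp
      | succ k ih => rw [pow_succ', Equiv.Perm.mul_apply, hcomm, ih, Equiv.Perm.mul_apply]
    rw [← hk, hk', show σ (w₀ : G ⧸ H) = w₀ from congrArg Subtype.val hw₀]
  have hσ1 : σ ≠ 1 := fun e => by
    rw [hσ, ← map_one φ] at e
    rw [hinj e, orderOf_one] at hz
    omega
  obtain ⟨hs, hev⟩ := sign_of_sq_eq_one (σ := σ) (by
    ext w; simp [pow_succ, hσ2])
  have h1 := hom_comm_trivial hG (Equiv.Perm.sign.comp φ) z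
  rw [MonoidHom.comp_apply, ← hσ, hs] at h1
  have hx0 : ∀ g : G, g ∈ H → φ g ((1 : G) : G ⧸ H) = ((1 : G) : G ⧸ H) := fun g hg => by
    show g • ((1 : G) : G ⧸ H) = _
    rw [MulAction.Quotient.smul_coe, eq_comm, QuotientGroup.eq]
    simpa using hg
  have hdisj : Disjoint σ.support (insert ((1 : G) : G ⧸ H) c.support) := by
    rw [Finset.disjoint_left]
    intro w hw hw'
    rw [Equiv.Perm.mem_support] at hw
    rcases Finset.mem_insert.1 hw' with rfl | h
    · exact hw (hx0 z hzH)
    · exact hw (hfixsupp w h)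
  have hle := Finset.card_le_univ (σ.support ∪ insert ((1 : G) : G ⧸ H) c.support)
  rw [Finset.card_union_of_disjoint hdisj, Finset.card_insert_of_notMem (by
    rw [Equiv.Perm.mem_support, not_not]; exact hx0 y hyH), hsuppc, hcard] at hle
  have hne : σ.support.card ≠ 0 := fun e => hσ1 (Equiv.Perm.support_eq_empty_iff.1 (Finset.card_eq_zero.1 e))
  obtain ⟨k, hk⟩ := hev
  have : σ.support.card = 2 := by omega
  rw [this] at h1
  exact absurd h1 (by decide)

/-- An involution centralising a Sylow subgroup of order `p` cannot have, for arithmetical reasons,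
a centraliser of small index. -/
theorem false_of_involution_centralizing [IsSimpleGroup G] (hG : ¬ IsMulCommutative G) (hp2 : p ≠ 2)
    (P : Sylow p G) (hP : Nat.card (P : Subgroup G) = p)
    (hall : ∀ R : Sylow p G, Nat.card (R : Subgroup G) = p) {z : G} (hz : orderOf z = 2)
    (hzC : z ∈ centralizer ((P : Subgroup G) : Set G)) {b c : ℕ}
    (hF : ∀ F, F ≤ Nat.card (Sylow p G) → F % p = 1 → 4 ∣ Nat.card (Sylow p G) - F →
      Nat.card (Sylow p G) < p * (F - 1) + 1 ∧ b ≤ F)
    (hc : c ∣ Nat.card ↥(centralizer ((P : Subgroup G) : Set G) ⊓ centralizer ({z} : Set G)))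
    (hidx : ∀ m, m * (b * c) ≤ Nat.card G → m < 2 * p ∧ m < p + 5) : False := by
  classical
  have hp : p.Prime := Fact.out
  set K := centralizer ({z} : Set G) with hK
  have hz2 : z * z = 1 := by rw [← pow_two, ← hz, pow_orderOf_eq_one]
  obtain ⟨h4, hle⟩ := card_fixedSylows_four (p := p) hG hz2
  obtain ⟨hlarge, hb⟩ := hF _ hle (card_fixedSylows_modEq P hP hzC) h4
  have hcent : ∀ R : Sylow p G, z • R = R → z ∈ centralizer ((R : Subgroup G) : Set G) := by
    intro R hR
    by_contra hne
    have := card_fixedSylows_le R (hall R) hR hne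
    omega
  have hn' := hb.trans (card_fixedSylows_le_centralizer hcent)
  have hPK : (P : Subgroup G) ≤ K := fun x hx => by
    rw [hK, mem_centralizer_singleton_iff]
    exact (mem_centralizer_iff.1 hzC) x hx
  let P' : Sylow p K := P.subtype hPK
  have hle' : (centralizer ((P : Subgroup G) : Set G)).subgroupOf K ≤
      normalizer ((P' : Subgroup K) : Set K) := by
    intro x hx
    refine centralizer_le_normalizer _ ?_
    rw [mem_centralizer_iff]
    intro y hy
    exact Subtype.ext ((mem_centralizer_iff.1 (mem_subgroupOf.1 hx)) (y : G)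
      (show (y : G) ∈ (P : Subgroup G) from hy))
  have hc' : c ∣ Nat.card (normalizer ((P' : Subgroup K) : Set K)) := by
    refine hc.trans ?_
    rw [← Nat.card_congr (subgroupOfEquivOfLe (H := centralizer ((P : Subgroup G) : Set G) ⊓ K)
      (K := K) inf_le_right).toEquiv, inf_subgroupOf_right]
    exact card_dvd_of_le hle'
  have hcard := card_normalizer_mul_card_sylow P'
  have hKbig : b * c ≤ Nat.card K := by
    rw [← hcard, mul_comm b c]
    exact Nat.mul_le_mul (Nat.le_of_dvd Nat.card_pos hc') hn'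
  have hKtop : K ≠ ⊤ := fun e => by
    have hzc : z ∈ Subgroup.center G := by
      rw [mem_center_iff]
      intro g
      have hg : g ∈ K := e ▸ mem_top g
      exact mem_centralizer_singleton_iff.1 (hK ▸ hg)
    rcases (inferInstance : (Subgroup.center G).Normal).eq_bot_or_eq_top with h | h
    · rw [h, mem_bot] at hzc
      rw [hzc, orderOf_one] at hz
      omega
    · exact hG ⟨⟨fun a d => (mem_center_iff.1 (h ▸ mem_top d : d ∈ Subgroup.center G)) a⟩⟩
  obtain ⟨h2p, h5⟩ := hidx K.index (by
    rw [← K.card_mul_index, mul_comm (Nat.card K)]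
    exact Nat.mul_le_mul_left _ hKbig)
  obtain ⟨y, hy⟩ := exists_prime_orderOf_dvd_card' (G := (P : Subgroup G)) p (by rw [hP])
  refine false_of_small_index hG hp2 K hKtop h2p h5 (y := (y : G)) (by rw [Subgroup.orderOf_coe, hy])
    (hPK y.2) hz (by rw [hK, mem_centralizer_singleton_iff]) ?_
  exact ((mem_centralizer_iff.1 hzC) y y.2).symm

/-- With fewer than `2 p` cosets, the centraliser of an element of order `p` divides `p (m - p)!`. -/
theorem card_centralizer_dvd_of_small_index [IsSimpleGroup G] (H : Subgroup G) (hH : H ≠ ⊤)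
    (h2p : H.index < 2 * p) {y : G} (hy : orderOf y = p) :
    p ≤ H.index ∧
      Nat.card (centralizer ({y} : Set G)) ∣ (H.index - p).factorial * p := by
  classical
  have hp : p.Prime := Fact.out
  let _ := Fintype.ofFinite (G ⧸ H)
  set φ := MulAction.toPermHom G (G ⧸ H)
  have hinj := toPermHom_quotient_injective H hH
  set c := φ y with hc
  have hcard : Fintype.card (G ⧸ H) = H.index := by
    rw [← Nat.card_eq_fintype_card, ← Subgroup.index_eq_card]
  have hco : orderOf c = p := by rw [hc, orderOf_injective φ hinj, hy]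
  have hcyc : c.IsCycle := Equiv.Perm.isCycle_of_prime_order (by rw [hco]; exact hp) (by
    rw [hco]
    exact lt_of_le_of_lt ((Finset.card_le_univ _).trans hcard.le) h2p)
  have hsuppc : c.support.card = p := by rw [← hcyc.orderOf, hco]
  refine ⟨hsuppc ▸ (Finset.card_le_univ _).trans hcard.le, ?_⟩
  have hle : (centralizer ({y} : Set G)).map φ ≤ centralizer ({c} : Set (Equiv.Perm (G ⧸ H))) := by
    rintro _ ⟨x, hx, rfl⟩
    rw [mem_centralizer_singleton_iff, hc, ← map_mul, ← map_mul,
      mem_centralizer_singleton_iff.1 hx]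
  have h1 := card_dvd_of_le hle
  rw [← Nat.card_congr ((centralizer ({y} : Set G)).equivMapOfInjective φ hinj).toEquiv,
    Equiv.Perm.nat_card_centralizer, hcyc.cycleType, hsuppc, hcard] at h1
  simpa using h1

/-- An element shared by two Sylow subgroups. -/
theorem exists_mem_two_sylows {k : ℕ} (hk : ∀ R : Sylow p G, Nat.card (R : Subgroup G) = p ^ k)
    (h : ¬ Nat.card (Sylow p G) ≡ 1 [MOD p ^ k]) :
    ∃ (R S : Sylow p G) (d : G), R ≠ S ∧ orderOf d = p ∧ d ∈ (R : Subgroup G) ∧ d ∈ (S : Subgroup G) := by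
  have hp : p.Prime := Fact.out
  obtain ⟨R, S, hne, hidx⟩ := exists_sylow_pair_index_le p k h
  set D := (S : Subgroup G).subgroupOf (R : Subgroup G)
  have hD : D ≠ ⊥ := fun e => by
    rw [e, index_bot, hk] at hidx
    rcases k with _ | k
    · exact h (by rw [pow_zero]; exact Nat.modEq_one)
    · rw [Nat.add_sub_cancel, pow_succ] at hidx
      nlinarith [hp.two_le, pow_pos hp.pos k]
  obtain ⟨n, hn⟩ := (R.isPGroup'.to_subgroup D).exists_card_eq
  have hdvd : p ∣ Nat.card D := by
    rcases n with _ | n
    · exact absurd (Subgroup.eq_bot_of_card_eq D (by rw [hn, pow_zero])) hD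
    · rw [hn]; exact dvd_pow_self p (Nat.succ_ne_zero n)
  obtain ⟨d, hd⟩ := exists_prime_orderOf_dvd_card' (G := D) p hdvd
  exact ⟨R, S, ((d : (R : Subgroup G)) : G), hne,
    by rw [Subgroup.orderOf_coe, Subgroup.orderOf_coe, hd], d.1.2, d.2⟩

end CfsgLib.Perm
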