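import Cfsg.Agent.Lib.Char.ComplexAut
import Cfsg.Agent.Lib.Char.Integral
import Mathlib.FieldTheory.Galois.Basic
import Mathlib.Tactic

/-!
# Character values fixed by all power maps are rational integers
-/

set_option autoImplicit false

namespace CfsgLib.Perm.RationalValue

open Polynomial

variable {G : Type*} [Group G] [Finite G]

/-- A character value equal to the values at all powers prime to the group order is an integer. -/
theorem exists_eq_int {χ : G → ℂ} (hχ : Cfsg.IsCharacter G χ) (x : G)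
    (hinv : ∀ m : ℕ, m.Coprime (Nat.card G) → χ (x ^ m) = χ x) : ∃ i : ℤ, χ x = i := by
  set N := Nat.card G with hN
  have hN0 : N ≠ 0 := Nat.card_pos.ne'
  haveI : NeZero N := ⟨hN0⟩
  obtain ⟨ζ, hζ⟩ : ∃ ζ : ℂ, IsPrimitiveRoot ζ N := ⟨_, Complex.isPrimitiveRoot_exp N hN0⟩
  obtain ⟨P, hP⟩ := ComplexAut.exists_intPoly hχ hζ x
  let F := IntermediateField.adjoin ℚ ({ζ} : Set ℂ)
  haveI : IsCyclotomicExtension {N} ℚ F := by
    show IsCyclotomicExtension {N} ℚ (IntermediateField.adjoin ℚ ({ζ} : Set ℂ)).toSubalgebra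
    rw [IntermediateField.adjoin_simple_toSubalgebra_of_isAlgebraic
      ((hζ.isIntegral (Nat.pos_of_ne_zero hN0)).tower_top.isAlgebraic)]
    exact hζ.adjoin_isCyclotomicExtension ℚ
  haveI : IsGalois ℚ F := IsCyclotomicExtension.isGalois {N} ℚ F
  haveI : FiniteDimensional ℚ F := IsCyclotomicExtension.finiteDimensional {N} ℚ F
  let z : F := IntermediateField.AdjoinSimple.gen ℚ ζ
  have hz : IsPrimitiveRoot z N := IsPrimitiveRoot.of_map_of_injective (f := F.val) hζ F.val.injective
  let y : F := aeval z P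
  have hval : ∀ m : ℕ, F.val (aeval (z ^ m) P) = aeval (ζ ^ m) P := fun m =>
    ((Polynomial.aeval_algHom_apply (F.val.toRingHom.toIntAlgHom) (z ^ m) P).symm).trans rfl
  have hy : F.val y = χ x := by
    have h := hval 1
    rw [pow_one, pow_one] at h
    rw [show F.val y = aeval ζ P from h]
    have h1 := hP 1
    rw [pow_one, pow_one] at h1
    exact h1.symm
  have hfix : ∀ f : F ≃ₐ[ℚ] F, f y = y := by
    intro f
    obtain ⟨m, -, hm, hfz⟩ := hz.isPrimitiveRoot_iff.1 (hz.map_of_injective (f := f) f.injective)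
    have h1 : f y = aeval (z ^ m) P := by
      rw [hfz]
      exact (Polynomial.aeval_algHom_apply (f.toAlgHom.toRingHom.toIntAlgHom) z P).symm
    refine F.val.injective (?_ : F.val (f y) = F.val y)
    rw [h1, hval, hy, ← hP m, hinv m hm]
  obtain ⟨q, hq⟩ := IntermediateField.mem_bot.1 ((IsGalois.mem_bot_iff_fixed y).2 hfix)
  have hqx : χ x = (q : ℂ) := by
    rw [← hy, ← hq]
    simp
  have hint : IsIntegral ℤ (q : ℚ) := by
    have h : IsIntegral ℤ (algebraMap ℚ ℂ q) := by
      rw [eq_ratCast, ← hqx]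
      obtain ⟨n, ρ, rfl⟩ := hχ
      exact CfsgLib.CharIntegral.isIntegral_character ρ x
    exact (isIntegral_algebraMap_iff (algebraMap ℚ ℂ).injective).1 h
  obtain ⟨i, hi⟩ := IsIntegrallyClosed.isIntegral_iff.mp hint
  exact ⟨i, by rw [hqx, ← hi]; simp⟩

end CfsgLib.Perm.RationalValue
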