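import Cfsg.Agent.Lib.Perm.SylowNormalizer
import Mathlib.GroupTheory.GroupAction.Quotient

/-!
Counting the elements of prime order and conjugacy classes.
-/

namespace CfsgLib.Perm

open Subgroup MulAction

variable {G : Type*} [Group G]

/-- Conjugation preserves orders. -/
theorem orderOf_conj_eq (c g : G) : orderOf (c * g * c⁻¹) = orderOf g :=
  orderOf_injective (MulAut.conj c).toMonoidHom (MulAut.conj c).injective g

/-- The size of a conjugacy class times the order of the centraliser. -/
theorem card_isConj_mul_card_centralizer (u : G) :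
    Nat.card {y : G // IsConj u y} * Nat.card (centralizer ({u} : Set G)) = Nat.card G := by
  have horb : (centralizer ({u} : Set G)).index = Nat.card {y : G // IsConj u y} := by
    have := MulAction.index_stabilizer (ConjAct G) u
    rw [ConjAct.stabilizer_eq_centralizer, ← Nat.card_coe_set_eq] at this
    rw [← Nat.card_congr (Equiv.subtypeEquivRight fun y => (ConjAct.mem_orbit_conjAct).trans
      isConj_comm)]
    exact this
  rw [← horb, index_mul_card]

variable [Finite G] {p : ℕ} [Fact p.Prime]

/-- An element of prime order lies in a Sylow subgroup. -/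
theorem exists_mem_sylow_of_orderOf {g : G} {k : ℕ} (h : orderOf g = p ^ k) :
    ∃ Q : Sylow p G, g ∈ (Q : Subgroup G) := by
  obtain ⟨Q, hQ⟩ := (IsPGroup.of_card (n := k) (G := zpowers g)
    (by rw [Nat.card_zpowers, h])).exists_le_sylow
  exact ⟨Q, hQ (mem_zpowers g)⟩

/-- In a Sylow subgroup of prime order every non-trivial element is a generator. -/
theorem eq_zpowers_of_mem_sylow (Q : Sylow p G) (hQ : Nat.card (Q : Subgroup G) = p) {g : G}
    (hg : g ∈ (Q : Subgroup G)) (hg1 : g ≠ 1) :
    orderOf g = p ∧ (Q : Subgroup G) = zpowers g := by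
  have h1 : orderOf g = p := by
    rcases (Nat.dvd_prime (Fact.out : p.Prime)).1
      ((Subgroup.orderOf_coe (⟨g, hg⟩ : (Q : Subgroup G))) ▸ hQ ▸ _root_.orderOf_dvd_natCard _) with h | h
    · exact absurd (orderOf_eq_one_iff.1 h) hg1
    · exact h
  refine ⟨h1, (eq_of_le_of_card_ge (zpowers_le.2 hg) ?_).symm⟩
  rw [hQ, Nat.card_zpowers, h1]

/-- All Sylow subgroups have the same order. -/
theorem card_sylow_congr (P Q : Sylow p G) :
    Nat.card (P : Subgroup G) = Nat.card (Q : Subgroup G) := by
  rw [P.card_eq_multiplicity, Q.card_eq_multiplicity]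

/-- The number of elements of order `p` when the Sylow subgroups have order `p`. -/
theorem card_orderOf_eq_prime (P : Sylow p G) (hP : Nat.card (P : Subgroup G) = p) :
    Nat.card {g : G // orderOf g = p} = (p - 1) * Nat.card (Sylow p G) := by
  classical
  have hp : p.Prime := Fact.out
  have hQc : ∀ Q : Sylow p G, Nat.card (Q : Subgroup G) = p := fun Q =>
    (card_sylow_congr Q P).trans hP
  have hne1 : ∀ g : {g : G // orderOf g = p}, (g : G) ≠ 1 := fun g h => by
    have := g.2
    rw [h, orderOf_one] at this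
    exact hp.ne_one this.symm
  choose τ hτ using fun g : {g : G // orderOf g = p} =>
    exists_mem_sylow_of_orderOf (p := p) (k := 1) (g := (g : G)) (by rw [pow_one]; exact g.2)
  let e₁ : {g : G // orderOf g = p} ≃ Σ Q : Sylow p G, {g : (Q : Subgroup G) // g ≠ 1} :=
  { toFun := fun g => ⟨τ g, ⟨⟨g, hτ g⟩, fun h => hne1 g (congrArg Subtype.val h)⟩⟩
    invFun := fun q => ⟨((q.2 : (q.1 : Subgroup G)) : G),
      (eq_zpowers_of_mem_sylow q.1 (hQc _) q.2.1.2 fun h => q.2.2 (Subtype.ext h)).1⟩
    left_inv := fun g => Subtype.ext rfl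
    right_inv := fun q => by
      obtain ⟨Q, ⟨⟨g, hgQ⟩, hg1⟩⟩ := q
      have hg1' : g ≠ 1 := fun h => hg1 (Subtype.ext h)
      have hQ : τ ⟨g, (eq_zpowers_of_mem_sylow Q (hQc Q) hgQ hg1').1⟩ = Q := Sylow.ext
        ((eq_zpowers_of_mem_sylow _ (hQc _) (hτ _) hg1').2.trans
          (eq_zpowers_of_mem_sylow Q (hQc Q) hgQ hg1').2.symm)
      have gen : ∀ (Q' : Sylow p G) (h : g ∈ (Q' : Subgroup G))
          (h1 : (⟨g, h⟩ : (Q' : Subgroup G)) ≠ 1), Q' = Q →
          (⟨Q', ⟨⟨g, h⟩, h1⟩⟩ : Σ R : Sylow p G, {y : (R : Subgroup G) // y ≠ 1}) =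
            ⟨Q, ⟨⟨g, hgQ⟩, hg1⟩⟩ := by
        intro Q' h h1 he
        subst he
        rfl
      exact gen _ _ _ hQ }
  let _ := Fintype.ofFinite (Sylow p G)
  rw [Nat.card_congr e₁, Nat.card_sigma]
  have : ∀ Q : Sylow p G, Nat.card {g : (Q : Subgroup G) // g ≠ 1} = p - 1 := by
    intro Q
    let _ := Fintype.ofFinite (Q : Subgroup G)
    rw [Nat.card_eq_fintype_card, Fintype.card_subtype_compl, Fintype.card_subtype_eq,
      ← Nat.card_eq_fintype_card, hQc Q]
  rw [Finset.sum_congr rfl (fun Q _ => this Q), Finset.sum_const, Finset.card_univ,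
    ← Nat.card_eq_fintype_card, smul_eq_mul, mul_comm]

/-- The centraliser of an element of prime order, when the Sylow subgroups have order `p` and the
centraliser of one of them has order `p`. -/
theorem card_centralizer_of_sylow (hC : ∀ Q : Sylow p G, Nat.card (centralizer ((Q : Subgroup G) : Set G)) = p)
    (P : Sylow p G) (hP : Nat.card (P : Subgroup G) = p) {g : G} (hg : orderOf g = p) :
    Nat.card (centralizer ({g} : Set G)) = p := by
  obtain ⟨Q, hQ⟩ := exists_mem_sylow_of_orderOf (p := p) (k := 1) (g := g) (by rw [pow_one]; exact hg)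
  have hg1 : g ≠ 1 := fun h => by
    rw [h, orderOf_one] at hg
    exact (Fact.out : p.Prime).ne_one hg.symm
  have := (eq_zpowers_of_mem_sylow Q ((card_sylow_congr Q P).trans hP) hQ hg1).2
  have heq : centralizer ({g} : Set G) = centralizer ((Q : Subgroup G) : Set G) := by
    refine le_antisymm ?_ (centralizer_le (Set.singleton_subset_iff.2 hQ))
    intro x hx
    rw [mem_centralizer_iff]
    intro y hy
    rw [this] at hy
    obtain ⟨i, rfl⟩ := hy
    exact ((show Commute x g from mem_centralizer_singleton_iff.1 hx).zpow_right i).eq.symm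
  rw [heq, hC Q]

end CfsgLib.Perm
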