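import Mathlib.Tactic

/-!
# Degrees dividing the order of a group with few Sylow subgroups of prime order
-/

set_option autoImplicit false

namespace CfsgLib.Perm.FewSylow

/-- `n` is not of the form `(h u p + u² + u + h) / (u + 1)`. -/
def Good (p n : ℕ) : Prop :=
  ∀ h u : ℕ, 0 < h → 0 < u → n * (u + 1) ≠ h * u * p + u ^ 2 + u + h

theorem good_of_lt {p n : ℕ} (hn : 2 * n < p + 3) : Good p n := by
  intro h u hh hu heq
  have h1 : u * p ≤ h * u * p := Nat.mul_le_mul_right p (Nat.le_mul_of_pos_left u hh)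
  have h2 : 2 * n * (u + 1) ≤ (p + 2) * (u + 1) := Nat.mul_le_mul_right _ (by omega)
  have h3 : p ≤ u * p := Nat.le_mul_of_pos_left p hu
  nlinarith

/-- A divisor congruent to `1`. -/
theorem deg_plus {p e t n r s : ℕ} (ht : e * t + 1 = p) (hp : 3 ≤ p) (hn : Good p n)
    (hr : 0 < r) (h : (r * p + 1) * s = e * (1 + n * p)) : r = n := by
  have he0 : 0 < e := Nat.pos_of_ne_zero fun h0 => by subst h0; simp at ht; omega
  have ht0 : 0 < t := Nat.pos_of_ne_zero fun h0 => by subst h0; simp at ht; omega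
  have hep : e < p := by nlinarith
  set v : ℤ := (e : ℤ) * n - r * s with hv
  have h' : ((r : ℤ) * p + 1) * s = e * (1 + n * p) := by exact_mod_cast h
  have hs : (s : ℤ) = e + p * v := by rw [hv]; linear_combination h'
  have hv0 : 0 ≤ v := by
    by_contra hneg
    nlinarith [Int.natCast_nonneg s, (by exact_mod_cast hep : (e : ℤ) < p),
      mul_le_mul_of_nonneg_left (show v ≤ -1 by omega) (Int.natCast_nonneg p)]
  have hkey : v * (1 + r * p) = e * ((n : ℤ) - r) := by
    have : v = (e : ℤ) * n - r * (e + p * v) := by rw [← hs]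
    linear_combination this
  rcases hv0.eq_or_lt with h0 | hpos
  · rw [← h0, zero_mul] at hkey
    have : (n : ℤ) - r = 0 := by
      rcases mul_eq_zero.1 hkey.symm with h1 | h1
      · omega
      · exact h1
    omega
  exfalso
  set k : ℤ := (n : ℤ) - r - r * t * v with hk
  have hp' : (e : ℤ) * t + 1 = p := by exact_mod_cast ht
  have h1 : (t : ℤ) * v + (n - r) = p * k := by
    rw [hk]
    linear_combination (t : ℤ) * hkey + ((n : ℤ) - r) * hp'
  have h2 : k * ((p : ℤ) - 1) = t * v * (r + 1) := by rw [hk] at h1 ⊢; linear_combination -h1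
  have hk0 : 1 ≤ k := by
    by_contra hneg
    nlinarith [mul_pos (mul_pos (by exact_mod_cast ht0 : (0 : ℤ) < t) hpos) (show (0 : ℤ) < r + 1 by positivity)]
  lift k to ℕ using by omega with k'
  refine hn k' r (by omega) hr ?_
  have h3 : (n : ℤ) * (r + 1) = k' * r * p + r ^ 2 + r + k' := by
    rw [hk] at h2 ⊢
    linear_combination -(r : ℤ) * h2
  exact_mod_cast h3

/-- A divisor congruent to `-1`. -/
theorem deg_minus {p e t n r d s : ℕ} (ht : e * t + 1 = p) (hp : 3 ≤ p) (hn : Good p n)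
    (hd : d + 1 = r * p) (h : d * s = e * (1 + n * p)) :
    (d = p - 1 ∧ t ∣ n + 1) ∨ s = 1 := by
  have he0 : 0 < e := Nat.pos_of_ne_zero fun h0 => by subst h0; simp at ht; omega
  have ht0 : 0 < t := Nat.pos_of_ne_zero fun h0 => by subst h0; simp at ht; omega
  have hs0 : 0 < s := Nat.pos_of_ne_zero fun h0 => by
    subst h0; simp at h; omega
  have hr0 : 0 < r := Nat.pos_of_ne_zero fun h0 => by subst h0; simp at hd
  set v : ℤ := (r : ℤ) * s - e * n with hv
  have h' : ((r : ℤ) * p - 1) * s = e * (1 + n * p) := by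
    rw [show (r : ℤ) * p - 1 = d by push_cast [← Nat.cast_mul, ← hd]; ring]
    exact_mod_cast h
  have hs : (s : ℤ) = p * v - e := by rw [hv]; linear_combination -h'
  have hv1 : 1 ≤ v := by
    by_contra hneg
    nlinarith [(by exact_mod_cast hs0 : (0 : ℤ) < s)]
  have hkey : v * (r * p - 1) = e * ((n : ℤ) + r) := by
    have : v = (r : ℤ) * (p * v - e) - e * n := by rw [← hs]
    linear_combination -this
  set k : ℤ := (n : ℤ) + r - r * t * v with hk
  have hp' : (e : ℤ) * t + 1 = p := by exact_mod_cast ht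
  have h1 : ((n : ℤ) + r) - t * v = p * k := by
    rw [hk]
    linear_combination (t : ℤ) * hkey + ((n : ℤ) + r) * hp'
  have h2 : k * ((p : ℤ) - 1) = t * v * (r - 1) := by rw [hk] at h1 ⊢; linear_combination -h1
  rcases eq_or_lt_of_le (Nat.one_le_iff_ne_zero.2 hr0.ne') with h3 | h3
  · subst h3
    refine Or.inl ⟨by omega, ?_⟩
    simp only [Nat.cast_one, sub_self, mul_zero, mul_eq_zero] at h2
    have hk0 : k = 0 := by rcases h2 with h4 | h4 <;> omega
    refine Int.natCast_dvd_natCast.1 ⟨v, ?_⟩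
    rw [hk] at hk0
    push_cast at hk0 ⊢
    linear_combination hk0
  right
  have hr2 : (2 : ℤ) ≤ r := by exact_mod_cast h3
  have ht1 : (1 : ℤ) ≤ t := by exact_mod_cast ht0
  rcases eq_or_lt_of_le (show 1 ≤ (t : ℤ) * v by nlinarith) with h4 | h4
  · have hv' : v = 1 := by nlinarith
    have ht' : (t : ℤ) = 1 := by rw [hv', mul_one] at h4; exact h4.symm
    rw [hv'] at hs
    rw [ht', mul_one] at hp'
    omega
  exfalso
  have hk1 : 1 ≤ k := by
    by_contra hneg
    nlinarith
  lift k to ℕ using by omega with k'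
  obtain ⟨u, hu⟩ : ∃ u : ℕ, (u : ℤ) = t * v - 1 := ⟨((t : ℤ) * v - 1).toNat, Int.toNat_of_nonneg (by omega)⟩
  refine hn k' u (by omega) (by omega) ?_
  have h5 : (n : ℤ) * (u + 1) = k' * u * p + u ^ 2 + u + k' := by
    rw [hu]
    linear_combination (t : ℤ) * v * h1 + h2
  exact_mod_cast h5

/-- The degree of an exceptional character. -/
theorem deg_exc {p e t n D s : ℕ} (ht : e * t + 1 = p) (hp : 3 ≤ p) (hn : Good p n)
    (h : D * s = e * (1 + n * p)) (hD1 : D ≠ 1) (hDlt : D < e * (1 + n * p)) :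
    ((D : ℤ) ≡ e [ZMOD p] → D = e) ∧
      ((D : ℤ) ≡ -(e : ℤ) [ZMOD p] → ∃ c, n + 1 = c * t ∧ D + e = c * p) := by
  have he0 : 0 < e := Nat.pos_of_ne_zero fun h0 => by subst h0; simp at ht; omega
  have ht0 : 0 < t := Nat.pos_of_ne_zero fun h0 => by subst h0; simp at ht; omega
  have hep : e < p := by nlinarith
  have hpp : (e : ℤ) * t + 1 = p := by exact_mod_cast ht
  have h' : (D : ℤ) * s = e * (1 + n * p) := by exact_mod_cast h
  constructor
  · intro hmod
    obtain ⟨j, hj⟩ := (Int.modEq_iff_dvd.1 hmod.symm)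
    have hs : (p : ℤ) ∣ (s : ℤ) - 1 := by
      refine ⟨-(t : ℤ) * (e * n - j * s) + (s : ℤ) - 1, ?_⟩
      linear_combination (-(t : ℤ)) * h' + ((s : ℤ) - 1) * hpp + (t : ℤ) * (s : ℤ) * hj
    obtain ⟨r, hr⟩ := hs
    have hr0 : 0 ≤ r := by
      by_contra hneg
      nlinarith [Int.natCast_nonneg s]
    lift r to ℕ using hr0
    have hsr : s = r * p + 1 := by
      have : (s : ℤ) = r * p + 1 := by linarith
      exact_mod_cast this
    rcases Nat.eq_zero_or_pos r with h0 | h0
    · subst h0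
      simp at hsr
      subst hsr
      omega
    · have hrn := deg_plus ht hp hn h0 (s := D) (by rw [← hsr, mul_comm]; exact h)
      subst hrn hsr
      exact Nat.eq_of_mul_eq_mul_right (m := r * p + 1) (by omega) (by rw [h]; ring)
  · intro hmod
    obtain ⟨j, hj⟩ := (Int.modEq_iff_dvd.1 hmod.symm)
    have hs : (p : ℤ) ∣ (s : ℤ) + 1 := by
      refine ⟨(t : ℤ) * (e * n - j * s) + (s : ℤ) + 1, ?_⟩
      linear_combination (t : ℤ) * h' + ((s : ℤ) + 1) * hpp - (t : ℤ) * (s : ℤ) * hj
    obtain ⟨r, hr⟩ := hs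
    have hr0 : 0 ≤ r := by
      by_contra hneg
      nlinarith [Int.natCast_nonneg s]
    lift r to ℕ using hr0
    have hsr : s + 1 = r * p := by
      have : (s : ℤ) + 1 = r * p := by linarith
      exact_mod_cast this
    obtain ⟨hs1, c, hc⟩ := (deg_minus ht hp hn hsr (s := D) (by rw [mul_comm]; exact h)).resolve_right hD1
    refine ⟨c, by rw [hc, mul_comm], ?_⟩
    rw [hs1] at h
    refine Nat.eq_of_mul_eq_mul_left (show 0 < p - 1 by omega) ?_
    have h3 : e * t = p - 1 := by omega
    calc (p - 1) * (D + e) = D * (p - 1) + e * (p - 1) := by ring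
      _ = e * (1 + n * p) + e * (e * t) := by rw [h, h3]
      _ = e * ((n + 1) * p) := by subst ht; ring
      _ = (p - 1) * (c * p) := by rw [← h3, hc]; ring

end CfsgLib.Perm.FewSylow
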