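import Cfsg.Agent.Lib.Perm.FewSylowFrame
import Cfsg.Agent.Lib.Perm.FewSylowArith
import Cfsg.Agent.Lib.CharDegree.Counting
import Cfsg.Agent.Lib.Blocks.PrimeSylow.Principal
import Cfsg.Agent.Lib.ZStar.PrincipalBlock
import Cfsg.Agent.S4441
import Mathlib.Algebra.Order.Chebyshev

/-!
# The character table of a group with few Sylow subgroups of self-centralizing prime order

The non-principal characters fall into four sets: `Xp` (degree `1 + n p`), `Xm` (degree `p - 1`),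
`Y` (exceptional, degree `D`) and `K` (degree divisible by `p`).
-/

set_option autoImplicit false

namespace CfsgLib.Perm.FewSylow

open Cfsg CfsgLib.Char
open scoped ComplexConjugate Classical

variable {G : Type*} [Group G] [Fintype G] [Fintype (Cfsg.IrrCharacter G)]
variable {p : ℕ} [Fact p.Prime]

/-- A perfect group has only one linear character. -/
theorem eq_trivChar (hperf : commutator G = ⊤) (χ : IrrCharacter G)
    (h : charDegree (χ : G → ℂ) = 1) : χ = trivChar G := by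
  have h1 := (CfsgLib.CharDegree.charDegree_eq_one_iff χ).1 h
  refine Subtype.ext (funext fun g => ?_)
  rw [CfsgLib.CharDegree.le_ker_of_degree_one χ h (by rw [hperf]; exact Subgroup.mem_top g), h1,
    trivChar_apply]

/-- The principal block, arranged with the principal character outside the exceptional family. -/
theorem exists_block {P : Sylow p G} {a : G} {e t n : ℕ} (F : Frame P a e t n) :
    ∃ (X Y : Finset (IrrCharacter G)) (εX : IrrCharacter G → ℤ) (ε : ℤ), Disjoint X Y ∧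
      trivChar G ∈ X ∧ εX (trivChar G) = 1 ∧ X.card = e ∧ Y.card = t ∧
      (∀ χ ∈ X, (εX χ = 1 ∨ εX χ = -1) ∧ (charDegree (χ : G → ℂ) : ℤ) ≡ εX χ [ZMOD p] ∧
        ∀ x ∈ star (P : Subgroup G), (χ : G → ℂ) x = (εX χ : ℂ)) ∧
      (ε = 1 ∨ ε = -1) ∧ (∀ θ ∈ Y, (charDegree (θ : G → ℂ) : ℤ) ≡ ε * (e : ℤ) [ZMOD p]) ∧
      (∀ θ ∈ Y, ∀ θ' ∈ Y, ∀ g : G, ¬ p ∣ orderOf g → (θ : G → ℂ) g = (θ' : G → ℂ) g) ∧
      ∀ θ ∈ Y, ∀ g : G, ¬ p ∣ orderOf g →
        (ε : ℂ) * (θ : G → ℂ) g = ∑ χ ∈ X, (εX χ : ℂ) * (χ : G → ℂ) g := by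
  have hp : p.Prime := Fact.out
  have hp3 := F.p_three
  have het := F.et
  have hrel : (Subgroup.centralizer ((P : Subgroup G) : Set G)).relIndex
      (Subgroup.normalizer ((P : Subgroup G) : Set G)) = e := by
    have hC : Subgroup.centralizer ((P : Subgroup G) : Set G) = (P : Subgroup G) := by
      haveI : Nontrivial (P : Subgroup G) :=
        Finite.one_lt_card_iff_nontrivial.1 (by rw [F.card]; exact hp.one_lt)
      obtain ⟨⟨x, hx⟩, hx1⟩ := exists_ne (1 : (P : Subgroup G))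
      refine le_antisymm ?_ fun y hy => ?_
      · exact (Subgroup.centralizer_le (Set.singleton_subset_iff.2 hx)).trans
          (F.cent x hx fun h => hx1 (Subtype.ext h)).le
      · rw [Subgroup.mem_centralizer_iff]
        intro z hz
        haveI : IsCyclic (P : Subgroup G) := isCyclic_of_prime_card F.card
        exact congrArg Subtype.val ((IsCyclic.commGroup (α := (P : Subgroup G))).mul_comm ⟨z, hz⟩ ⟨y, hy⟩)
    rw [hC, Subgroup.relIndex]
    have h := ((P : Subgroup G).subgroupOf (Subgroup.normalizer ((P : Subgroup G) : Set G))).index_mul_card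
    rw [Nat.card_congr (Subgroup.subgroupOfEquivOfLe Subgroup.le_normalizer).toEquiv, F.card,
      F.cardN] at h
    exact Nat.eq_of_mul_eq_mul_right hp.pos h
  obtain ⟨M, hM⟩ := CfsgLib.ZStar.exists_isPModular hp
  haveI : M.IsPrime := hM.2.1.isPrime
  obtain ⟨X, Y, hB, hdisj, hXc, hYc, εX, ε, hX, hε, hYdeg, hYagree, hrelation⟩ :=
    Cfsg.Agent.S4441.result p M hM (by omega) P F.card e hrel
  have htY : (p - 1) / e = t := by
    rw [show p - 1 = e * t by omega, Nat.mul_div_cancel_left _ (by have := F.two; omega)]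
  rw [htY] at hYc
  have hX' : ∀ χ ∈ X.toFinset, (εX χ = 1 ∨ εX χ = -1) ∧
      (charDegree (χ : G → ℂ) : ℤ) ≡ εX χ [ZMOD p] ∧
      ∀ x ∈ star (P : Subgroup G), (χ : G → ℂ) x = (εX χ : ℂ) := by
    intro χ hχ
    obtain ⟨h1, h2, h3⟩ := hX χ (Set.mem_toFinset.1 hχ)
    refine ⟨h1, h2, fun x hx => ?_⟩
    have h4 := h3 x (mem_star.1 hx).2 (mem_star.1 hx).1 1 (one_mem _)
      (by rw [orderOf_one]; exact hp.not_dvd_one)
    rwa [mul_one] at h4
  have hrelation' : ∀ θ ∈ Y.toFinset, ∀ g : G, ¬ p ∣ orderOf g →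
      (ε : ℂ) * (θ : G → ℂ) g = ∑ χ ∈ X.toFinset, (εX χ : ℂ) * (χ : G → ℂ) g := by
    intro θ hθ g hg
    rw [hrelation θ (Set.mem_toFinset.1 hθ) g hg]
    exact finsum_mem_eq_toFinset_sum _ X
  have hdisj' : Disjoint X.toFinset Y.toFinset := Set.disjoint_toFinset.2 hdisj
  have hXc' : X.toFinset.card = e := by
    rw [← hXc, Nat.card_coe_set_eq, Set.ncard_eq_toFinset_card']
  have hYc' : Y.toFinset.card = t := by
    rw [← hYc, Nat.card_coe_set_eq, Set.ncard_eq_toFinset_card']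
  have htriv : trivChar G ∈ X ∪ Y := hB ▸ CfsgLib.ZStar.trivChar_mem_principalBlock
  have hsmall : ∀ z : ℤ, z ≡ 0 [ZMOD p] → |z| < p → z = 0 := fun z hz hlt =>
    Int.eq_zero_of_abs_lt_dvd (Int.modEq_zero_iff_dvd.1 hz) hlt
  by_cases hTX : trivChar G ∈ X
  · refine ⟨X.toFinset, Y.toFinset, εX, ε, hdisj', Set.mem_toFinset.2 hTX, ?_, hXc', hYc', hX', hε,
      fun θ hθ => hYdeg θ (Set.mem_toFinset.1 hθ),
      fun θ hθ θ' hθ' => hYagree θ (Set.mem_toFinset.1 hθ) θ' (Set.mem_toFinset.1 hθ'), hrelation'⟩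
    obtain ⟨h1, h2, -⟩ := hX' _ (Set.mem_toFinset.2 hTX)
    rcases h1 with h1 | h1
    · exact h1
    · rw [h1, show ((charDegree ((trivChar G : IrrCharacter G) : G → ℂ) : ℕ) : ℤ) = 1 by
        simp [trivChar_apply, Cfsg.charDegree]] at h2
      have := hsmall 2 (by simpa using h2.sub_right (-1 : ℤ)) (by simp; omega)
      omega
  -- the principal character lies in a one-element exceptional family
  have hTY : trivChar G ∈ Y.toFinset := Set.mem_toFinset.2 (htriv.resolve_left hTX)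
  have hdeg := hYdeg _ (Set.mem_toFinset.1 hTY)
  rw [show ((charDegree ((trivChar G : IrrCharacter G) : G → ℂ) : ℕ) : ℤ) = 1 by
    simp [trivChar_apply, Cfsg.charDegree]] at hdeg
  have he2 := F.two
  have hep := F.e_lt
  have hε1 : ε = -1 ∧ t = 1 := by
    rcases hε with h | h
    · subst h
      exfalso
      rw [one_mul] at hdeg
      have := hsmall ((e : ℤ) - 1) (by simpa using (hdeg.symm.sub_right 1)) (by rw [abs_lt]; omega)
      omega
    · subst h
      refine ⟨rfl, ?_⟩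
      have h2 : (p : ℤ) ∣ 1 + e := by
        have := Int.modEq_iff_dvd.1 hdeg.symm
        simpa using this
      have hle : p ≤ 1 + e := Nat.le_of_dvd (by omega) (by exact_mod_cast h2)
      nlinarith
  obtain ⟨rfl, ht1⟩ := hε1
  have hY1 : Y.toFinset = {trivChar G} := by
    obtain ⟨w, hw⟩ := Finset.card_eq_one.1 (hYc'.trans ht1)
    rw [hw] at hTY ⊢
    rw [Finset.mem_singleton.1 hTY]
  have he : (e : ℤ) + 1 = p := by
    have : e + 1 = p := by rw [← het, ht1, mul_one]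
    exact_mod_cast this
  obtain ⟨χ₀, hχ₀⟩ : X.toFinset.Nonempty := Finset.card_pos.1 (by omega)
  have hT0 : trivChar G ∉ X.toFinset := fun h => hTX (Set.mem_toFinset.1 h)
  have hne : χ₀ ≠ trivChar G := fun h => hT0 (h ▸ hχ₀)
  obtain ⟨hs0, hd0, hv0⟩ := hX' χ₀ hχ₀
  let εX' : IrrCharacter G → ℤ := fun χ => if χ = trivChar G then 1 else εX χ
  refine ⟨insert (trivChar G) (X.toFinset.erase χ₀), {χ₀}, εX', -εX χ₀,
    ?_, Finset.mem_insert_self _ _, if_pos rfl, ?_, by rw [Finset.card_singleton, ht1], ?_, ?_, ?_, ?_, ?_⟩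
  · simp [hne]
  · rw [Finset.card_insert_of_notMem (fun h => hT0 (Finset.mem_of_mem_erase h)),
      Finset.card_erase_of_mem hχ₀, hXc']
    omega
  · intro χ hχ
    rcases Finset.mem_insert.1 hχ with rfl | hχ
    · simp only [εX', if_pos, Int.cast_one, trivChar_apply, true_or, true_and, implies_true, and_true]
      simp [trivChar_apply, Cfsg.charDegree, Int.ModEq.refl]
    · have hm := Finset.mem_of_mem_erase hχ
      simp only [εX', if_neg (fun h : χ = trivChar G => hT0 (h ▸ hm))]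
      exact hX' χ hm
  · rcases hs0 with h | h <;> simp [h]
  · intro θ hθ
    rw [Finset.mem_singleton.1 hθ]
    refine hd0.trans (Int.modEq_iff_dvd.2 ⟨-εX χ₀, ?_⟩)
    linear_combination (-εX χ₀) * he
  · intro θ hθ θ' hθ' g _
    rw [Finset.mem_singleton.1 hθ, Finset.mem_singleton.1 hθ']
  · intro θ hθ g hg
    rw [Finset.mem_singleton.1 hθ]
    have h := hrelation' _ hTY g hg
    rw [← Finset.add_sum_erase _ _ hχ₀, trivChar_apply] at h
    rw [Finset.sum_insert (fun h => hT0 (Finset.mem_of_mem_erase h)), trivChar_apply,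
      Finset.sum_congr rfl (g := fun χ => (εX χ : ℂ) * (χ : G → ℂ) g) fun χ hχ => by
        simp only [εX', if_neg (fun h : χ = trivChar G => hT0 (h ▸ Finset.mem_of_mem_erase hχ))]]
    simp only [εX', if_pos, Int.cast_one, Int.cast_neg, mul_one] at h ⊢
    linear_combination h

/-- The four sets of non-principal characters and what is known of their values. -/
structure Table {P : Sylow p G} {a : G} {e t n : ℕ} (F : Frame P a e t n)
    (Xp Xm Y K : Finset (IrrCharacter G)) (c D : ℕ) (k : IrrCharacter G → ℕ) : Prop where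
  cases : (c = 0 ∧ D = e) ∨ (0 < c ∧ n + 1 = c * t ∧ D + e = c * p)
  dvd_t : t ∣ n + 1
  count : e = Xp.card * (n + 1) + c + 1
  cardY : Y.card = t
  split : ∀ f : IrrCharacter G → ℂ,
    ∑ χ, f χ = f (trivChar G) + ∑ χ ∈ Xp, f χ + ∑ χ ∈ Xm, f χ + ∑ χ ∈ Y, f χ + ∑ χ ∈ K, f χ
  nontriv : ∀ χ, χ ∈ Xp ∪ Xm ∪ Y ∪ K → χ ≠ trivChar G
  one_p : ∀ χ ∈ Xp, (χ : G → ℂ) 1 = (1 + n * p : ℕ)
  one_m : ∀ χ ∈ Xm, (χ : G → ℂ) 1 = (e * t : ℕ)
  one_Y : ∀ χ ∈ Y, (χ : G → ℂ) 1 = (D : ℕ)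
  one_K : ∀ χ ∈ K, (χ : G → ℂ) 1 = (k χ * p : ℕ)
  x_p : ∀ χ ∈ Xp, ∀ x ∈ star (P : Subgroup G), (χ : G → ℂ) x = 1
  x_m : ∀ χ ∈ Xm, ∀ x ∈ star (P : Subgroup G), (χ : G → ℂ) x = -1
  x_K : ∀ χ ∈ K, ∀ x ∈ star (P : Subgroup G), (χ : G → ℂ) x = 0
  x_Y : ∀ x ∈ star (P : Subgroup G),
    ∑ θ ∈ Y, (θ : G → ℂ) x * conj ((θ : G → ℂ) x) = (p : ℂ) - e
  x_sum : ∀ θ ∈ Y, (D : ℂ) + ∑ x ∈ star (P : Subgroup G), (θ : G → ℂ) x = p * c
  sumK : ∑ χ ∈ K, k χ ^ 2 = n
  v_m : ∀ χ ∈ Xm, ∀ v ∈ star (Subgroup.zpowers a), (χ : G → ℂ) v = 0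
  v_K : ∀ χ ∈ K, ∀ v ∈ star (Subgroup.zpowers a), (χ : G → ℂ) v = k χ
  v_p : ∀ χ ∈ Xp, ∀ v ∈ star (Subgroup.zpowers a), ‖(χ : G → ℂ) v‖ ≤ n + 1
  v_Y : ∀ θ ∈ Y, ∀ v ∈ star (Subgroup.zpowers a), ‖(θ : G → ℂ) v‖ ≤ c
  v_agree : ∀ θ ∈ Y, ∀ θ' ∈ Y, ∀ v ∈ star (Subgroup.zpowers a), (θ : G → ℂ) v = (θ' : G → ℂ) v
  v_rel : ∀ θ ∈ Y, ∀ v ∈ star (Subgroup.zpowers a),
    ∑ χ ∈ Xp, (χ : G → ℂ) v + (θ : G → ℂ) v = -1

set_option maxHeartbeats 800000 in
/-- The principal block with the values of all characters on `P`. -/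
theorem exists_values {P : Sylow p G} {a : G} {e t n : ℕ} (F : Frame P a e t n) :
    ∃ (X Y : Finset (IrrCharacter G)) (εX : IrrCharacter G → ℤ) (ε : ℤ), Disjoint X Y ∧
      trivChar G ∈ X ∧ εX (trivChar G) = 1 ∧ X.card = e ∧ Y.card = t ∧
      (∀ χ ∈ X, (εX χ = 1 ∨ εX χ = -1) ∧ (charDegree (χ : G → ℂ) : ℤ) ≡ εX χ [ZMOD p] ∧
        ∀ x ∈ star (P : Subgroup G), (χ : G → ℂ) x = (εX χ : ℂ)) ∧
      (ε = 1 ∨ ε = -1) ∧ (∀ θ ∈ Y, (charDegree (θ : G → ℂ) : ℤ) ≡ ε * (e : ℤ) [ZMOD p]) ∧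
      (∀ θ ∈ Y, ∀ θ' ∈ Y, ∀ g : G, ¬ p ∣ orderOf g → (θ : G → ℂ) g = (θ' : G → ℂ) g) ∧
      (∀ θ ∈ Y, ∀ g : G, ¬ p ∣ orderOf g →
        (ε : ℂ) * (θ : G → ℂ) g = ∑ χ ∈ X, (εX χ : ℂ) * (χ : G → ℂ) g) ∧
      (∀ θ ∈ Y, ∑ x ∈ star (P : Subgroup G), (θ : G → ℂ) x = -((ε : ℂ) * e)) ∧
      (∀ χ, χ ∉ X ∪ Y → ∀ x ∈ star (P : Subgroup G), (χ : G → ℂ) x = 0) ∧
      ∀ x ∈ star (P : Subgroup G),
        ∑ θ ∈ Y, (θ : G → ℂ) x * conj ((θ : G → ℂ) x) = (p : ℂ) - e := by
  have hp : p.Prime := Fact.out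
  have hp3 := F.p_three
  have het := F.et
  have he2 := F.two
  have hep := F.e_lt
  have ht0 := F.t_pos
  have hn0 := F.npos
  have hetC : (e : ℂ) * t + 1 = p := by exact_mod_cast het
  obtain ⟨X, Y, εX, ε, hdisj, hTX, hT1, hXc, hYc, hX, hε, hYdeg, hYagree, hrel⟩ := exists_block F
  set K := Finset.univ \ (X ∪ Y) with hKdef
  have hcl : ∀ (χ : IrrCharacter G) (g h : G), (χ : G → ℂ) (h * g * h⁻¹) = (χ : G → ℂ) g :=
    fun χ => IsIrr.isClassFunction χ.2
  let deg : IrrCharacter G → ℕ := fun χ => charDegree (χ : G → ℂ)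
  have hdeg : ∀ χ : IrrCharacter G, (χ : G → ℂ) 1 = (deg χ : ℂ) :=
    fun χ => (CfsgLib.CharDegree.cast_irrDegree χ).symm
  have hPsum : ∀ χ : IrrCharacter G, ∃ d : ℕ,
      (deg χ : ℂ) + ∑ x ∈ star (P : Subgroup G), (χ : G → ℂ) x = p * d := by
    intro χ
    obtain ⟨d, hd⟩ := CharAverage.exists_sum_eq (P : Subgroup G) (IsIrr.isCharacter χ.2)
    rw [sum_subgroup, F.card, hdeg] at hd
    exact ⟨d, hd⟩
  choose d hd using hPsum
  have hbound : ∀ χ : IrrCharacter G, ∀ v ∈ star (Subgroup.zpowers a), ‖(χ : G → ℂ) v‖ ≤ d χ := by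
    intro χ v hv
    have h := CharAverage.norm_sum_le (P : Subgroup G) (IsIrr.isCharacter χ.2)
      (F.zpowers_le_normalizer (mem_star.1 hv).2)
    rw [F.sum_coset (hcl χ) (mem_star.1 hv).2 (mem_star.1 hv).1, sum_subgroup, hdeg, hd, norm_mul,
      Complex.norm_natCast, ← Nat.cast_mul, Complex.natCast_re, Nat.cast_mul] at h
    exact le_of_mul_le_mul_left h (by exact_mod_cast hp.pos)
  have hdvdG : ∀ χ : IrrCharacter G, deg χ ∣ e * p * (1 + n * p) := fun χ =>
    F.cardG ▸ CfsgLib.CharDegree.charDegree_dvd_card χ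
  have hsq : ∀ χ : IrrCharacter G, deg χ ^ 2 ≤ e * p * (1 + n * p) := by
    intro χ
    have h : ∑ ψ : IrrCharacter G, deg ψ ^ 2 = Nat.card G := by
      rw [← Nat.cast_inj (R := ℂ), Nat.cast_sum, ← sum_sq_degree]
      exact Finset.sum_congr rfl fun ψ _ => by rw [hdeg, Nat.cast_pow]
    rw [← F.cardG, ← h]
    exact Finset.single_le_sum (f := fun ψ => deg ψ ^ 2) (fun _ _ => Nat.zero_le _) (Finset.mem_univ χ)
  have hne1 : ∀ χ : IrrCharacter G, χ ≠ trivChar G → deg χ ≠ 1 := fun χ hχ h =>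
    hχ (eq_trivChar F.perf χ h)
  -- the sums over the regular elements
  have hregsum : ∀ χ : IrrCharacter G, ∑ g ∈ Finset.univ.filter (fun g : G => ¬ p ∣ orderOf g), (χ : G → ℂ) g =
      (if χ = trivChar G then (Nat.card G : ℂ) else 0) -
        (1 + n * p : ℕ) * ∑ x ∈ star (P : Subgroup G), (χ : G → ℂ) x := by
    intro χ
    have h1 : ∑ g : G, (χ : G → ℂ) g = if χ = trivChar G then (Nat.card G : ℂ) else 0 := by
      have h := classInner_irr χ (trivChar G)
      simp only [Cfsg.classInner, trivChar_apply, map_one, mul_one] at h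
      rw [inv_mul_eq_iff_eq_mul₀ (Nat.cast_ne_zero.2 Nat.card_pos.ne')] at h
      rw [h]
      split_ifs <;> simp
    rw [← h1, ← F.sum_singular (hcl χ), eq_sub_iff_add_eq, add_comm,
      Finset.sum_filter_add_sum_filter_not]
  have hPcard : ((star (P : Subgroup G)).card : ℂ) = e * t := by rw [F.card_Pstar, Nat.cast_mul]
  have hεX : ∀ χ ∈ X, ∑ x ∈ star (P : Subgroup G), (χ : G → ℂ) x = (εX χ : ℂ) * (e * t) := by
    intro χ hχ
    rw [Finset.sum_congr rfl (fun x hx => (hX χ hχ).2.2 x hx), Finset.sum_const, nsmul_eq_mul,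
      hPcard, mul_comm]
  have hεX2 : ∀ χ ∈ X, (εX χ : ℂ) * εX χ = 1 := fun χ hχ => by
    rcases (hX χ hχ).1 with h | h <;> simp [h]
  have hε2 : (ε : ℂ) * ε = 1 := by rcases hε with h | h <;> simp [h]
  have hYsum : ∀ θ ∈ Y, ∑ x ∈ star (P : Subgroup G), (θ : G → ℂ) x = -((ε : ℂ) * e) := by
    intro θ hθ
    have hθT : θ ≠ trivChar G := fun h => Finset.disjoint_left.1 hdisj hTX (h ▸ hθ)
    have h1 := hregsum θ
    rw [if_neg hθT, zero_sub] at h1
    have h2 : (ε : ℂ) * ∑ g ∈ Finset.univ.filter (fun g : G => ¬ p ∣ orderOf g), (θ : G → ℂ) g = (1 + n * p : ℕ) * e := by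
      rw [Finset.mul_sum, Finset.sum_congr rfl (fun g hg => hrel θ hθ g (Finset.mem_filter.1 hg).2),
        Finset.sum_comm]
      simp only [← Finset.mul_sum, hregsum, mul_sub, Finset.sum_sub_distrib, mul_ite, mul_zero,
        Finset.sum_ite_eq', if_pos hTX, hT1, Int.cast_one, one_mul]
      rw [Finset.sum_congr rfl (g := fun _ => ((1 + n * p : ℕ) : ℂ) * ((e : ℂ) * t)) fun χ hχ => by
        rw [hεX χ hχ]
        linear_combination ((1 + n * p : ℕ) : ℂ) * ((e : ℂ) * t) * hεX2 χ hχ]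
      rw [Finset.sum_const, nsmul_eq_mul, hXc, F.cardG]
      push_cast
      linear_combination -(1 + (n : ℂ) * p) * (e : ℂ) * hetC
    rw [h1] at h2
    have h0 : ((1 + n * p : ℕ) : ℂ) ≠ 0 := Nat.cast_ne_zero.2 (by omega)
    refine mul_left_cancel₀ h0 ?_
    linear_combination (-(ε : ℂ)) * h2 -
      ((1 + n * p : ℕ) : ℂ) * (∑ x ∈ star (P : Subgroup G), (θ : G → ℂ) x) * hε2
  -- the exceptional characters on `P`
  have hnorm2 : ∀ θ ∈ Y, ∀ θ' ∈ Y, θ ≠ θ' → ∑ x ∈ star (P : Subgroup G),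
      ((θ : G → ℂ) x - (θ' : G → ℂ) x) * conj ((θ : G → ℂ) x - (θ' : G → ℂ) x) = 2 * e * p := by
    intro θ hθ θ' hθ' hne
    have h1 : ∑ g : G, ((θ : G → ℂ) g - (θ' : G → ℂ) g) * conj ((θ : G → ℂ) g - (θ' : G → ℂ) g) =
        2 * (Nat.card G : ℂ) := by
      have h : Cfsg.classInner ((θ : G → ℂ) - (θ' : G → ℂ)) ((θ : G → ℂ) - (θ' : G → ℂ)) = 2 := by
        rw [classInner_sub_left, classInner_sub_right, classInner_sub_right, classInner_irr_self,
          classInner_irr_self, classInner_irr_of_ne hne, classInner_irr_of_ne (Ne.symm hne)]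
        norm_num
      rw [Cfsg.classInner, inv_mul_eq_iff_eq_mul₀ (Nat.cast_ne_zero.2 Nat.card_pos.ne')] at h
      simp only [Pi.sub_apply] at h
      rw [h, mul_comm]
    have h2 := F.sum_singular (f := fun g => ((θ : G → ℂ) g - (θ' : G → ℂ) g) *
      conj ((θ : G → ℂ) g - (θ' : G → ℂ) g)) (fun g h => by simp only [hcl])
    rw [Finset.sum_filter_of_ne (fun g _ hg => by
      by_contra hr
      exact hg (by rw [hYagree θ hθ θ' hθ' g hr, sub_self, zero_mul])), h1, F.cardG] at h2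
    refine mul_left_cancel₀ (Nat.cast_ne_zero.2 (show 1 + n * p ≠ 0 by omega) : ((1 + n * p : ℕ) : ℂ) ≠ 0) ?_
    rw [← h2]
    push_cast
    ring
  let nY : G → ℝ := fun x => ∑ θ ∈ Y, Complex.normSq ((θ : G → ℂ) x)
  let nK : G → ℝ := fun x => ∑ χ ∈ K, Complex.normSq ((χ : G → ℂ) x)
  let S : G → ℝ := fun x => (∑ θ ∈ Y, (θ : G → ℂ) x).re
  have hcol : ∀ x ∈ star (P : Subgroup G), (e : ℝ) + nY x + nK x = p := by
    intro x hx
    have h := column_orthogonality x x
    rw [if_pos (IsConj.refl x), F.cent x (mem_star.1 hx).2 (mem_star.1 hx).1, F.card,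
      ← Finset.sum_sdiff (Finset.subset_univ (X ∪ Y)), Finset.sum_union hdisj,
      Finset.sum_congr rfl (s₁ := X) (g := fun _ => (1 : ℂ)) (fun χ hχ => by
        rw [(hX χ hχ).2.2 x hx, map_intCast, hεX2 χ hχ]),
      Finset.sum_const, hXc, nsmul_one] at h
    simp only [Complex.mul_conj] at h
    have h' : ((((e : ℝ) + nY x + nK x : ℝ)) : ℂ) = ((p : ℝ) : ℂ) := by
      simp only [nY, nK, Complex.ofReal_add, Complex.ofReal_sum, Complex.ofReal_natCast]
      rw [hKdef]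
      linear_combination h
    exact_mod_cast h'
  have hpair : ∀ θ ∈ Y, ∀ θ' ∈ Y, θ ≠ θ' → ∑ x ∈ star (P : Subgroup G),
      Complex.normSq ((θ : G → ℂ) x - (θ' : G → ℂ) x) = 2 * e * p := by
    intro θ hθ θ' hθ' hne
    have h := hnorm2 θ hθ θ' hθ' hne
    simp only [Complex.mul_conj] at h
    rw [← Complex.ofReal_sum] at h
    exact_mod_cast h
  have hS2 : ∀ x, ∑ θ ∈ Y, ∑ θ' ∈ Y, Complex.normSq ((θ : G → ℂ) x - (θ' : G → ℂ) x) =
      2 * t * nY x - 2 * Complex.normSq (∑ θ ∈ Y, (θ : G → ℂ) x) := by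
    intro x
    simp only [Complex.normSq_sub, Finset.sum_sub_distrib, Finset.sum_add_distrib, Finset.sum_const,
      hYc, nsmul_eq_mul, nY, ← Finset.mul_sum, ← Complex.re_sum]
    rw [← map_sum (starRingEnd ℂ), ← Finset.sum_mul, Complex.mul_conj, Complex.ofReal_re]
    ring
  have hSlow : (e * t : ℝ) ≤ ∑ x ∈ star (P : Subgroup G), Complex.normSq (∑ θ ∈ Y, (θ : G → ℂ) x) := by
    have hsum : ∑ x ∈ star (P : Subgroup G), S x = -((ε : ℝ) * e * t) := by
      simp only [S, ← Complex.re_sum]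
      rw [Finset.sum_comm, Finset.sum_congr rfl hYsum, Finset.sum_const, hYc, nsmul_eq_mul]
      simp
      ring
    have h1 := sq_sum_le_card_mul_sum_sq (s := star (P : Subgroup G)) (f := S)
    rw [hsum, F.card_Pstar] at h1
    have h2 : ∑ x ∈ star (P : Subgroup G), S x ^ 2 ≤
        ∑ x ∈ star (P : Subgroup G), Complex.normSq (∑ θ ∈ Y, (θ : G → ℂ) x) :=
      Finset.sum_le_sum fun x _ => by
        rw [pow_two]; exact Complex.re_sq_le_normSq _
    have hεr : (ε : ℝ) * ε = 1 := by rcases hε with h | h <;> simp [h]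
    have het0 : (0 : ℝ) < ((e * t : ℕ) : ℝ) := Nat.cast_pos.2 (Nat.mul_pos (by omega) ht0)
    refine le_trans ?_ h2
    refine le_of_mul_le_mul_left ?_ het0
    refine le_trans (le_of_eq ?_) h1
    push_cast
    linear_combination (-(e : ℝ) * t * e * t) * hεr
  have htot : ∑ x ∈ star (P : Subgroup G), (nY x + nK x) = (e * t : ℝ) * (p - e) := by
    rw [Finset.sum_congr rfl (g := fun _ => (p : ℝ) - e) (fun x hx => by linarith [hcol x hx]),
      Finset.sum_const, F.card_Pstar, nsmul_eq_mul]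
    push_cast; ring
  have hnK0 : ∀ x ∈ star (P : Subgroup G), nK x = 0 := by
    have h1 : ∑ θ ∈ Y, ∑ θ' ∈ Y, ∑ x ∈ star (P : Subgroup G),
        Complex.normSq ((θ : G → ℂ) x - (θ' : G → ℂ) x) = (t : ℝ) * ((t : ℝ) - 1) * (2 * e * p) := by
      rw [Finset.sum_congr rfl (g := fun _ => ((t : ℝ) - 1) * (2 * e * p)) fun θ hθ => by
        rw [← Finset.add_sum_erase _ _ hθ,
          Finset.sum_congr rfl (s₁ := Y.erase θ) (fun θ' hθ' =>
            hpair θ hθ θ' (Finset.mem_of_mem_erase hθ') (Finset.ne_of_mem_erase hθ').symm)]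
        simp only [sub_self, map_zero, Finset.sum_const_zero, zero_add, Finset.sum_const,
          Finset.card_erase_of_mem hθ, hYc, nsmul_eq_mul, Nat.cast_sub (show 1 ≤ t by omega),
          Nat.cast_one]]
      rw [Finset.sum_const, hYc, nsmul_eq_mul]; ring
    rw [Finset.sum_congr rfl (fun θ _ => Finset.sum_comm), Finset.sum_comm,
      Finset.sum_congr rfl (fun x _ => hS2 x), Finset.sum_sub_distrib, ← Finset.mul_sum,
      ← Finset.mul_sum] at h1
    have htpos : (0 : ℝ) < t := Nat.cast_pos.2 ht0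
    have hpR : (e : ℝ) * t + 1 = p := by exact_mod_cast het
    have h2 : (t : ℝ) * ((e : ℝ) * t * (p - e)) ≤ t * ∑ x ∈ star (P : Subgroup G), nY x := by
      nlinarith [hpR]
    have h3 := le_of_mul_le_mul_left h2 htpos
    rw [Finset.sum_add_distrib] at htot
    have h4 : ∑ x ∈ star (P : Subgroup G), nK x = 0 := le_antisymm (by linarith)
      (Finset.sum_nonneg fun x _ => Finset.sum_nonneg fun χ _ => Complex.normSq_nonneg _)
    exact (Finset.sum_eq_zero_iff_of_nonneg fun x _ =>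
      Finset.sum_nonneg fun χ _ => Complex.normSq_nonneg _).1 h4
  have hK0 : ∀ χ ∈ K, ∀ x ∈ star (P : Subgroup G), (χ : G → ℂ) x = 0 := fun χ hχ x hx =>
    Complex.normSq_eq_zero.1 ((Finset.sum_eq_zero_iff_of_nonneg
      (fun ψ _ => Complex.normSq_nonneg _)).1 (hnK0 x hx) χ hχ)
  refine ⟨X, Y, εX, ε, hdisj, hTX, hT1, hXc, hYc, hX, hε, hYdeg, hYagree, hrel, hYsum,
    fun χ hχ => hK0 χ (Finset.mem_sdiff.2 ⟨Finset.mem_univ χ, hχ⟩), fun x hx => ?_⟩
  simp only [Complex.mul_conj, ← Complex.ofReal_sum]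
  have h := hcol x hx
  rw [hnK0 x hx, add_zero] at h
  show ((nY x : ℝ) : ℂ) = _
  rw [show nY x = (p : ℝ) - e by linarith]
  push_cast; ring

set_option maxHeartbeats 1600000 in
theorem exists_table {P : Sylow p G} {a : G} {e t n : ℕ} (F : Frame P a e t n)
    (hn : Good p n) : ∃ Xp Xm Y K c D k, Table F Xp Xm Y K c D k := by
  have hp : p.Prime := Fact.out
  have hp3 := F.p_three
  have het := F.et
  have he2 := F.two
  have hep := F.e_lt
  have ht0 := F.t_pos
  have hn0 := F.npos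
  have hetC : (e : ℂ) * t + 1 = p := by exact_mod_cast het
  obtain ⟨X, Y, εX, ε, hdisj, hTX, hT1, hXc, hYc, hX, hε, hYdeg, hYagree, hrel, hYsum, hK0', hY2⟩ :=
    exists_values F
  set K := Finset.univ \ (X ∪ Y) with hKdef
  have hcl : ∀ (χ : IrrCharacter G) (g h : G), (χ : G → ℂ) (h * g * h⁻¹) = (χ : G → ℂ) g :=
    fun χ => IsIrr.isClassFunction χ.2
  let deg : IrrCharacter G → ℕ := fun χ => charDegree (χ : G → ℂ)
  have hdeg : ∀ χ : IrrCharacter G, (χ : G → ℂ) 1 = (deg χ : ℂ) :=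
    fun χ => (CfsgLib.CharDegree.cast_irrDegree χ).symm
  have hPsum : ∀ χ : IrrCharacter G, ∃ d : ℕ,
      (deg χ : ℂ) + ∑ x ∈ star (P : Subgroup G), (χ : G → ℂ) x = p * d := by
    intro χ
    obtain ⟨d, hd⟩ := CharAverage.exists_sum_eq (P : Subgroup G) (IsIrr.isCharacter χ.2)
    rw [sum_subgroup, F.card, hdeg] at hd
    exact ⟨d, hd⟩
  choose d hd using hPsum
  have hbound : ∀ χ : IrrCharacter G, ∀ v ∈ star (Subgroup.zpowers a), ‖(χ : G → ℂ) v‖ ≤ d χ := by
    intro χ v hv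
    have h := CharAverage.norm_sum_le (P : Subgroup G) (IsIrr.isCharacter χ.2)
      (F.zpowers_le_normalizer (mem_star.1 hv).2)
    rw [F.sum_coset (hcl χ) (mem_star.1 hv).2 (mem_star.1 hv).1, sum_subgroup, hdeg, hd, norm_mul,
      Complex.norm_natCast, ← Nat.cast_mul, Complex.natCast_re, Nat.cast_mul] at h
    exact le_of_mul_le_mul_left h (by exact_mod_cast hp.pos)
  have hdvdG : ∀ χ : IrrCharacter G, deg χ ∣ e * p * (1 + n * p) := fun χ =>
    F.cardG ▸ CfsgLib.CharDegree.charDegree_dvd_card χ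
  have hsq : ∀ χ : IrrCharacter G, deg χ ^ 2 ≤ e * p * (1 + n * p) := by
    intro χ
    have h : ∑ ψ : IrrCharacter G, deg ψ ^ 2 = Nat.card G := by
      rw [← Nat.cast_inj (R := ℂ), Nat.cast_sum, ← sum_sq_degree]
      exact Finset.sum_congr rfl fun ψ _ => by rw [hdeg, Nat.cast_pow]
    rw [← F.cardG, ← h]
    exact Finset.single_le_sum (f := fun ψ => deg ψ ^ 2) (fun _ _ => Nat.zero_le _) (Finset.mem_univ χ)
  have hne1 : ∀ χ : IrrCharacter G, χ ≠ trivChar G → deg χ ≠ 1 := fun χ hχ h =>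
    hχ (eq_trivChar F.perf χ h)
  have hPcard : ((star (P : Subgroup G)).card : ℂ) = e * t := by rw [F.card_Pstar, Nat.cast_mul]
  have hεX : ∀ χ ∈ X, ∑ x ∈ star (P : Subgroup G), (χ : G → ℂ) x = (εX χ : ℂ) * (e * t) := by
    intro χ hχ
    rw [Finset.sum_congr rfl (fun x hx => (hX χ hχ).2.2 x hx), Finset.sum_const, nsmul_eq_mul,
      hPcard, mul_comm]
  have hεX2 : ∀ χ ∈ X, (εX χ : ℂ) * εX χ = 1 := fun χ hχ => by
    rcases (hX χ hχ).1 with h | h <;> simp [h]
  have hK0 : ∀ χ ∈ K, ∀ x ∈ star (P : Subgroup G), (χ : G → ℂ) x = 0 := fun χ hχ =>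
    hK0' χ (Finset.mem_sdiff.1 hχ).2
  have hdK : ∀ χ ∈ K, deg χ = d χ * p := by
    intro χ hχ
    have h := hd χ
    rw [Finset.sum_eq_zero (hK0 χ hχ), add_zero] at h
    rw [mul_comm]
    exact_mod_cast h
  have hdX : ∀ χ ∈ X, (deg χ : ℤ) + εX χ * (e * t) = p * d χ := by
    intro χ hχ
    have h := hd χ
    rw [hεX χ hχ] at h
    exact_mod_cast h
  have hdY : ∀ θ ∈ Y, (deg θ : ℤ) - ε * e = p * d θ := by
    intro θ hθ
    have h := hd θ
    rw [hYsum θ hθ] at h
    exact_mod_cast h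
  have hetZ : (e : ℤ) * t + 1 = p := by exact_mod_cast het
  have hcop : ∀ χ : IrrCharacter G, ¬ p ∣ deg χ → ∃ s, deg χ * s = e * (1 + n * p) := by
    intro χ hχ
    have h : deg χ ∣ p * (e * (1 + n * p)) := by
      rw [show p * (e * (1 + n * p)) = e * p * (1 + n * p) by ring]; exact hdvdG χ
    obtain ⟨s, hs⟩ := ((hp.coprime_iff_not_dvd.2 hχ).symm).dvd_of_dvd_mul_left h
    exact ⟨s, hs.symm⟩
  set X0 := X.erase (trivChar G) with hX0
  have hnp : p * (e * t + 1) = p * p := by rw [het]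
  -- the two kinds of members of `X`
  have hXkind : ∀ χ ∈ X0, (εX χ = 1 ∧ deg χ = 1 + n * p ∧ d χ = n + 1) ∨
      (εX χ = -1 ∧ deg χ = e * t ∧ d χ = 0 ∧ t ∣ n + 1) := by
    intro χ hχ
    have hχX := Finset.mem_of_mem_erase hχ
    have h1 := hdX χ hχX
    have hne := hne1 χ (Finset.ne_of_mem_erase hχ)
    have hpd : ¬ p ∣ deg χ := by
      intro h
      have h2 : (p : ℤ) ∣ εX χ * (e * t) := by
        rw [show εX χ * (e * t) = p * d χ - deg χ by linarith]
        exact dvd_sub (dvd_mul_right _ _) (Int.natCast_dvd_natCast.2 h)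
      have h3 : (p : ℤ) ∣ ((e * t : ℕ) : ℤ) := by
        rcases (hX χ hχX).1 with h4 | h4 <;> rw [h4] at h2 <;> simpa using h2
      have h5 := Nat.le_of_dvd (Nat.mul_pos (by omega) ht0) (Int.natCast_dvd_natCast.1 h3)
      omega
    obtain ⟨s, hs⟩ := hcop χ hpd
    rcases (hX χ hχX).1 with hs1 | hs1 <;> rw [hs1] at h1
    · left
      refine ⟨hs1, ?_⟩
      have hd0 : 1 ≤ d χ := by
        by_contra h0
        have : d χ = 0 := by omega
        rw [this] at h1
        push_cast at h1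
        have h0' : (0 : ℤ) < (e : ℤ) * t := mul_pos (by omega) (by omega)
        linarith [Int.natCast_nonneg (deg χ)]
      obtain ⟨r, hr⟩ : ∃ r, d χ = r + 1 := ⟨d χ - 1, by omega⟩
      have hdeg' : deg χ = r * p + 1 := by
        rw [hr] at h1
        push_cast at h1
        have : (deg χ : ℤ) = r * p + 1 := by linarith
        exact_mod_cast this
      have hr0 : 0 < r := Nat.pos_of_ne_zero fun h0 => by rw [h0] at hdeg'; simp at hdeg'; exact hne hdeg'
      have hrn := deg_plus het hp3 hn hr0 (hdeg' ▸ hs)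
      subst hrn
      exact ⟨by rw [hdeg', add_comm], hr⟩
    · right
      refine ⟨hs1, ?_⟩
      have hdeg' : deg χ + 1 = (d χ + 1) * p := by
        have : (deg χ : ℤ) + 1 = (d χ + 1) * p := by linarith
        exact_mod_cast this
      obtain ⟨h4, h5⟩ : deg χ = p - 1 ∧ t ∣ n + 1 := by
        refine (deg_minus het hp3 hn hdeg' hs).resolve_right fun h1 => ?_
        rw [h1, mul_one] at hs
        have h3 := hsq χ
        rw [hs, show e * p * (1 + n * p) = p * (e * (1 + n * p)) by ring, pow_two] at h3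
        have h4 := Nat.le_of_mul_le_mul_right h3 (Nat.mul_pos (by omega) (by omega))
        nlinarith [Nat.le_mul_of_pos_left p hn0, Nat.mul_le_mul_right (1 + n * p) he2]
      refine ⟨by omega, ?_, h5⟩
      rw [h4] at hdeg'
      have : (d χ + 1) * p = 1 * p := by omega
      have := Nat.eq_of_mul_eq_mul_right hp.pos this
      omega
  -- the exceptional degree
  obtain ⟨θ₀, hθ₀⟩ : Y.Nonempty := Finset.card_pos.1 (by omega)
  have hθT : θ₀ ≠ trivChar G := fun h => Finset.disjoint_left.1 hdisj hTX (h ▸ hθ₀)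
  set D := deg θ₀ with hD
  set c := d θ₀ with hc
  have hYD : ∀ θ ∈ Y, deg θ = D ∧ d θ = c := by
    intro θ hθ
    have h := hYagree θ hθ θ₀ hθ₀ 1 (by rw [orderOf_one]; exact hp.not_dvd_one)
    rw [hdeg, hdeg] at h
    have h1 : deg θ = D := by exact_mod_cast h
    refine ⟨h1, ?_⟩
    have h2 := hdY θ hθ
    rw [h1, hdY θ₀ hθ₀] at h2
    have h3 : (d θ₀ : ℤ) = d θ := mul_left_cancel₀ (by exact_mod_cast hp.ne_zero) h2
    exact_mod_cast h3.symm
  have hpD : ¬ p ∣ D := by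
    intro h
    have h2 : (p : ℤ) ∣ ε * e := by
      rw [show ε * (e : ℤ) = (deg θ₀ : ℤ) - p * d θ₀ by linarith [hdY θ₀ hθ₀]]
      exact dvd_sub (Int.natCast_dvd_natCast.2 h) (dvd_mul_right _ _)
    have h3 : (p : ℤ) ∣ (e : ℤ) := by rcases hε with h4 | h4 <;> rw [h4] at h2 <;> simpa using h2
    have h5 := Nat.le_of_dvd (by omega) (Int.natCast_dvd_natCast.1 h3)
    omega
  obtain ⟨s, hs⟩ := hcop θ₀ hpD
  have hDlt : D < e * (1 + n * p) := by
    by_contra hge
    rw [not_lt] at hge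
    have h1 := (Nat.pow_le_pow_left hge 2).trans (hsq θ₀)
    rw [show e * p * (1 + n * p) = p * (e * (1 + n * p)) by ring, pow_two] at h1
    have h2 := Nat.le_of_mul_le_mul_right h1 (Nat.mul_pos (by omega) (by omega))
    nlinarith [Nat.le_mul_of_pos_left p hn0, Nat.mul_le_mul_right (1 + n * p) he2]
  obtain ⟨hexp, hexm⟩ := deg_exc het hp3 hn hs (hne1 θ₀ hθT) hDlt
  have hmod : (D : ℤ) ≡ ε * e [ZMOD p] := hYdeg θ₀ hθ₀
  -- the relation at the identity
  have hone : ∀ χ : IrrCharacter G, (χ : G → ℂ) 1 = (deg χ : ℂ) := hdeg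
  set Xp := X0.filter (fun χ => εX χ = 1) with hXp
  set Xm := X0.filter (fun χ => ¬ εX χ = 1) with hXm
  have hp' : ∀ χ ∈ Xp, εX χ = 1 ∧ deg χ = 1 + n * p ∧ d χ = n + 1 := fun χ hχ => by
    obtain ⟨h1, h2⟩ := Finset.mem_filter.1 hχ
    rcases hXkind χ h1 with h | ⟨h, -⟩
    · exact h
    · rw [h] at h2; norm_num at h2
  have hm' : ∀ χ ∈ Xm, εX χ = -1 ∧ deg χ = e * t ∧ d χ = 0 ∧ t ∣ n + 1 := fun χ hχ => by
    obtain ⟨h1, h2⟩ := Finset.mem_filter.1 hχ
    rcases hXkind χ h1 with ⟨h, -⟩ | h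
    · exact absurd h h2
    · exact h
  have hsplitX : ∀ f : IrrCharacter G → ℂ,
      ∑ χ ∈ X, f χ = f (trivChar G) + ∑ χ ∈ Xp, f χ + ∑ χ ∈ Xm, f χ := fun f => by
    rw [add_assoc, hXp, hXm, Finset.sum_filter_add_sum_filter_not, hX0, Finset.add_sum_erase _ _ hTX]
  have hcardX : Xp.card + Xm.card + 1 = e := by
    rw [hXp, hXm, Finset.card_filter_add_card_filter_not, hX0, Finset.card_erase_of_mem hTX, hXc]
    omega
  have hE : (ε : ℤ) * D = 1 + Xp.card * (1 + n * p : ℤ) - Xm.card * (e * t : ℤ) := by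
    have h := hrel θ₀ hθ₀ 1 (by rw [orderOf_one]; exact hp.not_dvd_one)
    rw [hsplitX, trivChar_apply, hT1, hone,
      Finset.sum_congr rfl (s₁ := Xp) (g := fun _ => ((1 + n * p : ℕ) : ℂ)) (fun χ hχ => by
        rw [hone, (hp' χ hχ).1, (hp' χ hχ).2.1, Int.cast_one, one_mul]),
      Finset.sum_congr rfl (s₁ := Xm) (g := fun _ => -((e * t : ℕ) : ℂ)) (fun χ hχ => by
        rw [hone, (hm' χ hχ).1, (hm' χ hχ).2.1]; simp)] at h
    simp only [Finset.sum_const, nsmul_eq_mul, Int.cast_one, mul_one] at h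
    push_cast at h
    have h' : (((ε : ℤ) * D : ℤ) : ℂ) =
        ((1 + Xp.card * (1 + n * p : ℤ) - Xm.card * (e * t : ℤ) : ℤ) : ℂ) := by
      push_cast; linear_combination h
    exact_mod_cast h'
  have hcX : (Xp.card : ℤ) + Xm.card + 1 = e := by exact_mod_cast hcardX
  have hmain : ((c = 0 ∧ D = e) ∨ (0 < c ∧ n + 1 = c * t ∧ D + e = c * p)) ∧ t ∣ n + 1 ∧
      e = Xp.card * (n + 1) + c + 1 := by
    have hdy := hdY θ₀ hθ₀
    rw [← hc] at hdy
    rcases hε with he | he <;> rw [he] at hdy hmod hE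
    · have hDe : D = e := hexp (by simpa using hmod)
      have hdD : ((deg θ₀ : ℕ) : ℤ) = (e : ℤ) := by rw [← hDe]
      simp only [hdD, hDe] at hdy hE
      have hc0 : c = 0 := by
        rcases Nat.eq_zero_or_pos c with h | h
        · exact h
        · exfalso
          push_cast at hdy
          nlinarith
      have hkey : (p : ℤ) * (e - Xp.card * (n + 1) - 1) = 0 := by
        linear_combination hE - ((Xm.card : ℤ)) * hetZ + (1 - (p : ℤ)) * hcX
      have h2 : e = Xp.card * (n + 1) + 1 := by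
        have := (mul_eq_zero.1 hkey).resolve_left (by exact_mod_cast hp.ne_zero)
        have h3 : (e : ℤ) = Xp.card * (n + 1) + 1 := by linarith
        exact_mod_cast h3
      refine ⟨Or.inl ⟨hc0, hDe⟩, ?_, by rw [hc0, add_zero]; exact h2⟩
      have hXm0 : Xm.Nonempty := by
        rw [← Finset.card_pos]
        by_contra h0
        have h1 : Xm.card = 0 := by omega
        rw [h1, add_zero] at hcardX
        nlinarith
      obtain ⟨χ, hχ⟩ := hXm0
      exact (hm' χ hχ).2.2.2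
    · obtain ⟨c', hc', hDc⟩ := hexm (by simpa using hmod)
      have hcc : c' = c := by
        have h3 : (c' : ℤ) * p = p * c := by
          rw [← hdy]
          have : ((D + e : ℕ) : ℤ) = ((c' * p : ℕ) : ℤ) := by rw [hDc]
          push_cast at this
          linarith
        rw [mul_comm] at h3
        exact_mod_cast mul_left_cancel₀ (by exact_mod_cast hp.ne_zero) h3
      rw [hcc] at hc' hDc
      refine ⟨Or.inr ⟨Nat.pos_of_ne_zero fun h0 => ?_, hc', hDc⟩, ⟨c, by rw [hc', mul_comm]⟩, ?_⟩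
      · rw [h0, zero_mul] at hc'; omega
      · have hDc : (D : ℤ) + e = c * p := by exact_mod_cast hDc
        have hkey : (p : ℤ) * (e - Xp.card * (n + 1) - c - 1) = 0 := by
          linear_combination hE + hDc - ((Xm.card : ℤ)) * hetZ + (1 - (p : ℤ)) * hcX
        have := (mul_eq_zero.1 hkey).resolve_left (by exact_mod_cast hp.ne_zero)
        have h3 : (e : ℤ) = Xp.card * (n + 1) + c + 1 := by linarith
        exact_mod_cast h3
  obtain ⟨hcases, hdvdt, hcount⟩ := hmain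
  have htD : c * (t * D) = c * (1 + n * p) := by
    rcases hcases with ⟨h, -⟩ | ⟨-, h1, h2⟩
    · rw [h, zero_mul, zero_mul]
    · congr 1
      have : t * D + t * e = t * (c * p) := by rw [← h2]; ring
      have h3 : t * (c * p) = (n + 1) * p := by rw [h1]; ring
      nlinarith
  have hsplit : ∀ f : IrrCharacter G → ℂ,
      ∑ χ, f χ = f (trivChar G) + ∑ χ ∈ Xp, f χ + ∑ χ ∈ Xm, f χ + ∑ χ ∈ Y, f χ + ∑ χ ∈ K, f χ :=
    fun f => by
      rw [← hsplitX, ← Finset.sum_union hdisj, hKdef, ← Finset.sum_union Finset.disjoint_sdiff,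
        Finset.union_sdiff_of_subset (Finset.subset_univ _)]
  have hKsum : ∑ χ ∈ K, d χ ^ 2 = n := by
    have h : ∑ χ : IrrCharacter G, (χ : G → ℂ) 1 * ∑ x : (P : Subgroup G), (χ : G → ℂ) x =
        Nat.card G := by
      simp only [Finset.mul_sum]
      rw [Finset.sum_comm]
      simp only [CfsgLib.CharDegree.sum_degree_mul_eq_ite, OneMemClass.coe_eq_one, Finset.sum_ite_eq',
        Finset.mem_univ, if_true]
    simp only [sum_subgroup, hone, hd] at h
    rw [hsplit, F.cardG] at h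
    have hT : deg (trivChar G) = 1 ∧ d (trivChar G) = 1 := by
      have h1 : deg (trivChar G) = 1 := by simp [deg, trivChar_apply, Cfsg.charDegree]
      refine ⟨h1, ?_⟩
      have h2 := hdX _ hTX
      rw [h1, hT1] at h2
      have h3 : (p : ℤ) * (d (trivChar G) - 1) = 0 := by push_cast at h2; linarith
      have := (mul_eq_zero.1 h3).resolve_left (by exact_mod_cast hp.ne_zero)
      omega
    rw [Finset.sum_congr rfl (s₁ := Xp) (g := fun _ => ((1 + n * p : ℕ) : ℂ) * (p * (n + 1 : ℕ))) (fun χ hχ => by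
        rw [(hp' χ hχ).2.1, (hp' χ hχ).2.2]),
      Finset.sum_eq_zero (s := Xm) (fun χ hχ => by rw [(hm' χ hχ).2.2.1]; simp),
      Finset.sum_congr rfl (s₁ := Y) (g := fun _ => (D : ℂ) * (p * (c : ℕ))) (fun χ hχ => by
        rw [(hYD χ hχ).1, (hYD χ hχ).2]),
      Finset.sum_congr rfl (s₁ := K) (g := fun χ => (p : ℂ) * p * ((d χ ^ 2 : ℕ) : ℂ)) (fun χ hχ => by
        rw [hdK χ hχ]; push_cast; ring),
      Finset.sum_const, Finset.sum_const, hYc, hT.1, hT.2] at h
    simp only [← Finset.mul_sum, ← Nat.cast_sum] at h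
    simp only [nsmul_eq_mul, Nat.cast_one, add_zero, one_mul, mul_one] at h
    have h' : ((p + Xp.card * ((1 + n * p) * (p * (n + 1))) + t * (D * (p * c)) +
        p * p * ∑ χ ∈ K, d χ ^ 2 : ℕ) : ℂ) = ((e * p * (1 + n * p) : ℕ) : ℂ) := by
      rw [← h]; push_cast; ring
    have h'' := Nat.cast_inj.1 h'
    have h3 : p * p * ∑ χ ∈ K, d χ ^ 2 = p * p * n := by
      rw [hcount] at h''
      have h4 : t * (D * (p * c)) = p * (c * (1 + n * p)) := by rw [← htD]; ring
      rw [h4] at h''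
      linarith
    exact Nat.eq_of_mul_eq_mul_left (Nat.mul_pos hp.pos hp.pos) h3
  have hvrel : ∀ θ ∈ Y, ∀ v ∈ star (Subgroup.zpowers a),
      ∑ χ ∈ Xp, (χ : G → ℂ) v + (θ : G → ℂ) v = -1 := by
    intro θ hθ v hv
    have h := hrel θ hθ v (F.regular_of_mem (mem_star.1 hv).2)
    have hm0 : ∀ χ ∈ Xm, (χ : G → ℂ) v = 0 := fun χ hχ => by
      have := hbound χ v hv
      rwa [(hm' χ hχ).2.2.1, Nat.cast_zero, norm_le_zero_iff] at this
    rw [hsplitX, trivChar_apply, hT1, Finset.sum_eq_zero (s := Xm) (fun χ hχ => by rw [hm0 χ hχ, mul_zero]),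
      Finset.sum_congr rfl (s₁ := Xp) (g := fun χ : IrrCharacter G => (χ : G → ℂ) v) (fun χ hχ => by
        rw [(hp' χ hχ).1, Int.cast_one, one_mul]), Int.cast_one, one_mul, add_zero] at h
    rcases hε with he | he
    · have hc0 : c = 0 := by
        rcases hcases with ⟨h1, -⟩ | ⟨h1, -, h3⟩
        · exact h1
        · exfalso
          rw [he] at hmod
          have hDe : D = e := hexp (by simpa using hmod)
          have h4 : (D : ℤ) - ε * e = p * c := by rw [hc]; exact hdY θ₀ hθ₀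
          rw [he] at h4
          simp only [hDe] at h4
          push_cast at h4
          nlinarith
      have h0 := hbound θ v hv
      rw [(hYD θ hθ).2, hc0, Nat.cast_zero, norm_le_zero_iff] at h0
      rw [h0, mul_zero] at h
      rw [h0]
      linear_combination -h
    · rw [he] at h
      push_cast at h
      linear_combination -h
  have hvK : ∀ χ ∈ K, ∀ v ∈ star (Subgroup.zpowers a), (χ : G → ℂ) v = d χ := by
    intro χ₁ hχ₁ v hv
    have hv1 := (mem_star.1 hv).1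
    have h := sum_degree_mul_apply_of_ne_one hv1
    have hagree : ∀ θ ∈ Y, (θ : G → ℂ) v = (θ₀ : G → ℂ) v := fun θ hθ =>
      hYagree θ hθ θ₀ hθ₀ v (F.regular_of_mem (mem_star.1 hv).2)
    simp only [hone] at h
    rw [hsplit, trivChar_apply,
      Finset.sum_congr rfl (s₁ := Xp) (g := fun χ => ((1 + n * p : ℕ) : ℂ) * (χ : G → ℂ) v) (fun χ hχ => by
        rw [(hp' χ hχ).2.1]),
      Finset.sum_eq_zero (s := Xm) (fun χ hχ => by
        have := hbound χ v hv
        rw [(hm' χ hχ).2.2.1, Nat.cast_zero, norm_le_zero_iff] at this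
        rw [this, mul_zero]),
      Finset.sum_congr rfl (s₁ := Y) (g := fun _ => (D : ℂ) * (θ₀ : G → ℂ) v) (fun θ hθ => by
        rw [(hYD θ hθ).1, hagree θ hθ]),
      Finset.sum_congr rfl (s₁ := K) (g := fun χ : IrrCharacter G => (p : ℂ) * ((d χ : ℂ) * (χ : G → ℂ) v))
        (fun χ hχ => by rw [hdK χ hχ]; push_cast; ring),
      Finset.sum_const, hYc, nsmul_eq_mul, add_zero,
      show (deg (trivChar G) : ℂ) * 1 = 1 by simp [deg, trivChar_apply, Cfsg.charDegree]] at h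
    have hθv : (t : ℂ) * ((D : ℂ) * (θ₀ : G → ℂ) v) = ((1 + n * p : ℕ) : ℂ) * (θ₀ : G → ℂ) v := by
      rcases Nat.eq_zero_or_pos c with h0 | h0
      · have h1 := hbound θ₀ v hv
        rw [← hc, h0, Nat.cast_zero, norm_le_zero_iff] at h1
        rw [h1]; ring
      · rw [← mul_assoc, ← Nat.cast_mul, Nat.eq_of_mul_eq_mul_left h0 htD]
    have hsum : ∑ χ ∈ K, (d χ : ℂ) * (χ : G → ℂ) v = n := by
      refine mul_left_cancel₀ (Nat.cast_ne_zero.2 hp.ne_zero : (p : ℂ) ≠ 0) ?_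
      have hr := hvrel θ₀ hθ₀ v hv
      push_cast at h hθv ⊢
      simp only [← Finset.mul_sum] at h
      linear_combination h - hθv - (1 + (n : ℂ) * p) * hr
    have hre := congrArg Complex.re hsum
    simp only [Complex.re_sum, ← Complex.ofReal_natCast, Complex.re_ofReal_mul, Complex.ofReal_re] at hre
    have hle : ∀ χ ∈ K, (d χ : ℝ) * ((χ : G → ℂ) v).re ≤ (d χ : ℝ) * d χ := fun χ hχ =>
      mul_le_mul_of_nonneg_left ((Complex.re_le_norm _).trans (hbound χ v hv)) (Nat.cast_nonneg _)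
    have hn' : ∑ χ ∈ K, (d χ : ℝ) * d χ = (n : ℝ) := by
      rw [← hKsum]; push_cast; exact Finset.sum_congr rfl fun χ _ => (pow_two _).symm
    have heq := (Finset.sum_eq_sum_iff_of_le hle).1 (hre.trans hn'.symm) χ₁ hχ₁
    have hb := hbound χ₁ v hv
    rcases Nat.eq_zero_or_pos (d χ₁) with h0 | h0
    · rw [h0, Nat.cast_zero, norm_le_zero_iff] at hb
      rw [hb, h0, Nat.cast_zero]
    · have h1 := mul_left_cancel₀ (Nat.cast_ne_zero.2 h0.ne' : (d χ₁ : ℝ) ≠ 0) heq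
      have h2 : Complex.normSq ((χ₁ : G → ℂ) v) ≤ (d χ₁ : ℝ) ^ 2 := by
        rw [Complex.normSq_eq_norm_sq]; exact pow_le_pow_left₀ (norm_nonneg _) hb 2
      rw [Complex.normSq_apply, h1] at h2
      refine Complex.ext (by rw [h1, Complex.natCast_re]) ?_
      rw [Complex.natCast_im]
      nlinarith
  refine ⟨Xp, Xm, Y, K, c, D, d, hcases, hdvdt, hcount, hYc, hsplit, ?_, fun χ hχ => ?_, fun χ hχ => ?_,
    fun θ hθ => by rw [hone, (hYD θ hθ).1], fun χ hχ => by rw [hone, hdK χ hχ],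
    fun χ hχ x hx => ?_, fun χ hχ x hx => ?_, hK0, fun x hx => ?_, fun θ hθ => ?_, hKsum,
    fun χ hχ v hv => ?_, hvK, fun χ hχ v hv => ?_, fun θ hθ v hv => ?_,
    fun θ hθ θ' hθ' v hv => hYagree θ hθ θ' hθ' v (F.regular_of_mem (mem_star.1 hv).2), hvrel⟩
  · intro χ hχ h
    subst h
    simp only [Finset.mem_union, hXp, hXm, hKdef, Finset.mem_filter, hX0, Finset.mem_erase, ne_eq,
      not_true_eq_false, false_and, false_or, Finset.mem_sdiff, Finset.mem_univ, true_and] at hχ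
    rcases hχ with h | h
    · exact Finset.disjoint_left.1 hdisj hTX h
    · exact h (Or.inl hTX)
  · rw [hone, (hp' χ hχ).2.1]
  · rw [hone, (hm' χ hχ).2.1]
  · rw [(hX χ (Finset.mem_of_mem_erase (Finset.mem_filter.1 hχ).1)).2.2 x hx, (hp' χ hχ).1, Int.cast_one]
  · rw [(hX χ (Finset.mem_of_mem_erase (Finset.mem_filter.1 hχ).1)).2.2 x hx, (hm' χ hχ).1]
    norm_num
  · exact hY2 x hx
  · rw [← (hYD θ hθ).1, hd, (hYD θ hθ).2]
  · have := hbound χ v hv
    rwa [(hm' χ hχ).2.2.1, Nat.cast_zero, norm_le_zero_iff] at this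
  · have := hbound χ v hv
    rw [(hp' χ hχ).2.2] at this
    exact_mod_cast this
  · have := hbound θ v hv
    rwa [(hYD θ hθ).2] at this

end CfsgLib.Perm.FewSylow
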