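import Cfsg.Agent.Lib.Char.Basic
import Cfsg.Agent.Lib.Char.Complete
import Cfsg.Agent.Lib.CharDegree.Basic
import Mathlib.Tactic

/-!
# Averages of characters over a subgroup normalized by an element
-/

set_option autoImplicit false

namespace CfsgLib.Perm.CharAverage

open CfsgLib.Char
open scoped ComplexConjugate

variable {G : Type*} [Group G] [Fintype G]

omit [Fintype G] in
/-- The sum of a character over a finite subgroup is a natural multiple of its order. -/
theorem exists_sum_eq (P : Subgroup G) [Fintype P] {f : G → ℂ} (hf : Cfsg.IsCharacter G f) :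
    ∃ d : ℕ, ∑ x : P, f x = (Nat.card P : ℂ) * d := by
  obtain ⟨d, hd⟩ := IsChar.classInner_eq_natCast (IsChar.restrict P hf) (isCharacter_one (G := P))
  refine ⟨d, ?_⟩
  rw [← hd, Cfsg.classInner]
  simp only [map_one, mul_one]
  rw [mul_inv_cancel_left₀ (Nat.cast_ne_zero.2 Nat.card_pos.ne')]

/-- An irreducible character sums over a translate of a normal subgroup to at most its sum over
the subgroup. -/
theorem norm_sum_le_irr (P : Subgroup G) [P.Normal] [Fintype P] (ψ : Cfsg.IrrCharacter G) (u : G) :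
    ‖∑ x : P, (ψ : G → ℂ) ((x : G) * u)‖ ≤ (∑ x : P, (ψ : G → ℂ) x).re := by
  classical
  obtain ⟨n, σ, hσ, hψ, -⟩ := CfsgLib.CharDegree.exists_rep ψ
  set E : Module.End ℂ (Fin n → ℂ) := ∑ x : P, σ x with hE
  have hcomm : ∀ h, E * σ h = σ h * E := fun h => by
    rw [hE, Finset.sum_mul, Finset.mul_sum]
    refine Finset.sum_bij' (fun x _ => (⟨h⁻¹ * x * h, by
        simpa using ‹P.Normal›.conj_mem _ x.2 h⁻¹⟩ : P))
      (fun x _ => (⟨h * x * h⁻¹, ‹P.Normal›.conj_mem _ x.2 h⟩ : P))
      (fun _ _ => Finset.mem_univ _) (fun _ _ => Finset.mem_univ _)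
      (fun x _ => Subtype.ext (by group)) (fun x _ => Subtype.ext (by group)) fun x _ => ?_
    rw [← map_mul, ← map_mul]
    congr 1
    simp only
    group
  obtain ⟨c, hc⟩ := exists_eq_smul_of_commute σ E hcomm
  have hval : ∀ v : G, ∑ x : P, (ψ : G → ℂ) ((x : G) * v) = c * (ψ : G → ℂ) v := by
    intro v
    have h := congrArg (LinearMap.trace ℂ (Fin n → ℂ)) (congrArg (fun T => T * σ v) hc)
    simp only [hE, Finset.sum_mul, map_sum, smul_mul_assoc, map_smul, smul_eq_mul] at h
    rw [← hψ]
    simp only [Representation.character]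
    refine (Finset.sum_congr rfl fun x _ => by rw [map_mul]).trans (h.trans ?_)
    rw [← Module.End.one_eq_id, one_mul]
  have h1 := hval 1
  simp only [mul_one] at h1
  obtain ⟨d, hd⟩ := exists_sum_eq P (IsIrr.isCharacter ψ.2)
  obtain ⟨m, hm0, hm⟩ := IsIrr.exists_degree ψ.2
  have hcr : c = ((Nat.card P * d : ℝ) / m : ℝ) := by
    rw [h1, hm] at hd
    push_cast
    rw [← hd, mul_div_cancel_right₀ _ (Nat.cast_ne_zero.2 hm0.ne')]
  rw [hval, h1, hm, norm_mul]
  refine (mul_le_mul_of_nonneg_left (IsChar.norm_le (IsIrr.isCharacter ψ.2) u) (norm_nonneg c)).trans ?_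
  rw [hm, hcr, Complex.norm_natCast, Complex.norm_real, Real.norm_of_nonneg (by positivity),
    ← Complex.ofReal_natCast m, ← Complex.ofReal_mul, Complex.ofReal_re]

/-- A character sums over a translate of a normal subgroup to at most its sum over the subgroup. -/
theorem norm_sum_le_char (P : Subgroup G) [P.Normal] [Fintype P] {f : G → ℂ}
    (hf : Cfsg.IsCharacter G f) (u : G) :
    ‖∑ x : P, f ((x : G) * u)‖ ≤ (∑ x : P, f x).re := by
  classical
  have := Fintype.ofFinite (Cfsg.IrrCharacter G)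
  obtain ⟨m, hm⟩ := IsChar.exists_sum hf
  simp only [hm, Finset.sum_apply, Pi.smul_apply, smul_eq_mul]
  rw [Finset.sum_comm, Finset.sum_comm (f := fun (x : P) (χ : Cfsg.IrrCharacter G) =>
    (m χ : ℂ) * (χ : G → ℂ) x)]
  simp only [← Finset.mul_sum, Complex.re_sum, ← Complex.ofReal_natCast, Complex.re_ofReal_mul]
  refine (norm_sum_le _ _).trans (Finset.sum_le_sum fun χ _ => ?_)
  rw [norm_mul, Complex.norm_real, Real.norm_natCast]
  exact mul_le_mul_of_nonneg_left (by simpa only [Complex.re_sum] using norm_sum_le_irr P χ u) (Nat.cast_nonneg _)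

/-- The same for an element normalizing the subgroup. -/
theorem norm_sum_le (P : Subgroup G) [Fintype P] {f : G → ℂ} (hf : Cfsg.IsCharacter G f) {u : G}
    (hu : u ∈ Subgroup.normalizer (P : Set G)) :
    ‖∑ x : P, f ((x : G) * u)‖ ≤ (∑ x : P, f x).re := by
  classical
  let N := Subgroup.normalizer (P : Set G)
  have hPN : P ≤ N := Subgroup.le_normalizer
  let e := (Subgroup.subgroupOfEquivOfLe hPN).symm.toEquiv
  have h := norm_sum_le_char (P.subgroupOf N) (IsChar.restrict N hf) ⟨u, hu⟩
  rw [← Equiv.sum_comp e, ← Equiv.sum_comp e] at h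
  exact h

end CfsgLib.Perm.CharAverage
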