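import Cfsg.Agent.Lib.Perm.FewSylowRecog

/-!
# Perfect groups of order less than `p ^ 3`

In such a group without a nontrivial normal subgroup of order prime to `p`, a Sylow subgroup of
order `p` is its own centralizer.
-/

set_option autoImplicit false

namespace CfsgLib.Perm.FewSylow

open Cfsg CfsgLib.Char Subgroup
open scoped _root_.Classical commutatorElement

variable {G : Type*} [Group G] [Finite G] {p : ℕ} [Fact p.Prime]

/-- A `p`-element normalizing a Sylow subgroup lies in it. -/
theorem mem_of_mem_normalizer (P : Sylow p G) {z : G} {k : ℕ} (hz : orderOf z = p ^ k)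
    (hzN : z ∈ normalizer ((P : Subgroup G) : Set G)) : z ∈ (P : Subgroup G) := by
  have h := (IsPGroup.of_card (n := k) (G := zpowers z) (by rw [Nat.card_zpowers, hz])).inf_normalizer_sylow P
  exact ((le_of_eq h) ⟨mem_zpowers z, hzN⟩).2

/-- In a perfect group the normalizer of a cyclic Sylow subgroup does not centralize it. -/
theorem not_normalizer_le (P : Sylow p G) (hP : Nat.card (P : Subgroup G) = p)
    (hperf : _root_.commutator G = ⊤) :
    ¬ normalizer ((P : Subgroup G) : Set G) ≤ centralizer ((P : Subgroup G) : Set G) := by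
  haveI : IsCyclic (P : Subgroup G) := isCyclic_of_prime_card hP
  intro hle
  have h1 := MonoidHom.ker_transferSylow_isComplement' P hle
  have h2 : (MonoidHom.transferSylow P hle).ker = ⊤ := by
    rw [eq_top_iff, ← hperf, _root_.commutator_def, Subgroup.commutator_le]
    intro x _ y _
    rw [MonoidHom.mem_ker, map_commutatorElement]
    exact commutatorElement_eq_one_iff_mul_comm.2 (IsCyclic.commGroup.mul_comm _ _)
  rw [h2] at h1
  have h3 := h1.card_mul
  rw [Subgroup.card_top, hP] at h3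
  have := (Fact.out : p.Prime).two_le
  have : 0 < Nat.card G := Nat.card_pos
  nlinarith

/-- A Sylow subgroup of prime order in a perfect group is not normal. -/
theorem not_normal (P : Sylow p G) (hP : Nat.card (P : Subgroup G) = p)
    (hperf : _root_.commutator G = ⊤) : ¬ (P : Subgroup G).Normal := by
  intro h
  haveI := h
  set N := normalizer ((P : Subgroup G) : Set G)
  have hN : N = ⊤ := normalizer_eq_top _
  haveI : IsCyclic (P : Subgroup G) := isCyclic_of_prime_card hP
  haveI : IsCyclic (MulAut (P : Subgroup G)) := by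
    have e1 := (IsCyclic.mulAutMulEquiv (P : Subgroup G)).trans (Units.mapEquiv
      (ZMod.ringEquivCongr hP).toMulEquiv)
    exact isCyclic_of_surjective e1.symm.toMonoidHom e1.symm.surjective
  have h4 : _root_.commutator G ≤ centralizer ((P : Subgroup G) : Set G) := by
    rw [_root_.commutator_def, Subgroup.commutator_le]
    intro x _ y _
    have hx : x ∈ N := hN ▸ mem_top x
    have hy : y ∈ N := hN ▸ mem_top y
    have h5 : ⁅(⟨x, hx⟩ : N), (⟨y, hy⟩ : N)⁆ ∈ (P : Subgroup G).normalizerMonoidHom.ker := by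
      rw [MonoidHom.mem_ker, map_commutatorElement]
      exact commutatorElement_eq_one_iff_mul_comm.2 (IsCyclic.commGroup.mul_comm _ _)
    rw [normalizerMonoidHom_ker, mem_subgroupOf] at h5
    exact h5
  exact not_normalizer_le P hP hperf (by rw [hperf, top_le_iff] at h4; rw [h4]; exact le_top)

/-- If `n` is `Good` and there is no nontrivial normal subgroup of order prime to `p`, a Sylow
subgroup of order `p` is its own centralizer. -/
theorem centralizer_eq_good (P : Sylow p G) (hP : Nat.card (P : Subgroup G) = p)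
    (hperf : _root_.commutator G = ⊤)
    (hcore : ∀ K : Subgroup G, K.Normal → ¬ p ∣ Nat.card K → K = ⊥) {n : ℕ}
    (hn : Nat.card (Sylow p G) = 1 + n * p) (hgood : Good p n) :
    centralizer ((P : Subgroup G) : Set G) = (P : Subgroup G) := by
  haveI := Fintype.ofFinite G
  haveI := Fintype.ofFinite (IrrCharacter G)
  have hp : p.Prime := Fact.out
  set C := centralizer ((P : Subgroup G) : Set G) with hCdef
  set N := normalizer ((P : Subgroup G) : Set G)
  haveI : IsCyclic (P : Subgroup G) := isCyclic_of_prime_card hP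
  have hCN : C ≤ N := centralizer_le_normalizer _
  have hPC : (P : Subgroup G) ≤ C := fun x hx => mem_centralizer_iff.2 fun z hz =>
    congrArg Subtype.val ((IsCyclic.commGroup (α := (P : Subgroup G))).mul_comm ⟨z, hz⟩ ⟨x, hx⟩)
  obtain ⟨e, he⟩ : ∃ e, C.relIndex N = e := ⟨_, rfl⟩
  obtain ⟨he2, t, het⟩ : 2 ≤ e ∧ ∃ t, e * t + 1 = p := by
    have h1 := relIndex_centralizer_dvd_sub_one (P : Subgroup G) hP
    rw [he] at h1
    have h2 : e ≠ 1 := fun h => not_normalizer_le P hP hperf (relIndex_eq_one.1 (he.trans h))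
    have h3 : e ≠ 0 := fun h => by rw [h, zero_dvd_iff] at h1; have := hp.two_le; omega
    obtain ⟨t, ht⟩ := h1
    have := hp.two_le
    exact ⟨by omega, t, by omega⟩
  have ht0 : 0 < t := Nat.pos_of_ne_zero fun h => by rw [h] at het; simp at het; exact hp.ne_one het.symm
  have hep : e < p := by
    have := Nat.le_mul_of_pos_right e ht0
    omega
  have hp3 : 3 ≤ p := by omega
  have hn0 : 0 < n := Nat.pos_of_ne_zero fun h => by
    refine not_normal P hP hperf ?_
    rw [← normalizer_eq_top_iff]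
    apply eq_top_of_card_eq
    have := card_normalizer_mul_card_sylow P
    rwa [hn, h, zero_mul, add_zero, mul_one] at this
  have hindex : C.index = e * (1 + n * p) := by
    rw [← relIndex_mul_index hCN, he, ← hn, Sylow.card_eq_index_normalizer P]
    rfl
  have hcent : ∀ x ∈ (P : Subgroup G), x ≠ 1 → centralizer ({x} : Set G) = C := by
    intro x hx hx1
    have hz : zpowers x = (P : Subgroup G) := by
      refine eq_of_le_of_card_ge (zpowers_le.2 hx) ?_
      rw [hP, Nat.card_zpowers]
      have h := orderOf_dvd_natCard (⟨x, hx⟩ : (P : Subgroup G))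
      rw [hP, ← orderOf_submonoid] at h
      rcases (Nat.dvd_prime hp).1 h with h' | h'
      · exact absurd (orderOf_eq_one_iff.1 h') hx1
      · exact h'.ge
    rw [hCdef, ← hz, zpowers_eq_closure, centralizer_closure]
  haveI : Nontrivial (P : Subgroup G) :=
    Finite.one_lt_card_iff_nontrivial.1 (by rw [hP]; exact hp.one_lt)
  obtain ⟨⟨x, hx⟩, hx1'⟩ := exists_ne (1 : (P : Subgroup G))
  have hx1 : x ≠ 1 := fun h => hx1' (Subtype.ext h)
  have hxp : p ∣ orderOf x := by
    have h := orderOf_dvd_natCard (⟨x, hx⟩ : (P : Subgroup G))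
    rw [← orderOf_submonoid, hP] at h
    rw [((Nat.dvd_prime hp).1 h).resolve_left fun h => hx1 (orderOf_eq_one_iff.1 h)]
  have h1p : ¬ p ∣ orderOf (1 : G) := by rw [orderOf_one]; exact hp.not_dvd_one
  obtain ⟨M, hM⟩ := CfsgLib.ZStar.exists_isPModular hp
  haveI : M.IsPrime := hM.2.1.isPrime
  obtain ⟨X, Y, hB, hdisj, hXc, hYc, εX, ε, hX, hε, hYdeg, hYagree, hrel⟩ :=
    Cfsg.Agent.S4441.result p M hM (by omega) P hP e he
  let deg : IrrCharacter G → ℕ := fun χ => charDegree (χ : G → ℂ)
  have hdeg : ∀ χ : IrrCharacter G, (χ : G → ℂ) 1 = (deg χ : ℂ) :=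
    fun χ => (CfsgLib.CharDegree.cast_irrDegree χ).symm
  have hpos : ∀ χ : IrrCharacter G, 0 < deg χ := CfsgLib.CharDegree.charDegree_pos
  have hω : ∀ χ : IrrCharacter G,
      IsIntegral ℤ (((e * (1 + n * p) : ℕ) : ℂ) * (χ : G → ℂ) x / (deg χ : ℂ)) := by
    intro χ
    have h := CfsgLib.CharDegree.isIntegral_centralChar χ x
    rwa [Cfsg.centralChar, hcent x hx hx1, hindex, hdeg] at h
  have hXx : ∀ χ ∈ X, (χ : G → ℂ) x = (εX χ : ℂ) := fun χ hχ => by
    have h := (hX χ hχ).2.2 x hx hx1 1 (one_mem _) h1p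
    rwa [mul_one] at h
  have hXdvd : ∀ χ ∈ X, ∃ s, deg χ * s = e * (1 + n * p) := by
    intro χ hχ
    have h := hω χ
    rw [hXx χ hχ] at h
    have h' : deg χ ∣ e * (1 + n * p) := by
      refine CfsgLib.CharIntegral.dvd_of_isIntegral_div (hpos χ).ne' ?_
      rcases (hX χ hχ).1 with h1 | h1 <;> rw [h1] at h
      · simpa using h
      · simpa [neg_div] using h.neg
    obtain ⟨s, hs⟩ := h'
    exact ⟨s, hs.symm⟩
  -- it suffices to have a character of degree `p - 1` in `X`
  by_cases hneg : ∃ χ ∈ X, εX χ = -1 ∧ deg χ + 1 = p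
  · obtain ⟨χ, hχ, hχm, hd⟩ := hneg
    obtain ⟨-, -, hval⟩ := hX χ hχ
    have hdC : (χ : G → ℂ) 1 = (p : ℂ) - 1 := by
      rw [hdeg, ← hd]; push_cast; ring
    have hstar : ∀ z ∈ star (P : Subgroup G), ∀ w ∈ C, ¬ p ∣ orderOf w → (χ : G → ℂ) (z * w) = -1 := by
      intro z hz w hw hwp
      rw [hval z (mem_star.1 hz).2 (mem_star.1 hz).1 w hw hwp, hχm]
      simp
    have hc : ((star (P : Subgroup G)).card : ℂ) = (p : ℂ) - 1 := by
      have := card_star (P : Subgroup G)
      rw [hP] at this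
      have h' : ((star (P : Subgroup G)).card : ℂ) + 1 = p := by exact_mod_cast this
      linear_combination h'
    have hsum : ∀ w ∈ C, ¬ p ∣ orderOf w →
        ∑ z : (P : Subgroup G), (χ : G → ℂ) ((z : G) * w) = (χ : G → ℂ) w - ((p : ℂ) - 1) := by
      intro w hw hwp
      rw [sum_subgroup (P : Subgroup G) fun z => (χ : G → ℂ) (z * w), one_mul,
        Finset.sum_congr rfl (fun z hz => hstar z hz w hw hwp), Finset.sum_const, nsmul_eq_mul, hc]
      ring
    have h0 : ∑ z : (P : Subgroup G), (χ : G → ℂ) z = 0 := by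
      have h := hsum 1 (one_mem _) h1p
      simp only [mul_one] at h
      rw [h, hdC, sub_self]
    have hker : ∀ y ∈ C, ¬ p ∣ orderOf y → y = 1 := by
      intro y hy hyp
      have hle := CharAverage.norm_sum_le (P : Subgroup G) (IsIrr.isCharacter χ.2) (hCN hy)
      rw [hsum y hy hyp, h0, Complex.zero_re, norm_le_zero_iff, sub_eq_zero, ← hdC] at hle
      have hyK := CfsgLib.CharDegree.mem_kerSubgroup.2 hle
      rw [hcore _ (CfsgLib.CharDegree.kerSubgroup_normal χ) ?_, mem_bot] at hyK
      · exact hyK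
      intro hdvdK
      obtain ⟨⟨z, hz⟩, hzo⟩ :=
        exists_prime_orderOf_dvd_card' (G := CfsgLib.CharDegree.kerSubgroup χ) p hdvdK
      rw [← orderOf_submonoid] at hzo
      obtain ⟨Q, hQ⟩ := (IsPGroup.of_card (n := 1) (G := zpowers z)
        (by rw [Nat.card_zpowers, hzo, pow_one])).exists_le_sylow
      obtain ⟨g, hg⟩ := MulAction.exists_smul_eq G P Q
      have hzQ : z ∈ (Q : Subgroup G) := hQ (mem_zpowers z)
      rw [← hg, Sylow.coe_subgroup_smul, mem_pointwise_smul_iff_inv_smul_mem, ← map_inv] at hzQ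
      have hz1 : g⁻¹ * z * g ≠ 1 := by
        intro h
        have : z = 1 := by
          calc z = g * (g⁻¹ * z * g) * g⁻¹ := by group
            _ = 1 := by rw [h]; group
        exact hp.ne_one (by rw [← hzo]; exact orderOf_eq_one_iff.2 this)
      have h1 := hstar _ (mem_star.2 ⟨hz1, by simpa using hzQ⟩) 1 (one_mem _) h1p
      have h2 : (χ : G → ℂ) (g⁻¹ * z * g) = (χ : G → ℂ) 1 := by
        rw [← CfsgLib.CharDegree.mem_kerSubgroup]
        have := (CfsgLib.CharDegree.kerSubgroup_normal χ).conj_mem z hz g⁻¹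
        rwa [inv_inv] at this
      rw [mul_one, h2, hdC] at h1
      have : (p : ℂ) = 0 := by linear_combination h1
      exact hp.ne_zero (Nat.cast_eq_zero.1 this)
    refine le_antisymm (fun c hc' => ?_) hPC
    -- the order of `C` is `p` times a number prime to `p`
    obtain ⟨v, hv⟩ : p ∣ Nat.card C := hP ▸ card_dvd_of_le hPC
    have hpv : ¬ p ∣ v := by
      rintro ⟨w, hw⟩
      refine P.not_dvd_index ?_
      rw [← relIndex_mul_index hPC]
      refine dvd_mul_of_dvd_left ⟨w, ?_⟩ _
      have h := ((P : Subgroup G).subgroupOf C).card_mul_index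
      rw [Nat.card_congr (subgroupOfEquivOfLe hPC).toEquiv, hP, hv, hw] at h
      exact Nat.eq_of_mul_eq_mul_left hp.pos h
    have hcp : c ^ p = 1 := by
      refine hker _ (pow_mem hc' p) fun hdvd => hpv ?_
      have h1 : (c ^ p) ^ v = 1 := by
        rw [← pow_mul, ← hv]
        exact orderOf_dvd_iff_pow_eq_one.1 (by
          rw [show orderOf c = orderOf (⟨c, hc'⟩ : C) from (Subgroup.orderOf_mk c hc').symm]
          exact orderOf_dvd_natCard _)
      exact hdvd.trans (orderOf_dvd_of_pow_eq_one h1)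
    rcases (Nat.dvd_prime hp).1 (orderOf_dvd_of_pow_eq_one hcp) with h | h
    · rw [orderOf_eq_one_iff.1 h]; exact one_mem _
    · exact mem_of_mem_normalizer P (k := 1) (by rw [h, pow_one]) (hCN hc')
  exfalso
  set m := 1 + n * p with hm
  have hXmult : ∀ χ ∈ X, χ ≠ trivChar G → (m : ℤ) ∣ εX χ * (deg χ : ℤ) := by
    intro χ hχ hne
    obtain ⟨hsgn, hmod, -⟩ := hX χ hχ
    obtain ⟨s, hs⟩ := hXdvd χ hχ
    refine dvd_mul_of_dvd_right (Int.natCast_dvd_natCast.2 ?_) _
    rcases hsgn with h1 | h1 <;> rw [h1] at hmod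
    · obtain ⟨r, hr⟩ := Int.modEq_iff_dvd.1 hmod.symm
      have hr0 : 0 < r := by
        by_contra hneg'
        have : (p : ℤ) * r ≤ 0 := mul_nonpos_of_nonneg_of_nonpos (Int.natCast_nonneg p) (by omega)
        have : (deg χ : ℤ) ≤ 1 := by simp only [deg]; linarith
        have hd1 : deg χ ≠ 1 := fun h => hne (eq_trivChar hperf χ h)
        have := hpos χ
        omega
      lift r to ℕ using hr0.le
      have hdr : deg χ = r * p + 1 := by
        have : (deg χ : ℤ) = r * p + 1 := by simp only [deg]; linarith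
        exact_mod_cast this
      have := deg_plus het hp3 hgood (by exact_mod_cast hr0) (s := s) (by rw [← hdr]; exact hs)
      rw [hdr, this, hm, add_comm]
    · obtain ⟨r, hr⟩ := Int.modEq_iff_dvd.1 hmod.symm
      have hr0 : 0 < r := by
        by_contra hneg'
        have : (p : ℤ) * r ≤ 0 := mul_nonpos_of_nonneg_of_nonpos (Int.natCast_nonneg p) (by omega)
        have : (deg χ : ℤ) + 1 ≤ 0 := by simp only [deg]; linarith
        have := hpos χ
        omega
      lift r to ℕ using hr0.le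
      have hdr : deg χ + 1 = r * p := by
        have : (deg χ : ℤ) + 1 = r * p := by simp only [deg]; linarith
        exact_mod_cast this
      rcases deg_minus het hp3 hgood hdr hs with ⟨h, -⟩ | h
      · exact absurd ⟨χ, hχ, h1, by omega⟩ hneg
      · rw [h, mul_one] at hs
        rw [hs]
        exact dvd_mul_left _ _
  have hY : Y.toFinset.card = t := by
    rw [← Set.ncard_eq_toFinset_card', ← Nat.card_coe_set_eq, hYc, show p - 1 = e * t by omega,
      Nat.mul_div_cancel_left _ (by omega)]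
  obtain ⟨θ₀, hθ₀'⟩ : Y.toFinset.Nonempty := Finset.card_pos.1 (by omega)
  have hθ₀ := Set.mem_toFinset.1 hθ₀'
  set D := deg θ₀ with hD
  have hYD : ∀ θ ∈ Y, deg θ = D := fun θ hθ => by
    have h := hYagree θ hθ θ₀ hθ₀ 1 h1p
    rw [hdeg, hdeg] at h
    exact_mod_cast h
  have hXsum : ((∑ χ ∈ X.toFinset, εX χ * (deg χ : ℤ) : ℤ) : ℂ) = (ε : ℂ) * (D : ℂ) := by
    have h := hrel θ₀ hθ₀ 1 h1p
    rw [finsum_mem_eq_toFinset_sum _ X, hdeg] at h
    rw [h]
    push_cast
    exact Finset.sum_congr rfl fun χ _ => by rw [hdeg]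
  have hsumY : ∑ θ ∈ Y.toFinset, (θ : G → ℂ) x = -(ε : ℂ) := by
    have h := CfsgLib.Blocks.sum_block_regular_singular hM (CfsgLib.ZStar.isPBlock_principalBlock (M := M) (G := G))
      h1p hxp
    rw [hB, finsum_mem_eq_toFinset_sum _ (X ∪ Y), Set.toFinset_union,
      Finset.sum_union (Set.disjoint_toFinset.2 hdisj),
      Finset.sum_congr rfl (s₁ := X.toFinset) (g := fun χ => ((εX χ * (deg χ : ℤ) : ℤ) : ℂ)) (fun χ hχ => by
        rw [hXx χ (Set.mem_toFinset.1 hχ), hdeg]; push_cast; ring),
      ← Int.cast_sum, hXsum,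
      Finset.sum_congr rfl (s₁ := Y.toFinset) (g := fun θ => (D : ℂ) * (θ : G → ℂ) x) (fun θ hθ => by
        rw [hdeg, hYD θ (Set.mem_toFinset.1 hθ)]),
      ← Finset.mul_sum] at h
    refine mul_left_cancel₀ (Nat.cast_ne_zero.2 (hpos θ₀).ne' : (D : ℂ) ≠ 0) ?_
    linear_combination h
  have hDdvd : D ∣ e * m := by
    refine CfsgLib.CharIntegral.dvd_of_isIntegral_div (hpos θ₀).ne' ?_
    have h : IsIntegral ℤ (∑ θ ∈ Y.toFinset, ((e * m : ℕ) : ℂ) * (θ : G → ℂ) x / (deg θ : ℂ)) :=
      IsIntegral.sum _ fun θ _ => hω θ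
    rw [Finset.sum_congr rfl (g := fun θ : IrrCharacter G => ((e * m : ℕ) : ℂ) / (D : ℂ) * (θ : G → ℂ) x) (fun θ hθ => by
      rw [hYD θ (Set.mem_toFinset.1 hθ)]; ring), ← Finset.mul_sum, hsumY] at h
    rcases hε with h1 | h1 <;> rw [h1] at h
    · simpa using h.neg
    · simpa using h
  obtain ⟨u, z, hu, hz⟩ : ∃ u z : ℤ, (ε * (D : ℤ) = u + m * z) ∧ (u = 1 ∨ (u = 0 ∧ D = 1)) := by
    have hsumZ : (∑ χ ∈ X.toFinset, εX χ * (deg χ : ℤ)) = ε * (D : ℤ) := by
      apply Int.cast_injective (α := ℂ)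
      rw [hXsum]; push_cast; ring
    have htriv1 : deg (trivChar G) = 1 := by simp [deg, trivChar_apply, Cfsg.charDegree]
    by_cases hT : trivChar G ∈ X
    · obtain ⟨z, hz⟩ : (m : ℤ) ∣ ∑ χ ∈ X.toFinset.erase (trivChar G), εX χ * (deg χ : ℤ) :=
        Finset.dvd_sum fun χ hχ => hXmult χ (Set.mem_toFinset.1 (Finset.mem_of_mem_erase hχ))
          (Finset.ne_of_mem_erase hχ)
      refine ⟨1, z, ?_, Or.inl rfl⟩
      rw [← hsumZ, ← Finset.add_sum_erase _ _ (Set.mem_toFinset.2 hT), hz, htriv1]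
      obtain ⟨hsgn, hmod, -⟩ := hX _ hT
      rcases hsgn with h1 | h1
      · rw [h1]; simp
      · rw [h1, show ((charDegree ((trivChar G : IrrCharacter G) : G → ℂ) : ℕ) : ℤ) = 1 by
          exact_mod_cast htriv1] at hmod
        obtain ⟨c, hc⟩ := Int.modEq_iff_dvd.1 hmod.symm
        have := Int.le_of_dvd two_pos ⟨c, show (2 : ℤ) = p * c by linarith⟩
        omega
    · obtain ⟨z, hz⟩ : (m : ℤ) ∣ ∑ χ ∈ X.toFinset, εX χ * (deg χ : ℤ) :=
        Finset.dvd_sum fun χ hχ => hXmult χ (Set.mem_toFinset.1 hχ) fun h => hT (h ▸ Set.mem_toFinset.1 hχ)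
      have hTY : trivChar G ∈ Y :=
        (show trivChar G ∈ X ∪ Y from hB ▸ CfsgLib.ZStar.trivChar_mem_principalBlock).resolve_left hT
      refine ⟨0, z, by rw [← hsumZ, hz, zero_add], Or.inr ⟨rfl, ?_⟩⟩
      rw [← hYD _ hTY, htriv1]
  have hmp : p < m := by
    have := Nat.le_mul_of_pos_left p hn0
    omega
  have hsmall : ∀ a : ℤ, (m : ℤ) ∣ a → |a| < (m : ℤ) → a = 0 := fun a ha hlt =>
    Int.eq_zero_of_abs_lt_dvd ha hlt
  rcases hz with rfl | ⟨rfl, hD1⟩
  · have hco : Nat.Coprime D m := by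
      rw [← Nat.isCoprime_iff_coprime]
      exact ⟨ε, -z, by linear_combination hu⟩
    have hDe := Nat.le_of_dvd (by omega) (hco.dvd_of_dvd_mul_right hDdvd)
    have hmod : (D : ℤ) ≡ ε * e [ZMOD p] := hYdeg θ₀ hθ₀
    have hD0 := hpos θ₀
    obtain ⟨c, hc⟩ := Int.modEq_iff_dvd.1 hmod.symm
    rcases hε with rfl | rfl
    · have hDe' : (D : ℤ) = e := by
        have := Int.eq_zero_of_abs_lt_dvd ⟨c, hc⟩ (by rw [abs_lt]; omega)
        omega
      have := hsmall ((D : ℤ) - 1) ⟨z, by linarith⟩ (by rw [abs_lt]; omega)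
      omega
    · have hDp : D + e = p := by
        have := Int.eq_zero_of_abs_lt_dvd (⟨c - 1, by linarith⟩ : (p : ℤ) ∣ (D : ℤ) + e - p)
          (by rw [abs_lt]; omega)
        omega
      have hd1 : D = 1 := by
        have h1 := hco.dvd_of_dvd_mul_right hDdvd
        have h2 : D ∣ p := hDp ▸ dvd_add dvd_rfl h1
        rcases (Nat.dvd_prime hp).1 h2 with h | h <;> omega
      have := hsmall 2 ⟨-z, by rw [hd1] at hu; push_cast at hu; linarith⟩ (by rw [abs_lt]; omega)
      omega
  · rw [hD1] at hu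
    have := hsmall ε ⟨z, by push_cast at hu; linarith⟩ (by rcases hε with rfl | rfl <;> simp <;> omega)
    omega

/-- In a perfect group of order less than `p ^ 3` without normal subgroups of order prime to `p`,
a Sylow subgroup of order `p` is its own centralizer and there are few of them. -/
theorem centralizer_eq (P : Sylow p G) (hP : Nat.card (P : Subgroup G) = p)
    (hperf : _root_.commutator G = ⊤) (hbig : Nat.card G < p ^ 3)
    (hcore : ∀ K : Subgroup G, K.Normal → ¬ p ∣ Nat.card K → K = ⊥) :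
    centralizer ((P : Subgroup G) : Set G) = (P : Subgroup G) ∧
      2 * Nat.card (Sylow p G) < (p + 1) * (p + 2) := by
  have hp : p.Prime := Fact.out
  obtain ⟨n, hn⟩ : ∃ n, Nat.card (Sylow p G) = 1 + n * p := by
    have hsyl1 := card_sylow_modEq_one p G
    refine ⟨Nat.card (Sylow p G) / p, ?_⟩
    rw [Nat.ModEq, Nat.one_mod_eq_one.2 hp.ne_one] at hsyl1
    have := Nat.div_add_mod (Nat.card (Sylow p G)) p
    rw [mul_comm]
    omega
  have hPN : (P : Subgroup G) ≠ normalizer ((P : Subgroup G) : Set G) := by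
    intro h
    haveI : IsCyclic (P : Subgroup G) := isCyclic_of_prime_card hP
    refine not_normalizer_le P hP hperf ?_
    rw [← h]
    intro x hx
    exact mem_centralizer_iff.2 fun z hz =>
      congrArg Subtype.val ((IsCyclic.commGroup (α := (P : Subgroup G))).mul_comm ⟨z, hz⟩ ⟨x, hx⟩)
  have hN : 2 * p ≤ Nat.card (normalizer ((P : Subgroup G) : Set G)) := by
    obtain ⟨k, hk⟩ := hP ▸ card_dvd_of_le (le_normalizer (H := (P : Subgroup G)))
    rcases Nat.lt_or_ge k 2 with h | h
    · refine absurd (eq_of_le_of_card_ge le_normalizer ?_) hPN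
      rw [hk, hP]
      calc p * k ≤ p * 1 := Nat.mul_le_mul_left p (by omega)
        _ = p := mul_one p
    · rw [hk, mul_comm 2 p]; exact Nat.mul_le_mul_left p h
  have h2n : 2 * n < p := by
    have h := card_normalizer_mul_card_sylow P
    rw [hn] at h
    have h1 := Nat.mul_le_mul_right (1 + n * p) hN
    have := hp.pos
    nlinarith
  exact ⟨centralizer_eq_good P hP hperf hcore hn (good_of_lt (by omega)), by rw [hn]; nlinarith⟩

end CfsgLib.Perm.FewSylow

namespace CfsgLib.Perm.FewSylow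

open Cfsg Subgroup

variable {G : Type*} [Group G] [Finite G] {p : ℕ} [Fact p.Prime]

/-- A non-normal Sylow subgroup of a group of order less than `p ^ 3` has order `p`. -/
theorem card_eq_of_not_normal (hdvd : p ∣ Nat.card G) (hbig : Nat.card G < p ^ 3) (P : Sylow p G)
    (hP : ¬ (P : Subgroup G).Normal) : Nat.card (P : Subgroup G) = p := by
  have hp : p.Prime := Fact.out
  have hk := P.card_eq_multiplicity
  have hk1 : 1 ≤ (Nat.card G).factorization p := hp.factorization_pos_of_dvd Nat.card_pos.ne' hdvd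
  rcases eq_or_lt_of_le hk1 with h | h
  · rw [hk, ← h, pow_one]
  exfalso
  have h2 : p ^ 2 ≤ Nat.card (P : Subgroup G) := hk ▸ Nat.pow_le_pow_right hp.pos h
  have h3 : Nat.card (Sylow p G) ≤ (P : Subgroup G).index :=
    Nat.le_of_dvd (Nat.pos_of_ne_zero index_ne_zero_of_finite) P.card_dvd_index
  have h4 : Nat.card (Sylow p G) < p := by
    refine Nat.lt_of_mul_lt_mul_left (a := p ^ 2) ?_
    calc p ^ 2 * Nat.card (Sylow p G) ≤ Nat.card (P : Subgroup G) * (P : Subgroup G).index :=
          Nat.mul_le_mul h2 h3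
      _ = Nat.card G := card_mul_index _
      _ < p ^ 3 := hbig
      _ = p ^ 2 * p := by ring
  have h5 : Nat.card (Sylow p G) = 1 := by
    have h6 := card_sylow_modEq_one p G
    rw [Nat.ModEq, Nat.mod_eq_of_lt h4, Nat.mod_eq_of_lt hp.one_lt] at h6
    exact h6
  refine hP (normalizer_eq_top_iff.1 (eq_top_of_card_eq _ ?_))
  have := card_normalizer_mul_card_sylow P
  rwa [h5, mul_one] at this

/-- The conclusion of Brauer's theorem. -/
def IsSmallPSL (G : Type*) [Group G] (p : ℕ) : Prop :=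
  (∃ (F : Type) (_ : Field F) (_ : Fintype F), Fintype.card F = p ∧ 3 < p ∧
      Nonempty (G ≃* Matrix.ProjectiveSpecialLinearGroup (Fin 2) F)) ∨
    (∃ (m : ℕ) (F : Type) (_ : Field F) (_ : Fintype F), Fintype.card F = 2 ^ m ∧ p = 2 ^ m + 1 ∧
      3 < p ∧ Nonempty (G ≃* Matrix.ProjectiveSpecialLinearGroup (Fin 2) F))

/-- Brauer's theorem on perfect groups of order less than `p ^ 3`. -/
theorem brauer_small (hdvd : p ∣ Nat.card G) (hbig : Nat.card G < p ^ 3)
    (hperf : _root_.commutator G = ⊤) (hnn : ∀ P : Sylow p G, ¬ (P : Subgroup G).Normal)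
    (hcore : ∀ K : Subgroup G, K.Normal → ¬ p ∣ Nat.card K → K = ⊥) : IsSmallPSL G p := by
  obtain ⟨P⟩ : Nonempty (Sylow p G) := inferInstance
  have hP := card_eq_of_not_normal hdvd hbig P (hnn P)
  obtain ⟨h1, h2⟩ := centralizer_eq P hP hperf hbig hcore
  exact brauer P hP h1 hperf h2

/-- A perfect group of order less than `p ^ 3` has such a group as quotient by a normal subgroup
of order prime to `p`. -/
theorem exists_quotient (hdvd : p ∣ Nat.card G) (hbig : Nat.card G < p ^ 3)
    (hperf : _root_.commutator G = ⊤) (P : Sylow p G) (hP : ¬ (P : Subgroup G).Normal) :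
    ∃ (H : Subgroup G) (_ : H.Normal), ¬ p ∣ Nat.card H ∧
      (∀ K : Subgroup G, K.Normal → ¬ p ∣ Nat.card K → Nat.card K ≤ Nat.card H) ∧
      IsSmallPSL (G ⧸ H) p := by
  have hp : p.Prime := Fact.out
  have : Nonempty {K : Subgroup G // K.Normal ∧ ¬ p ∣ Nat.card K} :=
    ⟨⟨⊥, inferInstance, by rw [Subgroup.card_bot]; exact hp.not_dvd_one⟩⟩
  obtain ⟨⟨H, hHn, hHp⟩, hmax⟩ := Finite.exists_max
    fun K : {K : Subgroup G // K.Normal ∧ ¬ p ∣ Nat.card K} => Nat.card K.1
  refine ⟨H, hHn, hHp, fun K hK hKp => hmax ⟨K, hK, hKp⟩, ?_⟩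
  have hcP := card_eq_of_not_normal hdvd hbig P hP
  have hmk := QuotientGroup.mk'_surjective H
  have hcard := card_eq_card_quotient_mul_card_subgroup H
  have hdvd' : p ∣ Nat.card (G ⧸ H) := by
    rw [hcard] at hdvd
    exact (hp.dvd_mul.1 hdvd).resolve_right hHp
  have hbig' : Nat.card (G ⧸ H) < p ^ 3 :=
    lt_of_le_of_lt (Nat.le_of_dvd Nat.card_pos ⟨_, hcard⟩) hbig
  have hperf' : _root_.commutator (G ⧸ H) = ⊤ := by
    rw [_root_.commutator_def, ← map_top_of_surjective _ hmk, ← map_commutator,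
      ← _root_.commutator_def, hperf]
  have hcP' : ∀ Q : Sylow p (G ⧸ H), Nat.card (Q : Subgroup (G ⧸ H)) = p := by
    intro Q
    have h1 := P.card_eq_multiplicity
    rw [hcP, hcard, Nat.factorization_mul Nat.card_pos.ne' Nat.card_pos.ne', Finsupp.add_apply,
      Nat.factorization_eq_zero_of_not_dvd hHp, add_zero] at h1
    rw [Q.card_eq_multiplicity, ← h1]
  refine brauer_small hdvd' hbig' hperf' (fun Q => not_normal Q (hcP' Q) hperf') fun K hK hKp => ?_
  haveI := hK
  have h1 : Nat.card (K.comap (QuotientGroup.mk' H)) = Nat.card K * Nat.card H := by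
    have h2 := (K.comap (QuotientGroup.mk' H)).card_mul_index
    rw [index_comap_of_surjective K hmk, hcard, ← K.card_mul_index] at h2
    refine Nat.eq_of_mul_eq_mul_right (Nat.pos_of_ne_zero (index_ne_zero_of_finite (H := K))) ?_
    rw [h2]; ring
  have h2 := hmax ⟨K.comap (QuotientGroup.mk' H), inferInstance, by
    rw [h1, hp.dvd_mul]; rintro (h | h) <;> contradiction⟩
  simp only [h1] at h2
  refine eq_bot_of_card_le K ?_
  exact Nat.le_of_mul_le_mul_right (by rwa [one_mul]) Nat.card_pos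

end CfsgLib.Perm.FewSylow

namespace CfsgLib.Perm.FewSylow

open Cfsg Subgroup

variable {G : Type*} [Group G] [Finite G] {p : ℕ} [Fact p.Prime]

/-- Brauer's theorem on perfect groups with Sylow subgroups of order `p` and `Good` number of them,
modulo the largest normal subgroup of order prime to `p`. -/
theorem brauer_quotient (hperf : _root_.commutator G = ⊤) (P : Sylow p G)
    (hP : Nat.card (P : Subgroup G) = p) (H : Subgroup G) [H.Normal] (hHp : ¬ p ∣ Nat.card H)
    (hmax : ∀ K : Subgroup G, K.Normal → ¬ p ∣ Nat.card K → K ≤ H) {n : ℕ}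
    (hn : Nat.card (Sylow p G) = 1 + n * p) (hgood : Good p n) : IsSmallPSL (G ⧸ H) p := by
  have hp : p.Prime := Fact.out
  have hmk := QuotientGroup.mk'_surjective H
  have hcard := card_eq_card_quotient_mul_card_subgroup H
  have hperf' : _root_.commutator (G ⧸ H) = ⊤ := by
    rw [_root_.commutator_def, ← map_top_of_surjective _ hmk, ← map_commutator,
      ← _root_.commutator_def, hperf]
  set Q := P.mapSurjective hmk
  have hQ : Nat.card (Q : Subgroup (G ⧸ H)) = p := by
    have h1 := P.card_eq_multiplicity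
    rw [hP, hcard, Nat.factorization_mul Nat.card_pos.ne' Nat.card_pos.ne', Finsupp.add_apply,
      Nat.factorization_eq_zero_of_not_dvd hHp, add_zero] at h1
    rw [Q.card_eq_multiplicity, ← h1]
  obtain ⟨n', hn'⟩ : ∃ n', Nat.card (Sylow p (G ⧸ H)) = 1 + n' * p := by
    have hsyl1 := card_sylow_modEq_one p (G ⧸ H)
    refine ⟨Nat.card (Sylow p (G ⧸ H)) / p, ?_⟩
    rw [Nat.ModEq, Nat.one_mod_eq_one.2 hp.ne_one] at hsyl1
    have := Nat.div_add_mod (Nat.card (Sylow p (G ⧸ H))) p
    rw [mul_comm]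
    omega
  have hdvd : Nat.card (Sylow p (G ⧸ H)) ∣ Nat.card (Sylow p G) := by
    rw [Sylow.card_eq_index_normalizer Q, Sylow.card_eq_index_normalizer P,
      ← index_comap_of_surjective _ hmk]
    refine index_dvd_of_le ?_
    rw [← map_le_iff_le_comap]
    exact (le_normalizer_map _).trans (le_of_eq rfl)
  have hn'0 : 0 < n' := Nat.pos_of_ne_zero fun h => by
    refine not_normal Q hQ hperf' ?_
    rw [← normalizer_eq_top_iff]
    apply eq_top_of_card_eq
    have := card_normalizer_mul_card_sylow Q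
    rwa [hn', h, zero_mul, add_zero, mul_one] at this
  have hnn : n' = n := by
    obtain ⟨q, hq⟩ := hdvd
    rw [hn, hn'] at hq
    have hmod : q % p = 1 := by
      have h4 := congrArg (· % p) hq
      simp only [Nat.add_mul, Nat.add_mod, Nat.mul_mod_left, one_mul, mul_assoc, add_zero,
        Nat.mod_mod, Nat.mul_mod_right, Nat.mul_mod, Nat.mod_self, mul_zero, zero_mul, Nat.zero_mod,
        Nat.one_mod_eq_one.2 hp.ne_one] at h4
      exact h4.symm
    obtain ⟨j, rfl⟩ : ∃ j, q = j * p + 1 :=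
      ⟨q / p, by rw [mul_comm, ← hmod]; exact (Nat.div_add_mod _ _).symm⟩
    have hn2 : n = n' * j * p + n' + j := by
      refine Nat.eq_of_mul_eq_mul_right hp.pos ?_
      nlinarith
    rcases Nat.eq_zero_or_pos j with h0 | h0
    · rw [hn2, h0]; ring
    · exact absurd (by rw [hn2]; ring) (hgood (n' * (j + 1)) j (Nat.mul_pos hn'0 (by omega)) h0)
  subst hnn
  have hcore : ∀ K : Subgroup (G ⧸ H), K.Normal → ¬ p ∣ Nat.card K → K = ⊥ := by
    intro K hK hKp
    haveI := hK
    have h1 : Nat.card (K.comap (QuotientGroup.mk' H)) = Nat.card K * Nat.card H := by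
      have h2 := (K.comap (QuotientGroup.mk' H)).card_mul_index
      rw [index_comap_of_surjective K hmk, hcard, ← K.card_mul_index] at h2
      refine Nat.eq_of_mul_eq_mul_right (Nat.pos_of_ne_zero (index_ne_zero_of_finite (H := K))) ?_
      rw [h2]; ring
    have h2 := hmax (K.comap (QuotientGroup.mk' H)) inferInstance (by
      rw [h1, hp.dvd_mul]; rintro (h | h) <;> contradiction)
    rw [← map_comap_eq_self_of_surjective hmk K, eq_bot_iff]
    refine (map_mono h2).trans (le_of_eq ?_)
    rw [Subgroup.map_eq_bot_iff, QuotientGroup.ker_mk']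
  exact brauer_good Q hQ (centralizer_eq_good Q hQ hperf' hcore hn' hgood) hperf' fun m hm => by
    have h3 : m = n' := by
      rw [hn'] at hm
      exact (Nat.eq_of_mul_eq_mul_right hp.pos (by omega)).symm
    rw [h3]; exact hgood

end CfsgLib.Perm.FewSylow
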