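import Cfsg.Agent.Lib.Perm.AltSquarePerm
import Cfsg.Agent.Lib.Perm.FewSylowSmall
import Cfsg.Agent.Lib.Perm.RationalValue
import Cfsg.Agent.Lib.Char.PowerTwist

/-!
# Self-centralizing Sylow subgroups with `e = 2` and a character of degree `p - 1`

With such a character in the principal block, `2 n = p - 3` (and `n = 1` for `p = 5`).
-/

set_option autoImplicit false

namespace CfsgLib.Perm.FewSylowTwo

open CfsgLib.Char Cfsg
open scoped _root_.Classical ComplexConjugate

variable {G : Type*} [Group G] [Fintype G] {p : ℕ} [Fact p.Prime]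
variable {P : Sylow p G} {a : G} {t n : ℕ}

/-- The map giving the value at a square. -/
def step (M c : ℤ) : ℤ := c * c - M * c + M

set_option maxHeartbeats 800000 in
/-- Integrality, the value at a square, and the singular values. -/
theorem values (F : FewSylow.Frame P a 2 t n) (hp5 : 5 ≤ p) (χ : IrrCharacter G)
    (hdeg : charDegree (χ : G → ℂ) = p - 1)
    (hx : ∀ x ∈ FewSylow.star (P : Subgroup G), (χ : G → ℂ) x ≠ 0) :
    (∀ x ∈ FewSylow.star (P : Subgroup G), (χ : G → ℂ) x = -1) ∧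
      (∀ g : G, ∃ c : ℤ, (χ : G → ℂ) g = c) ∧
      ∀ (g : G) (c d : ℤ), ¬ p ∣ orderOf g → (χ : G → ℂ) g = c → (χ : G → ℂ) (g * g) = d →
        d = step ((p : ℤ) - 1) c := by
  haveI := Fintype.ofFinite (IrrCharacter G)
  have hpp : p.Prime := Fact.out
  have het := F.et
  obtain ⟨X, Y, εX, ε, hdisj, hTX, hT1, hXc, hYc, hX, hε, hYdeg, -, hrel, hYsum, hK0, -⟩ :=
    FewSylow.exists_values F
  obtain ⟨x₀, hx₀⟩ : (FewSylow.star (P : Subgroup G)).Nonempty :=
    Finset.card_pos.1 (by rw [F.card_Pstar]; omega)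
  have hone : ∀ η : IrrCharacter G, (η : G → ℂ) 1 = (charDegree (η : G → ℂ) : ℂ) :=
    fun η => (CfsgLib.CharDegree.cast_irrDegree η).symm
  have hsmall : ∀ {z : ℤ}, (p : ℤ) ∣ z → |z| < (p : ℤ) → z = 0 := fun hz hlt =>
    Int.eq_zero_of_abs_lt_dvd hz hlt
  -- any such character is the one member of `X` besides the principal character
  have hmem : ∀ η : IrrCharacter G, charDegree (η : G → ℂ) = p - 1 →
      (∀ x ∈ FewSylow.star (P : Subgroup G), (η : G → ℂ) x ≠ 0) →
      η ∈ X ∧ η ≠ trivChar G ∧ εX η = -1 := by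
    intro η hd hne
    have hηT : η ≠ trivChar G := fun h => by
      rw [h] at hd
      rw [CfsgLib.CharDegree.charDegree_eq_of_apply_one (n := 1) (by simp [trivChar_apply])] at hd
      omega
    have hηX : η ∈ X := by
      by_contra hno
      by_cases hY : η ∈ Y
      · have h := Int.modEq_iff_dvd.1 (hYdeg η hY)
        rw [hd, Nat.cast_sub hpp.one_le] at h
        rcases hε with rfl | rfl
        · have := hsmall (z := 3) (by obtain ⟨c, hc⟩ := h; exact ⟨c + 1, by push_cast at hc; linarith⟩)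
            (by norm_num; omega)
          omega
        · have := hsmall (z := 1) (by obtain ⟨c, hc⟩ := h; exact ⟨-c - 1, by push_cast at hc; linarith⟩)
            (by norm_num; omega)
          omega
      · exact hne x₀ hx₀ (hK0 η (by simp [hno, hY]) x₀ hx₀)
    refine ⟨hηX, hηT, ?_⟩
    obtain ⟨hs, hmod, -⟩ := hX η hηX
    refine hs.resolve_left fun h1 => ?_
    have h := Int.modEq_iff_dvd.1 hmod
    rw [hd, h1, Nat.cast_sub hpp.one_le] at h
    have := hsmall (z := 2) (by obtain ⟨c, hc⟩ := h; exact ⟨c + 1, by push_cast at hc; linarith⟩)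
      (by norm_num; omega)
    omega
  obtain ⟨hχX, hχT, hεχ⟩ := hmem χ hdeg hx
  have hval : ∀ x ∈ FewSylow.star (P : Subgroup G), (χ : G → ℂ) x = -1 := fun x hx' => by
    rw [(hX χ hχX).2.2 x hx', hεχ]; norm_num
  have hXeq : X = {trivChar G, χ} := by
    refine (Finset.eq_of_subset_of_card_le (Finset.insert_subset hTX (Finset.singleton_subset_iff.2 hχX)) ?_).symm
    rw [Finset.card_pair hχT.symm, hXc]
  have hε' : ε = -1 := by
    obtain ⟨θ, hθ⟩ : Y.Nonempty := Finset.card_pos.1 (by omega)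
    have h := hrel θ hθ 1 (by rw [orderOf_one]; exact hpp.not_dvd_one)
    rw [hXeq, Finset.sum_pair hχT.symm, hT1, hεχ, trivChar_apply, hone, hone, hdeg,
      Nat.cast_sub hpp.one_le] at h
    rcases hε with h' | h'
    · exfalso
      rw [h'] at h
      have h0 : ((charDegree (θ : G → ℂ) + p : ℕ) : ℂ) = ((2 : ℕ) : ℂ) := by
        push_cast at h ⊢; linear_combination h
      have := Nat.cast_inj.1 h0
      omega
    · exact h'
  have hθ : ∀ θ ∈ Y, ∀ g : G, ¬ p ∣ orderOf g → (θ : G → ℂ) g = (χ : G → ℂ) g - 1 := by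
    intro θ hθ g hg
    have h := hrel θ hθ g hg
    rw [hXeq, Finset.sum_pair hχT.symm, hT1, hεχ, trivChar_apply, hε'] at h
    push_cast at h
    linear_combination -h
  have hint : ∀ g : G, ∃ c : ℤ, (χ : G → ℂ) g = c := by
    refine fun g => RationalValue.exists_eq_int (IsIrr.isCharacter χ.2) g fun m hm => ?_
    set η : IrrCharacter G := ⟨_, isIrrCharacter_pow χ.2 hm⟩
    have hηd : charDegree (η : G → ℂ) = p - 1 := by
      rw [← hdeg]
      refine CfsgLib.CharDegree.charDegree_eq_of_apply_one ?_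
      show (χ : G → ℂ) ((1 : G) ^ m) = _
      rw [one_pow, hone]
    have hηx : ∀ x ∈ FewSylow.star (P : Subgroup G), (η : G → ℂ) x ≠ 0 := by
      intro x hx'
      obtain ⟨hx1, hxP⟩ := FewSylow.mem_star.1 hx'
      refine hx (x ^ m) (FewSylow.mem_star.2 ⟨fun h => hx1 ?_, pow_mem hxP m⟩)
      have h2 : orderOf x ∣ m := orderOf_dvd_of_pow_eq_one h
      exact orderOf_eq_one_iff.1 (Nat.eq_one_of_dvd_coprimes hm h2 (orderOf_dvd_natCard x))
    obtain ⟨hηX, hηT, -⟩ := hmem η hηd hηx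
    rw [hXeq, Finset.mem_insert, Finset.mem_singleton] at hηX
    exact congrArg (fun ψ : IrrCharacter G => (ψ : G → ℂ) g) (hηX.resolve_left hηT)
  refine ⟨hval, hint, ?_⟩
  -- the alternating square
  set Λ : G → ℂ := fun g => ((χ : G → ℂ) g * (χ : G → ℂ) g - (χ : G → ℂ) (g * g)) / 2
  obtain ⟨m, hm⟩ := IsChar.exists_sum (AltSquarePerm.isCharacter_altSquare (IsIrr.isCharacter χ.2))
  set K := Finset.univ \ (X ∪ Y) with hK
  have hsplit : ∀ φ : IrrCharacter G → ℂ,
      ∑ η, φ η = φ (trivChar G) + φ χ + ∑ η ∈ Y, φ η + ∑ η ∈ K, φ η := fun φ => by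
    rw [hK, ← Finset.sum_sdiff (Finset.subset_univ (X ∪ Y)), Finset.sum_union hdisj, hXeq,
      Finset.sum_pair hχT.symm]
    ring
  have hΛ : ∀ g, Λ g = (m (trivChar G) : ℂ) + (m χ : ℂ) * (χ : G → ℂ) g +
      ∑ η ∈ Y, (m η : ℂ) * (η : G → ℂ) g + ∑ η ∈ K, (m η : ℂ) * (η : G → ℂ) g := fun g => by
    have h := congrFun hm g
    simp only [Finset.sum_apply, Pi.smul_apply, smul_eq_mul] at h
    rw [show Λ g = _ from h, hsplit, trivChar_apply, mul_one]
  have hkd : ∀ η ∈ K, ∃ k : ℕ, charDegree (η : G → ℂ) = p * k ∧ ‖(η : G → ℂ) a‖ ≤ (k : ℝ) := by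
    intro η hη
    obtain ⟨d, hd⟩ := CharAverage.exists_sum_eq (P : Subgroup G) (IsIrr.isCharacter η.2)
    rw [FewSylow.sum_subgroup, F.card, Finset.sum_eq_zero (hK0 η (Finset.mem_sdiff.1 hη).2), add_zero,
      hone] at hd
    refine ⟨d, by exact_mod_cast hd, ?_⟩
    have ha : a ∈ Subgroup.zpowers a := Subgroup.mem_zpowers a
    have ha1 : a ≠ 1 := fun h => by have := F.ord; rw [h, orderOf_one] at this; omega
    have h := CharAverage.norm_sum_le (P : Subgroup G) (IsIrr.isCharacter η.2) F.mem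
    rw [F.sum_coset (IsIrr.isClassFunction η.2) ha ha1, FewSylow.sum_subgroup,
      Finset.sum_eq_zero (hK0 η (Finset.mem_sdiff.1 hη).2), add_zero, hone, hd, norm_mul,
      Complex.norm_natCast, ← Nat.cast_mul, Complex.natCast_re, Nat.cast_mul] at h
    exact le_of_mul_le_mul_left h (by exact_mod_cast hpp.pos)
  choose! k hk hka using hkd
  set S := ∑ η ∈ Y, m η
  set L := ∑ η ∈ K, m η * k η
  have h2t : (2 : ℂ) * t + 1 = p := by exact_mod_cast het
  have hM1 : (χ : G → ℂ) 1 = (p : ℂ) - 1 := by rw [hone, hdeg, Nat.cast_sub hpp.one_le, Nat.cast_one]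
  -- at the identity
  have e1 : ((p : ℂ) - 1) * ((p : ℂ) - 2) =
      2 * ((m (trivChar G) : ℂ) + m χ * ((p : ℂ) - 1) + (S : ℂ) * ((p : ℂ) - 2) + p * (L : ℂ)) := by
    have h := hΛ 1
    simp only [Λ, mul_one, hM1] at h
    rw [Finset.sum_congr rfl (s₁ := Y) (g := fun η => (m η : ℂ) * ((p : ℂ) - 2)) (fun η hη => by
        rw [hθ η hη 1 (by rw [orderOf_one]; exact hpp.not_dvd_one), hM1]; ring),
      Finset.sum_congr rfl (s₁ := K) (g := fun η => (p : ℂ) * ((m η * k η : ℕ) : ℂ)) (fun η hη => by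
        rw [hone, hk η hη]; push_cast; ring),
      ← Finset.sum_mul, ← Finset.mul_sum, ← Nat.cast_sum, ← Nat.cast_sum] at h
    linear_combination 2 * h
  -- on `P`
  have e2 : ((p : ℂ) - 1) = (m (trivChar G) : ℂ) * ((p : ℂ) - 1) - m χ * ((p : ℂ) - 1) + 2 * (S : ℂ) := by
    have h : ∑ x ∈ FewSylow.star (P : Subgroup G), Λ x = ∑ x ∈ FewSylow.star (P : Subgroup G), (1 : ℂ) := by
      refine Finset.sum_congr rfl fun x hx' => ?_
      obtain ⟨hx1, hxP⟩ := FewSylow.mem_star.1 hx'
      have hxx : x * x ∈ FewSylow.star (P : Subgroup G) := by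
        refine FewSylow.mem_star.2 ⟨fun h => hx1 ?_, mul_mem hxP hxP⟩
        have h2 : orderOf x ∣ 2 := orderOf_dvd_of_pow_eq_one (by rw [pow_two, h])
        have h3 := orderOf_dvd_natCard (⟨x, hxP⟩ : (P : Subgroup G))
        rw [← orderOf_submonoid, F.card] at h3
        refine orderOf_eq_one_iff.1 (Nat.eq_one_of_dvd_coprimes ?_ h2 h3)
        exact ((Nat.coprime_primes Nat.prime_two hpp).2 (by omega))
      simp only [Λ, hval x hx', hval _ hxx]
      norm_num
    simp only [hΛ, Finset.sum_add_distrib, ← Finset.mul_sum, Finset.sum_const, F.card_Pstar, nsmul_eq_mul,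
      mul_one] at h
    rw [Finset.sum_congr rfl hval, Finset.sum_comm,
      Finset.sum_congr rfl (s₁ := Y) (g := fun η => (m η : ℂ) * 2) (fun η hη => by
        rw [← Finset.mul_sum, hYsum η hη, hε']; push_cast; ring),
      Finset.sum_comm, Finset.sum_eq_zero (s := K) (fun η hη =>
        Finset.sum_eq_zero fun x hx' => by rw [hK0 η (Finset.mem_sdiff.1 hη).2 x hx', mul_zero]),
      ← Finset.sum_mul, ← Nat.cast_sum, Finset.sum_const, F.card_Pstar, nsmul_eq_mul] at h
    simp only [S]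
    push_cast at h ⊢
    linear_combination -h + ((m (trivChar G) : ℂ) - m χ - 1) * h2t
  -- at `a`
  have e3 : (t : ℝ) + m (trivChar G) - S ≤ (L : ℝ) := by
    have ha1 : a ≠ 1 := fun h => by have := F.ord; rw [h, orderOf_one] at this; omega
    have haa : a * a = 1 := by rw [← pow_two, ← F.ord, pow_orderOf_eq_one]
    have hareg : ¬ p ∣ orderOf a := F.regular_of_mem (Subgroup.mem_zpowers a)
    have hχa : (χ : G → ℂ) a = 0 := by
      have h := CharAverage.norm_sum_le (P : Subgroup G) (IsIrr.isCharacter χ.2) F.mem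
      rw [F.sum_coset (IsIrr.isClassFunction χ.2) (Subgroup.mem_zpowers a) ha1, FewSylow.sum_subgroup,
        Finset.sum_congr rfl hval, hM1, Finset.sum_const, F.card_Pstar, nsmul_eq_mul, norm_mul,
        Complex.norm_natCast] at h
      rw [show (p : ℂ) - 1 + ((2 * t : ℕ) : ℂ) * -1 = 0 by push_cast; linear_combination -h2t,
        Complex.zero_re] at h
      exact norm_le_zero_iff.1 (nonpos_of_mul_nonpos_right h (by exact_mod_cast hpp.pos))
    have h := hΛ a
    simp only [Λ, hχa, haa, hM1, mul_zero, zero_sub, add_zero] at h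
    rw [Finset.sum_congr rfl (s₁ := Y) (g := fun η => (m η : ℂ) * (-1)) (fun η hη => by
      rw [hθ η hη a hareg, hχa, zero_sub]), ← Finset.sum_mul, ← Nat.cast_sum] at h
    have hE : ∑ η ∈ K, (m η : ℂ) * (η : G → ℂ) a = -(((t : ℝ) + m (trivChar G) - S : ℝ) : ℂ) := by
      push_cast
      linear_combination -h + (1 / 2 : ℂ) * h2t
    have h1 := congrArg norm hE
    rw [norm_neg, Complex.norm_real, Real.norm_eq_abs] at h1
    refine (le_abs_self _).trans ?_
    rw [← h1]
    refine (norm_sum_le _ _).trans ?_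
    simp only [L]
    push_cast
    refine Finset.sum_le_sum fun η hη => ?_
    rw [norm_mul, Complex.norm_natCast]
    exact mul_le_mul_of_nonneg_left (hka η hη) (Nat.cast_nonneg _)
  -- solve
  have e1' : ((p : ℤ) - 1) * ((p : ℤ) - 2) =
      2 * ((m (trivChar G) : ℤ) + m χ * ((p : ℤ) - 1) + (S : ℤ) * ((p : ℤ) - 2) + p * (L : ℤ)) := by
    exact_mod_cast e1
  have e2' : ((p : ℤ) - 1) = (m (trivChar G) : ℤ) * ((p : ℤ) - 1) - m χ * ((p : ℤ) - 1) + 2 * (S : ℤ) := by
    exact_mod_cast e2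
  have e3' : (t : ℤ) + m (trivChar G) - S ≤ (L : ℤ) := by exact_mod_cast e3
  have h2tz : (2 : ℤ) * t + 1 = p := by exact_mod_cast het
  have hS : (S : ℤ) = t * (1 - m (trivChar G) + m χ) := by
    have h := e2'
    rw [← h2tz] at h
    refine mul_left_cancel₀ (two_ne_zero : (2 : ℤ) ≠ 0) ?_
    linear_combination -h
  have hL : (L : ℤ) = (t - 1) * m (trivChar G) - t * m χ := by
    have h : (p : ℤ) * ((L : ℤ) - ((t - 1) * m (trivChar G) - t * m χ)) = 0 := by
      have h' := e1'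
      rw [hS, ← h2tz] at h'
      rw [← h2tz]
      linear_combination -(1 / 1) * (0 : ℤ) + (mul_left_cancel₀ (two_ne_zero : (2 : ℤ) ≠ 0)
        (by linear_combination -h' : (2 : ℤ) * ((2 * t + 1) * ((L : ℤ) - ((t - 1) * m (trivChar G) - t * m χ))) = 2 * 0))
    have := (mul_eq_zero.1 h).resolve_left (by exact_mod_cast hpp.ne_zero)
    omega
  have hm1 : m (trivChar G) = 0 := by
    rw [hS, hL] at e3'
    have h1 : (2 : ℤ) * m (trivChar G) ≤ 0 := by linarith
    omega
  rw [hm1] at hL hS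
  have hmχ : m χ = 0 := by
    have h1 : (t : ℤ) * m χ ≤ 0 := by push_cast at hL; linarith [Int.natCast_nonneg L]
    have h0 : (1 : ℤ) ≤ t := by omega
    nlinarith
  rw [hmχ] at hL hS
  have hmK : ∀ η ∈ K, m η = 0 := by
    have hL0 : L = 0 := by simpa using hL
    intro η hη
    have h1 := Finset.sum_eq_zero_iff.1 hL0 η hη
    rcases Nat.mul_eq_zero.1 h1 with h2 | h2
    · exact h2
    · have := CfsgLib.CharDegree.charDegree_pos η
      rw [hk η hη, h2, mul_zero] at this
      omega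
  intro g c d hg hc hd
  have h := hΛ g
  simp only [Λ, hm1, hmχ, Nat.cast_zero, zero_mul, zero_add] at h
  rw [Finset.sum_eq_zero (s := K) (fun η hη => by rw [hmK η hη]; simp),
    Finset.sum_congr rfl (s₁ := Y) (g := fun η => (m η : ℂ) * ((χ : G → ℂ) g - 1)) (fun η hη => by
      rw [hθ η hη g hg]),
    ← Finset.sum_mul, ← Nat.cast_sum, add_zero, hc, hd] at h
  have hSt : S = t := by simpa using hS
  simp only [S] at hSt
  rw [hSt] at h
  have hfin : (d : ℂ) = ((step ((p : ℤ) - 1) c : ℤ) : ℂ) := by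
    simp only [step]
    push_cast
    linear_combination -2 * h - ((c : ℂ) - 1) * h2t
  exact_mod_cast hfin

/-- The double angle inequality for a character value. -/
theorem sub_sq_le {χ : G → ℂ} (hχ : IsCharacter G χ) {M : ℕ} (hM : χ 1 = M) {g : G} {c d : ℤ}
    (hc : χ g = c) (hd : χ (g * g) = d) :
    (M : ℤ) - d ≤ 4 * (M - c) ∧ -(M : ℤ) ≤ c ∧ c ≤ M ∧ d ≤ M := by
  obtain ⟨k, ρ, rfl⟩ := hχ
  obtain ⟨ε, -, hnorm, hpow, -⟩ := exists_eigenvalues ρ g
  have h1 := hpow 1
  have h2 := hpow 2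
  have h0 := hpow 0
  simp only [pow_zero, pow_one, pow_two, Finset.sum_const, Finset.card_univ, nsmul_one, hM, hc, hd] at h0 h1 h2
  have hM' : M = Fintype.card (Fin (Module.finrank ℂ (Fin k → ℂ))) := by exact_mod_cast h0
  have hr1 : (c : ℝ) = ∑ i, (ε i).re := by rw [← Complex.re_sum, ← h1, Complex.intCast_re]
  have hr2 : (d : ℝ) = ∑ i, (ε i * ε i).re := by rw [← Complex.re_sum, ← h2, Complex.intCast_re]
  have hMr : (M : ℝ) = ∑ _i : Fin (Module.finrank ℂ (Fin k → ℂ)), (1 : ℝ) := by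
    rw [hM', Finset.sum_const, Finset.card_univ, nsmul_one]
  have hb : ∀ i, -1 ≤ (ε i).re ∧ (ε i).re ≤ 1 ∧ (ε i).re * (ε i).re + (ε i).im * (ε i).im = 1 := by
    intro i
    have h := Complex.abs_re_le_norm (ε i)
    rw [hnorm i, abs_le] at h
    refine ⟨h.1, h.2, ?_⟩
    rw [← Complex.normSq_apply, Complex.normSq_eq_norm_sq, hnorm i, one_pow]
  have e1 : (M : ℝ) - d ≤ 4 * (M - c) := by
    rw [hr1, hr2, hMr, ← Finset.sum_sub_distrib, ← Finset.sum_sub_distrib, Finset.mul_sum]
    refine Finset.sum_le_sum fun i _ => ?_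
    obtain ⟨h3, h4, h5⟩ := hb i
    rw [Complex.mul_re]
    nlinarith
  have e2 : -(M : ℝ) ≤ c := by
    rw [hr1, hMr, ← Finset.sum_neg_distrib]
    exact Finset.sum_le_sum fun i _ => (hb i).1
  have e3 : (c : ℝ) ≤ M := by rw [hr1, hMr]; exact Finset.sum_le_sum fun i _ => (hb i).2.1
  have e4 : (d : ℝ) ≤ M := by
    rw [hr2, hMr]
    refine Finset.sum_le_sum fun i _ => ?_
    obtain ⟨h3, h4, h5⟩ := hb i
    rw [Complex.mul_re]
    nlinarith
  exact ⟨by exact_mod_cast e1, by exact_mod_cast e2, by exact_mod_cast e3, by exact_mod_cast e4⟩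

/-- Counting the values of the character, for `p ≥ 7`. -/
theorem two_n_of_seven (F : FewSylow.Frame P a 2 t n) (hp7 : 7 ≤ p) (χ : IrrCharacter G)
    (hdeg : charDegree (χ : G → ℂ) = p - 1)
    (hx : ∀ x ∈ FewSylow.star (P : Subgroup G), (χ : G → ℂ) x ≠ 0)
    (hfaith : ∀ g : G, (χ : G → ℂ) g = (χ : G → ℂ) 1 → g = 1) : 2 * n + 3 = p := by
  have hpp : p.Prime := Fact.out
  obtain ⟨hval, hint, hsq⟩ := values F (by omega) χ hdeg hx
  have hM1 : (χ : G → ℂ) 1 = ((p - 1 : ℕ) : ℂ) := by rw [← CfsgLib.CharDegree.cast_irrDegree, hdeg]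
  have hch := IsIrr.isCharacter χ.2
  have h01 : ∀ g : G, ¬ p ∣ orderOf g → g ≠ 1 → (χ : G → ℂ) g * (χ : G → ℂ) g = (χ : G → ℂ) g := by
    intro g hg hg1
    obtain ⟨c, hc⟩ := hint g
    obtain ⟨d, hd⟩ := hint (g * g)
    obtain ⟨e, he⟩ := hint (g * g * (g * g))
    have hg2 : ¬ p ∣ orderOf (g * g) := fun h => hg (h.trans (by rw [← pow_two]; exact orderOf_pow_dvd 2))
    obtain ⟨hA, hclo, hchi, hdhi⟩ := sub_sq_le hch hM1 hc hd
    obtain ⟨-, -, -, hehi⟩ := sub_sq_le hch hM1 hd he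
    have hdf := hsq g c d hg hc hd
    have hef := hsq (g * g) d e hg2 hd he
    have hcM : c ≠ ((p - 1 : ℕ) : ℤ) := fun h => hg1 (hfaith g (by rw [hM1, hc, h, Int.cast_natCast]))
    push_cast [Nat.cast_sub hpp.one_le] at hA hclo hchi hdhi hehi hcM
    simp only [step] at hdf hef
    have hd0 : 0 ≤ d := by
      by_contra h
      nlinarith
    have hc0 : 0 ≤ c := by
      by_contra h
      nlinarith
    have hp' : (7 : ℤ) ≤ p := by exact_mod_cast hp7
    rcases (show c ≤ 1 ∨ (2 ≤ c ∧ c ≤ (p : ℤ) - 3) ∨ c = (p : ℤ) - 2 by omega) with h | ⟨h, h'⟩ | h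
    · rw [hc]
      rcases (show c = 0 ∨ c = 1 by omega) with rfl | rfl <;> simp
    · exfalso
      nlinarith [mul_nonneg (sub_nonneg.2 h) (sub_nonneg.2 h')]
    · exfalso
      subst h
      nlinarith
  have hN0 : (Nat.card G : ℂ) ≠ 0 := Nat.cast_ne_zero.2 Nat.card_pos.ne'
  have hs0 : ∑ g : G, (χ : G → ℂ) g = 0 := by
    have hT : χ ≠ trivChar G := fun h => by
      rw [h, CfsgLib.CharDegree.charDegree_eq_of_apply_one (n := 1) (by simp [trivChar_apply])] at hdeg
      omega
    have h := classInner_irr_of_ne hT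
    simp only [Cfsg.classInner, trivChar_apply, map_one, mul_one] at h
    exact (mul_eq_zero.1 h).resolve_left (inv_ne_zero hN0)
  have hs1 : ∑ g : G, (χ : G → ℂ) g * (χ : G → ℂ) g = Nat.card G := by
    have h := classInner_irr_self χ
    rw [Cfsg.classInner, inv_mul_eq_iff_eq_mul₀ hN0, mul_one] at h
    rw [← h]
    refine Finset.sum_congr rfl fun g _ => ?_
    obtain ⟨c, hc⟩ := hint g
    rw [hc, map_intCast]
  have hreg1 : (1 : G) ∈ Finset.univ.filter (fun g : G => ¬ p ∣ orderOf g) :=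
    Finset.mem_filter.2 ⟨Finset.mem_univ _, by rw [orderOf_one]; exact hpp.not_dvd_one⟩
  have hsing := F.sum_singular (f := fun g => (χ : G → ℂ) g) (IsIrr.isClassFunction χ.2)
  have hsing2 := F.sum_singular (f := fun g => (χ : G → ℂ) g * (χ : G → ℂ) g)
    (fun g h => by simp only [IsIrr.isClassFunction χ.2 g h])
  rw [Finset.sum_congr rfl hval, Finset.sum_const, F.card_Pstar, nsmul_eq_mul] at hsing
  rw [Finset.sum_congr rfl (s₁ := FewSylow.star (P : Subgroup G)) (g := fun _ => (1 : ℂ))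
      (fun x hx' => by rw [hval x hx']; norm_num),
    Finset.sum_const, F.card_Pstar, nsmul_one] at hsing2
  rw [← Finset.sum_filter_add_sum_filter_not Finset.univ (fun g : G => p ∣ orderOf g), hsing,
    ← Finset.add_sum_erase _ _ hreg1, hM1] at hs0
  rw [← Finset.sum_filter_add_sum_filter_not Finset.univ (fun g : G => p ∣ orderOf g), hsing2,
    ← Finset.add_sum_erase _ _ hreg1, hM1,
    Finset.sum_congr rfl (fun g hg => h01 g (Finset.mem_filter.1 (Finset.mem_of_mem_erase hg)).2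
      (Finset.ne_of_mem_erase hg)), F.cardG] at hs1
  have h2t : (2 : ℂ) * t + 1 = p := by exact_mod_cast F.et
  push_cast [Nat.cast_sub hpp.one_le] at hs0 hs1
  have hfin : ((2 * n + 3 : ℕ) : ℂ) * p = ((p : ℕ) : ℂ) * p := by
    push_cast
    linear_combination -hs1 + hs0 + 2 * (1 + (n : ℂ) * p) * h2t
  exact Nat.eq_of_mul_eq_mul_right hpp.pos (by exact_mod_cast hfin)

/-- For `p = 5` the order divides `120`. -/
theorem n_of_five (F : FewSylow.Frame P a 2 t n) (hp5 : p = 5) (χ : IrrCharacter G)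
    (hdeg : charDegree (χ : G → ℂ) = p - 1)
    (hx : ∀ x ∈ FewSylow.star (P : Subgroup G), (χ : G → ℂ) x ≠ 0)
    (hfaith : ∀ g : G, (χ : G → ℂ) g = (χ : G → ℂ) 1 → g = 1) : n = 1 := by
  have hpp : p.Prime := Fact.out
  obtain ⟨-, hint, hsq⟩ := values F (by omega) χ hdeg hx
  choose c hc using hint
  have hM1 : (χ : G → ℂ) 1 = ((4 : ℕ) : ℂ) := by rw [← CfsgLib.CharDegree.cast_irrDegree, hdeg, hp5]
  have hch := IsIrr.isCharacter χ.2
  have hc1 : c 1 = 4 := by
    have h := hc 1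
    rw [hM1] at h
    exact_mod_cast h.symm
  have hstep : ∀ g : G, ¬ p ∣ orderOf g → c (g * g) = (c g - 2) * (c g - 2) ∧ -4 ≤ c g ∧ c g ≤ 4 := by
    intro g hg
    obtain ⟨-, hlo, hhi, -⟩ := sub_sq_le hch hM1 (hc g) (hc (g * g))
    refine ⟨?_, by exact_mod_cast hlo, by exact_mod_cast hhi⟩
    rw [hsq g _ _ hg (hc g) (hc _), step, hp5]
    push_cast; ring
  have hfour : ∀ g : G, c g = 4 → g = 1 := fun g h => hfaith g (by rw [hM1, hc, h]; norm_num)
  -- a subgroup of odd prime power order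
  have hodd : ∀ q : ℕ, q.Prime → q ≠ 2 → q ≠ p → ∀ Q : Subgroup G, IsPGroup q Q → Nat.card Q ∣ 3 := by
    intro q hq hq2 hqp Q hQ
    haveI := Fact.mk hq
    obtain ⟨d, hd⟩ := CharAverage.exists_sum_eq Q (IsIrr.isCharacter χ.2)
    obtain ⟨b, hb⟩ := IsPGroup.iff_card.1 hQ
    have hone' : ∀ u ∈ Q, u ≠ 1 → c u = 1 := by
      intro u hu hu1
      have hdvd : orderOf u ∣ q ^ b := by
        rw [← hb, show orderOf u = orderOf (⟨u, hu⟩ : Q) from orderOf_submonoid (⟨u, hu⟩ : Q)]
        exact orderOf_dvd_natCard _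
      have hreg : ∀ i : ℕ, ¬ p ∣ orderOf (u ^ i) := fun i h => by
        have h1 := hpp.dvd_of_dvd_pow ((h.trans (orderOf_pow_dvd i)).trans hdvd)
        exact hqp ((Nat.prime_dvd_prime_iff_eq hpp hq).1 h1).symm
      -- doubling returns to `u`
      obtain ⟨N, hN2, hN⟩ : ∃ N, 2 ≤ N ∧ u ^ (2 ^ N) = u := by
        have hco : Nat.Coprime 2 (orderOf u) :=
          Nat.Coprime.coprime_dvd_right hdvd (((Nat.coprime_primes Nat.prime_two hq).2 (Ne.symm hq2)).pow_right b)
        refine ⟨2 * (orderOf u).totient, ?_, ?_⟩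
        · have := Nat.totient_pos.2 (orderOf_pos u); omega
        · rw [mul_comm, pow_mul]
          have h := (Nat.ModEq.pow_totient hco).pow 2
          rw [one_pow] at h
          rw [pow_eq_pow_iff_modEq.2 h, pow_one]
      have hiter : ∀ i, 2 ≤ i → c (u ^ (2 ^ i)) = 1 ∨ c (u ^ (2 ^ i)) = 4 := by
        intro i hi
        obtain ⟨j, rfl⟩ := Nat.exists_eq_add_of_le hi
        induction j with
        | zero =>
          obtain ⟨h1, h2, h3⟩ := hstep u (by simpa using hreg 1)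
          obtain ⟨h4, h5, h6⟩ := hstep (u * u) (by simpa [pow_two] using hreg 2)
          rw [show u ^ 2 ^ (2 + 0) = u * u * (u * u) by simp [pow_succ, mul_assoc], h4]
          obtain ⟨h7, h8, h9⟩ := hstep (u * u * (u * u)) (by
            rw [show u * u * (u * u) = u ^ 4 by simp [pow_succ, mul_assoc]]; exact hreg 4)
          rw [h1] at h4 h5 h6 ⊢
          rw [h4] at h8 h9
          generalize c u = z at *
          interval_cases z <;> revert h6 h9 <;> norm_num
        | succ j ih =>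
          have h := (hstep _ (hreg (2 ^ (2 + j)))).1
          rw [show u ^ 2 ^ (2 + (j + 1)) = u ^ 2 ^ (2 + j) * u ^ 2 ^ (2 + j) by
            rw [← pow_add, ← mul_two, ← pow_succ]; rfl, h]
          rcases ih (by omega) with h' | h' <;> rw [h'] <;> norm_num
      rcases hN ▸ hiter N hN2 with h | h
      · exact h
      · exact absurd (hfour u h) hu1
    have hsum : ∑ u : Q, (χ : G → ℂ) u = ((Nat.card Q + 3 : ℕ) : ℂ) := by
      rw [FewSylow.sum_subgroup, Finset.sum_congr rfl (g := fun _ => (1 : ℂ)) (fun u hu => by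
        rw [hc, hone' u (FewSylow.mem_star.1 hu).2 (FewSylow.mem_star.1 hu).1, Int.cast_one]),
        Finset.sum_const, nsmul_one, hM1, ← Nat.cast_add, Nat.cast_inj]
      have := FewSylow.card_star Q
      omega
    rw [hsum] at hd
    have h' : Nat.card Q + 3 = Nat.card Q * d := by exact_mod_cast hd
    refine (Nat.dvd_add_right dvd_rfl).1 ⟨d, h'⟩
  -- a 2-subgroup
  have htwo : ∀ Q : Subgroup G, IsPGroup 2 Q → Nat.card Q ∣ 8 := by
    intro Q hQ
    obtain ⟨b, hb⟩ := IsPGroup.iff_card.1 hQ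
    have h02 : ∀ u ∈ Q, u ≠ 1 → c u = 0 ∨ c u = 2 := by
      intro u hu hu1
      obtain ⟨k, hk⟩ := hQ ⟨u, hu⟩
      have hk' : u ^ 2 ^ k = 1 := congrArg Subtype.val hk
      have hreg : ∀ v ∈ Q, ¬ p ∣ orderOf v := fun v hv h => by
        rw [show orderOf v = orderOf (⟨v, hv⟩ : Q) from orderOf_submonoid (⟨v, hv⟩ : Q)] at h
        have h1 := hpp.dvd_of_dvd_pow (hb ▸ h.trans (orderOf_dvd_natCard _))
        have := Nat.le_of_dvd two_pos h1
        omega
      clear hk
      induction k generalizing u with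
      | zero => exact absurd (by simpa using hk') hu1
      | succ k ih =>
        obtain ⟨h1, h2, h3⟩ := hstep u (hreg u hu)
        rcases eq_or_ne (u * u) 1 with h | h
        · rw [h, hc1] at h1
          have hne : c u ≠ 4 := fun h' => hu1 (hfour u h')
          left
          generalize c u = z at *
          interval_cases z <;> omega
        · have h' := ih (u * u) (mul_mem hu hu) h (by rw [← pow_two, ← pow_mul, ← pow_succ']; exact hk')
          generalize c u = z at *
          rw [h1] at h'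
          interval_cases z <;> omega
    obtain ⟨d, hd⟩ := CharAverage.exists_sum_eq Q (IsIrr.isCharacter χ.2)
    obtain ⟨d', hd'⟩ := CharAverage.exists_sum_eq Q (IsChar.mul (IsIrr.isCharacter χ.2) (IsIrr.isCharacter χ.2))
    rw [FewSylow.sum_subgroup] at hd hd'
    simp only [Pi.mul_apply] at hd'
    rw [hM1, Finset.sum_congr rfl (fun u _ => hc u)] at hd
    rw [hM1] at hd'
    have h' : (4 : ℤ) + ∑ u ∈ FewSylow.star Q, c u = (Nat.card Q : ℤ) * d := by exact_mod_cast hd
    have h'' : (16 : ℤ) + ∑ u ∈ FewSylow.star Q, c u * c u = (Nat.card Q : ℤ) * d' := by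
      rw [Finset.sum_congr rfl (g := fun u => ((c u * c u : ℤ) : ℂ)) (fun u _ => by
        rw [hc]; push_cast; ring)] at hd'
      exact_mod_cast hd'
    rw [Finset.sum_congr rfl (g := fun u => 2 * c u) (fun u hu => by
      rcases h02 u (FewSylow.mem_star.1 hu).2 (FewSylow.mem_star.1 hu).1 with h | h <;> rw [h] <;> norm_num),
      ← Finset.mul_sum] at h''
    exact Int.natCast_dvd_natCast.1 ⟨(d' : ℤ) - 2 * d, by push_cast; linear_combination h'' - 2 * h'⟩
  have hdvd : Nat.card G ∣ 120 := by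
    rw [← Nat.factorization_le_iff_dvd Nat.card_pos.ne' (by norm_num), Finsupp.le_def]
    intro q
    by_cases hq : q.Prime
    swap
    · rw [Nat.factorization_eq_zero_of_not_prime _ hq]; exact Nat.zero_le _
    haveI := Fact.mk hq
    obtain ⟨Q⟩ := (Sylow.nonempty : Nonempty (Sylow q G))
    have hQc := Q.card_eq_multiplicity
    have key : q ^ (Nat.card G).factorization q ∣ 120 := by
      rw [← hQc]
      rcases eq_or_ne q p with rfl | hqp
      · rw [hQc, ← P.card_eq_multiplicity, F.card, hp5]; norm_num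
      rcases eq_or_ne q 2 with rfl | hq2
      · exact (htwo _ Q.isPGroup').trans (by norm_num)
      · exact (hodd q hq hq2 hqp _ Q.isPGroup').trans (by norm_num)
    exact (hq.pow_dvd_iff_le_factorization (by norm_num)).1 key
  have hn := F.npos
  rw [F.cardG, hp5] at hdvd
  have hle := Nat.le_of_dvd (by norm_num) hdvd
  have : n ≤ 2 := by omega
  interval_cases n
  · rfl
  · norm_num at hdvd

/-- Recognition: `G` is `SL(2, 2^m)` with `p = 2^m + 1`, unless `p = 5`, when it is `PSL(2, 5)`. -/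
theorem classify (hp5 : 5 ≤ p) (hP : Nat.card (P : Subgroup G) = p)
    (hC : Subgroup.centralizer ((P : Subgroup G) : Set G) = (P : Subgroup G))
    (hperf : _root_.commutator G = ⊤) (F : FewSylow.Frame P a 2 t n) (χ : IrrCharacter G)
    (hdeg : charDegree (χ : G → ℂ) = p - 1)
    (hx : ∀ x ∈ FewSylow.star (P : Subgroup G), (χ : G → ℂ) x ≠ 0)
    (hfaith : ∀ g : G, (χ : G → ℂ) g = (χ : G → ℂ) 1 → g = 1) :
    (p = 5 ∧ n = 1 ∨ 7 ≤ p ∧ 2 * n + 3 = p) ∧ FewSylow.IsSmallPSL G p := by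
  have hpp : p.Prime := Fact.out
  have h6 : p ≠ 6 := fun h => by rw [h] at hpp; norm_num at hpp
  have hn : p = 5 ∧ n = 1 ∨ 7 ≤ p ∧ 2 * n + 3 = p := by
    rcases eq_or_ne p 5 with h | h
    · exact Or.inl ⟨h, n_of_five F h χ hdeg hx hfaith⟩
    · exact Or.inr ⟨by omega, two_n_of_seven F (by omega) χ hdeg hx hfaith⟩
  refine ⟨hn, FewSylow.brauer P hP hC hperf ?_⟩
  rw [F.syl]
  rcases hn with ⟨rfl, rfl⟩ | ⟨-, h⟩
  · norm_num
  · nlinarith

end CfsgLib.Perm.FewSylowTwo
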