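import Cfsg.Agent.Lib.TwoGroups.ElemCentMoebius
import Cfsg.Agent.Lib.Perm.SimpleCount
import Mathlib.FieldTheory.Finite.GaloisField
import Mathlib.Tactic

/-!
# Recognition of `PSL(2, 2^k)` from the involution centralisers
-/

set_option autoImplicit false

namespace CfsgLib.Perm

open Subgroup

/-- Isomorphic fields give isomorphic projective special linear groups. -/
theorem nonempty_psl_congr {F K : Type*} [Field F] [Field K] (e : F ≃+* K) :
    Nonempty (Matrix.ProjectiveSpecialLinearGroup (Fin 2) F ≃*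
      Matrix.ProjectiveSpecialLinearGroup (Fin 2) K) := by
  have hli : ∀ A : Matrix.SpecialLinearGroup (Fin 2) F,
      Matrix.SpecialLinearGroup.map e.symm.toRingHom (Matrix.SpecialLinearGroup.map e.toRingHom A) = A :=
    fun A => Subtype.ext (Matrix.ext fun i j => e.symm_apply_apply (A.1 i j))
  have hri : ∀ A : Matrix.SpecialLinearGroup (Fin 2) K,
      Matrix.SpecialLinearGroup.map e.toRingHom (Matrix.SpecialLinearGroup.map e.symm.toRingHom A) = A :=
    fun A => Subtype.ext (Matrix.ext fun i j => e.apply_symm_apply (A.1 i j))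
  let E : Matrix.SpecialLinearGroup (Fin 2) F ≃* Matrix.SpecialLinearGroup (Fin 2) K :=
    { toFun := Matrix.SpecialLinearGroup.map e.toRingHom
      invFun := Matrix.SpecialLinearGroup.map e.symm.toRingHom
      left_inv := hli
      right_inv := hri
      map_mul' := map_mul _ }
  refine ⟨QuotientGroup.congr _ _ E ?_⟩
  ext x
  constructor
  · rintro ⟨y, hy, rfl⟩
    rw [mem_center_iff]
    intro g
    show g * E y = E y * g
    rw [← E.apply_symm_apply g, ← map_mul, ← map_mul, mem_center_iff.1 hy]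
  · intro hx
    refine ⟨E.symm x, ?_, E.apply_symm_apply x⟩
    rw [SetLike.mem_coe, mem_center_iff]
    intro g
    apply E.injective
    rw [map_mul, map_mul, E.apply_symm_apply, mem_center_iff.1 hx]

/-- A simple group with a Sylow `2`-subgroup of order `2 ^ k` equal to each involution centraliser,
and without elements of order four, is `PSL(2, 2 ^ k)`. -/
theorem nonempty_iso_psl_of_no_four {G : Type*} [Group G] [Finite G] [IsSimpleGroup G]
    (hG : ¬ IsMulCommutative G) {k m : ℕ} (hk : 2 ≤ k) (hcard : Nat.card G = 2 ^ k * m)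
    (hm : ¬ 2 ∣ m) (hC : ∀ t : G, orderOf t = 2 → Nat.card (centralizer ({t} : Set G)) = 2 ^ k)
    (h4 : ∀ g : G, orderOf g ≠ 4) {F : Type*} [Field F] [Fintype F] (hF : Fintype.card F = 2 ^ k) :
    Nonempty (G ≃* Matrix.ProjectiveSpecialLinearGroup (Fin 2) F) := by
  have : Fact (Nat.Prime 2) := ⟨Nat.prime_two⟩
  have hsq : ∀ g : G, orderOf g ∣ 2 ^ k → g ^ 2 = 1 := by
    intro g hg
    obtain ⟨i, -, hi⟩ := (Nat.dvd_prime_pow Nat.prime_two).1 hg
    rcases Nat.lt_or_ge i 2 with h | h
    · rw [← orderOf_dvd_iff_pow_eq_one, hi]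
      exact pow_dvd_pow 2 (by omega) |>.trans (by norm_num : 2 ^ 1 ∣ 2)
    · exfalso
      refine h4 (g ^ (2 ^ (i - 2))) ?_
      rw [orderOf_pow_of_dvd (pow_ne_zero _ two_ne_zero) (hi ▸ pow_dvd_pow 2 (by omega)), hi,
        Nat.pow_div (by omega) two_pos, show i - (i - 2) = 2 by omega]
      norm_num
  have hexp : ∀ t : G, orderOf t = 2 → ∀ c ∈ centralizer ({t} : Set G), c ^ 2 = 1 := fun t ht c hc =>
    hsq c (hC t ht ▸ Subgroup.orderOf_dvd_natCard _ hc)
  obtain ⟨T⟩ := (inferInstance : Nonempty (Sylow 2 G))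
  have hT : Nat.card (T : Subgroup G) = 2 ^ k := sylow_card_eq T hcard hm
  have hnc : ¬ IsCyclic (T : Subgroup G) := by
    intro hc
    obtain ⟨g, hg⟩ := hc.exists_generator
    have ho := orderOf_eq_card_of_forall_mem_zpowers hg
    rw [hT] at ho
    have h1 : orderOf g ∣ 2 := by
      refine orderOf_dvd_of_pow_eq_one (Subtype.ext ?_)
      rw [SubmonoidClass.coe_pow, hsq _ (by rw [Subgroup.orderOf_coe, ho]), OneMemClass.coe_one]
    have := Nat.le_of_dvd two_pos h1
    have : 2 ^ 2 ≤ 2 ^ k := Nat.pow_le_pow_right two_pos hk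
    omega
  have hnn : ¬ (T : Subgroup G).Normal := by
    intro hn
    rcases hn.eq_bot_or_eq_top with h | h
    · rw [h, card_bot] at hT
      have : 2 ^ 2 ≤ 2 ^ k := Nat.pow_le_pow_right two_pos hk
      omega
    · refine hG ⟨⟨fun a b => ?_⟩⟩
      have hpow : ∀ x : G, x ^ 2 = 1 := fun x => hsq x (by
        rw [← hT]
        exact Subgroup.orderOf_dvd_natCard _ (h ▸ mem_top x))
      have := hpow (a * b)
      have ha := hpow a
      have hb := hpow b
      rw [pow_two] at this ha hb
      calc a * b = (a * b)⁻¹ := (inv_eq_of_mul_eq_one_right this).symm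
        _ = b⁻¹ * a⁻¹ := mul_inv_rev a b
        _ = b * a := by rw [inv_eq_of_mul_eq_one_right ha, inv_eq_of_mul_eq_one_right hb]
  have hab : ∀ t : G, orderOf t = 2 → IsMulCommutative (centralizer ({t} : Set G)) := fun t ht =>
    ⟨⟨fun a b => Subtype.ext (by
      have ha := hexp t ht a a.2
      have hb := hexp t ht b b.2
      have hab := hexp t ht _ (mul_mem a.2 b.2)
      rw [pow_two] at ha hb hab
      show (a : G) * b = b * a
      calc (a : G) * b = ((a : G) * b)⁻¹ := (inv_eq_of_mul_eq_one_right hab).symm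
        _ = (b : G)⁻¹ * (a : G)⁻¹ := mul_inv_rev _ _
        _ = b * a := by rw [inv_eq_of_mul_eq_one_right ha, inv_eq_of_mul_eq_one_right hb])⟩⟩
  obtain ⟨K, iK, iKt, hKcard, ⟨e⟩⟩ := CfsgLib.TwoGroups.ElemCent.exists_mulEquiv_psl
    (T := T) ⟨hnc, hnn, fun t ht => ⟨hab t ht, hexp t ht⟩⟩
  obtain ⟨e'⟩ := nonempty_psl_congr (F := K) (K := F)
    (FiniteField.ringEquivOfCardEq (by rw [hKcard, hT, hF]))
  exact ⟨e.trans e'⟩

end CfsgLib.Perm
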