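import Cfsg.Agent.Lib.Perm.SimpleCount
import Cfsg.Agent.Lib.Transfer.Abelian
import Mathlib.Tactic

/-!
# Transfer into an abelian Sylow subgroup of a simple group
-/

set_option autoImplicit false

namespace CfsgLib.Perm

open Subgroup
open scoped commutatorElement

variable {G : Type*} [Group G] [Finite G] [IsSimpleGroup G] {p : ℕ} [Fact p.Prime]

/-- In a non-abelian simple group the normaliser of an abelian Sylow subgroup fixes none of its
non-identity elements. -/
theorem eq_one_of_central_in_sylow_normalizer (hG : ¬ IsMulCommutative G) (P : Sylow p G)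
    (hP : IsMulCommutative (P : Subgroup G)) {t : G} (ht : t ∈ (P : Subgroup G))
    (hc : ∀ g ∈ normalizer ((P : Subgroup G) : Set G), g * t = t * g) : t = 1 := by
  have hperf : _root_.commutator G = ⊤ := by
    rcases (inferInstance : (_root_.commutator G).Normal).eq_bot_or_eq_top with h | h
    · exfalso
      refine hG ⟨⟨fun a b => ?_⟩⟩
      have hab : ⁅a, b⁆ ∈ _root_.commutator G := by
        rw [_root_.commutator_def]; exact commutator_mem_commutator (mem_top a) (mem_top b)
      rw [h, mem_bot] at hab
      exact commutatorElement_eq_one_iff_mul_comm.1 hab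
    · exact h
  have h1 := CfsgLib.Transfer.commutator_inf_eq_commutator_normalizer P hP
  rw [hperf, top_inf_eq] at h1
  have h2 := (CfsgLib.Transfer.commutator_normalizer_inf_sup P hP).1
  rw [← h1] at h2
  have h3 : t ∈ (P : Subgroup G) ⊓ ((P : Subgroup G) ⊓
      centralizer ((normalizer ((P : Subgroup G) : Set G) : Subgroup G) : Set G)) :=
    ⟨ht, ht, mem_centralizer_iff.2 fun g hg => hc g hg⟩
  rw [h2, mem_bot] at h3
  exact h3

end CfsgLib.Perm
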