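import Cfsg.Agent.Lib.Perm.DihedralNormalizer

/-!
# The degree equation for a self-centralizing subgroup with automiser of order three
-/

set_option autoImplicit false

namespace CfsgLib.Perm.SelfCentDegree

open CfsgLib.CA CfsgLib.Char
open scoped ComplexConjugate Classical

variable {G : Type*} [Group G] [Fintype G] {A : Subgroup G}

local notation "NA" => Subgroup.normalizer (A : Set G)

/-- For a self-centralizing subgroup `A` of order at least 16 with `|N(A) : A| = 3` in a perfect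
group: `1 + x₁ + x₂` is plus or minus a degree, the `xᵢ` being signed degrees congruent to one. -/
theorem exists_degree_of_index_three (hA : SelfCent A) (hperf : commutator G = ⊤)
    (hind : A.relIndex NA = 3) (hsize : 16 ≤ Nat.card A) :
    ∃ x₁ x₂ y : ℤ, x₁.natAbs ∣ Nat.card G ∧ x₂.natAbs ∣ Nat.card G ∧ y.natAbs ∣ Nat.card G ∧
      x₁.natAbs ≠ 1 ∧ x₂.natAbs ≠ 1 ∧ (Nat.card A : ℤ) ∣ x₁ - 1 ∧ (Nat.card A : ℤ) ∣ x₂ - 1 ∧
      1 + x₁ + x₂ = y := by
  have := Fintype.ofFinite (Cfsg.IrrCharacter G)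
  obtain ⟨n, z, ε, μ, c, hn, hε, hcard, hinj, hct, hsq, hcμ, hdeg, hout, hvan⟩ :=
    exists_decomp hA (by omega)
  rw [hind] at hsq hcard
  push_cast at hsq
  have hn5 : 5 ≤ n := by omega
  choose d hd using fun χ : Cfsg.IrrCharacter G => IsIrr.exists_degree χ.2
  have hd1 : ∀ χ, ((d χ : ℂ)) = (χ : G → ℂ) 1 := fun χ => (hd χ).2.symm
  have hddvd : ∀ χ : Cfsg.IrrCharacter G, d χ ∣ Nat.card G := fun χ => by
    rw [← CfsgLib.CharDegree.charDegree_eq_of_apply_one (hd χ).2]
    exact CfsgLib.CharDegree.charDegree_dvd_card χ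
  have hrange : ∀ j, μ j ≠ trivChar G := by
    intro j h
    obtain ⟨i, hi⟩ : ∃ i : Fin n, i ≠ j := by
      by_cases hj : j = ⟨0, by omega⟩
      · exact ⟨⟨1, by omega⟩, fun e => by rw [hj] at e; simp at e⟩
      · exact ⟨⟨0, by omega⟩, Ne.symm hj⟩
    have h1 : (μ i : G → ℂ) 1 = 1 := by rw [hdeg i, ← hdeg j, h]; simp
    exact hi (hinj ((eq_trivChar_of_degree_one hperf _ h1).trans h.symm))
  set R : Finset (Cfsg.IrrCharacter G) := Finset.univ.image μ with hR
  have htR : trivChar G ∉ R := by simp [hR, hrange]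
  set S : Finset (Cfsg.IrrCharacter G) := (Finset.univ.erase (trivChar G)) \ R with hS
  have hsplit : ∀ {M : Type} [AddCommMonoid M] (f : Cfsg.IrrCharacter G → M),
      ∑ χ, f χ = f (trivChar G) + (∑ j, f (μ j) + ∑ χ ∈ S, f χ) := by
    intro M _ f
    rw [← Finset.add_sum_erase _ _ (Finset.mem_univ (trivChar G))]
    congr 1
    rw [← Finset.sum_sdiff (s₁ := R) (fun χ hχ => Finset.mem_erase.2
      ⟨fun e => htR (by rw [← e]; exact hχ), Finset.mem_univ _⟩), add_comm, hR,
      Finset.sum_image fun a _ b _ h => hinj h, hS]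
  rw [hsplit, hct] at hsq
  set a := c (μ z) with ha
  have hcj : ∀ j, j ≠ z → c (μ j) = a + ε := fun j hj => by linarith [hcμ j hj]
  have hsumsq : ∑ j, c (μ j) * c (μ j) = a * a + ((n : ℤ) - 1) * ((a + ε) * (a + ε)) := by
    rw [← Finset.add_sum_erase _ _ (Finset.mem_univ z),
      Finset.sum_congr rfl (g := fun _ => (a + ε) * (a + ε))
        (fun j hj => by rw [hcj j (Finset.ne_of_mem_erase hj)]),
      Finset.sum_const, Finset.card_erase_of_mem (Finset.mem_univ _), Finset.card_univ,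
      Fintype.card_fin, nsmul_eq_mul, Nat.cast_sub (by omega), Nat.cast_one, ha]
  have hsum : ∑ j, c (μ j) = a + ((n : ℤ) - 1) * (a + ε) := by
    rw [← Finset.add_sum_erase _ _ (Finset.mem_univ z),
      Finset.sum_congr rfl (g := fun _ => a + ε) (fun j hj => hcj j (Finset.ne_of_mem_erase hj)),
      Finset.sum_const, Finset.card_erase_of_mem (Finset.mem_univ _), Finset.card_univ,
      Fintype.card_fin, nsmul_eq_mul, Nat.cast_sub (by omega), Nat.cast_one, ha]
  have hεε : ε * ε = 1 := by rcases hε with rfl | rfl <;> rfl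
  have hS_nn : 0 ≤ ∑ χ ∈ S, c χ * c χ := Finset.sum_nonneg fun χ _ => mul_self_nonneg _
  rw [hsumsq] at hsq
  have hn' : (5 : ℤ) ≤ n := by exact_mod_cast hn5
  have hae : a + ε = 0 := by
    by_contra hne
    have h1 : 1 ≤ (a + ε) * (a + ε) := by
      rcases lt_or_gt_of_ne hne with h | h <;> nlinarith
    nlinarith [mul_self_nonneg a]
  have hS2 : ∑ χ ∈ S, c χ * c χ = 2 := by
    have haa : a * a = 1 := by rw [show a = -ε by linarith]; linarith [hεε]
    rw [hae, haa] at hsq
    linarith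
  have hunit : ∀ χ ∈ S, c χ ≠ 0 → c χ * c χ = 1 := by
    intro χ hχ hne
    have hle := Finset.single_le_sum (fun χ _ => mul_self_nonneg (c χ)) hχ
    rw [hS2] at hle
    rcases lt_trichotomy (c χ) 0 with h | h | h
    · rcases lt_trichotomy (c χ) (-1) with h' | h' | h'
      · nlinarith
      · rw [h']; rfl
      · omega
    · exact absurd h hne
    · rcases lt_trichotomy (c χ) 1 with h' | h' | h'
      · omega
      · rw [h']; rfl
      · nlinarith
  set T := S.filter fun χ => c χ ≠ 0 with hT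
  have hT2 : T.card = 2 := by
    have h : ∑ χ ∈ T, c χ * c χ = 2 := by
      rw [hT, Finset.sum_filter_of_ne (p := fun χ => c χ ≠ 0) (fun χ _ h e => h (by rw [e, mul_zero])), hS2]
    rw [Finset.sum_congr rfl (g := fun _ => (1 : ℤ)) (fun χ hχ =>
      hunit χ (Finset.mem_filter.1 hχ).1 (Finset.mem_filter.1 hχ).2), Finset.sum_const, nsmul_eq_mul,
      mul_one] at h
    exact_mod_cast h
  obtain ⟨χ₁, χ₂, hne, hTeq⟩ := Finset.card_eq_two.1 hT2
  have h1 := (hvan 1 (fun x _ => by simp)).1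
  rw [hsplit, hct, Finset.sum_congr rfl (g := fun j => (c (μ j) : ℂ) * (μ z : G → ℂ) 1)
    (fun j _ => by rw [hdeg j]), ← Finset.sum_mul, ← Int.cast_sum, hsum, hae, mul_zero, add_zero,
    ← Finset.sum_filter_of_ne (p := fun χ => c χ ≠ 0) (fun χ _ h e => h (by rw [e, Int.cast_zero, zero_mul])),
    ← hT, hTeq, Finset.sum_pair hne, trivChar_apply, ← hd1, ← hd1, ← hd1] at h1
  have hE : 1 + (a * d (μ z) + (c χ₁ * d χ₁ + c χ₂ * d χ₂)) = 0 := by
    rw [Int.cast_one, one_mul] at h1
    exact_mod_cast h1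
  have hprop : ∀ χ, χ ∈ T → (c χ * d χ).natAbs ∣ Nat.card G ∧ (c χ * d χ).natAbs ≠ 1 ∧
      (Nat.card A : ℤ) ∣ c χ * d χ - 1 := by
    intro χ hχ
    obtain ⟨hχS, hne0⟩ := Finset.mem_filter.1 hχ
    have hc1 := hunit χ hχS hne0
    have habs : (c χ * d χ).natAbs = d χ := by
      rcases mul_self_eq_one_iff.1 hc1 with h | h <;> rw [h] <;> simp
    rw [habs]
    obtain ⟨hχe, hχR⟩ := Finset.mem_sdiff.1 hχS
    refine ⟨hddvd χ, fun h => (Finset.mem_erase.1 hχe).1 (eq_trivChar_of_degree_one hperf _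
      (by rw [← hd1, h, Nat.cast_one])), ?_⟩
    obtain ⟨k, hk⟩ := (hout χ fun j e => hχR (by
      rw [hR]; exact Finset.mem_image.2 ⟨j, Finset.mem_univ _, e.symm⟩)).2
    rw [← hd1] at hk
    have hk' : (d χ : ℤ) = c χ + (Nat.card A : ℤ) * k := by exact_mod_cast hk
    exact ⟨c χ * k, by rw [hk']; linear_combination hc1⟩
  obtain ⟨e1, e2, e3⟩ := hprop χ₁ (by rw [hTeq]; exact Finset.mem_insert_self _ _)
  obtain ⟨f1, f2, f3⟩ := hprop χ₂ (by rw [hTeq]; exact Finset.mem_insert_of_mem (Finset.mem_singleton_self _))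
  refine ⟨c χ₁ * d χ₁, c χ₂ * d χ₂, ε * d (μ z), e1, f1, ?_, e2, f2, e3, f3, ?_⟩
  · have : (ε * (d (μ z) : ℤ)).natAbs = d (μ z) := by rcases hε with rfl | rfl <;> simp
    rw [this]; exact hddvd _
  · rw [show a = -ε by linarith] at hE
    linear_combination hE

end CfsgLib.Perm.SelfCentDegree

namespace CfsgLib.Perm

open Subgroup

/-- The case of a Sylow subgroup of prime order `p` with normaliser of order `3 p`. -/
theorem exists_degree_of_card_normalizer_three_mul {G : Type*} [Group G] [Finite G] [IsSimpleGroup G]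
    {p : ℕ} [Fact p.Prime] (hp16 : 16 ≤ p) (P : Sylow p G) (hP : Nat.card (P : Subgroup G) = p)
    (hne : ¬ IsPGroup p G) (hG : ¬ IsMulCommutative G)
    (hN : Nat.card (normalizer ((P : Subgroup G) : Set G)) = 3 * p) :
    ∃ x₁ x₂ y : ℤ, x₁.natAbs ∣ Nat.card G ∧ x₂.natAbs ∣ Nat.card G ∧ y.natAbs ∣ Nat.card G ∧
      x₁.natAbs ≠ 1 ∧ x₂.natAbs ≠ 1 ∧ (p : ℤ) ∣ x₁ - 1 ∧ (p : ℤ) ∣ x₂ - 1 ∧ 1 + x₁ + x₂ = y := by
  have hp : p.Prime := Fact.out
  let _ := Fintype.ofFinite G
  set A : Subgroup G := (P : Subgroup G) with hA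
  have hPC : A ≤ centralizer (A : Set G) := by
    have hcyc : IsCyclic A := isCyclic_of_prime_card hP
    intro x hx
    rw [mem_centralizer_iff]
    intro y hy
    exact congrArg Subtype.val
      ((IsCyclic.commGroup (α := A)).mul_comm (⟨y, hy⟩ : A) ⟨x, hx⟩)
  have hCN : centralizer (A : Set G) ≤ normalizer (A : Set G) := centralizer_le_normalizer _
  have h1 := relIndex_centralizer_dvd_div A hP (a := 3) (by rw [hN, mul_comm])
  have h2 : (centralizer (A : Set G)).relIndex (normalizer (A : Set G)) ≠ 1 := by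
    intro h
    rw [relIndex_eq_one] at h
    exact not_normalizer_le_centralizer P (hP ▸ card_subgroup_dvd_card _) hne h
  have h3 : (centralizer (A : Set G)).relIndex (normalizer (A : Set G)) = 3 :=
    ((Nat.dvd_prime Nat.prime_three).1 h1).resolve_left h2
  have h4 : Nat.card (centralizer (A : Set G)) = p := by
    have h := index_mul_card ((centralizer (A : Set G)).subgroupOf (normalizer (A : Set G)))
    rw [Nat.card_congr (subgroupOfEquivOfLe hCN).toEquiv, hN] at h
    change (centralizer (A : Set G)).relIndex (normalizer (A : Set G)) * _ = _ at h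
    rw [h3] at h
    omega
  have h5 : centralizer (A : Set G) = A := (eq_of_le_of_card_ge hPC (by rw [h4, hP])).symm
  have hself : CfsgLib.CA.SelfCent A := fun x hx hx1 => by
    rw [centralizer_eq_of_prime_card hp hP hx hx1, h5]
  have hind : A.relIndex (normalizer (A : Set G)) = 3 := by rw [h5] at h3; exact h3
  have hperf : _root_.commutator G = ⊤ := by
    rcases (inferInstance : (_root_.commutator G).Normal).eq_bot_or_eq_top with h | h
    · refine absurd ⟨⟨fun a b => ?_⟩⟩ hG
      have hab : a * b * a⁻¹ * b⁻¹ = 1 := by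
        rw [← mem_bot, ← h, _root_.commutator_def]
        exact commutator_mem_commutator (mem_top a) (mem_top b)
      calc a * b = a * b * a⁻¹ * b⁻¹ * (b * a) := by group
        _ = b * a := by rw [hab, one_mul]
    · exact h
  obtain ⟨x₁, x₂, y, a1, a2, a3, a4, a5, a6, a7, a8⟩ :=
    SelfCentDegree.exists_degree_of_index_three hself hperf hind (by rw [hP]; exact hp16)
  rw [hP] at a6 a7
  exact ⟨x₁, x₂, y, a1, a2, a3, a4, a5, a6, a7, a8⟩

end CfsgLib.Perm
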