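import Cfsg.Agent.Lib.Perm.SylowNormalizer
import Cfsg.Agent.Lib.Perm.CharAverage
import Mathlib.Algebra.Field.ZMod
import Mathlib.RingTheory.IntegralDomain
import Mathlib.GroupTheory.Transfer
import Mathlib.Tactic

/-!
# A self-centralizing Sylow subgroup of prime order: the normalizer and some sums

`Frame` fixes a cyclic complement `A = ⟨a⟩` of `P` in its normalizer with the usual numerical data.
-/

set_option autoImplicit false

namespace CfsgLib.Perm.FewSylow

open Subgroup
open scoped Classical commutatorElement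

variable {G : Type*} [Group G]

/-- The nonidentity elements of a subgroup. -/
noncomputable def star [Fintype G] (H : Subgroup G) : Finset G :=
  (Finset.univ.filter fun x => x ∈ H).erase 1

theorem mem_star [Fintype G] {H : Subgroup G} {x : G} : x ∈ star H ↔ x ≠ 1 ∧ x ∈ H := by
  simp [star]

theorem sum_subgroup [Fintype G] (H : Subgroup G) [Fintype H] (f : G → ℂ) :
    ∑ x : H, f x = f 1 + ∑ x ∈ star H, f x := by
  rw [← Finset.sum_subtype (p := fun x => x ∈ H) (Finset.univ.filter fun x => x ∈ H) (by simp) f,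
    star, Finset.add_sum_erase _ _ (by simp)]

theorem card_star [Fintype G] (H : Subgroup G) : (star H).card + 1 = Nat.card H := by
  rw [star, Finset.card_erase_of_mem (by simp), Nat.card_eq_fintype_card, Fintype.card_subtype]
  have : 0 < (Finset.univ.filter fun x => x ∈ H).card := Finset.card_pos.2 ⟨1, by simp⟩
  omega

variable {p : ℕ} [Fact p.Prime]

/-- The data of a self-centralizing Sylow subgroup of order `p` in a perfect group. -/
structure Frame (P : Sylow p G) (a : G) (e t n : ℕ) : Prop where
  card : Nat.card (P : Subgroup G) = p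
  cent : ∀ x ∈ (P : Subgroup G), x ≠ 1 → centralizer ({x} : Set G) = (P : Subgroup G)
  perf : commutator G = ⊤
  ord : orderOf a = e
  mem : a ∈ normalizer ((P : Subgroup G) : Set G)
  cardN : Nat.card (normalizer ((P : Subgroup G) : Set G)) = e * p
  et : e * t + 1 = p
  two : 2 ≤ e
  npos : 0 < n
  syl : Nat.card (Sylow p G) = 1 + n * p
  cardG : Nat.card G = e * p * (1 + n * p)

theorem exists_frame [Finite G] (P : Sylow p G) (hP : Nat.card (P : Subgroup G) = p)
    (hC : centralizer ((P : Subgroup G) : Set G) = (P : Subgroup G)) (hperf : commutator G = ⊤) :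
    ∃ a e t n, Frame P a e t n := by
  have hp : p.Prime := Fact.out
  set N := normalizer ((P : Subgroup G) : Set G) with hN
  let φ := (P : Subgroup G).normalizerMonoidHom
  have hker : φ.ker = (P : Subgroup G).subgroupOf N := by
    rw [normalizerMonoidHom_ker, hC]
  haveI : IsCyclic (P : Subgroup G) := isCyclic_of_prime_card hP
  haveI : IsCyclic (MulAut (P : Subgroup G)) := by
    have e1 := (IsCyclic.mulAutMulEquiv (P : Subgroup G)).trans (Units.mapEquiv
      (ZMod.ringEquivCongr hP).toMulEquiv)
    exact isCyclic_of_surjective e1.symm.toMonoidHom e1.symm.surjective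
  obtain ⟨g, hg⟩ := IsCyclic.exists_generator (α := φ.range)
  obtain ⟨b, hb⟩ := g.2
  set e := Nat.card φ.range with he
  have hPN : (P : Subgroup G) ≤ N := Subgroup.le_normalizer
  have hcardN : Nat.card N = e * p := by
    rw [← φ.ker.index_mul_card, Subgroup.index_ker, hker,
      Nat.card_congr (subgroupOfEquivOfLe hPN).toEquiv, hP]
  have hedvd : e ∣ p - 1 := by
    have := Subgroup.card_subgroup_dvd_card φ.range
    rwa [IsCyclic.card_mulAut, hP, Nat.totient_prime hp] at this
  have hordb : orderOf (φ b) = e := by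
    rw [hb, Subgroup.orderOf_coe, orderOf_eq_card_of_forall_mem_zpowers hg]
  obtain ⟨t, ht⟩ := hedvd
  have hp2 := hp.two_le
  have hbp : φ (b ^ p) = φ b := by
    rw [map_pow]
    refine (congrArg (φ b ^ ·) (show p = e * t + 1 by omega)).trans ?_
    simp only [pow_succ, pow_mul, ← hordb, pow_orderOf_eq_one, one_pow, one_mul]
  have hape : ((b ^ p) ^ e : N) = 1 := by
    have h1 : b ^ e ∈ φ.ker := by rw [MonoidHom.mem_ker, map_pow, ← hordb, pow_orderOf_eq_one]
    rw [hker, mem_subgroupOf] at h1
    have h2 := pow_card_eq_one' (G := (P : Subgroup G)) (x := ⟨_, h1⟩)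
    rw [hP] at h2
    rw [← pow_mul, mul_comm, pow_mul]
    exact Subtype.ext (by have h3 := congrArg Subtype.val h2; simpa using h3)
  have hord : orderOf ((b ^ p : N) : G) = e := by
    rw [Subgroup.orderOf_coe]
    refine Nat.dvd_antisymm (orderOf_dvd_of_pow_eq_one hape) ?_
    rw [← hordb, ← hbp]
    exact orderOf_map_dvd φ _
  -- transfer
  have hnle : ¬ N ≤ centralizer ((P : Subgroup G) : Set G) := by
    intro hle
    have h1 := MonoidHom.ker_transferSylow_isComplement' P hle
    have h2 : (MonoidHom.transferSylow P hle).ker = ⊤ := by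
      rw [eq_top_iff, ← hperf, _root_.commutator_def, Subgroup.commutator_le]
      intro x _ y _
      rw [MonoidHom.mem_ker, map_commutatorElement]
      exact commutatorElement_eq_one_iff_mul_comm.2 (IsCyclic.commGroup.mul_comm _ _)
    rw [h2] at h1
    have := h1.card_mul
    rw [Subgroup.card_top, hP] at this
    have h3 : 0 < Nat.card G := Nat.card_pos
    nlinarith
  have hsyl1 := card_sylow_modEq_one p G
  obtain ⟨n, hn⟩ : ∃ n, Nat.card (Sylow p G) = 1 + n * p := by
    refine ⟨Nat.card (Sylow p G) / p, ?_⟩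
    rw [Nat.ModEq, Nat.one_mod_eq_one.2 hp.ne_one] at hsyl1
    have := Nat.div_add_mod (Nat.card (Sylow p G)) p
    rw [mul_comm]
    omega
  refine ⟨((b ^ p : N) : G), e, t, n, hP, fun x hx hx1 => ?_, hperf, hord, (b ^ p).2, hcardN,
    by omega, ?_, ?_, hn, ?_⟩
  · refine le_antisymm ?_ ?_
    · have hz : zpowers x = (P : Subgroup G) := by
        refine eq_of_le_of_card_ge (zpowers_le.2 hx) ?_
        rw [hP, Nat.card_zpowers]
        have h := orderOf_dvd_natCard (⟨x, hx⟩ : (P : Subgroup G))
        rw [hP, ← orderOf_submonoid] at h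
        rcases (Nat.dvd_prime hp).1 h with h' | h'
        · exact absurd (orderOf_eq_one_iff.1 h') hx1
        · exact h'.ge
      rw [← hC, ← hz, zpowers_eq_closure, centralizer_closure]
    · intro y hy
      rw [← hC] at hx
      exact mem_centralizer_singleton_iff.2 (mem_centralizer_iff.1 hx y hy)
  · by_contra hlt
    refine hnle ?_
    have h1 : e = 1 := by
      have : 0 < e := Nat.card_pos
      omega
    have h2 : N = (P : Subgroup G) :=
      (eq_of_le_of_card_ge hPN (by rw [hcardN, hP, h1, one_mul])).symm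
    rw [h2, hC]
  · rcases Nat.eq_zero_or_pos n with rfl | h
    · exfalso
      have h2 : Subgroup.Normal (P : Subgroup G) := by
        rw [← normalizer_eq_top_iff]
        apply eq_top_of_card_eq
        have := card_normalizer_mul_card_sylow P
        rwa [hn, zero_mul, add_zero, mul_one] at this
      haveI := h2
      have h3 : N = ⊤ := normalizer_eq_top _
      -- the group modulo `P` is cyclic
      have h4 : commutator G ≤ (P : Subgroup G) := by
        rw [_root_.commutator_def, Subgroup.commutator_le]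
        intro x _ y _
        have hx : x ∈ N := h3 ▸ mem_top x
        have hy : y ∈ N := h3 ▸ mem_top y
        have h5 : (⟨⁅x, y⁆, h3 ▸ mem_top _⟩ : N) ∈ φ.ker := by
          rw [MonoidHom.mem_ker, show (⟨⁅x, y⁆, h3 ▸ mem_top _⟩ : N) = ⁅(⟨x, hx⟩ : N), (⟨y, hy⟩ : N)⁆ from
            Subtype.ext rfl, map_commutatorElement]
          exact commutatorElement_eq_one_iff_mul_comm.2 (IsCyclic.commGroup.mul_comm _ _)
        rwa [hker, mem_subgroupOf] at h5
      rw [hperf, top_le_iff] at h4
      exact hnle (by rw [hC, h4]; exact le_top)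
    · exact h
  · rw [← card_normalizer_mul_card_sylow P, hn, hcardN]

namespace Frame

variable {P : Sylow p G} {a : G} {e t n : ℕ} (F : Frame P a e t n)
include F

theorem e_lt : e < p := by
  have := F.et
  rcases Nat.eq_zero_or_pos t with rfl | h
  · have := (Fact.out : p.Prime).two_le
    omega
  · nlinarith

theorem p_three : 3 ≤ p := by have := F.e_lt; have := F.two; omega

theorem t_pos : 0 < t := by
  rcases Nat.eq_zero_or_pos t with rfl | h
  · have := F.et; have := F.p_three; omega
  · exact h

theorem cardA : Nat.card (zpowers a) = e := by rw [Nat.card_zpowers, F.ord]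

theorem zpowers_le_normalizer : zpowers a ≤ normalizer ((P : Subgroup G) : Set G) :=
  zpowers_le.2 F.mem

theorem eq_one_of_mem {x : G} (hP : x ∈ (P : Subgroup G)) (hA : x ∈ zpowers a) : x = 1 := by
  have h1 := orderOf_dvd_natCard (⟨x, hP⟩ : (P : Subgroup G))
  have h2 := orderOf_dvd_natCard (⟨x, hA⟩ : zpowers a)
  rw [← orderOf_submonoid, F.card] at h1
  rw [← orderOf_submonoid, F.cardA] at h2
  rcases (Nat.dvd_prime Fact.out).1 h1 with h | h
  · exact orderOf_eq_one_iff.1 h
  · have h0 : 0 < e := by have := F.two; omega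
    have := Nat.le_of_dvd h0 (h ▸ h2)
    have := F.e_lt
    omega

theorem regular_of_mem {v : G} (hv : v ∈ zpowers a) : ¬ p ∣ orderOf v := by
  intro h
  have h2 := orderOf_dvd_natCard (⟨v, hv⟩ : zpowers a)
  rw [← orderOf_submonoid, F.cardA] at h2
  have := Nat.le_of_dvd (by have := F.two; omega) (h.trans h2)
  have := F.e_lt
  omega

variable [Fintype G]

theorem card_Pstar : (star (P : Subgroup G)).card = e * t := by
  have := card_star (P : Subgroup G)
  have := F.card
  have := F.et
  omega

theorem card_Astar : (star (zpowers a)).card + 1 = e := by rw [card_star, F.cardA]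

/-- Class functions on the coset `P v` are constant. -/
theorem sum_coset {f : G → ℂ} (hf : ∀ g h : G, f (h * g * h⁻¹) = f g) {v : G}
    (hv : v ∈ zpowers a) (hv1 : v ≠ 1) : ∑ x : (P : Subgroup G), f ((x : G) * v) = p * f v := by
  have hvN := F.zpowers_le_normalizer hv
  let ψ : ↥(P : Subgroup G) → ↥(P : Subgroup G) := fun y =>
    ⟨(y : G) * (v * (y : G)⁻¹ * v⁻¹), mul_mem y.2 ((mem_normalizer_iff.1 hvN _).1 (inv_mem y.2))⟩
  have hinj : Function.Injective ψ := by
    intro y z h
    have h1 : (y : G) * v * (y : G)⁻¹ = z * v * (z : G)⁻¹ := by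
      have := congrArg (fun w : (P : Subgroup G) => (w : G) * v) h
      simpa [ψ, mul_assoc] using this
    by_contra hne
    refine hv1 (F.eq_one_of_mem ?_ hv)
    have hw : (z : G)⁻¹ * y ≠ 1 := fun e => hne (Subtype.ext (inv_mul_eq_one.1 e).symm)
    rw [← F.cent _ (mul_mem (inv_mem z.2) y.2) hw, mem_centralizer_singleton_iff]
    calc v * ((z : G)⁻¹ * y) = (z : G)⁻¹ * (z * v * (z : G)⁻¹) * y := by group
      _ = (z : G)⁻¹ * (y * v * (y : G)⁻¹) * y := by rw [h1]
      _ = (z : G)⁻¹ * y * v := by group
  rw [← Equiv.sum_comp (Equiv.ofBijective ψ (Finite.injective_iff_bijective.1 hinj))]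
  have h2 : ∀ y : (P : Subgroup G), f ((ψ y : G) * v) = f v := fun y => by
    rw [show (ψ y : G) * v = (y : G) * v * (y : G)⁻¹ by simp only [ψ]; group, hf]
  refine (Finset.sum_congr rfl fun y _ => (h2 y : f (((Equiv.ofBijective ψ _) y : G) * v) = f v)).trans ?_
  rw [Finset.sum_const, Finset.card_univ, nsmul_eq_mul]
  rw [← Nat.card_eq_fintype_card, F.card]

/-- Sums of class functions over the normalizer. -/
theorem sum_normalizer {f : G → ℂ} (hf : ∀ g h : G, f (h * g * h⁻¹) = f g) :
    ∑ g : normalizer ((P : Subgroup G) : Set G), f g =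
      ∑ x : (P : Subgroup G), f x + p * ∑ v ∈ star (zpowers a), f v := by
  let N := normalizer ((P : Subgroup G) : Set G)
  let μ : zpowers a × (P : Subgroup G) → N := fun q =>
    ⟨(q.2 : G) * q.1, mul_mem (Subgroup.le_normalizer q.2.2) (F.zpowers_le_normalizer q.1.2)⟩
  have hinj : Function.Injective μ := by
    rintro ⟨v, x⟩ ⟨w, y⟩ h
    have h1 : (x : G) * v = y * w := congrArg Subtype.val h
    have h2 : (y : G)⁻¹ * x = (w : G) * (v : G)⁻¹ := by
      rw [eq_mul_inv_iff_mul_eq, mul_assoc, inv_mul_eq_iff_eq_mul]; exact h1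
    have h3 := F.eq_one_of_mem (mul_mem (inv_mem y.2) x.2)
      (h2 ▸ mul_mem w.2 (inv_mem v.2))
    have hxy : (y : G) = x := inv_mul_eq_one.1 h3
    rw [hxy] at h1
    exact Prod.ext (Subtype.ext (mul_left_cancel h1)) (Subtype.ext hxy.symm)
  have hbij : Function.Bijective μ := (Fintype.bijective_iff_injective_and_card μ).2 ⟨hinj, by
    rw [← Nat.card_eq_fintype_card, ← Nat.card_eq_fintype_card, Nat.card_prod, F.cardA, F.card,
      F.cardN]⟩
  rw [← Equiv.sum_comp (Equiv.ofBijective μ hbij), Fintype.sum_prod_type,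
    Finset.mul_sum]
  have h := sum_subgroup (zpowers a) (fun v => ∑ x : (P : Subgroup G), f ((x : G) * v))
  simp only [mul_one] at h
  refine (Finset.sum_congr rfl fun v _ => Finset.sum_congr rfl fun x _ => rfl).trans (h.trans ?_)
  congr 1
  exact Finset.sum_congr rfl fun v hv => F.sum_coset hf (mem_star.1 hv).2 (mem_star.1 hv).1

/-- Sums of class functions over the `p`-singular elements. -/
theorem sum_singular {f : G → ℂ} (hf : ∀ g h : G, f (h * g * h⁻¹) = f g) :
    ∑ g ∈ Finset.univ.filter (fun g => p ∣ orderOf g), f g =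
      (1 + n * p : ℕ) * ∑ x ∈ star (P : Subgroup G), f x := by
  haveI := Fintype.ofFinite (Sylow p G)
  have hp : p.Prime := Fact.out
  have hQ : ∀ Q : Sylow p G, Nat.card (Q : Subgroup G) = p := fun Q => by
    rw [Q.card_eq_multiplicity, ← P.card_eq_multiplicity, F.card]
  have hord : ∀ (Q : Sylow p G) (g : G), g ∈ (Q : Subgroup G) → g ≠ 1 → orderOf g = p := by
    intro Q g hg hg1
    have h := orderOf_dvd_natCard (⟨g, hg⟩ : (Q : Subgroup G))
    rw [← orderOf_submonoid, hQ] at h
    exact ((Nat.dvd_prime hp).1 h).resolve_left fun h1 => hg1 (orderOf_eq_one_iff.1 h1)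
  have hcover : Finset.univ.filter (fun g : G => p ∣ orderOf g) =
      Finset.univ.biUnion fun Q : Sylow p G => star (Q : Subgroup G) := by
    ext g
    simp only [Finset.mem_filter, Finset.mem_univ, true_and, Finset.mem_biUnion, mem_star]
    constructor
    · intro hg
      obtain ⟨w, hw⟩ := hg
      have hw0 : w ≠ 0 := fun h => (orderOf_pos g).ne' (by rw [hw, h, mul_zero])
      have hgw : orderOf (g ^ w) = p := by
        rw [orderOf_pow_of_dvd hw0 ⟨p, by rw [hw, mul_comm]⟩, hw,
          Nat.mul_div_cancel _ (Nat.pos_of_ne_zero hw0)]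
      obtain ⟨Q, hQ'⟩ := (IsPGroup.of_card (n := 1) (G := zpowers (g ^ w))
        (by rw [pow_one, Nat.card_zpowers, hgw])).exists_le_sylow
      refine ⟨Q, fun h => hp.ne_one (Nat.dvd_one.1 ⟨w, by rw [← hw, h, orderOf_one]⟩), ?_⟩
      obtain ⟨c, hc⟩ := MulAction.exists_smul_eq G P Q
      have h1 : g ^ w ∈ (Q : Subgroup G) := hQ' (mem_zpowers _)
      rw [← hc, Sylow.coe_subgroup_smul, mem_pointwise_smul_iff_inv_smul_mem] at h1 ⊢
      have h2 : (MulAut.conj c)⁻¹ • (g ^ w) ≠ 1 := by
        simp only [← map_inv, MulAut.smul_def, MulEquiv.map_ne_one_iff]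
        intro e'
        rw [e', orderOf_one] at hgw
        exact hp.ne_one hgw.symm
      rw [← F.cent _ h1 h2, mem_centralizer_singleton_iff]
      simp only [MulAut.smul_def, ← map_mul, ← pow_succ, ← pow_succ']
    · rintro ⟨Q, hg1, hg⟩
      rw [hord Q g hg hg1]
  have hdisj : Set.PairwiseDisjoint (↑(Finset.univ : Finset (Sylow p G)))
      (fun Q : Sylow p G => star (Q : Subgroup G)) := by
    intro Q _ R _ hne
    rw [Function.onFun, Finset.disjoint_left]
    intro g hgQ hgR
    rw [mem_star] at hgQ hgR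
    refine hne (Sylow.ext ?_)
    have key : ∀ S : Sylow p G, g ∈ (S : Subgroup G) → zpowers g = (S : Subgroup G) := fun S hS =>
      eq_of_le_of_card_ge (zpowers_le.2 hS) (by rw [hQ, Nat.card_zpowers, hord S g hS hgQ.1])
    rw [← key Q hgQ.2, key R hgR.2]
  have hsum : ∀ Q : Sylow p G, ∑ x ∈ star (Q : Subgroup G), f x = ∑ x ∈ star (P : Subgroup G), f x := by
    intro Q
    obtain ⟨c, hc⟩ := MulAction.exists_smul_eq G P Q
    symm
    refine Finset.sum_equiv (MulAut.conj c).toEquiv (fun x => ?_) fun x _ => (hf x c).symm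
    rw [mem_star, mem_star, ← hc, Sylow.coe_subgroup_smul]
    simp [mem_pointwise_smul_iff_inv_smul_mem, mul_assoc]
    intro _
    rw [← mul_assoc, conj_eq_one_iff]
  rw [hcover, Finset.sum_biUnion hdisj, Finset.sum_congr rfl (fun Q _ => hsum Q), Finset.sum_const,
    nsmul_eq_mul, Finset.card_univ, ← Nat.card_eq_fintype_card, F.syl]

end Frame

end CfsgLib.Perm.FewSylow
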