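import Mathlib
import Cfsg.Prelude.Def_Perm

/-! Doubly transitive groups of degree `p + 1` with a regular normal subgroup and a cyclic subgroup
of order `p` fixing a point: semi-affine groups over `GF(2^m)`. -/

set_option autoImplicit false

open MulAction

namespace CfsgLib.Perm.PrimePlusOne

variable {α : Type*} [Fintype α] [DecidableEq α]

set_option maxHeartbeats 1000000 in
theorem affine {p d : ℕ} (hp : p.Prime) (hp2 : p ≠ 2) (hα : Fintype.card α = p + 1)
    (G : Subgroup (Equiv.Perm α)) (M : Subgroup G) [M.Normal] (hMt : IsPretransitive M α)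
    (hMf : ∀ m ∈ M, ∀ x : α, m • x = x → m = 1) (a b : α) (hab : a ≠ b) (u : G) (hua : u • a = a)
    (hun : ∀ g : G, g • a = a → ∃ r : ℕ, g * u * g⁻¹ = u ^ r)
    (hut : ∀ x y : α, x ≠ a → y ≠ a → ∃ i : ℕ, u ^ i • x = y)
    (hd : Nat.card ↥(stabilizer G a ⊓ stabilizer G b : Subgroup G) = d) :
    ∃ q : ℕ, q.Prime ∧ p + 1 = 2 ^ q ∧ (d = 1 ∨ d = q) ∧ ∃ e : α ≃ GaloisField 2 q,
      ∀ g : G, (e.symm.trans (((g : Equiv.Perm α)).trans e)) ∈
        Cfsg.semiaffineGroup (GaloisField 2 q) := by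
  classical
  haveI := hMt
  haveI := Fintype.ofFinite M
  -- `M` is regular
  let pt : M → α := fun m => (m : G) • a
  have hbij : Function.Bijective pt := by
    refine ⟨fun m n h => ?_, fun x => ?_⟩
    · have h1 := hMf _ (mul_mem (inv_mem n.2) m.2) a (by
        rw [mul_smul, show (m : G) • a = (n : G) • a from h, inv_smul_smul])
      exact Subtype.ext (inv_mul_eq_one.1 h1).symm
    · obtain ⟨m, hm⟩ := exists_smul_eq M a x
      exact ⟨m, hm⟩
  have hMcard : Nat.card M = p + 1 := by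
    rw [Nat.card_eq_of_bijective _ hbij, Nat.card_eq_fintype_card, hα]
  have hconjpt : ∀ g : G, g • a = a → ∀ m : M,
      pt ⟨g * m * g⁻¹, ‹M.Normal›.conj_mem _ m.2 g⟩ = g • pt m := fun g hg m => by
    show (g * (m : G) * g⁻¹) • a = g • (m : G) • a
    rw [mul_smul, mul_smul, inv_smul_eq_iff.2 hg.symm]
  have hpt1 : pt 1 = a := one_smul G a
  have hua' : ∀ i : ℕ, u ^ i • a = a := fun i => pow_mem (show u ∈ stabilizer G a from hua) i
  -- the non-identity elements are conjugate
  have hconj : ∀ m n : M, m ≠ 1 → n ≠ 1 → ∃ i : ℕ, u ^ i * m * (u ^ i)⁻¹ = n := by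
    intro m n hm hn
    obtain ⟨i, hi⟩ := hut (pt m) (pt n) (fun h => hm (hbij.1 (h.trans hpt1.symm)))
      (fun h => hn (hbij.1 (h.trans hpt1.symm)))
    refine ⟨i, congrArg Subtype.val (hbij.1 ((hconjpt _ (hua' i) m).trans hi))⟩
  haveI : Fact (Nat.Prime 2) := ⟨Nat.prime_two⟩
  have h2dvd : 2 ∣ Nat.card M := by
    rw [hMcard]
    obtain ⟨k, hk⟩ := hp.odd_of_ne_two hp2
    exact ⟨k + 1, by omega⟩
  obtain ⟨m₀, hm₀⟩ := exists_prime_orderOf_dvd_card' (G := M) 2 h2dvd
  have hexp : ∀ m : M, m * m = 1 := by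
    intro m
    by_cases hm : m = 1
    · rw [hm, one_mul]
    obtain ⟨i, hi⟩ := hconj m₀ m (fun h => by rw [h, orderOf_one] at hm₀; omega) hm
    apply Subtype.ext
    have h0 : ((m₀ : G)) * m₀ = 1 := congrArg Subtype.val (by rw [← pow_two, ← hm₀, pow_orderOf_eq_one] :
      m₀ * m₀ = 1)
    rw [Subgroup.coe_mul, Subgroup.coe_one, ← hi,
      show u ^ i * (m₀ : G) * (u ^ i)⁻¹ * (u ^ i * m₀ * (u ^ i)⁻¹) = u ^ i * (m₀ * m₀) * (u ^ i)⁻¹ by group,
      h0, mul_one, mul_inv_cancel]
  have hMcomm : ∀ x y : M, x * y = y * x := fun x y => by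
    have h1 := hexp (x * y)
    rw [eq_inv_of_mul_eq_one_left h1, mul_inv_rev, inv_eq_of_mul_eq_one_right (hexp x),
      inv_eq_of_mul_eq_one_right (hexp y)]
  let _ : CommGroup M := { mul_comm := hMcomm }
  obtain ⟨m, hm⟩ : ∃ m, Nat.card M = 2 ^ m := IsPGroup.iff_card.1 (fun x : M => ⟨1, by rw [pow_one, pow_two]; exact hexp x⟩)
  rw [hMcard] at hm
  have hm1 : m ≠ 1 := by
    rintro rfl
    have := hp.two_le
    omega
  have hmprime : m.Prime := (Nat.prime_of_pow_sub_one_prime (a := 2) hm1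
    (by rw [← hm, Nat.add_sub_cancel]; exact hp)).2
  -- conjugations
  let cj : stabilizer G a → AddMonoid.End (Additive M) := fun g => MonoidHom.toAdditive
    { toFun := fun k : M => ⟨(g : G) * k * (g : G)⁻¹, ‹M.Normal›.conj_mem _ k.2 g⟩
      map_one' := Subtype.ext (by simp)
      map_mul' := fun k l => Subtype.ext (by simp only [Subgroup.coe_mul]; group) }
  have hcjmul : ∀ g h, cj (g * h) = cj g * cj h := fun g h => AddMonoidHom.ext fun (k : Additive M) =>
    congrArg Additive.ofMul (Subtype.ext (by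
      show (g * h : G) * (k.toMul : G) * (g * h : G)⁻¹ = (g : G) * ((h : G) * k.toMul * (h : G)⁻¹) * (g : G)⁻¹
      group))
  have hcjone : cj 1 = 1 := AddMonoidHom.ext fun (k : Additive M) => congrArg Additive.ofMul (Subtype.ext (by
    show ((1 : stabilizer G a) : G) * (k.toMul : G) * ((1 : stabilizer G a) : G)⁻¹ = k.toMul
    simp))
  set u' : stabilizer G a := ⟨u, hua⟩
  set φ := cj u' with hφ
  have hφpow : ∀ i : ℕ, cj (u' ^ i) = φ ^ i := by
    intro i
    induction i with
    | zero => rw [pow_zero, pow_zero, hcjone]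
    | succ i ih => rw [pow_succ, pow_succ, hcjmul, ih]
  let R := Subring.closure ({φ} : Set (AddMonoid.End (Additive M)))
  have hφR : φ ∈ R := Subring.subset_closure rfl
  let _ : CommRing R := Subring.closureCommRingOfComm (by rintro x rfl y rfl; rfl)
  have hcommR : ∀ r ∈ R, ∀ i : ℕ, r * φ ^ i = φ ^ i * r := fun r hr i => by
    have := mul_comm (⟨r, hr⟩ : R) ⟨φ ^ i, R.pow_mem hφR i⟩
    exact congrArg Subtype.val this
  obtain ⟨k₁, hk₁⟩ := hbij.2 b
  have hk₁1 : k₁ ≠ 1 := fun h => hab (by rw [← hk₁, h, hpt1])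
  set e₁ : Additive M := Additive.ofMul k₁ with he₁
  have he₁0 : e₁ ≠ 0 := fun h => hk₁1 (congrArg Additive.toMul h)
  have hgen : ∀ y z : Additive M, y ≠ 0 → z ≠ 0 → ∃ i : ℕ, (φ ^ i) y = z := by
    intro y z hy hz
    obtain ⟨i, hi⟩ := hconj y.toMul z.toMul (fun h => hy (congrArg Additive.ofMul h))
      (fun h => hz (congrArg Additive.ofMul h))
    refine ⟨i, ?_⟩
    rw [← hφpow]
    refine congrArg Additive.ofMul (Subtype.ext ?_)
    show ((u' ^ i : stabilizer G a) : G) * (y.toMul : G) * ((u' ^ i : stabilizer G a) : G)⁻¹ = z.toMul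
    rw [SubgroupClass.coe_pow]; exact hi
  have hkill : ∀ r ∈ R, ∀ y : Additive M, y ≠ 0 → r y = 0 → r = 0 := by
    intro r hr y hy h0
    refine AddMonoidHom.ext fun z => ?_
    by_cases hz : z = 0
    · rw [hz]; exact map_zero r
    obtain ⟨i, rfl⟩ := hgen y z hy hz
    show (r * φ ^ i) y = 0
    rw [hcommR r hr i]
    show (φ ^ i) (r y) = 0
    rw [h0, map_zero]
  let ev : R → Additive M := fun r => (r : AddMonoid.End (Additive M)) e₁
  have hev : Function.Bijective ev := by
    refine ⟨fun r r' h => sub_eq_zero.1 (Subtype.ext (hkill _ (R.sub_mem r.2 r'.2) e₁ he₁0 ?_)), fun z => ?_⟩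
    · show (r : AddMonoid.End (Additive M)) e₁ - (r' : AddMonoid.End (Additive M)) e₁ = 0
      exact sub_eq_zero.2 h
    · by_cases hz : z = 0
      · exact ⟨0, by rw [hz]; rfl⟩
      obtain ⟨i, hi⟩ := hgen e₁ z he₁0 hz
      exact ⟨⟨φ ^ i, R.pow_mem hφR i⟩, hi⟩
  have : Finite R := Finite.of_injective ev hev.1
  have hRcard : Nat.card R = 2 ^ m := by
    rw [Nat.card_eq_of_bijective ev hev, show Nat.card (Additive M) = Nat.card M from rfl, hMcard, hm]
  have : Nontrivial R := Finite.one_lt_card_iff_nontrivial.1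
    (by rw [hRcard]; exact Nat.one_lt_pow hmprime.ne_zero (by norm_num))
  have : NoZeroDivisors R := ⟨fun {x y} hxy => by
    rw [or_iff_not_imp_right]
    intro hy
    have hy' : (y : AddMonoid.End (Additive M)) e₁ ≠ 0 := fun e => hy (hev.1 (e.trans rfl))
    exact Subtype.ext (hkill _ x.2 _ hy' (DFunLike.congr_fun (congrArg Subtype.val hxy) e₁))⟩
  have : IsDomain R := NoZeroDivisors.to_isDomain R
  let _ : Field R := (Finite.isDomain_to_isField R).toField
  let _ : Fintype R := Fintype.ofFinite R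
  let _ : Fintype (GaloisField 2 m) := Fintype.ofFinite _
  let θ : GaloisField 2 m ≃+* R := FiniteField.ringEquivOfCardEq
    (by rw [← Nat.card_eq_fintype_card, GaloisField.card 2 m hmprime.ne_zero, ← Nat.card_eq_fintype_card, hRcard])
  -- coordinates
  let P : GaloisField 2 m → α := fun r => pt (Additive.toMul (ev (θ r)))
  have hP : Function.Bijective P :=
    hbij.comp (Additive.toMul.bijective.comp (hev.comp θ.bijective))
  let e : α ≃ GaloisField 2 m := (Equiv.ofBijective P hP).symm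
  have hE : ∀ g : G, (∃ c : (GaloisField 2 m)ˣ, ∃ t : GaloisField 2 m,
      ∃ ψ : GaloisField 2 m ≃+* GaloisField 2 m, ∀ r, g • P r = P ((c : GaloisField 2 m) * ψ r + t)) →
      (e.symm.trans (((g : Equiv.Perm α)).trans e)) ∈ Cfsg.semiaffineGroup (GaloisField 2 m) := by
    rintro g ⟨c, t, ψ, h⟩
    refine ⟨c, t, ψ, fun r => ?_⟩
    show e ((g : Equiv.Perm α) (P r)) = _
    rw [show (g : Equiv.Perm α) (P r) = g • P r from rfl, h]
    exact Equiv.ofBijective_symm_apply_apply P hP _
  -- stabiliser elements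
  have hstab : ∀ g : stabilizer G a, ∃ ψ : GaloisField 2 m ≃+* GaloisField 2 m,
      ∃ c : GaloisField 2 m, c ≠ 0 ∧ (∀ r, (g : G) • P r = P (c * ψ r)) ∧ ((g : G) • b = b → c = 1) := by
    intro g
    have hinvr : cj g * cj g⁻¹ = 1 := by rw [← hcjmul, mul_inv_cancel, hcjone]
    have hinvl : cj g⁻¹ * cj g = 1 := by rw [← hcjmul, inv_mul_cancel, hcjone]
    have hmem : ∀ r ∈ R, cj g * r * cj g⁻¹ ∈ R := by
      intro r hr
      induction hr using Subring.closure_induction with
      | mem x hx =>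
        rw [Set.mem_singleton_iff] at hx
        subst hx
        obtain ⟨i, hi⟩ := hun g g.2
        rw [hφ, ← hcjmul, ← hcjmul, show g * u' * g⁻¹ = u' ^ i from Subtype.ext (by simpa using hi), hφpow]
        exact R.pow_mem hφR i
      | zero => rw [mul_zero, zero_mul]; exact R.zero_mem
      | one => rw [mul_one, hinvr]; exact R.one_mem
      | add x y _ _ hx hy => rw [mul_add, add_mul]; exact R.add_mem hx hy
      | neg x _ hx =>
        rw [show cj g * -x * cj g⁻¹ = -(cj g * x * cj g⁻¹) from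
          AddMonoidHom.ext fun z => map_neg (cj g) _]
        exact R.neg_mem hx
      | mul x y _ _ hx hy =>
        rw [show cj g * (x * y) * cj g⁻¹ = (cj g * x * cj g⁻¹) * (cj g * y * cj g⁻¹) by
          simp only [mul_assoc]; rw [← mul_assoc (cj g⁻¹) (cj g), hinvl, one_mul]]
        exact R.mul_mem hx hy
    let ω : R →+* R :=
      { toFun := fun r => ⟨_, hmem r r.2⟩
        map_one' := Subtype.ext (by show cj g * 1 * cj g⁻¹ = 1; rw [mul_one, hinvr])
        map_mul' := fun x y => Subtype.ext (by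
          show cj g * (x * y : AddMonoid.End (Additive M)) * cj g⁻¹ = (cj g * x * cj g⁻¹) * (cj g * y * cj g⁻¹)
          simp only [mul_assoc]; rw [← mul_assoc (cj g⁻¹) (cj g), hinvl, one_mul])
        map_zero' := Subtype.ext (by show cj g * 0 * cj g⁻¹ = 0; rw [mul_zero, zero_mul])
        map_add' := fun x y => Subtype.ext (by
          show cj g * (x + y : AddMonoid.End (Additive M)) * cj g⁻¹ = cj g * x * cj g⁻¹ + cj g * y * cj g⁻¹
          rw [mul_add, add_mul]) }
    have hω : Function.Bijective ω :=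
      ⟨ω.injective, Finite.surjective_of_injective ω.injective⟩
    obtain ⟨c₀, hc₀⟩ := hev.2 (cj g e₁)
    let ψ : GaloisField 2 m ≃+* GaloisField 2 m := θ.trans ((RingEquiv.ofBijective ω hω).trans θ.symm)
    have hkey : ∀ r : R, cj g (ev r) = ev (c₀ * ω r) := by
      intro r
      rw [mul_comm]
      show (cj g * (r : AddMonoid.End (Additive M))) e₁ =
        (cj g * r * cj g⁻¹) ((c₀ : AddMonoid.End (Additive M)) e₁)
      rw [show (c₀ : AddMonoid.End (Additive M)) e₁ = cj g e₁ from hc₀]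
      show _ = ((cj g * r * cj g⁻¹) * cj g) e₁
      rw [mul_assoc _ (cj g⁻¹) (cj g), hinvl, mul_one]
    refine ⟨ψ, θ.symm c₀, ?_, fun r => ?_, fun hb => ?_⟩
    · intro h0
      rw [map_eq_zero_iff _ θ.symm.injective] at h0
      rw [h0] at hc₀
      have h1 : (cj g⁻¹ * cj g) e₁ = cj g⁻¹ 0 := congrArg (cj g⁻¹) hc₀.symm
      rw [hinvl, map_zero] at h1
      exact he₁0 h1
    · simp only [P, ψ, map_mul, RingEquiv.trans_apply, RingEquiv.apply_symm_apply, RingEquiv.ofBijective_apply]
      rw [← hkey (θ r)]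
      exact (hconjpt g g.2 (Additive.toMul (ev (θ r)))).symm
    · have h1 : cj g e₁ = e₁ := congrArg Additive.ofMul (hbij.1 ((hconjpt g g.2 k₁).trans (by rw [hk₁, hb])))
      rw [h1] at hc₀
      have h2 : c₀ = 1 := hev.1 (hc₀.trans rfl)
      rw [h2, map_one]
  refine ⟨m, hmprime, hm, ?_, e, fun g => hE g ?_⟩
  · -- the two-point stabiliser consists of field automorphisms
    set E := (stabilizer G a ⊓ stabilizer G b : Subgroup G) with hEdef
    have hE2 : ∀ g : E, ∃ ψ : GaloisField 2 m ≃+* GaloisField 2 m, ∀ r, (g : G) • P r = P (ψ r) := fun g => by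
      obtain ⟨ψ, c, -, hψ, hc⟩ := hstab ⟨g, g.2.1⟩
      exact ⟨ψ, fun r => by rw [hψ r, hc g.2.2, one_mul]⟩
    choose ψ hψ using hE2
    have halg : ∀ (g : E) (x : ZMod 2), ψ g (algebraMap (ZMod 2) (GaloisField 2 m) x) =
        algebraMap (ZMod 2) (GaloisField 2 m) x := fun g x =>
      RingHom.congr_fun (Subsingleton.elim ((ψ g).toRingHom.comp (algebraMap (ZMod 2) (GaloisField 2 m))) _) x
    let T : E →* (GaloisField 2 m ≃ₐ[ZMod 2] GaloisField 2 m) :=
      { toFun := fun g => AlgEquiv.ofRingEquiv (f := ψ g) (halg g)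
        map_one' := AlgEquiv.ext fun r => hP.1 (by
          show P (ψ 1 r) = P r
          rw [← hψ, Subgroup.coe_one, one_smul])
        map_mul' := fun g h => AlgEquiv.ext fun r => hP.1 (by
          show P (ψ (g * h) r) = P (ψ g (ψ h r))
          rw [← hψ, ← hψ, ← hψ, Subgroup.coe_mul, mul_smul]) }
    have hT : Function.Injective T := by
      intro g h hgh
      refine Subtype.ext (Subtype.ext (Equiv.ext fun x => ?_))
      obtain ⟨r, rfl⟩ := hP.2 x
      have h1 : ψ g r = ψ h r := DFunLike.congr_fun hgh r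
      show (g : G) • P r = (h : G) • P r
      rw [hψ, hψ, h1]
    haveI : IsGalois (ZMod 2) (GaloisField 2 m) := inferInstance
    have h1 : Nat.card (GaloisField 2 m ≃ₐ[ZMod 2] GaloisField 2 m) = m := by
      rw [IsGalois.card_aut_eq_finrank, GaloisField.finrank 2 hmprime.ne_zero]
    have h2 : Nat.card E ∣ m := h1 ▸ Subgroup.card_dvd_of_injective T hT
    rw [hd] at h2
    exact (Nat.dvd_prime hmprime).1 h2
  · -- a general element
    obtain ⟨n, hn⟩ := hbij.2 (g • a)
    obtain ⟨t, ht⟩ := hev.2 (Additive.ofMul n)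
    obtain ⟨ψ, c, hc0, hψ, -⟩ := hstab ⟨(n : G)⁻¹ * g, by
      rw [mem_stabilizer_iff, mul_smul, ← hn, inv_smul_smul]⟩
    refine ⟨Units.mk0 c hc0, θ.symm t, ψ, fun r => ?_⟩
    have h1 := hψ r
    rw [mul_smul, inv_smul_eq_iff] at h1
    rw [h1, Units.val_mk0, add_comm]
    show (n : G) • pt (Additive.toMul (ev (θ (c * ψ r)))) = pt (Additive.toMul (ev (θ (θ.symm t + c * ψ r))))
    rw [map_add, RingEquiv.apply_symm_apply]
    show _ = pt (Additive.toMul (ev t + ev (θ (c * ψ r))))
    rw [ht]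
    show (n : G) • pt _ = pt (n * Additive.toMul (ev (θ (c * ψ r))))
    exact (mul_smul (n : G) _ a).symm

end CfsgLib.Perm.PrimePlusOne
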