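import Cfsg.Agent.Lib.Perm.SharplyTwo
import Cfsg.Agent.Lib.Classical.SmallIso

/-!
Sharply triply transitive groups whose two-point stabiliser is abelian and inverted by the
swapping element are projective general linear groups of dimension two.
-/

set_option autoImplicit false
set_option linter.all false
set_option maxHeartbeats 1000000

namespace CfsgLib.Perm.SharplyThree

open MulAction
open scoped LinearAlgebra.Projectivization

variable {G : Type*} [Group G] {α : Type*} [MulAction G α]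

theorem exists_triple (h3 : IsMultiplyPretransitive G α 3) {x y z x' y' z' : α}
    (hxy : x ≠ y) (hxz : x ≠ z) (hyz : y ≠ z) (hxy' : x' ≠ y') (hxz' : x' ≠ z') (hyz' : y' ≠ z') :
    ∃ g : G, g • x = x' ∧ g • y = y' ∧ g • z = z' := by
  have hi : ∀ {u v w : α}, u ≠ v → u ≠ w → v ≠ w → Function.Injective ![u, v, w] := by
    intro u v w h1 h2 h3 i j e
    fin_cases i <;> fin_cases j <;>
      first | rfl | exact absurd e (by simp [h1, h2, h3, h1.symm, h2.symm, h3.symm])
  obtain ⟨g, hg⟩ := isMultiplyPretransitive_iff.1 h3 ⟨_, hi hxy hxz hyz⟩ ⟨_, hi hxy' hxz' hyz'⟩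
  exact ⟨g, DFunLike.congr_fun hg 0, DFunLike.congr_fun hg 1, DFunLike.congr_fun hg 2⟩

theorem eq_one_of_fix (hsharp : ∀ x : Fin 3 ↪ α, stabilizer G x = ⊥) {g : G} {x y z : α}
    (hxy : x ≠ y) (hxz : x ≠ z) (hyz : y ≠ z) (hx : g • x = x) (hy : g • y = y) (hz : g • z = z) :
    g = 1 := by
  have hi : Function.Injective ![x, y, z] := by
    intro i j e
    fin_cases i <;> fin_cases j <;>
      first | rfl | exact absurd e (by simp [hxy, hxz, hyz, hxy.symm, hxz.symm, hyz.symm])
  have : g ∈ stabilizer G (⟨_, hi⟩ : Fin 3 ↪ α) := by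
    rw [mem_stabilizer_iff]
    ext i
    fin_cases i
    exacts [hx, hy, hz]
  rwa [hsharp, Subgroup.mem_bot] at this

/-- The functional equation `1 - s (1 + x) = s (1 + s x)` rules out a twist. -/
theorem false_of_bad {F : Type*} [Field F] (hsharp : ∀ x : Fin 3 ↪ α, stabilizer G x = ⊥)
    {a b : α} (hab : a ≠ b) {P : F → α} (hPinj : Function.Injective P) (hPne : ∀ r, P r ≠ a)
    (hP0 : P 0 = b) {s τ d : G} (hsa : s • a = b) (hsb : s • b = a) (hτa : τ • a = a) (hda : d • a = a)
    (hτ : ∀ r, τ • P r = P (1 + r)) (hd : ∀ r, d • P r = P (-r))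
    (hs1 : s • P 1 = P 1) (hsneg : s • P (-1) = P (-1)) (hone : (-1 : F) ≠ 1)
    (hdich : ∀ r : F, r ≠ 0 → ∃ ε : F, (ε = 1 ∨ ε = -1) ∧ s • P r = P (ε * r⁻¹))
    {x : F} (hx : x ≠ 0) (hbad : s • P x = P (-x⁻¹)) (hbad' : s • P (-x) = P (-(-x)⁻¹)) : False := by
  have h2ne : (2 : F) ≠ 0 := fun h2 => hone (by linear_combination -h2)
  have hid : s * τ * s = τ * d * s * τ := by
    have e1 : (s * τ * s) • a = (τ * d * s * τ) • a := by
      simp only [mul_smul]
      rw [hτa, hsa, ← hP0, hτ, hd, hτ, add_zero, neg_zero, add_zero, hs1]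
    have e2 : (s * τ * s) • b = (τ * d * s * τ) • b := by
      simp only [mul_smul]
      rw [hsb, hτa, hsa, ← hP0, hτ, add_zero, hs1, hd, hτ, add_neg_cancel]
    have e3 : (s * τ * s) • P (-1) = (τ * d * s * τ) • P (-1) := by
      simp only [mul_smul]
      rw [hsneg, hτ, add_neg_cancel, hP0, hsb, hda, hτa]
    have hm1 : P (-1) ≠ b := fun h1 => one_ne_zero (neg_eq_zero.1 (hPinj (h1.trans hP0.symm)))
    exact inv_mul_eq_one.1 (eq_one_of_fix hsharp hab (hPne (-1)).symm (Ne.symm hm1)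
      (by rw [mul_smul, ← e1, inv_smul_smul]) (by rw [mul_smul, ← e2, inv_smul_smul])
      (by rw [mul_smul, ← e3, inv_smul_smul]))
  have hroot : ∀ x : F, x ≠ 0 → s • P x = P (-x⁻¹) → x * x + x = 1 := by
    intro x hx hbad
    have hx1 : x ≠ 1 := fun h1 => hone (hPinj (by
      rw [h1, inv_one, hs1] at hbad
      exact hbad.symm))
    have hxm : x ≠ -1 := fun h1 => hone (hPinj (by
      rw [h1, hsneg, inv_neg, inv_one, neg_neg] at hbad
      exact hbad))
    have hy : 1 + -x⁻¹ ≠ 0 := fun h1 => hx1 (by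
      have h2 : x * (1 + -x⁻¹) = 0 := by rw [h1, mul_zero]
      rw [mul_add, mul_one, mul_neg, mul_inv_cancel₀ hx] at h2
      linear_combination h2)
    have hx' : 1 + x ≠ 0 := fun h1 => hxm (by linear_combination h1)
    obtain ⟨ε, hε, hεs⟩ := hdich _ hy
    obtain ⟨δ, hδ, hδs⟩ := hdich _ hx'
    have := congrArg (fun g : G => g • P x) hid
    simp only [mul_smul] at this
    rw [hbad, hτ, hεs, hτ, hδs, hd, hτ] at this
    have e1 := hPinj this
    have e2 : x - 1 ≠ 0 := sub_ne_zero.2 hx1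
    have e3 : ε * x * (1 + x) = (x - 1) * (1 + x - δ) := by
      have h4 : (1 + -x⁻¹) * x = x - 1 := by
        rw [add_mul, one_mul, neg_mul, inv_mul_cancel₀ hx]; ring
      rw [show (1 + -x⁻¹)⁻¹ = x / (x - 1) from
        inv_eq_of_mul_eq_one_right (by rw [← mul_div_assoc, h4, div_self e2])] at e1
      field_simp at e1
      linear_combination e1
    rcases hε with rfl | rfl <;> rcases hδ with rfl | rfl
    · exact absurd (mul_eq_zero.1 (show (2 : F) * x = 0 by linear_combination e3)) (by simp [h2ne, hx])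
    · exact absurd (show (2 : F) = 0 by linear_combination e3) h2ne
    · exact absurd (mul_eq_zero.1 (show (2 : F) * (x * x) = 0 by linear_combination -e3)) (by simp [h2ne, hx])
    · have h5 : (2 : F) * (x * x + x - 1) = 0 := by linear_combination -e3
      exact sub_eq_zero.1 ((mul_eq_zero.1 h5).resolve_left h2ne)
  have r1 := hroot x hx hbad
  have r2 := hroot (-x) (neg_ne_zero.2 hx) hbad'
  exact (mul_eq_zero.1 (show (2 : F) * x = 0 by linear_combination r1 - r2)).elim h2ne hx

set_option maxHeartbeats 3000000 in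
theorem iso_pgl' [Finite G] [Fintype α]
    (h3 : IsMultiplyPretransitive G α 3) (hsharp : ∀ x : Fin 3 ↪ α, stabilizer G x = ⊥)
    {a b c : α} (hab : a ≠ b) (hac : a ≠ c) (hbc : b ≠ c) {s : G}
    (hsa : s • a = b) (hsb : s • b = a) (hsc : s • c = c)
    (hH : ∀ h k : G, h • a = a → h • b = b → k • a = a → k • b = b → h * k = k * h)
    (hfix : ∀ h : G, h • a = a → h • b = b → s * h * s⁻¹ = h → h * h = 1) :
    ∃ (p f : ℕ) (_ : Fact p.Prime), Fintype.card α = p ^ f + 1 ∧
      Nonempty (G ≃* Matrix.ProjGenLinGroup (Fin 2) (GaloisField p f)) := by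
  classical
  haveI := h3
  let _ := Fintype.ofFinite (SubMulAction.ofStabilizer G a)
  have hmk : ∀ x : α, x ≠ a → ∃ y : SubMulAction.ofStabilizer G a, (y : α) = x :=
    fun x hx => ⟨⟨x, hx⟩, rfl⟩
  have hne : ∀ y : SubMulAction.ofStabilizer G a, (y : α) ≠ a := fun y => y.2
  have hcardX : Fintype.card α = Fintype.card (SubMulAction.ofStabilizer G a) + 1 := by
    have e : (SubMulAction.ofStabilizer G a) ≃ {x : α // x ≠ a} :=
      ⟨fun y => ⟨y, hne y⟩, fun x => ⟨x.1, x.2⟩, fun y => rfl, fun x => rfl⟩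
    rw [Fintype.card_congr e, Fintype.card_subtype_compl, Fintype.card_subtype_eq]
    have := Fintype.card_pos_iff.2 ⟨a⟩
    omega
  have hX2 : 2 ≤ Fintype.card (SubMulAction.ofStabilizer G a) :=
    Fintype.one_lt_card_iff.2 ⟨⟨b, hab.symm⟩, ⟨c, hac.symm⟩, fun e => hbc (congrArg Subtype.val e)⟩
  have h2X : IsMultiplyPretransitive (stabilizer G a) (SubMulAction.ofStabilizer G a) 2 := by
    rw [is_two_pretransitive_iff]
    intro x y x' y' hxy hxy'
    obtain ⟨g, ga, gx, gy⟩ := exists_triple h3 (hne x).symm (hne y).symm (fun e => hxy (Subtype.ext e))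
      (hne x').symm (hne y').symm (fun e => hxy' (Subtype.ext e))
    exact ⟨⟨g, ga⟩, Subtype.ext gx, Subtype.ext gy⟩
  obtain ⟨p, f, K, hp, hf, hcard, hKn, hKc, -, hKcard, -, hKtr, hKst, -⟩ :=
    CfsgLib.Perm.SharplyTwo.exists_kernel h2X hX2 (fun n u v huv hu hv => by
      apply Subtype.ext
      exact eq_one_of_fix hsharp (hne u).symm (hne v).symm (fun e => huv (Subtype.ext e)) n.2
        (congrArg Subtype.val hu) (congrArg Subtype.val hv))
  haveI : Fact p.Prime := ⟨hp⟩
  refine ⟨p, f, ⟨hp⟩, by rw [hcardX, hcard], ?_⟩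
  let _ : CommGroup K := { mul_comm := hKc.is_comm.comm }
  -- regularity of the kernel
  let pt : K → α := fun k => ((k : stabilizer G a) : G) • b
  have hpt : ∀ k, pt k ≠ a := fun k e => hab.symm
    (MulAction.injective _ (e.trans (k : stabilizer G a).2.symm))
  have hptinj : ∀ k l, pt k = pt l → k = l := by
    intro k l e
    have h : l⁻¹ * k ∈ stabilizer K (⟨b, hab.symm⟩ : SubMulAction.ofStabilizer G a) :=
      Subtype.ext (show (((l⁻¹ * k : K) : stabilizer G a) : G) • b = b by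
        simp only [Subgroup.coe_mul, Subgroup.coe_inv, mul_smul]
        exact inv_smul_eq_iff.2 e)
    rw [hKst, Subgroup.mem_bot, inv_mul_eq_one] at h
    exact h.symm
  have hptsurj : ∀ x, x ≠ a → ∃ k, pt k = x := by
    intro x hx
    obtain ⟨k, hk⟩ := hKtr.exists_smul_eq (⟨b, hab.symm⟩ : SubMulAction.ofStabilizer G a) ⟨x, hx⟩
    exact ⟨k, congrArg Subtype.val hk⟩
  obtain ⟨k₁, hk₁⟩ := hptsurj c hac.symm
  -- the two-point stabiliser acts by conjugation
  let H := stabilizer G a ⊓ stabilizer G b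
  let cj : H → (K →* K) := fun h =>
    { toFun := fun k => ⟨⟨(h : G), h.2.1⟩ * (k : stabilizer G a) * ⟨(h : G), h.2.1⟩⁻¹,
        hKn.conj_mem _ k.2 _⟩
      map_one' := by ext; simp
      map_mul' := fun k l => by ext; simp }
  have hcjpt : ∀ (h : H) k, pt (cj h k) = (h : G) • pt k := by
    intro h k
    show ((h : G) * ((k : stabilizer G a) : G) * (h : G)⁻¹) • b = (h : G) • ((k : stabilizer G a) : G) • b
    rw [mul_smul, mul_smul, inv_smul_eq_iff.2 h.2.2.symm]
  let φ : H → AddMonoid.End (Additive K) := fun h => MonoidHom.toAdditive (cj h)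
  have hφapp : ∀ h k, φ h (Additive.ofMul k) = Additive.ofMul (cj h k) := fun h k => rfl
  have hφcomm : ∀ x ∈ Set.range φ, ∀ y ∈ Set.range φ, x * y = y * x := by
    rintro _ ⟨h, rfl⟩ _ ⟨l, rfl⟩
    refine AddMonoidHom.ext fun (k : Additive K) => ?_
    refine congrArg Additive.ofMul (hptinj _ _ ?_)
    show pt (cj h (cj l k.toMul)) = pt (cj l (cj h k.toMul))
    rw [hcjpt, hcjpt, hcjpt, hcjpt, ← mul_smul, hH h l h.2.1 h.2.2 l.2.1 l.2.2, mul_smul]
  let R := Subring.closure (Set.range φ)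
  let _ : CommRing R := Subring.closureCommRingOfComm hφcomm
  have hRc : ∀ r ∈ R, ∀ h, φ h * r = r * φ h := by
    intro r hr h
    induction hr using Subring.closure_induction with
    | mem x hx => exact hφcomm _ ⟨h, rfl⟩ x hx
    | zero => rw [mul_zero, zero_mul]
    | one => rw [mul_one, one_mul]
    | add x y _ _ hx hy => rw [mul_add, add_mul, hx, hy]
    | neg x _ hx => exact Commute.neg_right hx
    | mul x y _ _ hx hy => rw [← mul_assoc, hx, mul_assoc, hy, mul_assoc]
  have horb : ∀ k : K, k ≠ 1 → ∃ h : H, cj h k₁ = k := by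
    intro k hk
    have hkb : pt k ≠ b := fun e => hk (hptinj k 1 (e.trans (one_smul G b).symm))
    obtain ⟨g, ga, gb, gc⟩ := exists_triple h3 hab hac hbc hab (hpt k).symm (Ne.symm hkb)
    exact ⟨⟨g, ga, gb⟩, hptinj _ _ (by rw [hcjpt, hk₁]; exact gc)⟩
  have hcjinj : ∀ (h : H) k, cj h k = 1 → k = 1 := by
    intro h k e
    apply hptinj
    apply MulAction.injective (h : G)
    show (h : G) • pt k = (h : G) • pt 1
    rw [← hcjpt, ← hcjpt, e, map_one]
  set e₁ : Additive K := Additive.ofMul k₁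
  have hkill : ∀ r ∈ R, ∀ k : Additive K, k ≠ 0 → r k = 0 → r = 0 := by
    intro r hr k hk h0
    obtain ⟨h₀, hh₀⟩ := horb k.toMul (fun e => hk (by rw [← ofMul_toMul k, e]; rfl))
    have h1 : r e₁ = 0 := by
      have e := DFunLike.congr_fun (hRc r hr h₀) e₁
      simp only [AddMonoid.End.coe_mul, Function.comp_apply] at e
      rw [show φ h₀ e₁ = k from congrArg Additive.ofMul hh₀, h0] at e
      exact congrArg Additive.ofMul (hcjinj h₀ _ (congrArg Additive.toMul e))
    refine DFunLike.ext _ _ fun l => ?_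
    by_cases hl : l = 0
    · rw [hl, map_zero, map_zero]
    obtain ⟨h, hh⟩ := horb l.toMul (fun e => hl (by rw [← ofMul_toMul l, e]; rfl))
    have e := DFunLike.congr_fun (hRc r hr h) e₁
    simp only [AddMonoid.End.coe_mul, Function.comp_apply] at e
    rw [show φ h e₁ = l from congrArg Additive.ofMul hh, h1, map_zero] at e
    rw [← e]
    rfl
  have he₁ : e₁ ≠ 0 := fun e => hbc (by
    rw [← hk₁, show k₁ = 1 from congrArg Additive.toMul e]
    exact (one_smul G b).symm)
  let ev : R → Additive K := fun r => (r : AddMonoid.End (Additive K)) e₁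
  have hev : Function.Bijective ev := by
    refine ⟨fun r r' e => ?_, fun l => ?_⟩
    · refine sub_eq_zero.1 (Subtype.ext (hkill _ (R.sub_mem r.2 r'.2) e₁ he₁ ?_))
      show (r : AddMonoid.End (Additive K)) e₁ - (r' : AddMonoid.End (Additive K)) e₁ = 0
      exact sub_eq_zero.2 e
    · by_cases hl : l = 0
      · exact ⟨0, hl.symm⟩
      · obtain ⟨h, hh⟩ := horb l.toMul (fun e => hl (by rw [← ofMul_toMul l, e]; rfl))
        exact ⟨⟨φ h, Subring.subset_closure ⟨h, rfl⟩⟩, congrArg Additive.ofMul hh⟩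
  have : Finite R := Finite.of_injective ev hev.1
  have hRcard : Nat.card R = p ^ f := by
    rw [Nat.card_eq_of_bijective ev hev, show Nat.card (Additive K) = Nat.card K from rfl, hKcard, hcard]
  have : Nontrivial R := Finite.one_lt_card_iff_nontrivial.1 (by rw [hRcard]; exact Nat.one_lt_pow (by omega) hp.one_lt)
  have : NoZeroDivisors R := ⟨fun {x y} hxy => by
    rw [or_iff_not_imp_right]
    intro hy
    have hy' : (y : AddMonoid.End (Additive K)) e₁ ≠ 0 := fun e => hy (hev.1 (e.trans rfl))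
    exact Subtype.ext (hkill _ x.2 _ hy' (DFunLike.congr_fun (congrArg Subtype.val hxy) e₁))⟩
  have : IsDomain R := NoZeroDivisors.to_isDomain R
  let _ : Field R := (Finite.isDomain_to_isField R).toField
  let F := GaloisField p f
  let _ : Fintype F := Fintype.ofFinite F
  let _ : Fintype R := Fintype.ofFinite R
  let θ : F ≃+* R := FiniteField.ringEquivOfCardEq (K := F) (K' := R) (by
    rw [← Nat.card_eq_fintype_card, ← Nat.card_eq_fintype_card, hRcard, GaloisField.card p f (by omega)])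
  -- the points
  let kOf : F → K := fun r => Additive.toMul (ev (θ r))
  let P : F → α := fun r => pt (kOf r)
  have hPinj : Function.Injective P := fun r r' e =>
    θ.injective (hev.1 (congrArg Additive.ofMul (hptinj _ _ e)))
  have hPne : ∀ r, P r ≠ a := fun r => hpt _
  have hPsurj : ∀ x, x ≠ a → ∃ r, P r = x := by
    intro x hx
    obtain ⟨k, rfl⟩ := hptsurj x hx
    obtain ⟨u, hu⟩ := hev.2 (Additive.ofMul k)
    exact ⟨θ.symm u, by simp only [P, kOf, RingEquiv.apply_symm_apply, hu]; rfl⟩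
  have hP0 : P 0 = b := by
    show pt (Additive.toMul (ev (θ 0))) = b
    rw [map_zero]
    exact one_smul G b
  have hPadd : ∀ t r, P (t + r) = ((kOf t : stabilizer G a) : G) • P r := by
    intro t r
    show pt (Additive.toMul (ev (θ (t + r)))) = _
    rw [map_add]
    show (((kOf t * kOf r : K) : stabilizer G a) : G) • b = _
    exact mul_smul ((kOf t : stabilizer G a) : G) ((kOf r : stabilizer G a) : G) b
  let uH : H → F := fun h => θ.symm ⟨φ h, Subring.subset_closure ⟨h, rfl⟩⟩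
  have hPmul : ∀ (h : H) r, P (uH h * r) = (h : G) • P r := by
    intro h r
    show pt (Additive.toMul (ev (θ (uH h * r)))) = _
    rw [map_mul, RingEquiv.apply_symm_apply]
    exact hcjpt h (kOf r)
  have hP1 : P 1 = c := by
    show pt (Additive.toMul (ev (θ 1))) = c
    rw [map_one]
    exact hk₁
  have huH : ∀ r : F, r ≠ 0 → ∃ h : H, uH h = r := by
    intro r hr
    obtain ⟨h, hh⟩ := horb (kOf r) (fun e => hr (hPinj (by
      rw [hP0]; show pt (kOf r) = b; rw [e]; exact one_smul G b)))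
    exact ⟨h, hPinj (by rw [← mul_one (uH h), hPmul, hP1, ← hk₁, ← hcjpt, hh])⟩
  have hHc : ∀ h : H, P (uH h) = (h : G) • c := fun h => by rw [← mul_one (uH h), hPmul, hP1]
  have huHmul : ∀ h k : H, uH (h * k) = uH h * uH k := fun h k => hPinj (by
    rw [hHc, hPmul, hHc, Subgroup.coe_mul, mul_smul])
  have huH0 : ∀ h : H, uH h ≠ 0 := fun h e => by
    have h1 := hHc h
    rw [e, hP0] at h1
    exact hbc (MulAction.injective (h : G) (h.2.2.trans h1))
  have huHinj : ∀ h : H, uH h = 1 → (h : G) = 1 := fun h e => by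
    have h1 := hHc h
    rw [e, hP1] at h1
    exact eq_one_of_fix hsharp hab hac hbc h.2.1 h.2.2 h1.symm
  have hs2 : s * s = 1 := eq_one_of_fix hsharp hab hac hbc
    (by rw [mul_smul, hsa, hsb]) (by rw [mul_smul, hsb, hsa]) (by rw [mul_smul, hsc, hsc])
  have hsinv : s⁻¹ = s := inv_eq_of_mul_eq_one_right hs2
  have hconjH : ∀ h : H, s * (h : G) * s⁻¹ ∈ H := fun h => by
    rw [hsinv]
    exact ⟨by show (s * (h : G) * s) • a = a; rw [mul_smul, mul_smul, hsa, h.2.2, hsb],
      by show (s * (h : G) * s) • b = b; rw [mul_smul, mul_smul, hsb, h.2.1, hsa]⟩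
  have hsm : ∀ h : H, s • (h : G) • c = (s * (h : G) * s⁻¹) • c := fun h => by
    rw [mul_smul, mul_smul, inv_smul_eq_iff.2 hsc.symm]
  have hdfix : ∀ h : H, s * ((h : G) * (s * (h : G) * s⁻¹)) * s⁻¹ = (h : G) * (s * (h : G) * s⁻¹) := by
    intro h
    have e := hH (h : G) (s * (h : G) * s⁻¹) h.2.1 h.2.2 (hconjH h).1 (hconjH h).2
    rw [e]
    simp only [mul_assoc, hsinv] at e ⊢
    rw [← mul_assoc s s, hs2, one_mul]
    exact e
  -- the defect of inversion
  have hdef : ∀ h : H, uH (h * ⟨_, hconjH h⟩) = 1 ∨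
      (uH (h * ⟨_, hconjH h⟩) = -1) := by
    intro h
    set d : H := h * ⟨_, hconjH h⟩
    have hd : (d : G) = (h : G) * (s * (h : G) * s⁻¹) := rfl
    have h1 := hfix (d : G) d.2.1 d.2.2 (hdfix h)
    have h2 : uH d * uH d = 1 := by
      rw [← huHmul, show d * d = (1 : H) from Subtype.ext h1]
      exact hPinj (by rw [hHc, hP1]; exact one_smul G c)
    exact mul_self_eq_one_iff.1 h2
  have hinv : ∀ h : G, h • a = a → h • b = b → s * h * s⁻¹ = h⁻¹ := by
    intro h₀ ha hb
    set h : H := ⟨h₀, ha, hb⟩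
    rcases hdef h with e | e
    · exact eq_inv_of_mul_eq_one_right (huHinj _ e)
    by_cases hone : (-1 : F) = 1
    · exact eq_inv_of_mul_eq_one_right (huHinj _ (e.trans hone))
    exfalso
    set d : H := h * ⟨_, hconjH h⟩ with hd_def
    have hmu : ∀ r, (d : G) • P r = P (-r) := fun r => by
      rw [← hPmul, e, neg_one_mul]
    have hdich : ∀ r : F, r ≠ 0 → ∃ ε : F, (ε = 1 ∨ ε = -1) ∧ s • P r = P (ε * r⁻¹) := by
      intro r hr
      obtain ⟨k, rfl⟩ := huH r hr
      refine ⟨uH (k * ⟨_, hconjH k⟩), hdef k, ?_⟩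
      rw [hHc, hsm, huHmul, mul_comm (uH k), mul_inv_cancel_right₀ hr]
      exact (hHc ⟨_, hconjH k⟩).symm
    have hsneg : s • P (-1) = P (-1) := by
      rw [← hmu, hP1]
      have h1 : s * (d : G) * s⁻¹ = (d : G) := hdfix h
      rw [hsm, h1]
    have hsh : ∀ k : H, uH (k * ⟨_, hconjH k⟩) = -1 → s • P (uH k) = P (-(uH k)⁻¹) := by
      intro k hk
      rw [hHc, hsm, ← hHc ⟨_, hconjH k⟩]
      congr 1
      rw [huHmul] at hk
      rw [← neg_one_mul, ← hk, mul_comm (uH k), mul_inv_cancel_right₀ (huH0 k)]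
    have hdd : uH (h * d * ⟨_, hconjH (h * d)⟩) = -1 := by
      have h3 : (⟨_, hconjH (h * d)⟩ : H) = ⟨_, hconjH h⟩ * d :=
        Subtype.ext (by
          show s * ((h : G) * (d : G)) * s⁻¹ = (s * (h : G) * s⁻¹) * (d : G)
          calc s * ((h : G) * (d : G)) * s⁻¹ = (s * (h : G) * s⁻¹) * (s * (d : G) * s⁻¹) := by group
            _ = (s * (h : G) * s⁻¹) * (d : G) := by rw [show s * (d : G) * s⁻¹ = (d : G) from hdfix h])
      have h5 : uH h * uH ⟨_, hconjH h⟩ = -1 := by rw [← huHmul]; exact e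
      rw [h3, huHmul (h * d), huHmul h d, huHmul _ d, e]
      linear_combination h5
    refine false_of_bad hsharp hab hPinj hPne hP0 hsa hsb (kOf 1 : stabilizer G a).2 d.2.1
      (fun r => (hPadd 1 r).symm) hmu (by rw [hP1, hsc]) hsneg hone hdich (huH0 h) (hsh h e) ?_
    have h6 := hsh _ hdd
    rwa [huHmul, e, mul_neg_one] at h6
  have hPinv : ∀ r : F, r ≠ 0 → s • P r = P r⁻¹ := by
    intro r hr
    obtain ⟨h, rfl⟩ := huH r hr
    rw [← mul_one (uH h), hPmul, hP1, mul_one]
    have e1 : s • (h : G) • c = (h : G)⁻¹ • c := by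
      rw [← hinv h h.2.1 h.2.2, mul_smul, mul_smul, inv_smul_eq_iff.2 hsc.symm]
    rw [e1, inv_smul_eq_iff]
    rw [← hPmul, mul_inv_cancel₀ hr, hP1]
  -- the projective line
  have v1 : ∀ r : F, (![r, 1] : Fin 2 → F) ≠ 0 := fun r h => one_ne_zero (congrFun h 1)
  have v0 : (![1, 0] : Fin 2 → F) ≠ 0 := fun h => one_ne_zero (congrFun h 0)
  let Ψ : α → ℙ F (Fin 2 → F) := fun x =>
    if hx : x = a then Projectivization.mk F ![1, 0] v0
    else Projectivization.mk F ![(hPsurj x hx).choose, 1] (v1 _)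
  have hΨa : Ψ a = Projectivization.mk F ![1, 0] v0 := dif_pos rfl
  have hΨP : ∀ r, Ψ (P r) = Projectivization.mk F ![r, 1] (v1 r) := by
    intro r
    simp only [Ψ, dif_neg (hPne r)]
    congr 1
    rw [hPinj (hPsurj (P r) (hPne r)).choose_spec]
  have hcases : ∀ x, x = a ∨ ∃ r, P r = x := fun x => (em (x = a)).imp_right (hPsurj x)
  have hΨ : Function.Bijective Ψ := by
    refine ⟨fun x y e => ?_, fun v => ?_⟩
    · rcases hcases x with rfl | ⟨r, rfl⟩ <;> rcases hcases y with rfl | ⟨r', rfl⟩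
      · rfl
      · exfalso
        rw [hΨa, hΨP, Projectivization.mk_eq_mk_iff'] at e
        obtain ⟨z, hz⟩ := e
        have h1 := congrFun hz 1
        have h0 := congrFun hz 0
        simp at h1 h0
        simp [h1] at h0
      · exfalso
        rw [hΨa, hΨP, Projectivization.mk_eq_mk_iff'] at e
        obtain ⟨z, hz⟩ := e
        have h1 := congrFun hz 1
        simp at h1
      · rw [hΨP, hΨP, Projectivization.mk_eq_mk_iff'] at e
        obtain ⟨z, hz⟩ := e
        have h1 := congrFun hz 1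
        have h0 := congrFun hz 0
        simp at h1 h0
        subst h1
        rw [one_mul] at h0
        rw [h0]
    · induction v using Projectivization.ind with | _ w hw =>
      by_cases h : w 1 = 0
      · refine ⟨a, ?_⟩
        rw [hΨa, Projectivization.mk_eq_mk_iff']
        have h0 : w 0 ≠ 0 := fun e => hw (funext fun i => by fin_cases i <;> assumption)
        refine ⟨(w 0)⁻¹, funext fun i => ?_⟩
        fin_cases i <;> simp [h] <;> exact inv_mul_cancel₀ h0
      · refine ⟨P (w 0 / w 1), ?_⟩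
        rw [hΨP, Projectivization.mk_eq_mk_iff']
        refine ⟨(w 1)⁻¹, funext fun i => ?_⟩
        fin_cases i <;> simp [h, div_eq_inv_mul] <;> exact inv_mul_cancel₀ (a := w 1) h
  -- the group of projective transformations
  let L : Subgroup G :=
    { carrier := {g | ∃ M : Matrix.ProjGenLinGroup (Fin 2) F, ∀ x, Ψ (g • x) = M • Ψ x}
      one_mem' := ⟨1, fun x => by rw [one_smul, one_smul]⟩
      mul_mem' := by
        rintro g g' ⟨M, hM⟩ ⟨M', hM'⟩
        exact ⟨M * M', fun x => by rw [mul_smul, mul_smul, hM, hM']⟩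
      inv_mem' := by
        rintro g ⟨M, hM⟩
        exact ⟨M⁻¹, fun x => by rw [eq_inv_smul_iff, ← hM, smul_inv_smul]⟩ }
  have hKL : ∀ k : K, ((k : stabilizer G a) : G) ∈ L := by
    intro k
    obtain ⟨u, hu⟩ := hev.2 (Additive.ofMul k)
    have hk : k = kOf (θ.symm u) := by
      simp only [kOf, RingEquiv.apply_symm_apply, hu]; rfl
    set t := θ.symm u
    refine ⟨Matrix.ProjGenLinGroup.mk (Matrix.GeneralLinearGroup.mkOfDetNeZero !![1, t; 0, 1]
      (by simp [Matrix.det_fin_two])), fun x => ?_⟩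
    rcases hcases x with e | ⟨r, rfl⟩
    · rw [e]
      rw [show ((k : stabilizer G a) : G) • a = a from (k : stabilizer G a).2, hΨa,
        Projectivization.PGL.mk_smul_mk, Projectivization.mk_eq_mk_iff']
      refine ⟨1, funext fun i => ?_⟩
      fin_cases i <;> simp [Units.smul_def, Matrix.smul_eq_mulVec, Matrix.mulVec, dotProduct]
    · rw [hk, ← hPadd, hΨP, hΨP, Projectivization.PGL.mk_smul_mk, Projectivization.mk_eq_mk_iff']
      refine ⟨1, funext fun i => ?_⟩
      fin_cases i <;> simp [Units.smul_def, Matrix.smul_eq_mulVec, Matrix.mulVec, dotProduct] <;> ring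
  have hHL : ∀ h : H, (h : G) ∈ L := by
    intro h
    have hu : uH h ≠ 0 := fun e => he₁ (by
      have h1 := congrArg (fun r : R => ev r) (congrArg θ e)
      simp only [uH, RingEquiv.apply_symm_apply, map_zero] at h1
      exact congrArg Additive.ofMul (hcjinj h k₁ (congrArg Additive.toMul h1)))
    refine ⟨Matrix.ProjGenLinGroup.mk (Matrix.GeneralLinearGroup.mkOfDetNeZero !![uH h, 0; 0, 1]
      (by simp [Matrix.det_fin_two, hu])), fun x => ?_⟩
    rcases hcases x with e | ⟨r, rfl⟩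
    · rw [e]
      rw [show (h : G) • a = a from h.2.1, hΨa,
        Projectivization.PGL.mk_smul_mk, Projectivization.mk_eq_mk_iff']
      refine ⟨(uH h)⁻¹, funext fun i => ?_⟩
      fin_cases i <;> simp [Units.smul_def, Matrix.smul_eq_mulVec, Matrix.mulVec, dotProduct] <;> exact inv_mul_cancel₀ (a := uH h) hu
    · rw [← hPmul, hΨP, hΨP, Projectivization.PGL.mk_smul_mk, Projectivization.mk_eq_mk_iff']
      refine ⟨1, funext fun i => ?_⟩
      fin_cases i <;> simp [Units.smul_def, Matrix.smul_eq_mulVec, Matrix.mulVec, dotProduct]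
  have hsL : s ∈ L := by
    refine ⟨Matrix.ProjGenLinGroup.mk (Matrix.GeneralLinearGroup.mkOfDetNeZero !![0, 1; 1, 0]
      (by simp [Matrix.det_fin_two])), fun x => ?_⟩
    rcases hcases x with e | ⟨r, rfl⟩
    · rw [e]
      rw [hsa, ← hP0, hΨP, hΨa, Projectivization.PGL.mk_smul_mk, Projectivization.mk_eq_mk_iff']
      refine ⟨1, funext fun i => ?_⟩
      fin_cases i <;> simp [Units.smul_def, Matrix.smul_eq_mulVec, Matrix.mulVec, dotProduct]
    · by_cases hr : r = 0
      · subst hr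
        rw [hP0, hsb, hΨa, ← hP0, hΨP, Projectivization.PGL.mk_smul_mk, Projectivization.mk_eq_mk_iff']
        refine ⟨1, funext fun i => ?_⟩
        fin_cases i <;> simp [Units.smul_def, Matrix.smul_eq_mulVec, Matrix.mulVec, dotProduct]
      · rw [hPinv r hr, hΨP, hΨP, Projectivization.PGL.mk_smul_mk, Projectivization.mk_eq_mk_iff']
        refine ⟨r⁻¹, funext fun i => ?_⟩
        fin_cases i <;> simp [Units.smul_def, Matrix.smul_eq_mulVec, Matrix.mulVec, dotProduct] <;> exact inv_mul_cancel₀ (a := r) hr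
  have hstab : ∀ g : G, g • a = a → g ∈ L := by
    intro g hg
    obtain ⟨k, hk⟩ := hptsurj (g • b) (fun e => hab.symm (MulAction.injective g (e.trans hg.symm)))
    have hmem : ((k : stabilizer G a) : G)⁻¹ * g ∈ H := by
      refine ⟨?_, ?_⟩
      · show (((k : stabilizer G a) : G)⁻¹ * g) • a = a
        rw [mul_smul, hg, inv_smul_eq_iff.2 (k : stabilizer G a).2.symm]
      · show (((k : stabilizer G a) : G)⁻¹ * g) • b = b
        rw [mul_smul, ← hk]
        exact inv_smul_smul _ b
    have := L.mul_mem (hKL k) (hHL ⟨_, hmem⟩)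
    rwa [mul_inv_cancel_left] at this
  have hall : ∀ g : G, g ∈ L := by
    intro g
    by_cases hg : g • a = a
    · exact hstab g hg
    obtain ⟨k, hk⟩ := hptsurj (g • a) hg
    have hm : (((k : stabilizer G a) : G) * s)⁻¹ * g ∈ L := by
      apply hstab
      rw [mul_smul, inv_smul_eq_iff, mul_smul, hsa]
      exact hk.symm
    have := L.mul_mem (L.mul_mem (hKL k) hsL) hm
    rwa [mul_inv_cancel_left] at this
  -- the isomorphism
  have huniq : ∀ M M' : Matrix.ProjGenLinGroup (Fin 2) F, (∀ x, M • Ψ x = M' • Ψ x) → M = M' := by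
    intro M M' h
    refine (inv_mul_eq_one.1 ?_).symm
    refine CfsgLib.Classical.Two.eq_one_of_fix_three _ (Ψ a) (Ψ b) (Ψ c) (hΨ.1.ne hab) (hΨ.1.ne hac) (hΨ.1.ne hbc) ?_ ?_ ?_
    all_goals rw [mul_smul, h, inv_smul_smul]
  choose τ hτ using hall
  let T : G →* Matrix.ProjGenLinGroup (Fin 2) F :=
    { toFun := τ
      map_one' := huniq _ _ fun x => by rw [← hτ, one_smul, one_smul]
      map_mul' := fun g g' => huniq _ _ fun x => by rw [← hτ, mul_smul, mul_smul, hτ, hτ] }
  refine ⟨MulEquiv.ofBijective T ⟨?_, ?_⟩⟩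
  · rw [← MonoidHom.ker_eq_bot_iff, Subgroup.eq_bot_iff_forall]
    intro g hg
    have hfix : ∀ x, g • x = x := fun x => hΨ.1 (by rw [hτ, show τ g = 1 from hg, one_smul])
    exact eq_one_of_fix hsharp hab hac hbc (hfix a) (hfix b) (hfix c)
  · intro M
    obtain ⟨x, hx⟩ := hΨ.2 (M • Ψ a)
    obtain ⟨y, hy⟩ := hΨ.2 (M • Ψ b)
    obtain ⟨z, hz⟩ := hΨ.2 (M • Ψ c)
    have hdist : ∀ {u v x y : α}, u ≠ v → Ψ x = M • Ψ u → Ψ y = M • Ψ v → x ≠ y := by
      intro u v x y huv h1 h2 e
      exact huv (hΨ.1 (MulAction.injective M (show M • Ψ u = M • Ψ v by rw [← h1, ← h2, e])))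
    obtain ⟨g, ga, gb, gc⟩ := exists_triple h3 hab hac hbc (hdist hab hx hy) (hdist hac hx hz) (hdist hbc hy hz)
    refine ⟨g, (inv_mul_eq_one.1 ?_).symm⟩
    refine CfsgLib.Classical.Two.eq_one_of_fix_three _ (Ψ a) (Ψ b) (Ψ c) (hΨ.1.ne hab) (hΨ.1.ne hac) (hΨ.1.ne hbc) ?_ ?_ ?_
    all_goals rw [mul_smul, inv_smul_eq_iff]
    · rw [show T g = τ g from rfl, ← hτ, ga, hx]
    · rw [show T g = τ g from rfl, ← hτ, gb, hy]
    · rw [show T g = τ g from rfl, ← hτ, gc, hz]

theorem iso_pgl [Finite G] [Fintype α]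
    (h3 : IsMultiplyPretransitive G α 3) (hsharp : ∀ x : Fin 3 ↪ α, stabilizer G x = ⊥)
    {a b c : α} (hab : a ≠ b) (hac : a ≠ c) (hbc : b ≠ c) {s : G}
    (hsa : s • a = b) (hsb : s • b = a) (hsc : s • c = c)
    (hH : ∀ h k : G, h • a = a → h • b = b → k • a = a → k • b = b → h * k = k * h)
    (hinv : ∀ h : G, h • a = a → h • b = b → s * h * s⁻¹ = h⁻¹) :
    ∃ (p f : ℕ) (_ : Fact p.Prime), Fintype.card α = p ^ f + 1 ∧
      Nonempty (G ≃* Matrix.ProjGenLinGroup (Fin 2) (GaloisField p f)) :=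
  iso_pgl' h3 hsharp hab hac hbc hsa hsb hsc hH fun h ha hb e => by
    rw [hinv h ha hb] at e
    calc h * h = h * h⁻¹ := by rw [e]
      _ = 1 := mul_inv_cancel h

end CfsgLib.Perm.SharplyThree
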