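import Mathlib
import Cfsg.Agent.Lib.Perm.PrimePlusOneAffine
import Cfsg.Agent.Lib.Perm.ZassenhausAbelianMain
import Cfsg.Agent.Lib.Perm.SharplyThree
import Cfsg.Agent.Lib.Perm.SharplyTwo
import Cfsg.Agent.Lib.Classical.Dickson.PSL

/-! Transitive groups of degree `p + 1` and order `(p + 1) p d` with `d < p`. -/

set_option autoImplicit false

open MulAction
open CfsgLib.Char.Exceptional

namespace CfsgLib.Perm.PrimePlusOne

theorem exists_pow_of_mem_zpowers {Γ : Type*} [Group Γ] [Finite Γ] {x y : Γ}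
    (h : y ∈ Subgroup.zpowers x) : ∃ i : ℕ, x ^ i = y := by
  rw [← SetLike.mem_coe, ← (isOfFinOrder_of_finite x).powers_eq_zpowers] at h
  exact h

variable {α : Type*} [Fintype α] [DecidableEq α]

set_option maxHeartbeats 1000000 in
theorem classify {p d : ℕ} (hp : p.Prime) (hα : Fintype.card α = p + 1)
    (G : Subgroup (Equiv.Perm α)) [IsPretransitive G α] (hG : Nat.card G = (p + 1) * p * d) (hd : d < p) :
    (d = p - 1 ∧ Nonempty (G ≃* Matrix.ProjGenLinGroup (Fin 2) (ZMod p))) ∨
    (2 * d = p - 1 ∧ Nonempty (G ≃* Matrix.ProjectiveSpecialLinearGroup (Fin 2) (ZMod p))) ∨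
    (∃ q : ℕ, q.Prime ∧ p + 1 = 2 ^ q ∧ (d = 1 ∨ d = q) ∧ ∃ e : α ≃ GaloisField 2 q,
      ∀ g : G, (e.symm.trans (((g : Equiv.Perm α)).trans e)) ∈
        Cfsg.semiaffineGroup (GaloisField 2 q)) := by
  classical
  haveI := Fact.mk hp
  obtain ⟨a⟩ : Nonempty α := Fintype.card_pos_iff.1 (by omega)
  set N := stabilizer G a with hN
  have hd0 : 0 < d := Nat.pos_of_ne_zero fun h => by
    rw [h, mul_zero] at hG
    exact Nat.card_pos.ne' hG
  have hNcard : Nat.card N = p * d := by
    have h1 := N.index_mul_card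
    rw [hN, index_stabilizer_of_transitive, Nat.card_eq_fintype_card, hα, hG, mul_assoc] at h1
    exact Nat.eq_of_mul_eq_mul_left (by omega) h1
  have hpd : ¬ p ∣ d := fun h => (Nat.le_of_dvd hd0 h).not_gt hd
  obtain ⟨u₀, hu₀⟩ := exists_prime_orderOf_dvd_card' (G := N) p (hNcard ▸ dvd_mul_right p d)
  set u : G := (u₀ : G) with hu
  have hua : u • a = a := u₀.2
  have huord : orderOf u = p := (Subgroup.orderOf_coe u₀).trans hu₀
  -- the Sylow subgroup is normal in the stabiliser
  let P : Sylow p N := Sylow.ofCard (Subgroup.zpowers u₀) (by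
    rw [Nat.card_zpowers, hu₀, hNcard, Nat.factorization_mul hp.ne_zero hd0.ne', Finsupp.add_apply,
      hp.factorization_self, Nat.factorization_eq_zero_of_not_dvd hpd, pow_one])
  have hPone : Nat.card (Sylow p N) = 1 := by
    have h1 : Nat.card (Sylow p N) ∣ d := by
      have h2 := P.card_dvd_index
      have h3 : (P : Subgroup N).index = d := by
        have h4 := (P : Subgroup N).index_mul_card
        rw [show Nat.card (P : Subgroup N) = p from (Nat.card_zpowers u₀).trans hu₀, hNcard, mul_comm p] at h4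
        exact Nat.eq_of_mul_eq_mul_right hp.pos h4
      rwa [h3] at h2
    have h2 := card_sylow_modEq_one p N
    have h3 : Nat.card (Sylow p N) < p := (Nat.le_of_dvd hd0 h1).trans_lt hd
    rw [Nat.ModEq, Nat.mod_eq_of_lt h3, Nat.mod_eq_of_lt hp.one_lt] at h2
    exact h2
  have hPn : (Subgroup.zpowers u₀).Normal := by
    have : (P : Subgroup N).Normal := by
      have : Subsingleton (Sylow p N) := (Nat.card_eq_one_iff_unique.1 hPone).1
      exact Sylow.normal_of_subsingleton P
    exact this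
  have hun : ∀ g : G, g • a = a → ∃ r : ℕ, g * u * g⁻¹ = u ^ r := by
    intro g hg
    obtain ⟨r, hr⟩ := exists_pow_of_mem_zpowers
      (hPn.conj_mem u₀ (Subgroup.mem_zpowers u₀) ⟨g, hg⟩)
    exact ⟨r, by
      have h1 := congrArg Subtype.val hr
      simpa using h1.symm⟩
  -- `u` is a cycle of length `p`
  have hone : ∀ i : ℕ, ¬ p ∣ i → ∀ x : α, u ^ i • x = x → u • x = x := by
    intro i hi x hx
    obtain ⟨j, -, hj⟩ := Nat.exists_mul_mod_eq_one_of_coprime ((hp.coprime_iff_not_dvd.2 hi).symm) hp.one_lt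
    have h1 : (u ^ i) ^ j • x = x := pow_mem (show u ^ i ∈ stabilizer G x from hx) j
    rwa [← pow_mul, ← pow_mod_orderOf, huord, hj, pow_one] at h1
  obtain ⟨b, hub⟩ : ∃ b, u • b ≠ b := by
    by_contra h
    push Not at h
    have : u = 1 := Subtype.ext (Equiv.ext fun x => h x)
    rw [this, orderOf_one] at huord
    exact hp.one_lt.ne huord
  have hab : a ≠ b := fun h => hub (by rw [← h]; exact hua)
  have hut' : ∀ x : α, x ≠ a → ∃ i : ℕ, u ^ i • b = x := by
    have hbij : Function.Bijective fun i : Fin p => (⟨u ^ (i : ℕ) • b, fun h => hab.symm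
        (MulAction.injective (u ^ (i : ℕ)) (h.trans (pow_mem (show u ∈ stabilizer G a from hua) (i : ℕ) :
          u ^ (i : ℕ) ∈ stabilizer G a).symm))⟩ : {x : α // x ≠ a}) := by
      refine Function.Injective.bijective_of_nat_card_le (fun i j hij => ?_) ?_
      · have hij' : u ^ (i : ℕ) • b = u ^ (j : ℕ) • b := congrArg Subtype.val hij
        by_contra hne
        wlog hle : (i : ℕ) ≤ j generalizing i j
        · exact this j i hij.symm hij'.symm (Ne.symm hne) (Nat.le_of_lt (Nat.lt_of_not_le hle))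
        refine hub (hone (j - i : ℕ) (fun h => hne (Fin.ext ?_)) b ?_)
        · have := Nat.eq_zero_of_dvd_of_lt h (by omega)
          omega
        · apply MulAction.injective (u ^ (i : ℕ))
          show u ^ (i : ℕ) • u ^ ((j : ℕ) - i) • b = u ^ (i : ℕ) • b
          rw [← mul_smul, ← pow_add, Nat.add_sub_cancel' hle, hij']
      · rw [Nat.card_eq_fintype_card, Nat.card_eq_fintype_card, Fintype.card_subtype_compl,
          Fintype.card_subtype_eq, Fintype.card_fin]
        omega
    intro x hx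
    obtain ⟨i, hi⟩ := hbij.2 ⟨x, hx⟩
    exact ⟨i, congrArg Subtype.val hi⟩
  have hut : ∀ x y : α, x ≠ a → y ≠ a → ∃ i : ℕ, u ^ i • x = y := by
    intro x y hx hy
    obtain ⟨i, rfl⟩ := hut' x hx
    obtain ⟨j, rfl⟩ := hut' y hy
    refine ⟨j + (p - 1) * i, ?_⟩
    rw [← mul_smul, ← pow_add, show j + (p - 1) * i + i = j + p * i by
      have h1 : (p - 1) * i + i = p * i := by
        rw [← Nat.succ_mul, Nat.succ_eq_add_one, Nat.sub_add_cancel hp.one_le]
      omega, pow_add, pow_mul, ← huord, pow_orderOf_eq_one, one_pow, mul_one]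
  have h2 : IsMultiplyPretransitive G α 2 := by
    rw [is_two_pretransitive_iff]
    have hto : ∀ x y : α, x ≠ y → ∃ g : G, g • x = a ∧ g • y = b := by
      intro x y hxy
      obtain ⟨g, hg⟩ := exists_smul_eq G x a
      obtain ⟨i, hi⟩ := hut (g • y) b (fun e => hxy (MulAction.injective g (hg.trans e.symm))) hab.symm
      exact ⟨u ^ i * g, by rw [mul_smul, hg]; exact pow_mem (show u ∈ stabilizer G a from hua) i,
        by rw [mul_smul, hi]⟩
    intro x y x' y' h h'
    obtain ⟨g, g1, g2⟩ := hto x y h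
    obtain ⟨k, k1, k2⟩ := hto x' y' h'
    exact ⟨k⁻¹ * g, by rw [mul_smul, g1, inv_smul_eq_iff, k1], by rw [mul_smul, g2, inv_smul_eq_iff, k2]⟩
  haveI := h2
  set E := (stabilizer G a ⊓ stabilizer G b : Subgroup G) with hE
  -- the action on the cycle
  have hcent : ∀ x : G, x • b = b → x * u * x⁻¹ = u → x • a = a → x = 1 := by
    intro x hxb hxu hxa
    refine Subtype.ext (Equiv.ext fun y => ?_)
    show x • y = y
    by_cases hy : y = a
    · rw [hy, hxa]
    obtain ⟨i, rfl⟩ := hut' y hy
    have h1 : x * u ^ i * x⁻¹ = u ^ i := by rw [← conj_pow, hxu]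
    rw [← mul_smul, show x * u ^ i = x * u ^ i * x⁻¹ * x by group, h1, mul_smul, hxb]
  have hfix : ∀ x : G, x • a = a → x • b = b → ∀ c : α, x • c = c → c ≠ a → c ≠ b → x = 1 := by
    intro x hxa hxb c hc hca hcb
    obtain ⟨i, hi⟩ := hut' c hca
    obtain ⟨r, hr⟩ := hun x hxa
    refine hcent x hxb ?_ hxa
    have h1 : x • u ^ i • b = u ^ (r * i) • b := by
      rw [← mul_smul, show x * u ^ i = x * u ^ i * x⁻¹ * x by group, ← conj_pow, hr, ← pow_mul, mul_smul, hxb]
    rw [hi, hc, ← hi] at h1
    have hpi : ¬ p ∣ i := fun ⟨k, hk⟩ => hcb (by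
      rw [← hi, hk, pow_mul, ← huord, pow_orderOf_eq_one, one_pow, one_smul])
    have h2 : u ^ i = u ^ (r * i) := by
      by_contra hne
      have h3 : u ^ ((r * i + (p - 1) * i)) • b = b := by
        rw [add_comm, pow_add, mul_smul, ← h1, ← mul_smul, ← pow_add,
          show (p - 1) * i + i = p * i by rw [← Nat.succ_mul, Nat.succ_eq_add_one, Nat.sub_add_cancel hp.one_le],
          pow_mul, ← huord, pow_orderOf_eq_one, one_pow, one_smul]
      by_cases hdiv : p ∣ r * i + (p - 1) * i
      · refine hne ?_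
        obtain ⟨k, hk⟩ := hdiv
        have h4 : u ^ (r * i) * u ^ ((p - 1) * i) = 1 := by
          rw [← pow_add, hk, pow_mul, ← huord, pow_orderOf_eq_one, one_pow]
        have h5 : u ^ i * u ^ ((p - 1) * i) = 1 := by
          rw [← pow_add, show i + (p - 1) * i = p * i by
            rw [add_comm, ← Nat.succ_mul, Nat.succ_eq_add_one, Nat.sub_add_cancel hp.one_le],
            pow_mul, ← huord, pow_orderOf_eq_one, one_pow]
        exact mul_right_cancel (h5.trans h4.symm)
      · exact hub (hone _ hdiv b h3)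
    obtain ⟨j, -, hj⟩ := Nat.exists_mul_mod_eq_one_of_coprime ((hp.coprime_iff_not_dvd.2 hpi).symm) hp.one_lt
    have h6 : (u ^ i) ^ j = u := by rw [← pow_mul, ← pow_mod_orderOf, huord, hj, pow_one]
    calc x * u * x⁻¹ = x * (u ^ i) ^ j * x⁻¹ := by rw [h6]
      _ = (x * u ^ i * x⁻¹) ^ j := by rw [conj_pow]
      _ = u := by rw [← conj_pow, hr, ← pow_mul u r i, ← h2, h6]
  have hEcomm : ∀ x y : G, x • a = a → x • b = b → y • a = a → y • b = b → x * y = y * x := by
    intro x y hxa hxb hya hyb
    obtain ⟨r, hr⟩ := hun x hxa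
    obtain ⟨t, ht⟩ := hun y hya
    have key : (x * y) * u * (x * y)⁻¹ = (y * x) * u * (y * x)⁻¹ := by
      rw [show (x * y) * u * (x * y)⁻¹ = x * (y * u * y⁻¹) * x⁻¹ by group,
        show (y * x) * u * (y * x)⁻¹ = y * (x * u * x⁻¹) * y⁻¹ by group, ht, hr, ← conj_pow, hr, ← conj_pow,
        ht, ← pow_mul, ← pow_mul, mul_comm]
    have h1 := hcent ((y * x)⁻¹ * (x * y))
      (by rw [mul_smul, mul_smul x y, hyb, hxb, inv_smul_eq_iff, mul_smul, hxb, hyb])
      (by
        calc (y * x)⁻¹ * (x * y) * u * ((y * x)⁻¹ * (x * y))⁻¹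
            = (y * x)⁻¹ * ((x * y) * u * (x * y)⁻¹) * (y * x) := by group
          _ = u := by rw [key]; group)
      (by rw [mul_smul, mul_smul x y, hya, hxa, inv_smul_eq_iff, mul_smul, hxa, hya])
    exact (inv_mul_eq_one.1 h1).symm
  have horb : Nat.card E = d := by
    have hbij : Function.Bijective fun x : Fin p × E =>
        (⟨u ^ (x.1 : ℕ) * (x.2 : G), mul_mem (pow_mem (show u ∈ stabilizer G a from hua) _) x.2.2.1⟩ : N) := by
      constructor
      · rintro ⟨i, x⟩ ⟨j, y⟩ h
        have h' : u ^ (i : ℕ) * (x : G) = u ^ (j : ℕ) * (y : G) := congrArg Subtype.val h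
        have hb' : u ^ (i : ℕ) • b = u ^ (j : ℕ) • b := by
          have h2 := congrArg (fun g : G => g • b) h'
          simpa only [mul_smul, show (x : G) • b = b from x.2.2, show (y : G) • b = b from y.2.2] using h2
        have hij : i = j := by
          by_contra hne
          wlog hle : (i : ℕ) ≤ j generalizing i j x y
          · exact this j y i x h.symm h'.symm hb'.symm (Ne.symm hne) (Nat.le_of_lt (Nat.lt_of_not_le hle))
          refine hub (hone (j - i : ℕ) (fun h => hne (Fin.ext ?_)) b ?_)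
          · have := Nat.eq_zero_of_dvd_of_lt h (by omega)
            omega
          · apply MulAction.injective (u ^ (i : ℕ))
            show u ^ (i : ℕ) • u ^ ((j : ℕ) - i) • b = u ^ (i : ℕ) • b
            rw [← mul_smul, ← pow_add, Nat.add_sub_cancel' hle, hb']
        subst hij
        exact Prod.ext rfl (Subtype.ext (mul_left_cancel h'))
      · rintro ⟨g, hg⟩
        obtain ⟨i, hi⟩ := hut' (g • b) (fun e => hab.symm (MulAction.injective g (e.trans (hg : g • a = a).symm)))
        have hlt : i % p < p := Nat.mod_lt i hp.pos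
        refine ⟨⟨⟨i % p, hlt⟩, ⟨(u ^ (i % p))⁻¹ * g, ?_, ?_⟩⟩, Subtype.ext (mul_inv_cancel_left _ _)⟩
        · exact (stabilizer G a).mul_mem ((stabilizer G a).inv_mem (pow_mem (show u ∈ stabilizer G a from hua) _)) hg
        · show ((u ^ (i % p))⁻¹ * g) • b = b
          rw [← huord, pow_mod_orderOf, mul_smul, ← hi, inv_smul_smul]
    have h1 := Nat.card_eq_of_bijective _ hbij
    rw [Nat.card_prod, Nat.card_fin, hNcard] at h1
    exact Nat.eq_of_mul_eq_mul_left hp.pos h1
  have hfix3 : ∀ g : G, ∀ x y z : α, x ≠ y → y ≠ z → x ≠ z → g • x = x → g • y = y → g • z = z → g = 1 := by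
    intro g x y z hxy hyz hxz gx gy gz
    obtain ⟨k, kx, ky⟩ := is_two_pretransitive_iff.1 h2 hxy hab
    have h1 := hfix (k * g * k⁻¹)
      (by rw [← kx, mul_smul, mul_smul, inv_smul_smul, gx])
      (by rw [← ky, mul_smul, mul_smul, inv_smul_smul, gy])
      (k • z) (by rw [mul_smul, mul_smul, inv_smul_smul, gz])
      (fun e : k • z = a => hxz (MulAction.injective k (kx.trans e.symm)))
      (fun e : k • z = b => hyz (MulAction.injective k (ky.trans e.symm)))
    exact conj_eq_one_iff.1 h1
  by_cases hfull : d = p - 1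
  · -- sharply triply transitive
    refine Or.inl ⟨hfull, ?_⟩
    have htrans : ∀ y z : α, y ≠ a → y ≠ b → z ≠ a → z ≠ b → ∃ x ∈ E, x • y = z := by
      intro y z hya hyb hza hzb
      let X := {c : α // c ≠ a ∧ c ≠ b}
      have hmem : ∀ x : E, (x : G) • y ≠ a ∧ (x : G) • y ≠ b := fun x =>
        ⟨fun h => hya (MulAction.injective (x : G) (h.trans (x.2.1 : (x : G) • a = a).symm)),
          fun h => hyb (MulAction.injective (x : G) (h.trans (x.2.2 : (x : G) • b = b).symm))⟩
      have hinj : Function.Injective fun x : E => (⟨(x : G) • y, hmem x⟩ : X) := by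
        intro x x' h
        have h' : (x : G) • y = (x' : G) • y := congrArg Subtype.val h
        have h1 := hfix _ (x'⁻¹ * x).2.1 (x'⁻¹ * x).2.2 y
          (by rw [Subgroup.coe_mul, Subgroup.coe_inv, mul_smul, h', inv_smul_smul]) hya hyb
        exact (inv_mul_eq_one.1 (Subtype.ext h1)).symm
      have hX : Nat.card X = p - 1 := by
        rw [Nat.card_eq_fintype_card, Fintype.card_subtype,
          show (Finset.univ.filter fun c : α => c ≠ a ∧ c ≠ b) = Finset.univ \ {a, b} by ext c; simp,
          Finset.card_sdiff_of_subset (Finset.subset_univ _), Finset.card_pair hab, Finset.card_univ, hα]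
        omega
      obtain ⟨x, hx⟩ := (hinj.bijective_of_nat_card_le ((hX.trans hfull.symm).trans horb.symm).le).2 ⟨z, hza, hzb⟩
      exact ⟨x, x.2, congrArg Subtype.val hx⟩
    have h3 : IsMultiplyPretransitive G α 3 := by
      refine ⟨fun s t => ?_⟩
      have hne : ∀ (s : Fin 3 ↪ α) (i j : Fin 3), i ≠ j → s i ≠ s j := fun s i j h e => h (s.injective e)
      obtain ⟨g, hg0, hg1⟩ := is_two_pretransitive_iff.1 h2 (hne s 0 1 (by decide)) hab
      obtain ⟨k, hk0, hk1⟩ := is_two_pretransitive_iff.1 h2 hab (hne t 0 1 (by decide))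
      obtain ⟨x, ⟨hxa, hxb⟩, hx⟩ := htrans (g • s 2) (k⁻¹ • t 2)
        (fun (e : g • s 2 = a) => hne s 2 0 (by decide) (MulAction.injective g (e.trans hg0.symm)))
        (fun (e : g • s 2 = b) => hne s 2 1 (by decide) (MulAction.injective g (e.trans hg1.symm)))
        (fun (e : k⁻¹ • t 2 = a) => hne t 2 0 (by decide) (by rw [← hk0, ← e, smul_inv_smul]))
        (fun (e : k⁻¹ • t 2 = b) => hne t 2 1 (by decide) (by rw [← hk1, ← e, smul_inv_smul]))
      have hxa' : x • a = a := hxa
      have hxb' : x • b = b := hxb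
      refine ⟨k * x * g, Function.Embedding.ext fun i => ?_⟩
      show (k * x * g) • s i = t i
      fin_cases i
      · rw [mul_smul, mul_smul]; simp only [Fin.zero_eta]; rw [hg0, hxa', hk0]
      · rw [mul_smul, mul_smul]; simp only [Fin.mk_one]; rw [hg1, hxb', hk1]
      · show (k * x * g) • s 2 = t 2
        rw [mul_smul, mul_smul, hx, smul_inv_smul]
    have hsharp : ∀ t : Fin 3 ↪ α, stabilizer G t = ⊥ := by
      intro t
      rw [Subgroup.eq_bot_iff_forall]
      intro g hg
      have h : ∀ i, g • t i = t i := fun i => DFunLike.congr_fun (hg : g • t = t) i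
      exact hfix3 g (t 0) (t 1) (t 2) (fun e => by simpa using t.injective e)
        (fun e => by simpa using t.injective e) (fun e => by simpa using t.injective e) (h 0) (h 1) (h 2)
    obtain ⟨c, hca, hcb⟩ : ∃ c, c ≠ a ∧ c ≠ b := by
      by_contra hcon
      push Not at hcon
      have : (Finset.univ : Finset α) ⊆ {a, b} := fun c _ => by
        by_cases h : c = a
        · exact Finset.mem_insert.2 (Or.inl h)
        · exact Finset.mem_insert.2 (Or.inr (Finset.mem_singleton.2 (hcon c h)))
      have := Finset.card_le_card this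
      rw [Finset.card_univ, Finset.card_pair hab, hα] at this
      have := hp.two_le
      omega
    obtain ⟨s, hsa, hsb, hsc⟩ := CfsgLib.Perm.SharplyThree.exists_triple h3 hab hca.symm hcb.symm
      hab.symm hcb.symm hca.symm (x' := b) (y' := a) (z' := c)
    obtain ⟨p', f, _, hn, ⟨iso⟩⟩ := CfsgLib.Perm.SharplyThree.iso_pgl' h3 hsharp hab hca.symm hcb.symm
      hsa hsb hsc hEcomm (fun h hha hhb hcomm => by
        have hcomm' : s * h = h * s := mul_inv_eq_iff_eq_mul.1 hcomm
        have hfix' : s • h • c = h • c := by rw [← mul_smul, hcomm', mul_smul, hsc]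
        have hfix'' : s • h • h • c = h • h • c := by
          rw [← mul_smul, hcomm', mul_smul, hfix']
        by_cases hc1 : h • c = c
        · rw [hfix h hha hhb c hc1 hca hcb, one_mul]
        refine hfix (h * h) (by rw [mul_smul, hha, hha]) (by rw [mul_smul, hhb, hhb]) c ?_ hca hcb
        rw [mul_smul]
        by_contra hne
        have hs1 := hfix3 s c (h • c) (h • h • c) (Ne.symm hc1)
          (fun e => hc1 (MulAction.injective h e.symm)) (Ne.symm hne) hsc hfix' hfix''
        rw [hs1, one_smul] at hsa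
        exact hab hsa)
    have hpf : p' ^ f = p := by omega
    have hf : f = 1 := ((Nat.Prime.pow_eq_iff hp).1 hpf).2
    subst hf
    rw [pow_one] at hpf
    subst hpf
    exact ⟨iso.trans (CfsgLib.Classical.Dickson.pglCongr (GaloisField.equivZmodP p').toRingEquiv)⟩
  have hp2 : p ≠ 2 := fun h => by subst h; omega
  by_cases hM : ∃ M : Subgroup G, M.Normal ∧ IsPretransitive M α ∧ ∀ m ∈ M, ∀ x : α, m • x = x → m = 1
  · obtain ⟨M, hMn, hMt, hMf⟩ := hM
    haveI := hMn
    exact Or.inr (Or.inr (affine hp hp2 hα G M hMt hMf a b hab u hua hun hut horb))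
  -- otherwise a Zassenhaus group
  have hd1 : d ≠ 1 := by
    intro h1
    refine hM ?_
    have hfix2 : ∀ n : G, ∀ x y : α, x ≠ y → n • x = x → n • y = y → n = 1 := by
      intro n x y hxy hx hy
      obtain ⟨k, kx, ky⟩ := is_two_pretransitive_iff.1 h2 hxy hab
      have hmem : k * n * k⁻¹ ∈ E := ⟨(by show (k * n * k⁻¹) • a = a; rw [← kx, mul_smul, mul_smul, inv_smul_smul, hx]),
        (by show (k * n * k⁻¹) • b = b; rw [← ky, mul_smul, mul_smul, inv_smul_smul, hy])⟩
      have hbot : E = ⊥ := Subgroup.card_eq_one.1 (horb.trans h1)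
      rw [hbot, Subgroup.mem_bot] at hmem
      exact conj_eq_one_iff.1 hmem
    obtain ⟨q, j, K, -, -, -, hKn, -, -, -, -, hKt, hKs, -⟩ :=
      CfsgLib.Perm.SharplyTwo.exists_kernel h2 (by omega) hfix2
    refine ⟨K, hKn, hKt, fun m hm x hx => ?_⟩
    have : (⟨m, hm⟩ : K) ∈ stabilizer K x := hx
    rw [hKs, Subgroup.mem_bot] at this
    exact congrArg Subtype.val this
  have hZ : Cfsg.IsZassenhausGroup G α := by
    refine ⟨inferInstance, h2, hfix3, ?_, fun M hMn hMt => ?_⟩
    · haveI : Nontrivial E := Finite.one_lt_card_iff_nontrivial.1 (by omega)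
      obtain ⟨x, hx⟩ := exists_ne (1 : E)
      exact ⟨x, fun h => hx (Subtype.ext h), a, b, hab, x.2.1, x.2.2⟩
    · by_contra hcon
      push Not at hcon
      refine hM ⟨M, hMn, hMt, fun m hm x hx => ?_⟩
      have : (⟨m, hm⟩ : M) ∈ stabilizer M x := hx
      rw [hcon x, Subgroup.mem_bot] at this
      exact congrArg Subtype.val this
  have hdvd := CfsgLib.Perm.zass_card_two_stab_dvd hZ hab
  rw [← hE, horb, hα] at hdvd
  have hhalf : 2 * d ≤ p + 1 - 2 := by
    obtain ⟨m, hm⟩ := hdvd
    have hm2 : 2 ≤ m := by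
      by_contra hcon
      interval_cases m <;> omega
    rw [hm, mul_comm 2 d]
    exact Nat.mul_le_mul_left d hm2
  have key : 2 * d = p - 1 ∧ ∃ (p' f : ℕ) (F : Type) (_ : Field F) (_ : Fintype F), p'.Prime ∧ p' ≠ 2 ∧
      Fintype.card F = p' ^ f ∧ Fintype.card α = p' ^ f + 1 ∧
      Nonempty (G ≃* Matrix.ProjectiveSpecialLinearGroup (Fin 2) F) := by
    rcases Nat.even_or_odd d with hev | hod
    · have hge := CfsgLib.Perm.zass_even_large hZ hab (horb.symm ▸ hev)
      rw [← hE, horb, hα] at hge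
      exact ⟨by omega, CfsgLib.Perm.iso_psl_of_half hZ hab (horb.symm ▸ hev) (by rw [← hE, horb, hα]; omega)⟩
    · have hmem : Subgroup.zpowers u ≤ stabilizer G a := Subgroup.zpowers_le.2 hua
      obtain ⟨hsimple, hge⟩ := CfsgLib.Perm.zass_abelian_kernel_simple d G α hZ a b hab horb hod
        (Subgroup.zpowers u) hmem (by rw [Nat.card_zpowers, huord, hα])
        (fun v hv hv1 c hc => by
          obtain ⟨i, rfl⟩ := exists_pow_of_mem_zpowers hv
          by_contra hca
          obtain ⟨j, rfl⟩ := hut' c hca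
          by_cases hpi : p ∣ i
          · obtain ⟨k, rfl⟩ := hpi
            exact hv1 (by rw [pow_mul, ← huord, pow_orderOf_eq_one, one_pow])
          refine hub (MulAction.injective (u ^ j) ?_)
          show u ^ j • u • b = u ^ j • b
          rw [← mul_smul, ← pow_succ, pow_succ', mul_smul]
          exact hone i hpi _ hc)
        (fun x hx y hy => (Subgroup.mem_zpowers_iff.1 hx).elim fun i hi =>
          (Subgroup.mem_zpowers_iff.1 hy).elim fun j hj => by rw [← hi, ← hj, ← zpow_add, ← zpow_add, add_comm])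
      haveI := hsimple
      rw [hα] at hge
      exact ⟨by omega, CfsgLib.Perm.iso_psl_of_half_odd hZ hab (horb.symm ▸ hod) (by rw [← hE, horb, hα]; omega)⟩
  obtain ⟨h2d, p', f, F, _, _, hp', -, hF, hn, ⟨iso⟩⟩ := key
  refine Or.inr (Or.inl ⟨h2d, ⟨iso.trans (CfsgLib.Classical.Dickson.pslCongr
    (FiniteField.ringEquivOfCardEq (K := F) (K' := ZMod p) ?_))⟩⟩)
  rw [hF, ZMod.card]
  omega

end CfsgLib.Perm.PrimePlusOne
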