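import Cfsg.Agent.Lib.Perm.PrimeOrderCount
import Cfsg.Agent.S1018
import Cfsg.Agent.Lib.TwoGroups.Recognition
import Mathlib.Tactic

/-!
Simple groups of order 168: Sylow numbers, centralisers and element orders.
-/

namespace CfsgLib.Perm.Simple168

open Subgroup MulAction CfsgLib.Perm

variable {G : Type*} [Group G] [Finite G] [IsSimpleGroup G]

theorem not_comm (h : Nat.card G = 168) : ¬ IsMulCommutative G :=
  not_comm_of_not_prime (by rw [h]; norm_num)

theorem index_ge (h : Nat.card G = 168) (H : Subgroup G) (hH : H ≠ ⊤) : 7 ≤ H.index := by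
  by_contra hlt
  push Not at hlt
  have := two_mul_card_dvd_factorial_of_index_le (not_comm h) H hH (m := 6) (by omega)
  rw [h] at this
  revert this
  decide

theorem card_le (h : Nat.card G = 168) (H : Subgroup G) (hH : H ≠ ⊤) : Nat.card H ≤ 24 := by
  have h1 := card_mul_index H
  have h2 := index_ge h H hH
  rw [h] at h1
  have : Nat.card H * 7 ≤ 168 := h1 ▸ Nat.mul_le_mul_left _ h2
  omega

section seven

variable [Fact (Nat.Prime 7)]

theorem card_sylow_seven (h : Nat.card G = 168) : Nat.card (Sylow 7 G) = 8 := by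
  have h' : Nat.card G = 7 ^ 1 * 24 := by rw [h]; norm_num
  obtain ⟨h1, h2, h3⟩ := card_sylow_mem (q := 2) h' one_ne_zero Nat.prime_two (by norm_num) (by norm_num)
  have hle := Nat.le_of_dvd (by norm_num) h1
  generalize Nat.card (Sylow 7 G) = n at *
  interval_cases n <;> omega

theorem card_sylow_seven_subgroup (h : Nat.card G = 168) (P : Sylow 7 G) :
    Nat.card (P : Subgroup G) = 7 := by
  rw [sylow_card_eq P (k := 1) (m := 24) (by rw [h]; norm_num) (by norm_num), pow_one]

theorem card_normalizer_seven (h : Nat.card G = 168) (P : Sylow 7 G) :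
    Nat.card (normalizer ((P : Subgroup G) : Set G)) = 21 := by
  have := card_normalizer_mul_card_sylow P
  rw [card_sylow_seven h, h] at this
  omega

theorem card_centralizer_seven (h : Nat.card G = 168) (P : Sylow 7 G) :
    Nat.card (centralizer ((P : Subgroup G) : Set G)) = 7 := by
  have hP := card_sylow_seven_subgroup h P
  have hN := card_normalizer_seven h P
  have h1 := relIndex_centralizer_dvd_div (p := 7) (P : Subgroup G) hP (a := 3) hN
  have hdvd : 7 ∣ Nat.card G := by rw [h]; norm_num
  have hne : (centralizer ((P : Subgroup G) : Set G)).relIndex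
      (normalizer ((P : Subgroup G) : Set G)) ≠ 1 := by
    rw [Ne, relIndex_eq_one]
    exact not_normalizer_le_centralizer P hdvd
      (not_isPGroup_of_dvd Nat.prime_two (by norm_num) (by rw [h]; norm_num))
  have h3 := ((Nat.dvd_prime Nat.prime_three).1 h1).resolve_left hne
  have h4 := card_mul_index ((centralizer ((P : Subgroup G) : Set G)).subgroupOf
    (normalizer ((P : Subgroup G) : Set G)))
  rw [Nat.card_congr (subgroupOfEquivOfLe (centralizer_le_normalizer _)).toEquiv, hN] at h4
  rw [← relIndex, h3] at h4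
  omega

theorem card_centralizer_of_orderOf_seven (h : Nat.card G = 168) {g : G} (hg : orderOf g = 7) :
    Nat.card (centralizer ({g} : Set G)) = 7 := by
  obtain ⟨P⟩ := (inferInstance : Nonempty (Sylow 7 G))
  exact card_centralizer_of_sylow (card_centralizer_seven h) P (card_sylow_seven_subgroup h P) hg

theorem card_orderOf_seven (h : Nat.card G = 168) : Nat.card {g : G // orderOf g = 7} = 48 := by
  obtain ⟨P⟩ := (inferInstance : Nonempty (Sylow 7 G))
  rw [card_orderOf_eq_prime P (card_sylow_seven_subgroup h P), card_sylow_seven h]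

/-- An element of order three normalises exactly two Sylow 7-subgroups. -/
theorem card_fixedBy_three (h : Nat.card G = 168) {x : G} (hx : orderOf x = 3)
    (P : Sylow 7 G) (hxN : x ∈ normalizer ((P : Subgroup G) : Set G)) :
    Nat.card (fixedBy (G ⧸ normalizer ((P : Subgroup G) : Set G)) x) = 2 := by
  classical
  set N := normalizer ((P : Subgroup G) : Set G) with hN
  have hP := card_sylow_seven_subgroup h P
  have hidx : Nat.card (G ⧸ N) = 8 := by
    have := card_mul_index N
    rw [card_normalizer_seven h P, h] at this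
    show N.index = 8
    omega
  have hxC : x ∉ centralizer ((P : Subgroup G) : Set G) := by
    intro hc
    have := Subgroup.orderOf_dvd_natCard (centralizer ((P : Subgroup G) : Set G)) hc
    rw [card_centralizer_seven h P, hx] at this
    norm_num at this
  obtain ⟨hb1, hb2⟩ := Cfsg.Agent.S1018.result 7 P hP
  obtain ⟨y, hy⟩ := exists_prime_orderOf_dvd_card' (G := (P : Subgroup G)) 7 hP.symm.dvd
  have hfy := hb1 (y : G) (by rw [Subgroup.orderOf_coe, hy])
  have horb : Nat.card (orbitRel.Quotient (P : Subgroup G) (G ⧸ N)) ≤ 2 := by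
    let _ := Fintype.ofFinite (orbitRel.Quotient (P : Subgroup G) (G ⧸ N))
    by_contra hlt
    push Not at hlt
    rw [Nat.card_eq_fintype_card] at hlt
    obtain ⟨⟨w₀, hw₀⟩⟩ := (Nat.card_eq_one_iff_unique.1 hfy).2
    have hbig : ∀ o : orbitRel.Quotient (P : Subgroup G) (G ⧸ N), o ≠ Quotient.mk'' w₀ →
        7 ≤ Nat.card o.orbit := by
      intro o ho
      induction o using Quotient.inductionOn' with
      | h w =>
        rw [orbitRel.Quotient.orbit_mk]
        have hdvd : Nat.card (orbit (P : Subgroup G) w) ∣ 7 := by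
          rw [Nat.card_coe_set_eq, ← index_stabilizer]
          exact (index_dvd_card _).trans hP.dvd
        rcases (Nat.dvd_prime (by norm_num : Nat.Prime 7)).1 hdvd with h1 | h1
        · exfalso
          have := (Nat.card_eq_one_iff_unique.1 h1).1
          have h2 : y • w = w := congrArg Subtype.val (Subsingleton.elim
            (⟨_, mem_orbit w y⟩ : orbit (P : Subgroup G) w) ⟨w, mem_orbit_self w⟩)
          have := (Nat.card_eq_one_iff_unique.1 hfy).1
          have h3 : w = w₀ := congrArg Subtype.val (Subsingleton.elim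
            (⟨w, h2⟩ : fixedBy (G ⧸ N) (y : G)) ⟨w₀, hw₀⟩)
          exact ho (by rw [h3])
        · omega
    have hX := Nat.card_congr (selfEquivSigmaOrbits' (P : Subgroup G) (G ⧸ N))
    rw [Nat.card_sigma, hidx, ← Finset.add_sum_erase _ _ (Finset.mem_univ (Quotient.mk'' w₀))] at hX
    have h4 := Finset.card_nsmul_le_sum (Finset.univ.erase (Quotient.mk'' w₀))
      (fun o : orbitRel.Quotient (P : Subgroup G) (G ⧸ N) => Nat.card o.orbit) 7
      (fun o ho => hbig o (Finset.ne_of_mem_erase ho))
    rw [Finset.card_erase_of_mem (Finset.mem_univ _), Finset.card_univ, smul_eq_mul] at h4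
    let S : ℕ := Finset.sum (Finset.univ.erase (Quotient.mk'' w₀ : orbitRel.Quotient (P : Subgroup G) (G ⧸ N)))
      (fun o : orbitRel.Quotient (P : Subgroup G) (G ⧸ N) => Nat.card (orbitRel.Quotient.orbit o))
    have h4' : (Fintype.card (orbitRel.Quotient (P : Subgroup G) (G ⧸ N)) - 1) * 7 ≤ S := h4
    have hX' : 8 = Nat.card (orbitRel.Quotient.orbit
        (Quotient.mk'' w₀ : orbitRel.Quotient (P : Subgroup G) (G ⧸ N))) + S := hX
    have h0 : 0 < Nat.card (orbitRel.Quotient.orbit
        (Quotient.mk'' w₀ : orbitRel.Quotient (P : Subgroup G) (G ⧸ N))) := by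
      rw [orbitRel.Quotient.orbit_mk, Nat.card_pos_iff]
      exact ⟨⟨⟨w₀, mem_orbit_self w₀⟩⟩, inferInstance⟩
    omega
  have hle : Nat.card (fixedBy (G ⧸ N) x) ≤ 2 := (hb2 x hxN hxC).trans horb
  have hpos : 1 ≤ Nat.card (fixedBy (G ⧸ N) x) := by
    rw [Nat.one_le_iff_ne_zero, ← Nat.pos_iff_ne_zero, Nat.card_pos_iff]
    refine ⟨⟨⟨((1 : G) : G ⧸ N), ?_⟩⟩, inferInstance⟩
    rw [mem_fixedBy, Quotient.smul_coe, eq_comm, QuotientGroup.eq]
    simpa using hxN
  have hp : IsPGroup 3 (zpowers x) := IsPGroup.of_card (n := 1) (by rw [pow_one, Nat.card_zpowers, hx])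
  have : Fact (Nat.Prime 3) := ⟨Nat.prime_three⟩
  have hmod := hp.card_modEq_card_fixedPoints (G ⧸ N)
  have heq : fixedPoints (zpowers x) (G ⧸ N) = fixedBy (G ⧸ N) x := by
    ext w
    constructor
    · intro hw; exact hw ⟨x, mem_zpowers x⟩
    · rintro hw ⟨v, hv⟩
      exact (zpowers_le.2 (show x ∈ stabilizer G w from hw)) hv
  rw [hidx, heq, Nat.ModEq] at hmod
  omega

end seven

section three

variable [Fact (Nat.Prime 3)]

theorem card_sylow_three_subgroup (h : Nat.card G = 168) (P : Sylow 3 G) :
    Nat.card (P : Subgroup G) = 3 := by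
  rw [sylow_card_eq P (k := 1) (m := 56) (by rw [h]; norm_num) (by norm_num), pow_one]

theorem card_sylow_three (h : Nat.card G = 168) : Nat.card (Sylow 3 G) = 28 := by
  classical
  have : Fact (Nat.Prime 7) := ⟨by norm_num⟩
  -- pairs of an element of order three and a Sylow 7-subgroup normalised by it
  let X := {g : G // orderOf g = 3}
  obtain ⟨P3⟩ := (inferInstance : Nonempty (Sylow 3 G))
  have hX : Nat.card X = 2 * Nat.card (Sylow 3 G) :=
    card_orderOf_eq_prime P3 (card_sylow_three_subgroup h P3)
  let N : Sylow 7 G → Subgroup G := fun Q => normalizer ((Q : Subgroup G) : Set G)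
  have hQ : ∀ Q : Sylow 7 G, 14 ≤ Nat.card {g : X // g.1 ∈ N Q} := by
    intro Q
    have hN : Nat.card (N Q) = 21 := card_normalizer_seven h Q
    let e : {g : X // g.1 ∈ N Q} ≃ {g : N Q // orderOf g = 3} :=
    { toFun := fun g => ⟨⟨g.1.1, g.2⟩, by rw [← Subgroup.orderOf_coe]; exact g.1.2⟩
      invFun := fun g => ⟨⟨g.1, by rw [Subgroup.orderOf_coe]; exact g.2⟩, g.1.2⟩
      left_inv := fun g => rfl
      right_inv := fun g => rfl }
    obtain ⟨S⟩ := (inferInstance : Nonempty (Sylow 3 (N Q)))
    have hS : Nat.card (S : Subgroup (N Q)) = 3 := by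
      rw [sylow_card_eq S (k := 1) (m := 7) (by rw [hN]; norm_num) (by norm_num), pow_one]
    rw [Nat.card_congr e, card_orderOf_eq_prime S hS]
    have hne : Nat.card (Sylow 3 (N Q)) ≠ 1 := by
      intro h1
      have := (Nat.card_eq_one_iff_unique.1 h1).1
      have hn : (S : Subgroup (N Q)).Normal := S.normal_of_subsingleton
      -- an element of order three would centralise Q
      let Q' : Subgroup (N Q) := (Q : Subgroup G).subgroupOf (N Q)
      have hQ'n : Q'.Normal := normal_in_normalizer
      have hQ'c : Nat.card Q' = 7 := by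
        rw [Nat.card_congr (subgroupOfEquivOfLe (le_normalizer : (Q : Subgroup G) ≤ N Q)).toEquiv,
          card_sylow_seven_subgroup h Q]
      have hdisj : Disjoint (S : Subgroup (N Q)) Q' := by
        rw [disjoint_iff]
        apply inf_eq_bot_of_coprime
        rw [hS, hQ'c]
        norm_num
      obtain ⟨g, hg⟩ := exists_prime_orderOf_dvd_card' (G := (S : Subgroup (N Q))) 3 hS.symm.dvd
      have hmem : ((g : N Q) : G) ∈ centralizer ((Q : Subgroup G) : Set G) := by
        rw [mem_centralizer_iff]
        intro z hz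
        exact congrArg Subtype.val (commute_of_normal_of_disjoint _ _ hn hQ'n hdisj (g : N Q)
          ⟨z, le_normalizer hz⟩ g.2 hz).symm.eq
      have := Subgroup.orderOf_dvd_natCard _ hmem
      rw [card_centralizer_seven h Q, Subgroup.orderOf_coe, Subgroup.orderOf_coe, hg] at this
      norm_num at this
    have hd := card_sylow_dvd_of_card_eq (G := N Q) (p := 3) (k := 1) (m := 7) (by rw [hN]; norm_num)
    rcases (Nat.dvd_prime (by norm_num : Nat.Prime 7)).1 hd with h1 | h1
    · exact absurd h1 hne
    · rw [h1]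
  let _ := Fintype.ofFinite (Sylow 7 G)
  let _ := Fintype.ofFinite X
  have hcount : ∀ g : X, Nat.card {Q : Sylow 7 G // g.1 ∈ N Q} ≤ 2 := by
    intro g
    by_cases hne : Nonempty {Q : Sylow 7 G // g.1 ∈ N Q}
    · obtain ⟨⟨P, hP⟩⟩ := hne
      rw [← card_fixedBy_three h g.2 P hP]
      let e : G ⧸ N P ≃ Sylow 7 G := P.equivQuotientNormalizer.symm
      have hsm : ∀ (a : G) (Q : Sylow 7 G), a ∈ N Q ↔ a • Q = Q := fun a Q =>
        Sylow.smul_eq_iff_mem_normalizer.symm
      refine Nat.card_le_card_of_injective (fun Q => ⟨(exists_smul_eq G P Q.1).choose, ?_⟩) ?_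
      · have hc := (exists_smul_eq G P Q.1).choose_spec
        rw [mem_fixedBy, Quotient.smul_coe, eq_comm, QuotientGroup.eq]
        show _ ∈ N P
        rw [hsm, smul_eq_mul, mul_smul, mul_smul, inv_smul_eq_iff, hc]
        exact (hsm _ _).1 Q.2
      · intro Q R hQR
        apply Subtype.ext
        have h1 := congrArg Subtype.val hQR
        simp only at h1
        rw [QuotientGroup.eq] at h1
        have h2 := (hsm _ _).1 h1
        rw [mul_smul, inv_smul_eq_iff, (exists_smul_eq G P Q.1).choose_spec,
          (exists_smul_eq G P R.1).choose_spec] at h2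
        exact h2.symm
    · rw [not_nonempty_iff] at hne
      rw [Nat.card_of_isEmpty]
      omega
  have hpairs : 8 * 14 ≤ Nat.card X * 2 := by
    let e : (Σ Q : Sylow 7 G, {g : X // g.1 ∈ N Q}) ≃ Σ g : X, {Q : Sylow 7 G // g.1 ∈ N Q} :=
    { toFun := fun s => ⟨s.2.1, s.1, s.2.2⟩
      invFun := fun s => ⟨s.2.1, s.1, s.2.2⟩
      left_inv := fun s => rfl
      right_inv := fun s => rfl }
    have he := Nat.card_congr e
    rw [Nat.card_sigma, Nat.card_sigma] at he
    have hl := Finset.card_nsmul_le_sum Finset.univ _ 14 (fun Q (_ : Q ∈ (Finset.univ : Finset (Sylow 7 G))) => hQ Q)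
    have hr := Finset.sum_le_card_nsmul Finset.univ _ 2 (fun g (_ : g ∈ (Finset.univ : Finset X)) => hcount g)
    rw [Finset.card_univ, ← Nat.card_eq_fintype_card, card_sylow_seven h, smul_eq_mul] at hl
    rw [Finset.card_univ, ← Nat.card_eq_fintype_card, smul_eq_mul] at hr
    omega
  have hd := card_sylow_dvd_of_card_eq (G := G) (p := 3) (k := 1) (m := 56) (by rw [h]; norm_num)
  have hmod := card_sylow_modEq_one 3 G
  rw [Nat.ModEq] at hmod
  rw [hX] at hpairs
  have hle := Nat.le_of_dvd (by norm_num) hd
  have : Nat.card (Sylow 3 G) ∈ Nat.divisors 56 := Nat.mem_divisors.2 ⟨hd, by norm_num⟩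
  revert this hmod hpairs
  generalize Nat.card (Sylow 3 G) = n
  intro hpairs hmod hn
  simp [show Nat.divisors 56 = {1, 2, 4, 7, 8, 14, 28, 56} from by decide] at hn
  omega

theorem card_normalizer_three (h : Nat.card G = 168) (P : Sylow 3 G) :
    Nat.card (normalizer ((P : Subgroup G) : Set G)) = 6 := by
  have := card_normalizer_mul_card_sylow P
  rw [card_sylow_three h, h] at this
  omega

theorem card_centralizer_three (h : Nat.card G = 168) (P : Sylow 3 G) :
    Nat.card (centralizer ((P : Subgroup G) : Set G)) = 3 := by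
  have hP := card_sylow_three_subgroup h P
  have hN := card_normalizer_three h P
  have h1 := relIndex_centralizer_dvd_div (p := 3) (P : Subgroup G) hP (a := 2) hN
  have hdvd : 3 ∣ Nat.card G := by rw [h]; norm_num
  have hne : (centralizer ((P : Subgroup G) : Set G)).relIndex
      (normalizer ((P : Subgroup G) : Set G)) ≠ 1 := by
    rw [Ne, relIndex_eq_one]
    exact not_normalizer_le_centralizer P hdvd
      (not_isPGroup_of_dvd Nat.prime_two (by norm_num) (by rw [h]; norm_num))
  have h3 := ((Nat.dvd_prime Nat.prime_two).1 h1).resolve_left hne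
  have h4 := card_mul_index ((centralizer ((P : Subgroup G) : Set G)).subgroupOf
    (normalizer ((P : Subgroup G) : Set G)))
  rw [Nat.card_congr (subgroupOfEquivOfLe (centralizer_le_normalizer _)).toEquiv, hN] at h4
  rw [← relIndex, h3] at h4
  omega

theorem card_centralizer_of_orderOf_three (h : Nat.card G = 168) {g : G} (hg : orderOf g = 3) :
    Nat.card (centralizer ({g} : Set G)) = 3 := by
  obtain ⟨P⟩ := (inferInstance : Nonempty (Sylow 3 G))
  exact card_centralizer_of_sylow (card_centralizer_three h) P (card_sylow_three_subgroup h P) hg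

theorem card_orderOf_three (h : Nat.card G = 168) : Nat.card {g : G // orderOf g = 3} = 56 := by
  obtain ⟨P⟩ := (inferInstance : Nonempty (Sylow 3 G))
  rw [card_orderOf_eq_prime P (card_sylow_three_subgroup h P), card_sylow_three h]

end three

/-- The possible element orders. -/
theorem orderOf_cases (h : Nat.card G = 168) (g : G) :
    orderOf g = 1 ∨ orderOf g = 2 ∨ orderOf g = 3 ∨ orderOf g = 4 ∨ orderOf g = 7 := by
  have : Fact (Nat.Prime 7) := ⟨by norm_num⟩
  have : Fact (Nat.Prime 3) := ⟨Nat.prime_three⟩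
  have : Fact (Nat.Prime 2) := ⟨Nat.prime_two⟩
  have hd : orderOf g ∣ 168 := h ▸ orderOf_dvd_natCard g
  have key : ∀ q, (q = 3 ∨ q = 7) → q ∣ orderOf g → orderOf g = q := by
    intro q hq hqd
    obtain ⟨k, hk⟩ := hqd
    have hk0 : k ≠ 0 := fun h0 => (orderOf_pos g).ne' (by rw [hk, h0, mul_zero])
    have hpow : orderOf (g ^ k) = q := by
      rw [orderOf_pow' g hk0, hk, Nat.gcd_mul_left_left, Nat.mul_div_cancel _ (Nat.pos_of_ne_zero hk0)]
    have hmem : g ∈ centralizer ({g ^ k} : Set G) :=
      mem_centralizer_singleton_iff.2 ((Commute.refl g).pow_right k).eq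
    have hc := Subgroup.orderOf_dvd_natCard _ hmem
    rcases hq with rfl | rfl
    · rw [card_centralizer_of_orderOf_three h hpow] at hc
      exact ((Nat.dvd_prime Nat.prime_three).1 hc).resolve_left (by rw [hk]; omega)
    · rw [card_centralizer_of_orderOf_seven h hpow] at hc
      exact ((Nat.dvd_prime (by norm_num : Nat.Prime 7)).1 hc).resolve_left (by rw [hk]; omega)
  by_cases h3 : 3 ∣ orderOf g
  · exact Or.inr (Or.inr (Or.inl (key 3 (Or.inl rfl) h3)))
  by_cases h7 : 7 ∣ orderOf g
  · exact Or.inr (Or.inr (Or.inr (Or.inr (key 7 (Or.inr rfl) h7))))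
  have hd8 : orderOf g ∣ 2 ^ 3 := by
    have c3 : (orderOf g).Coprime 3 := ((Nat.Prime.coprime_iff_not_dvd Nat.prime_three).2 h3).symm
    have c7 : (orderOf g).Coprime 7 := ((Nat.Prime.coprime_iff_not_dvd (by norm_num)).2 h7).symm
    exact (c3.mul_right c7).dvd_of_dvd_mul_right (by norm_num; exact hd)
  have h8 : orderOf g ≠ 8 := by
    intro h8
    obtain ⟨T, hT⟩ := exists_mem_sylow_of_orderOf (p := 2) (k := 3) (g := g) (by rw [h8]; norm_num)
    have hTc : Nat.card (T : Subgroup G) = 8 := by
      rw [sylow_card_eq T (k := 3) (m := 21) (by rw [h]; norm_num) (by norm_num)]; rfl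
    have hcyc : IsCyclic (T : Subgroup G) :=
      isCyclic_of_orderOf_eq_card (⟨g, hT⟩ : (T : Subgroup G))
        (by rw [← Subgroup.orderOf_coe, hTc]; exact h8)
    have hmin : (Nat.card G).minFac = 2 := by rw [h]; norm_num
    exact not_normalizer_le_centralizer T (by rw [h]; norm_num)
      (not_isPGroup_of_dvd Nat.prime_three (by norm_num) (by rw [h]; norm_num))
      (IsCyclic.normalizer_le_centralizer hmin hcyc)
  obtain ⟨j, hj, hj'⟩ := (Nat.dvd_prime_pow Nat.prime_two).1 hd8
  interval_cases j <;> simp_all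

/-- The elements of order two or four. -/
theorem card_two_elements (h : Nat.card G = 168) :
    Nat.card {g : G // orderOf g = 2} + Nat.card {g : G // orderOf g = 4} = 63 := by
  classical
  have : Fact (Nat.Prime 7) := ⟨by norm_num⟩
  have : Fact (Nat.Prime 3) := ⟨Nat.prime_three⟩
  let _ := Fintype.ofFinite G
  have hsum : (Finset.univ : Finset G).card =
      ∑ n ∈ ({1, 2, 3, 4, 7} : Finset ℕ), (Finset.univ.filter fun g : G => orderOf g = n).card :=
    Finset.card_eq_sum_card_fiberwise (fun g _ => by
      rcases orderOf_cases h g with h' | h' | h' | h' | h' <;> simp [h'])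
  have hc : ∀ n, (Finset.univ.filter fun g : G => orderOf g = n).card = Nat.card {g : G // orderOf g = n} :=
    fun n => by rw [Nat.card_eq_fintype_card, Fintype.card_subtype]
  simp only [hc] at hsum
  have h1 : Nat.card {g : G // orderOf g = 1} = 1 :=
    Nat.card_eq_one_iff_unique.2 ⟨⟨fun a b => Subtype.ext
      ((orderOf_eq_one_iff.1 a.2).trans (orderOf_eq_one_iff.1 b.2).symm)⟩, ⟨⟨1, orderOf_one⟩⟩⟩
  simp [h1, card_orderOf_three h, card_orderOf_seven h, ← Nat.card_eq_fintype_card, h] at hsum
  omega

end CfsgLib.Perm.Simple168
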