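import Cfsg.Agent.Lib.Perm.SylowFixed
import Cfsg.Agent.Lib.Perm.ElemCentRecog
import Cfsg.Agent.Lib.Classical.SmallIso
import Mathlib.NumberTheory.LegendreSymbol.Basic
import Mathlib.Tactic

/-!
# Simple groups of order `(p + 1) p (p - 1) / 2` with `p + 1` Sylow `p`-subgroups

Such a group is `PSL(2, p)` as soon as a finite check on the possible swaps of the two base
points, `good`, succeeds.
-/

set_option autoImplicit false

namespace CfsgLib.Perm.PrimeProjective

open OnePoint CfsgLib.TwoGroups.ElemCent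
open scoped MatrixGroups Pointwise

/-- The candidate swap, on the numbers `0, …, p` with `p` for infinity. -/
def swapFun (p d e α β x : ℕ) : ℕ :=
  if x = p then 0 else if x = 0 then p else
    if x ^ d % p = 1 then α * x ^ e % p else β * x ^ e % p

/-- Translation by `k`. -/
def addFun (p k x : ℕ) : ℕ := if x = p then p else (k + x) % p

/-- `w T_k w` is again in `T w B`. -/
def bruhatCheck (p d e α β : ℕ) : Bool :=
  (List.range p).all fun k => k == 0 ||
    (List.range p).any fun b => swapFun p d e α β b == (p - swapFun p d e α β k) % p &&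
      (List.range p).any fun s => s ^ d % p == 1 &&
        (List.range (p + 1)).all fun x =>
          swapFun p d e α β (addFun p k (swapFun p d e α β x)) ==
            addFun p (swapFun p d e α β k)
              (swapFun p d e α β (if x = p then p else (s * x + b) % p))

/-- The finite check: every admissible swap is `x ↦ α / x` with `-α` a square. -/
def good (p d ν : ℕ) : Bool :=
  (List.range d).all fun e => [1, ν].all fun α => (List.range p).all fun β =>
    β == 0 || !bruhatCheck p d e α β ||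
      ((p - α) ^ d % p == 1 &&
        (List.range p).all fun x => x == 0 || swapFun p d e α β x * x % p == α % p)

variable {p : ℕ} [hp : Fact p.Prime]

/-- The number of a point of the projective line. -/
def enc : OnePoint (ZMod p) → ℕ
  | ∞ => p
  | (x : ZMod p) => x.val

theorem enc_lt (x : OnePoint (ZMod p)) : enc x < p + 1 := by
  cases x with
  | infty => exact Nat.lt_succ_self p
  | coe x => exact Nat.lt_succ_of_lt (ZMod.val_lt x)

theorem enc_injective : Function.Injective (enc (p := p)) := by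
  intro x y h
  cases x with
  | infty =>
    cases y with
    | infty => rfl
    | coe b => exact absurd h (show p ≠ b.val from (ZMod.val_lt b).ne')
  | coe a =>
    cases y with
    | infty => exact absurd h (show a.val ≠ p from (ZMod.val_lt a).ne)
    | coe b => exact congrArg _ (ZMod.val_injective p h)

/-- A permutation of the projective line in the image of the Moebius action. -/
def InPSL (σ : Equiv.Perm (OnePoint (ZMod p))) : Prop := σ ∈ (moebius (ZMod p)).range

theorem inPSL_affine {s b : ZMod p} (hs : IsSquare s) (hs0 : s ≠ 0) {σ : Equiv.Perm (OnePoint (ZMod p))}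
    (hinf : σ ∞ = ∞) (hσ : ∀ x : ZMod p, σ x = ((s * x + b : ZMod p) : OnePoint (ZMod p))) :
    InPSL σ := by
  obtain ⟨t, rfl⟩ := hs
  have ht : t ≠ 0 := fun e => hs0 (by rw [e, zero_mul])
  refine ⟨⟨!![t, b / t; 0, t⁻¹], by simp [Matrix.det_fin_two, mul_inv_cancel₀ ht]⟩, Equiv.ext fun o => ?_⟩
  cases o with
  | infty => rw [moebius_mk_infty, hinf]; simp
  | coe a =>
    rw [moebius_mk_some, hσ]
    simp only [Matrix.cons_val', Matrix.cons_val_zero, Matrix.cons_val_one, Matrix.empty_val',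
      Matrix.cons_val_fin_one, Matrix.of_apply]
    rw [if_neg (by simpa using inv_ne_zero ht)]
    congr 1
    field_simp
    ring

theorem inPSL_inversion {c : ZMod p} (hc : IsSquare (-c)) (hc0 : c ≠ 0)
    {σ : Equiv.Perm (OnePoint (ZMod p))} (hinf : σ ∞ = ((0 : ZMod p) : OnePoint (ZMod p)))
    (h0 : σ ((0 : ZMod p) : OnePoint (ZMod p)) = ∞)
    (hσ : ∀ x : ZMod p, x ≠ 0 → σ x = ((c / x : ZMod p) : OnePoint (ZMod p))) : InPSL σ := by
  obtain ⟨t, ht⟩ := hc
  have ht0 : t ≠ 0 := fun e => hc0 (neg_eq_zero.1 (by rw [ht, e, zero_mul]))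
  refine ⟨⟨!![0, c / t; t⁻¹, 0], ?_⟩, Equiv.ext fun o => ?_⟩
  · rw [Matrix.det_fin_two_of, zero_mul, zero_sub, div_mul_eq_mul_div, neg_eq_iff_eq_neg,
      show c = -(t * t) by rw [← ht, neg_neg]]
    field_simp
  cases o with
  | infty => rw [moebius_mk_infty, hinf]; simp [ht0]
  | coe a =>
    rw [moebius_mk_some]
    simp only [Matrix.cons_val', Matrix.cons_val_zero, Matrix.cons_val_one, Matrix.empty_val',
      Matrix.cons_val_fin_one, Matrix.of_apply, zero_mul, zero_add, add_zero]
    by_cases ha : a = 0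
    · subst ha; rw [h0, if_pos (mul_zero _)]
    · rw [hσ a ha, if_neg (mul_ne_zero (inv_ne_zero ht0) ha)]
      congr 1
      field_simp

/-- The recognition theorem. -/
theorem exists_iso {G : Type*} [Group G] [Finite G] [IsSimpleGroup G] (hp5 : 5 ≤ p) {d : ℕ}
    (hd : p = 2 * d + 1) (hcard : Nat.card G = (p + 1) * (p * d))
    (hn : Nat.card (Sylow p G) = p + 1) {ν : ℕ} (hν : ν ^ d % p ≠ 1) (hν0 : ν % p ≠ 0)
    (hgood : good p d ν = true) {F : Type*} [Field F] [Fintype F] (hF : Fintype.card F = p) :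
    Nonempty (G ≃* Matrix.ProjectiveSpecialLinearGroup (Fin 2) F) := by
  classical
  have hpp : p.Prime := hp.out
  have hd0 : 0 < d := by omega
  obtain ⟨P⟩ := (inferInstance : Nonempty (Sylow p G))
  have hcard' : Nat.card G = p ^ 1 * ((p + 1) * d) := by rw [hcard, pow_one]; ring
  have hndvd : ¬ p ∣ (p + 1) * d := fun h => by
    rcases hpp.dvd_mul.1 h with h | h
    · have := Nat.dvd_sub h (dvd_refl p); simp at this; omega
    · have := Nat.le_of_dvd hd0 h; omega
  have hall : ∀ R : Sylow p G, Nat.card (R : Subgroup G) = p := fun R => by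
    rw [CfsgLib.Perm.sylow_card_eq R hcard' hndvd, pow_one]
  set N := Subgroup.normalizer ((P : Subgroup G) : Set G) with hN
  have hNcard : Nat.card N = p * d := by
    have h := CfsgLib.Perm.card_normalizer_mul_card_sylow P
    rw [hn, hcard, mul_comm (p + 1)] at h
    exact Nat.eq_of_mul_eq_mul_right (Nat.succ_pos p) h
  have hidx : N.index = p + 1 := by
    rw [hN]; exact P.card_eq_index_normalizer.symm.trans hn
  have hNtop : N ≠ ⊤ := fun e => by rw [e, Subgroup.index_top] at hidx; omega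
  obtain ⟨y', hy'⟩ := exists_prime_orderOf_dvd_card' (G := (P : Subgroup G)) p (by rw [hall])
  set y : G := (y' : G) with hydef
  have hy : orderOf y = p := by rw [hydef, Subgroup.orderOf_coe, hy']
  have hyP : y ∈ (P : Subgroup G) := y'.2
  have hzp : Subgroup.zpowers y = (P : Subgroup G) :=
    Subgroup.eq_of_le_of_card_ge (Subgroup.zpowers_le.2 hyP) (by rw [hall, Nat.card_zpowers, hy])
  have hCy : Nat.card (Subgroup.centralizer ({y} : Set G)) ∣ p := by
    have h := (CfsgLib.Perm.card_centralizer_dvd_of_small_index N hNtop (p := p) (by omega) hy).2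
    rwa [hidx, show p + 1 - p = 1 by omega, Nat.factorial_one, one_mul] at h
  -- coordinates
  have : Nontrivial (Sylow p G) := Finite.one_lt_card_iff_nontrivial.1 (by omega)
  obtain ⟨R0, hR0⟩ := exists_ne P
  have hypow : ∀ i : ℤ, y ^ i • P = P := fun i =>
    CfsgLib.Perm.smul_eq_of_mem (Subgroup.zpow_mem _ hyP i)
  let ι : ZMod p → Sylow p G := fun i => y ^ (i.val : ℤ) • R0
  have hypowp : y ^ (p : ℤ) = 1 := by rw [zpow_natCast, ← hy, pow_orderOf_eq_one]
  have hyval : ∀ i : ℤ, y ^ ((i : ZMod p).val : ℤ) = y ^ i := fun i => by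
    rw [ZMod.val_intCast, ← hy, zpow_mod_orderOf]
  have hιint : ∀ i : ℤ, ι (i : ZMod p) = y ^ i • R0 := fun i => by
    show y ^ ((i : ZMod p).val : ℤ) • R0 = _
    rw [hyval]
  have hιinj : Function.Injective ι := by
    intro i j h
    by_contra hne
    have h1 : y ^ ((j.val : ℤ) - i.val) • R0 = R0 := by
      have h' : y ^ (i.val : ℤ) • R0 = y ^ (j.val : ℤ) • R0 := h
      rw [sub_eq_neg_add, zpow_add, mul_smul, ← h', ← mul_smul, ← zpow_add, neg_add_cancel, zpow_zero,
        one_smul]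
    refine hR0 (CfsgLib.Perm.eq_of_smul_eq P (hall P) (Subgroup.zpow_mem _ hyP _) ?_ h1)
    intro h2
    rw [← orderOf_dvd_iff_zpow_eq_one, hy] at h2
    refine hne ?_
    have h3 := (ZMod.intCast_zmod_eq_zero_iff_dvd ((j.val : ℤ) - i.val) p).2 h2
    rw [Int.cast_sub, Int.cast_natCast, Int.cast_natCast, ZMod.natCast_zmod_val, ZMod.natCast_zmod_val,
      sub_eq_zero] at h3
    exact h3.symm
  have hιne : ∀ i, ι i ≠ P := fun i h => hR0 (MulAction.injective (y ^ (i.val : ℤ))
    (h.trans (hypow _).symm))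
  let Ψ : OnePoint (ZMod p) → Sylow p G := fun o => o.elim P ι
  have hΨinj : Function.Injective Ψ := by
    intro o o' h
    cases o with
    | infty =>
      cases o' with
      | infty => rfl
      | coe b => exact absurd h.symm (hιne b)
    | coe a =>
      cases o' with
      | infty => exact absurd h (hιne a)
      | coe b => exact congrArg _ (hιinj h)
  let e : OnePoint (ZMod p) ≃ Sylow p G := Equiv.ofBijective Ψ ((Nat.bijective_iff_injective_and_card Ψ).2
    ⟨hΨinj, by rw [hn, show Nat.card (OnePoint (ZMod p)) = Nat.card (Option (ZMod p)) from rfl,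
      Finite.card_option, Nat.card_zmod]⟩)
  let φ : G →* Equiv.Perm (OnePoint (ZMod p)) :=
    e.symm.permCongrHom.toMonoidHom.comp (MulAction.toPermHom G (Sylow p G))
  have hφ : ∀ g o, φ g o = e.symm (g • e o) := fun g o => rfl
  have hφeq : ∀ g o o', g • Ψ o = Ψ o' → φ g o = o' := fun g o o' h => by
    rw [hφ]; exact e.symm_apply_eq.2 h
  have hφsm : ∀ g o, g • Ψ o = Ψ (φ g o) := fun g o => by
    rw [hφ]; exact (e.apply_symm_apply _).symm
  have hφinj : Function.Injective φ := by
    rw [← MonoidHom.ker_eq_bot_iff]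
    refine (φ.normal_ker.eq_bot_or_eq_top).resolve_right fun htop => hNtop ?_
    rw [eq_top_iff]
    intro g _
    have hg : φ g = 1 := MonoidHom.mem_ker.1 (htop ▸ Subgroup.mem_top g)
    have := hφsm g ∞
    rw [hg] at this
    exact Sylow.smul_eq_iff_mem_normalizer.1 this
  -- translations
  have hT : ∀ (i : ℤ), φ (y ^ i) ∞ = ∞ ∧
      ∀ x : ZMod p, φ (y ^ i) x = ((x + i : ZMod p) : OnePoint (ZMod p)) := by
    intro i
    refine ⟨hφeq _ _ _ (hypow i), fun x => hφeq _ _ _ ?_⟩
    show y ^ i • y ^ (x.val : ℤ) • R0 = ι (x + i)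
    rw [← mul_smul, ← zpow_add, ← hιint]
    congr 1
    push_cast
    rw [ZMod.natCast_zmod_val, add_comm]
  -- the stabiliser of the two base points
  let B : Subgroup G := N ⊓ MulAction.stabilizer G R0
  have hN_fix : ∀ g ∈ N, g • P = P := fun g hg => Sylow.smul_eq_iff_mem_normalizer.2 hg
  have hBcard : Nat.card B = d := by
    have horb : MulAction.orbit N R0 = {R | R ≠ P} := by
      ext R
      constructor
      · rintro ⟨g, rfl⟩ h
        exact hR0 (MulAction.injective (g : G) ((show (g : G) • R0 = P from h).trans (hN_fix _ g.2).symm))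
      · intro hR
        obtain ⟨o, ho⟩ := e.surjective R
        cases o with
        | infty => exact absurd ho.symm hR
        | coe a =>
          exact ⟨⟨y ^ (a.val : ℤ), Subgroup.le_normalizer (Subgroup.zpow_mem _ hyP _)⟩, ho⟩
    have h1 := Subgroup.card_mul_index (MulAction.stabilizer N R0)
    rw [MulAction.index_stabilizer, horb, hNcard] at h1
    have h2 : ({R : Sylow p G | R ≠ P} : Set _).ncard = p := by
      rw [show ({R : Sylow p G | R ≠ P} : Set _) = {P}ᶜ from rfl, Set.ncard_compl, Set.ncard_singleton, hn]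
      omega
    rw [h2, mul_comm p] at h1
    rw [← Nat.eq_of_mul_eq_mul_right hpp.pos h1]
    exact Nat.card_congr
      { toFun := fun b => ⟨⟨b.1, b.2.1⟩, b.2.2⟩
        invFun := fun b => ⟨b.1.1, b.1.2, b.2⟩
        left_inv := fun b => rfl
        right_inv := fun b => rfl }
  have hconjy : ∀ b : B, ∃ s : ZMod p, s ≠ 0 ∧ (b : G) * y * (b : G)⁻¹ = y ^ (s.val : ℤ) := by
    intro b
    have hm : (b : G) * y * (b : G)⁻¹ ∈ (P : Subgroup G) := (Subgroup.mem_normalizer_iff.1 b.2.1 y).1 hyP
    obtain ⟨k, hk⟩ := hzp.ge hm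
    refine ⟨(k : ZMod p), fun h0 => ?_, by rw [hyval]; exact hk.symm⟩
    rw [ZMod.intCast_zmod_eq_zero_iff_dvd] at h0
    have hk' : y ^ k = (b : G) * y * (b : G)⁻¹ := hk
    rw [orderOf_dvd_iff_zpow_eq_one.1 (hy.symm ▸ h0)] at hk'
    have : y = 1 := conj_eq_one_iff.1 hk'.symm
    rw [this, orderOf_one] at hy
    omega
  choose mult hmult0 hmult using hconjy
  have hM : ∀ b : B, φ b ∞ = ∞ ∧
      ∀ x : ZMod p, φ b x = ((mult b * x : ZMod p) : OnePoint (ZMod p)) := by
    intro b
    refine ⟨hφeq _ _ _ (hN_fix _ b.2.1), fun x => hφeq _ _ _ ?_⟩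
    show (b : G) • y ^ (x.val : ℤ) • R0 = ι (mult b * x)
    have h1 : (b : G) * y ^ (x.val : ℤ) = y ^ ((mult b).val * x.val : ℤ) * b := by
      rw [zpow_mul, ← hmult b, conj_zpow]; group
    rw [← mul_smul, h1, mul_smul, show (b : G) • R0 = R0 from b.2.2, ← hιint]
    congr 1
    push_cast
    rw [ZMod.natCast_zmod_val, ZMod.natCast_zmod_val]
  have hmultinj : Function.Injective mult := by
    intro a b hab
    refine Subtype.ext (hφinj (Equiv.ext fun o => ?_))
    cases o with
    | infty => rw [(hM a).1, (hM b).1]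
    | coe x => rw [(hM a).2, (hM b).2, hab]
  -- the multipliers are the squares
  have hsqd : ∀ s : ZMod p, s ≠ 0 → (IsSquare s ↔ s ^ d = 1) := fun s hs => by
    rw [ZMod.euler_criterion p hs, show p / 2 = d by omega]
  have hmulthom : ∀ a b : B, mult (a * b) = mult a * mult b := by
    intro a b
    have h := (hM (a * b)).2 1
    rw [Subgroup.coe_mul, map_mul, Equiv.Perm.mul_apply, (hM b).2, (hM a).2, mul_one, mul_one] at h
    exact (OnePoint.coe_injective h).symm
  let μ : B →* (ZMod p)ˣ :=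
    { toFun := fun b => Units.mk0 (mult b) (hmult0 b)
      map_one' := by
        refine Units.ext ?_
        have h := hmulthom 1 1
        rw [one_mul] at h
        exact mul_left_cancel₀ (hmult0 1) (h.symm.trans (mul_one _).symm)
      map_mul' := fun a b => Units.ext (hmulthom a b) }
  have hμinj : Function.Injective μ := fun a b h => hmultinj (congrArg Units.val h)
  have hmult_sq : ∀ b : B, IsSquare (mult b) := by
    intro b
    rw [hsqd _ (hmult0 b)]
    have h : b ^ d = 1 := by rw [← hBcard]; exact pow_card_eq_one'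
    have := congrArg μ h
    rw [map_pow, map_one] at this
    exact congrArg Units.val this
  have hsq_mult : ∀ s : ZMod p, s ≠ 0 → IsSquare s → ∃ b, mult b = s := by
    intro s hs hsq
    have hr : μ.range = (powMonoidHom d : (ZMod p)ˣ →* (ZMod p)ˣ).ker := by
      refine Subgroup.eq_of_le_of_card_ge ?_ ?_
      · rintro _ ⟨b, rfl⟩
        rw [MonoidHom.mem_ker, powMonoidHom_apply, ← map_pow, ← hBcard, pow_card_eq_one', map_one]
      · rw [← Nat.card_congr (MonoidHom.ofInjective hμinj).toEquiv, hBcard]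
        rw [IsCyclic.card_powMonoidHom_ker, Nat.card_units, Nat.card_zmod]
        exact Nat.le_of_dvd hd0 (Nat.gcd_dvd_right _ _)
    have : Units.mk0 s hs ∈ μ.range := by
      rw [hr, MonoidHom.mem_ker, powMonoidHom_apply]
      exact Units.ext (by simpa using (hsqd s hs).1 hsq)
    obtain ⟨b, hb⟩ := this
    exact ⟨b, congrArg Units.val hb⟩
  -- affine maps
  have hfixinf : ∀ g : G, φ g ∞ = ∞ → ∃ (s b : ZMod p), s ≠ 0 ∧ IsSquare s ∧
      ∀ x : ZMod p, φ g x = ((s * x + b : ZMod p) : OnePoint (ZMod p)) := by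
    intro g hg
    have hgN : g ∈ N := by
      have := hφsm g ∞
      rw [hg] at this
      exact Sylow.smul_eq_iff_mem_normalizer.1 this
    obtain ⟨o, ho⟩ : ∃ o, φ g ((0 : ZMod p) : OnePoint (ZMod p)) = o := ⟨_, rfl⟩
    cases o with
    | infty => exact absurd ((φ g).injective (ho.trans hg.symm)) (OnePoint.coe_ne_infty _)
    | coe c =>
      have hR : g • R0 = ι c := by
        have h := hφsm g ((0 : ZMod p) : OnePoint (ZMod p))
        rw [ho] at h
        rwa [show Ψ ((0 : ZMod p) : OnePoint (ZMod p)) = R0 by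
          show y ^ ((0 : ZMod p).val : ℤ) • R0 = R0
          rw [ZMod.val_zero, Nat.cast_zero, zpow_zero, one_smul]] at h
      have hb : y ^ (-(c.val : ℤ)) * g ∈ B := by
        refine ⟨N.mul_mem (Subgroup.le_normalizer (Subgroup.zpow_mem _ hyP _)) hgN, ?_⟩
        show (y ^ (-(c.val : ℤ)) * g) • R0 = R0
        rw [mul_smul, hR, ← mul_smul, ← zpow_add,
          neg_add_cancel, zpow_zero, one_smul]
      refine ⟨mult ⟨_, hb⟩, c, hmult0 _, hmult_sq _, fun x => ?_⟩
      have h := (hM ⟨_, hb⟩).2 x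
      have h2 : φ g = φ (y ^ (c.val : ℤ)) * φ (y ^ (-(c.val : ℤ)) * g) := by
        rw [← map_mul, ← mul_assoc, ← zpow_add, add_neg_cancel, zpow_zero, one_mul]
      rw [h2, Equiv.Perm.mul_apply, h, (hT _).2, Int.cast_natCast, ZMod.natCast_zmod_val]
  -- the swap
  obtain ⟨g₀, hg₀⟩ := MulAction.exists_smul_eq G P R0
  obtain ⟨o, ho⟩ := e.surjective (g₀⁻¹ • P)
  have hoinf : o ≠ ∞ := by
    rintro rfl
    have h : g₀⁻¹ • P = P := ho.symm
    rw [inv_smul_eq_iff, hg₀] at h
    exact hR0 h.symm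
  obtain ⟨j, rfl⟩ := OnePoint.ne_infty_iff_exists.1 hoinf
  set w₀ : G := g₀ * y ^ (j.val : ℤ) with hw₀
  have hR0Ψ : Ψ ((0 : ZMod p) : OnePoint (ZMod p)) = R0 := by
    show y ^ ((0 : ZMod p).val : ℤ) • R0 = R0
    rw [ZMod.val_zero, Nat.cast_zero, zpow_zero, one_smul]
  have hw₀inf : φ w₀ ∞ = ((0 : ZMod p) : OnePoint (ZMod p)) := hφeq _ _ _ (by
    rw [hR0Ψ]
    show (g₀ * y ^ (j.val : ℤ)) • P = R0
    rw [mul_smul, hypow, hg₀])
  have hw₀0 : φ w₀ ((0 : ZMod p) : OnePoint (ZMod p)) = ∞ := hφeq _ _ _ (by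
    rw [hR0Ψ]
    show (g₀ * y ^ (j.val : ℤ)) • R0 = P
    rw [mul_smul]
    have h : y ^ (j.val : ℤ) • R0 = g₀⁻¹ • P := ho
    rw [h, smul_inv_smul])
  -- normalise
  obtain ⟨a₀, ha₀⟩ : ∃ a : ZMod p, φ w₀ ((1 : ZMod p) : OnePoint (ZMod p)) = a := by
    obtain ⟨o, ho⟩ : ∃ o, φ w₀ ((1 : ZMod p) : OnePoint (ZMod p)) = o := ⟨_, rfl⟩
    cases o with
    | infty => exact absurd ((φ w₀).injective (ho.trans hw₀0.symm)) (fun e =>
        one_ne_zero (OnePoint.coe_injective e))
    | coe c => exact ⟨c, ho⟩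
  have ha₀0 : a₀ ≠ 0 := fun e => by
    rw [e] at ha₀
    exact OnePoint.coe_ne_infty _ ((φ w₀).injective (ha₀.trans hw₀inf.symm))
  have hνz : (ν : ZMod p) ≠ 0 := fun e => by
    rw [ZMod.natCast_eq_zero_iff] at e
    exact hν0 (Nat.mod_eq_zero_of_dvd e)
  have hνsq : ¬ IsSquare (ν : ZMod p) := fun e => by
    rw [hsqd _ hνz] at e
    refine hν ?_
    have := congrArg ZMod.val e
    rwa [← Nat.cast_pow, ZMod.val_natCast, ZMod.val_one] at this
  have hdich : ∀ x : ZMod p, x ≠ 0 → IsSquare x ∨ IsSquare (x / (ν : ZMod p)) := by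
    intro x hx
    by_cases h : IsSquare x
    · exact Or.inl h
    · right
      rw [hsqd _ hx] at h
      rw [hsqd _ hνz] at hνsq
      have hpm : ∀ z : ZMod p, z ≠ 0 → z ^ d = 1 ∨ z ^ d = -1 := fun z hz => by
        have h1 := ZMod.pow_card_sub_one_eq_one hz
        rw [show p - 1 = d * 2 by omega, pow_mul] at h1
        exact sq_eq_one_iff.1 h1
      rw [hsqd _ (div_ne_zero hx hνz), div_pow, (hpm x hx).resolve_left h, (hpm _ hνz).resolve_left hνsq]
      simp
  obtain ⟨α, hα, s₀, hs₀⟩ : ∃ α, (α = 1 ∨ α = ν) ∧ ∃ b : B, mult b * a₀ = (α : ZMod p) := by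
    rcases hdich a₀ ha₀0 with h | h
    · obtain ⟨b, hb⟩ := hsq_mult a₀⁻¹ (inv_ne_zero ha₀0) (by
        obtain ⟨t, rfl⟩ := h; exact ⟨t⁻¹, by rw [mul_inv]⟩)
      exact ⟨1, Or.inl rfl, b, by rw [hb, inv_mul_cancel₀ ha₀0, Nat.cast_one]⟩
    · obtain ⟨b, hb⟩ := hsq_mult ((ν : ZMod p) / a₀) (div_ne_zero hνz ha₀0) (by
        obtain ⟨t, ht⟩ := h
        exact ⟨t⁻¹, by rw [← mul_inv, ← ht, inv_div]⟩)
      exact ⟨ν, Or.inr rfl, b, by rw [hb, div_mul_cancel₀ _ ha₀0]⟩
  set w : G := (s₀ : G) * w₀ with hw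
  have hwinf : φ w ∞ = ((0 : ZMod p) : OnePoint (ZMod p)) := by
    rw [hw, map_mul, Equiv.Perm.mul_apply, hw₀inf, (hM s₀).2, mul_zero]
  have hw0 : φ w ((0 : ZMod p) : OnePoint (ZMod p)) = ∞ := by
    rw [hw, map_mul, Equiv.Perm.mul_apply, hw₀0, (hM s₀).1]
  have hw1 : φ w ((1 : ZMod p) : OnePoint (ZMod p)) = ((α : ZMod p) : OnePoint (ZMod p)) := by
    rw [hw, map_mul, Equiv.Perm.mul_apply, ha₀, (hM s₀).2, hs₀]
  -- the shape of the swap
  have hBcyc : IsCyclic B := isCyclic_of_injective μ hμinj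
  obtain ⟨γ, hγ⟩ := hBcyc.exists_generator
  obtain ⟨γ', hγ'⟩ : ∃ γ' : B, (γ' : G) = w * γ * w⁻¹ := by
    refine ⟨⟨w * γ * w⁻¹, ?_, ?_⟩, rfl⟩
    · refine Sylow.smul_eq_iff_mem_normalizer.1 ?_
      have h : φ (w * γ * w⁻¹) ∞ = ∞ := by
        rw [map_mul, map_mul, map_inv, Equiv.Perm.mul_apply, Equiv.Perm.mul_apply,
          Equiv.Perm.inv_eq_iff_eq.2 hw0.symm, (hM γ).2, mul_zero, hw0]
      have h2 := hφsm (w * γ * w⁻¹) ∞
      rwa [h] at h2
    · show (w * γ * w⁻¹) • R0 = R0
      have h : φ (w * γ * w⁻¹) ((0 : ZMod p) : OnePoint (ZMod p)) = ((0 : ZMod p) : OnePoint (ZMod p)) := by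
        rw [map_mul, map_mul, map_inv, Equiv.Perm.mul_apply, Equiv.Perm.mul_apply,
          Equiv.Perm.inv_eq_iff_eq.2 hwinf.symm, (hM γ).1, hwinf]
      have h2 := hφsm (w * γ * w⁻¹) ((0 : ZMod p) : OnePoint (ZMod p))
      rw [h, hR0Ψ] at h2
      exact h2
  obtain ⟨k, hk⟩ : γ' ∈ Submonoid.powers γ := mem_powers_iff_mem_zpowers.2 (hγ γ')
  set ee : ℕ := k % d with hee
  have hγd : γ ^ d = 1 := by rw [← hBcard]; exact pow_card_eq_one'
  have hγ'e : mult γ' = mult γ ^ ee := by
    have h : γ' = γ ^ ee := by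
      rw [← hk, hee]
      show γ ^ k = γ ^ (k % d)
      nth_rewrite 1 [← Nat.mod_add_div k d]
      rw [pow_add, pow_mul, hγd, one_pow, mul_one]
    have := congrArg μ h
    rw [map_pow] at this
    exact congrArg Units.val this
  have hwγ : ∀ (i : ℕ) (x c : ZMod p), φ w x = c →
      φ w ((mult γ ^ i * x : ZMod p) : OnePoint (ZMod p)) = (((mult γ ^ i) ^ ee * c : ZMod p) : OnePoint (ZMod p)) := by
    intro i
    induction i with
    | zero => intro x c hc; simpa using hc
    | succ i ih =>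
      intro x c hc
      rw [pow_succ', mul_assoc, ← (hM γ).2, ← Equiv.Perm.mul_apply, ← map_mul,
        show w * γ = (γ' : G) * w by rw [hγ']; group, map_mul, Equiv.Perm.mul_apply, ih x c hc,
        (hM γ').2, hγ'e]
      congr 1
      ring
  have hsqpow : ∀ x : ZMod p, x ≠ 0 → IsSquare x → ∃ i : ℕ, x = mult γ ^ i := by
    intro x hx hs
    obtain ⟨b, hb⟩ := hsq_mult x hx hs
    obtain ⟨i, hi⟩ : b ∈ Submonoid.powers γ := mem_powers_iff_mem_zpowers.2 (hγ b)
    refine ⟨i, ?_⟩
    have := congrArg μ hi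
    rw [map_pow] at this
    rw [← hb]
    exact (congrArg Units.val this).symm
  obtain ⟨c₁, hc₁⟩ : ∃ c : ZMod p, φ w ((ν : ZMod p) : OnePoint (ZMod p)) = c := by
    obtain ⟨o, ho⟩ : ∃ o, φ w ((ν : ZMod p) : OnePoint (ZMod p)) = o := ⟨_, rfl⟩
    cases o with
    | infty => exact absurd ((φ w).injective (ho.trans hw0.symm)) (fun e =>
        hνz (OnePoint.coe_injective e))
    | coe c => exact ⟨c, ho⟩
  have hc₁0 : c₁ ≠ 0 := fun e => by
    rw [e] at hc₁
    exact OnePoint.coe_ne_infty _ ((φ w).injective (hc₁.trans hwinf.symm))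
  set β : ZMod p := c₁ / (ν : ZMod p) ^ ee with hβ
  have hshape : ∀ x : ZMod p, x ≠ 0 → φ w x =
      (((if x ^ d = 1 then (α : ZMod p) else β) * x ^ ee : ZMod p) : OnePoint (ZMod p)) := by
    intro x hx
    by_cases hs : IsSquare x
    · rw [if_pos ((hsqd x hx).1 hs)]
      obtain ⟨i, hi⟩ := hsqpow x hx hs
      have := hwγ i 1 α hw1
      rw [mul_one] at this
      rw [hi, this, mul_comm]
    · rw [if_neg (fun h => hs ((hsqd x hx).2 h))]
      obtain ⟨i, hi⟩ := hsqpow (x / ν) (div_ne_zero hx hνz) ((hdich x hx).resolve_left hs)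
      rw [div_eq_iff hνz] at hi
      rw [hi, hwγ i _ c₁ hc₁, hβ]
      congr 1
      field_simp
      ring
  -- transfer to numbers
  have hαval : ∀ (x : ℕ), x < p + 1 → ∃ o : OnePoint (ZMod p), enc o = x := by
    intro x hx
    by_cases h : x = p
    · exact ⟨∞, h.symm⟩
    · exact ⟨((x : ZMod p) : OnePoint (ZMod p)), ZMod.val_cast_of_lt (by omega)⟩
  have hencw : ∀ o, enc (φ w o) = swapFun p d ee α β.val (enc o) := by
    intro o
    cases o with
    | infty => rw [hwinf]; simp [enc, swapFun]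
    | coe x =>
      show _ = swapFun p d ee α β.val x.val
      rw [swapFun, if_neg (ZMod.val_lt x).ne]
      by_cases hx : x = 0
      · subst hx; rw [hw0, ZMod.val_zero, if_pos rfl]; rfl
      rw [if_neg (fun e => hx ((ZMod.val_eq_zero x).1 e)), hshape x hx]
      have hxd : x ^ d = 1 ↔ x.val ^ d % p = 1 := by
        rw [← ZMod.val_natCast, Nat.cast_pow, ZMod.natCast_zmod_val, ← (ZMod.val_injective p).eq_iff,
          ZMod.val_one]
      show ZMod.val _ = _
      by_cases hxs : x ^ d = 1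
      · rw [if_pos hxs, if_pos (hxd.1 hxs), ← ZMod.val_natCast, Nat.cast_mul, Nat.cast_pow,
          ZMod.natCast_zmod_val]
      · rw [if_neg hxs, if_neg (fun e => hxs (hxd.2 e)), ← ZMod.val_natCast, Nat.cast_mul, Nat.cast_pow,
          ZMod.natCast_zmod_val, ZMod.natCast_zmod_val]
  have henct : ∀ (a : ZMod p) (o), enc (φ (y ^ (a.val : ℤ)) o) = addFun p a.val (enc o) := by
    intro a o
    cases o with
    | infty => rw [(hT _).1]; simp [enc, addFun]
    | coe x =>
      rw [(hT _).2, Int.cast_natCast, ZMod.natCast_zmod_val]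
      show _ = addFun p a.val x.val
      rw [addFun, if_neg (ZMod.val_lt x).ne]
      show ZMod.val _ = _
      rw [ZMod.val_add, add_comm]
  have hbru : bruhatCheck p d ee α β.val = true := by
    rw [bruhatCheck, List.all_eq_true]
    intro k hkm
    rw [List.mem_range] at hkm
    rw [Bool.or_eq_true, beq_iff_eq]
    by_cases hk0 : k = 0
    · exact Or.inl hk0
    right
    set kz : ZMod p := (k : ZMod p) with hkz
    have hkv : kz.val = k := ZMod.val_cast_of_lt hkm
    have hkzne : kz ≠ 0 := fun e => hk0 (by rw [← hkv, e, ZMod.val_zero])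
    obtain ⟨a, ha⟩ : ∃ a : ZMod p, φ w kz = a := ⟨_, hshape kz hkzne⟩
    have hav : swapFun p d ee α β.val k = a.val := by
      rw [← hkv]; have := hencw kz; rw [ha] at this; exact this.symm
    set g : G := w⁻¹ * y ^ (-(a.val : ℤ)) * w * y ^ (kz.val : ℤ) * w with hg
    have hTneg : ∀ x : ZMod p, φ (y ^ (-(a.val : ℤ))) x = ((x - a : ZMod p) : OnePoint (ZMod p)) :=
      fun x => by rw [(hT _).2, Int.cast_neg, Int.cast_natCast, ZMod.natCast_zmod_val, sub_eq_add_neg]
    have hginf : φ g ∞ = ∞ := by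
      simp only [hg, map_mul, map_inv, Equiv.Perm.mul_apply, hwinf, (hT _).2, zero_add,
        Int.cast_natCast, Int.cast_neg, ZMod.natCast_zmod_val, ha, add_neg_cancel]
      exact Equiv.Perm.inv_eq_iff_eq.2 hwinf.symm
    obtain ⟨s, b, hs0, hs, hgaff⟩ := hfixinf g hginf
    have hb : φ w b = ((-a : ZMod p) : OnePoint (ZMod p)) := by
      have h := hgaff 0
      rw [mul_zero, zero_add] at h
      simp only [hg, map_mul, map_inv, Equiv.Perm.mul_apply, hw0, (hT _).1, hwinf, hTneg, zero_sub,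
        Equiv.Perm.inv_eq_iff_eq] at h
      exact h.symm
    rw [List.any_eq_true]
    refine ⟨b.val, List.mem_range.2 (ZMod.val_lt b), ?_⟩
    rw [Bool.and_eq_true, beq_iff_eq, List.any_eq_true]
    refine ⟨?_, s.val, List.mem_range.2 (ZMod.val_lt s), ?_⟩
    · have := hencw b
      rw [hb] at this
      rw [← show enc (((-a : ZMod p)) : OnePoint (ZMod p)) = swapFun p d ee α β.val b.val from this, hav]
      show ZMod.val (-a) = _
      exact ZMod.neg_val' a
    rw [Bool.and_eq_true, beq_iff_eq, List.all_eq_true]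
    refine ⟨?_, fun x hx => ?_⟩
    · rw [← ZMod.val_natCast, Nat.cast_pow, ZMod.natCast_zmod_val, (hsqd s hs0).1 hs, ZMod.val_one]
    rw [List.mem_range] at hx
    rw [beq_iff_eq, hav]
    obtain ⟨o, rfl⟩ := hαval x hx
    have hcomp : φ (y ^ (a.val : ℤ)) (φ w (φ g o)) = φ w (φ (y ^ (kz.val : ℤ)) (φ w o)) := by
      rw [← Equiv.Perm.mul_apply, ← Equiv.Perm.mul_apply, ← map_mul, ← map_mul, ← Equiv.Perm.mul_apply,
        ← Equiv.Perm.mul_apply, ← map_mul, ← map_mul, hg]
      congr 2
      group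
    have hencg : enc (φ g o) = if enc o = p then p else (s.val * enc o + b.val) % p := by
      cases o with
      | infty => rw [hginf]; simp [enc]
      | coe x =>
        rw [hgaff]
        show ZMod.val _ = if x.val = p then p else (s.val * x.val + b.val) % p
        rw [if_neg (ZMod.val_lt x).ne, ← ZMod.val_natCast, Nat.cast_add, Nat.cast_mul,
          ZMod.natCast_zmod_val, ZMod.natCast_zmod_val, ZMod.natCast_zmod_val]
    rw [← hencg, ← hencw (φ g o), ← henct, hcomp, hencw, henct, hkv, hencw]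
  -- conclude that the swap is a Moebius map
  have hgood' := hgood
  rw [good, List.all_eq_true] at hgood'
  have h1 := hgood' ee (List.mem_range.2 (Nat.mod_lt k hd0))
  rw [List.all_eq_true] at h1
  have h2 := h1 α (by rcases hα with rfl | rfl <;> simp)
  rw [List.all_eq_true] at h2
  have hβ0 : β ≠ 0 := div_ne_zero hc₁0 (pow_ne_zero _ hνz)
  have h3 := h2 β.val (List.mem_range.2 (ZMod.val_lt β))
  rw [hbru, Bool.not_true, Bool.or_false, Bool.or_eq_true, beq_iff_eq] at h3
  have h4 := h3.resolve_left (fun e => hβ0 ((ZMod.val_eq_zero β).1 e))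
  rw [Bool.and_eq_true, beq_iff_eq, List.all_eq_true] at h4
  obtain ⟨hneg, hmul⟩ := h4
  have hαp : (α : ZMod p) ≠ 0 := by
    rcases hα with rfl | rfl
    · rw [Nat.cast_one]; exact one_ne_zero
    · exact hνz
  have hwM : InPSL (φ w) := by
    refine inPSL_inversion (c := (α : ZMod p)) ?_ hαp hwinf hw0 fun x hx => ?_
    · rw [hsqd _ (neg_ne_zero.2 hαp)]
      have hle : α ≤ p := by
        by_contra hlt
        rw [Nat.sub_eq_zero_of_le (by omega), zero_pow hd0.ne', Nat.zero_mod] at hneg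
        omega
      have h5 : (((p - α) ^ d % p : ℕ) : ZMod p) = 1 := by rw [hneg, Nat.cast_one]
      rwa [ZMod.natCast_mod, Nat.cast_pow, Nat.cast_sub hle, ZMod.natCast_self, zero_sub] at h5
    · have h5 := hmul x.val (List.mem_range.2 (ZMod.val_lt x))
      rw [Bool.or_eq_true, beq_iff_eq, beq_iff_eq] at h5
      have h6 := h5.resolve_left (fun e => hx ((ZMod.val_eq_zero x).1 e))
      obtain ⟨c, hc⟩ : ∃ c : ZMod p, φ w x = c := ⟨_, hshape x hx⟩
      have h7 := hencw (x : OnePoint (ZMod p))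
      rw [hc] at h7
      rw [← show ZMod.val c = swapFun p d ee α β.val x.val from h7] at h6
      rw [hc]
      congr 1
      rw [eq_div_iff hx]
      have h8 := congrArg (fun n : ℕ => (n : ZMod p)) h6
      simp only [ZMod.natCast_mod, Nat.cast_mul, ZMod.natCast_zmod_val] at h8
      exact h8
  have hTM : ∀ a : ZMod p, InPSL (φ (y ^ (a.val : ℤ))) := fun a =>
    inPSL_affine (s := 1) (b := a) IsSquare.one one_ne_zero (hT _).1 fun x => by
      rw [(hT _).2, Int.cast_natCast, ZMod.natCast_zmod_val, one_mul]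
  have hall' : ∀ g : G, InPSL (φ g) := by
    intro g
    have haff : ∀ g' : G, φ g' ∞ = ∞ → InPSL (φ g') := fun g' hg' => by
      obtain ⟨s, b, hs0, hs, h⟩ := hfixinf g' hg'
      exact inPSL_affine hs hs0 hg' h
    obtain ⟨o, ho⟩ : ∃ o, φ g ∞ = o := ⟨_, rfl⟩
    cases o with
    | infty => exact haff g ho
    | coe a =>
      set g' : G := w⁻¹ * (y ^ (a.val : ℤ))⁻¹ * g with hg'
      have h1 : φ g' ∞ = ∞ := by
        rw [hg', map_mul, map_mul, map_inv, map_inv, Equiv.Perm.mul_apply, Equiv.Perm.mul_apply, ho]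
        rw [Equiv.Perm.inv_eq_iff_eq.2 (show ((a : OnePoint (ZMod p))) =
          φ (y ^ (a.val : ℤ)) ((0 : ZMod p) : OnePoint (ZMod p)) by
            rw [(hT _).2, Int.cast_natCast, ZMod.natCast_zmod_val, zero_add])]
        exact Equiv.Perm.inv_eq_iff_eq.2 hwinf.symm
      have h2 : φ g = φ (y ^ (a.val : ℤ)) * φ w * φ g' := by
        rw [← map_mul, ← map_mul, hg']; congr 1; group
      rw [InPSL, h2]
      exact Subgroup.mul_mem _ (Subgroup.mul_mem _ (hTM a) hwM) (haff g' h1)
  -- compare orders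
  let L := Matrix.ProjectiveSpecialLinearGroup (Fin 2) (ZMod p)
  have hker : Subgroup.center SL(2, ZMod p) ≤ (moebius (ZMod p)).ker := by
    intro A hA
    obtain ⟨r, hr, hA'⟩ := Matrix.SpecialLinearGroup.mem_center_iff.mp hA
    have e00 : A 0 0 = r := by rw [← hA']; simp
    have e01 : A 0 1 = 0 := by rw [← hA']; simp
    have e10 : A 1 0 = 0 := by rw [← hA']; simp
    have e11 : A 1 1 = r := by rw [← hA']; simp
    have hr0 : r ≠ 0 := fun e => by simp [e] at hr
    rw [MonoidHom.mem_ker]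
    refine Equiv.ext fun o => ?_
    cases o with
    | infty => rw [moebius_infty, e10, if_pos rfl]; rfl
    | coe a =>
      rw [moebius_some, e00, e01, e10, e11]
      simp [hr0]
  let ψ : L →* Equiv.Perm (OnePoint (ZMod p)) := QuotientGroup.lift _ (moebius (ZMod p)) hker
  have hψrange : φ.range ≤ ψ.range := by
    rintro _ ⟨g, rfl⟩
    obtain ⟨A, hA⟩ := hall' g
    exact ⟨(QuotientGroup.mk A : L), hA⟩
  have hLcard : Nat.card L = Nat.card G := by
    have h := CfsgLib.Classical.Two.card_PSL_two (F := ZMod p)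
    rw [ZMod.card, show Nat.gcd 2 (p - 1) = 2 from Nat.gcd_eq_left ⟨d, by omega⟩] at h
    have h2 : p ^ 2 - 1 = (p + 1) * (p - 1) := by rw [← Nat.sq_sub_sq, one_pow]
    rw [h2, show p - 1 = 2 * d by omega, show p * ((p + 1) * (2 * d)) = 2 * ((p + 1) * (p * d)) by ring,
      ← hcard] at h
    exact Nat.eq_of_mul_eq_mul_left two_pos h
  let eG := MonoidHom.ofInjective hφinj
  have : Finite L := Nat.finite_of_card_ne_zero (by rw [hLcard]; exact Nat.card_pos.ne')
  have h1 : Nat.card φ.range = Nat.card G := (Nat.card_congr eG.toEquiv).symm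
  have h2 : Nat.card ψ.range ≤ Nat.card L :=
    Nat.card_le_card_of_surjective ψ.rangeRestrict ψ.rangeRestrict_surjective
  have hEq : φ.range = ψ.range := Subgroup.eq_of_le_of_card_ge hψrange (by omega)
  have hbij : Function.Bijective ψ.rangeRestrict := by
    refine (Nat.bijective_iff_surjective_and_card _).2 ⟨ψ.rangeRestrict_surjective, ?_⟩
    rw [← hEq, h1, hLcard]
  obtain ⟨e'⟩ := CfsgLib.Perm.nonempty_psl_congr (F := ZMod p) (K := F)
    (FiniteField.ringEquivOfCardEq (by rw [ZMod.card, hF]))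
  exact ⟨((eG.trans (MulEquiv.subgroupCongr hEq)).trans (MulEquiv.ofBijective _ hbij).symm).trans e'⟩

end CfsgLib.Perm.PrimeProjective
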