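/-
Soluble extremely primitive groups (Mann, Praeger, Seress): the point stabilizer is metacyclic.
-/
import Mathlib
import Cfsg.Agent.Lib.Core.MinNormal
import Cfsg.Agent.Lib.Core.FPF
import Cfsg.Agent.Lib.PGroups.IrredNormalizer

set_option autoImplicit false
set_option linter.all false

namespace CfsgLib.Perm.ExtremelyPrimitive

open MulAction
open scoped Pointwise

variable {G : Type*} [Group G] {Ω : Type*} [MulAction G Ω]

/-- An abelian minimal normal subgroup of a solvable primitive group, regular on the points, and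
irreducible under a point stabilizer. -/
theorem exists_regular_normal [Finite G] [FaithfulSMul G Ω] [Group.IsSolvable G] [Nontrivial G]
    (hprim : IsPreprimitive G Ω) (α : Ω) :
    ∃ (N : Subgroup G) (_ : N.Normal), N ≠ ⊥ ∧ IsMulCommutative N ∧
      (∃ r : ℕ, r.Prime ∧ IsPGroup r N ∧ ∀ x ∈ N, x ^ r = 1) ∧
      Function.Bijective (fun n : N => (n : G) • α) ∧
      (∀ M : Subgroup G, M ≤ N → (∀ h ∈ stabilizer G α, ∀ m ∈ M, h * m * h⁻¹ ∈ M) →
        M = ⊥ ∨ M = N) ∧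
      (∀ h ∈ stabilizer G α, (∀ n ∈ N, h * n = n * h) → h = 1) := by
  haveI := hprim
  obtain ⟨N, hNn, hNb, -, hmin⟩ := CfsgLib.Core.exists_minimal_normal_le' (⊤ : Subgroup G) top_ne_bot
  haveI := hNn
  obtain ⟨r, hr, hpg, hNc, hexp⟩ :=
    CfsgLib.Core.isPGroup_of_minimal_normal N inferInstance hNb hmin
  have hfix : fixedPoints N Ω ≠ .univ := by
    intro h
    refine hNb ((Subgroup.eq_bot_iff_forall _).2 fun n hn => FaithfulSMul.eq_of_smul_eq_smul (α := Ω)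
      fun ω => ?_)
    rw [one_smul]
    exact (Set.eq_univ_iff_forall.1 h ω) ⟨n, hn⟩
  haveI htr : IsPretransitive N Ω := IsQuasiPreprimitive.isPretransitive_of_normal hfix
  have hreg : ∀ n ∈ N, n • α = α → n = 1 := by
    intro n hn e
    refine FaithfulSMul.eq_of_smul_eq_smul (α := Ω) fun ω => ?_
    obtain ⟨m, rfl⟩ := exists_smul_eq N α ω
    rw [one_smul, Subgroup.smul_def, smul_smul,
      show n * (m : G) = m * n from congrArg Subtype.val (hNc.is_comm.comm ⟨n, hn⟩ m),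
      mul_smul, e]
  have hbij : Function.Bijective (fun n : N => (n : G) • α) := by
    refine ⟨fun a b e => ?_, fun ω => exists_smul_eq N α ω⟩
    simp only at e
    have := hreg _ (mul_mem (inv_mem b.2) a.2) (by rw [mul_smul, e, inv_smul_smul])
    exact (Subtype.ext (inv_mul_eq_one.1 this)).symm
  have hdec : ∀ g : G, ∃ n ∈ N, ∃ h ∈ stabilizer G α, g = n * h := by
    intro g
    obtain ⟨n, hn⟩ := exists_smul_eq N α (g • α)
    exact ⟨n, n.2, (n : G)⁻¹ * g, mem_stabilizer_iff.2 (by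
      rw [mul_smul, ← hn, Subgroup.smul_def, inv_smul_smul]), by group⟩
  refine ⟨N, hNn, hNb, hNc, ⟨r, hr, hpg, hexp⟩, hbij, ?_, ?_⟩
  · intro M hMN hM
    refine hmin M ⟨fun m hm g => ?_⟩ hMN
    obtain ⟨n, hn, h, hh, rfl⟩ := hdec g
    have h1 := hM h hh m hm
    have h2 : n * (h * m * h⁻¹) * n⁻¹ = h * m * h⁻¹ := by
      rw [show n * (h * m * h⁻¹) = (h * m * h⁻¹) * n from
        congrArg Subtype.val (hNc.is_comm.comm ⟨n, hn⟩ ⟨_, hMN h1⟩), mul_inv_cancel_right]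
    rw [show n * h * m * (n * h)⁻¹ = n * (h * m * h⁻¹) * n⁻¹ by group, h2]
    exact h1
  · intro h hh hc
    refine FaithfulSMul.eq_of_smul_eq_smul (α := Ω) fun ω => ?_
    obtain ⟨m, rfl⟩ := exists_smul_eq N α ω
    rw [one_smul, Subgroup.smul_def, smul_smul, hc m m.2, mul_smul, mem_stabilizer_iff.1 hh]

/-- In an extremely primitive group a normal subgroup of the point stabilizer moving a point is
transitive on the orbit of that point. -/
theorem exists_smul_eq_of_normal {α ω : Ω}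
    (hep : IsPreprimitive (stabilizer G α) (orbit (stabilizer G α) ω))
    (T : Subgroup (stabilizer G α)) [T.Normal] (hT : ∃ t ∈ T, t • ω ≠ ω)
    {β : Ω} (hβ : β ∈ orbit (stabilizer G α) ω) : ∃ t ∈ T, t • ω = β := by
  haveI := hep
  obtain ⟨t, ht, hne⟩ := hT
  have hfix : fixedPoints T (orbit (stabilizer G α) ω) ≠ .univ := by
    intro h
    have := (Set.eq_univ_iff_forall.1 h ⟨ω, mem_orbit_self ω⟩) ⟨t, ht⟩
    exact hne (congrArg Subtype.val this)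
  haveI : IsPretransitive T (orbit (stabilizer G α) ω) :=
    IsQuasiPreprimitive.isPretransitive_of_normal hfix
  obtain ⟨s, hs⟩ := exists_smul_eq T (⟨ω, mem_orbit_self ω⟩ : orbit (stabilizer G α) ω) ⟨β, hβ⟩
  exact ⟨s, s.2, congrArg Subtype.val hs⟩

theorem exists_commute_of_cover {N T : Subgroup G} (hNc : IsMulCommutative N)
    (hTN : T ≤ Subgroup.normalizer (N : Set G)) (hNb : N ≠ ⊥)
    (hfpf : ∀ a ∈ T, a ≠ 1 → N ⊓ Subgroup.centralizer {a} = ⊥)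
    (hTc : IsMulCommutative T) {c : G} (hcT : ∀ t ∈ T, c * t = t * c)
    (hc : ∀ n ∈ N, ∃ t ∈ T, c * n * c⁻¹ = t * n * t⁻¹) :
    ∃ t ∈ T, ∀ n ∈ N, c * n * c⁻¹ = t * n * t⁻¹ := by
  obtain ⟨⟨v, hv⟩, hv1⟩ := Subgroup.ne_bot_iff_exists_ne_one.mp hNb
  replace hv1 : v ≠ 1 := fun h => hv1 (Subtype.ext h)
  obtain ⟨t, ht, htv⟩ := hc v hv
  refine ⟨t, ht, fun w hw => ?_⟩
  have hcomm : ∀ {a b : G}, a ∈ N → b ∈ N → a * b = b * a := fun ha hb =>
    congrArg Subtype.val (hNc.is_comm.comm ⟨_, ha⟩ ⟨_, hb⟩)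
  have hTcomm : ∀ {a b : G}, a ∈ T → b ∈ T → a * b = b * a := fun ha hb =>
    congrArg Subtype.val (hTc.is_comm.comm ⟨_, ha⟩ ⟨_, hb⟩)
  have hN : ∀ {a x : G}, a ∈ T → x ∈ N → a * x * a⁻¹ ∈ N := fun ha hx =>
    (Subgroup.mem_normalizer_iff.1 (hTN ha) _).1 hx
  have hone : ∀ {a x : G}, a ∈ T → x ∈ N → x ≠ 1 → a * x * a⁻¹ = x → a = 1 := by
    intro a x ha hx hx1 e
    by_contra ha1
    exact hx1 (CfsgLib.Core.FPF.eq_one_of_fixed hfpf ha ha1 hx (mul_inv_eq_iff_eq_mul.1 e))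
  obtain ⟨t', ht', htw⟩ := hc w hw
  by_cases hw1 : w = 1
  · subst hw1; simp
  by_cases htt : t = t'
  · rw [htt]; exact htw
  exfalso
  obtain ⟨s, hs, hsvw⟩ := hc (v * w) (mul_mem hv hw)
  -- the two components are stable under T
  have hx : ∀ {b : G}, b ∈ T → c * (b * v * b⁻¹) * c⁻¹ = t * (b * v * b⁻¹) * t⁻¹ := by
    intro b hb
    calc c * (b * v * b⁻¹) * c⁻¹ = (c * b) * v * (c * b)⁻¹ := by group
      _ = (b * c) * v * (b * c)⁻¹ := by rw [hcT b hb]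
      _ = b * (c * v * c⁻¹) * b⁻¹ := by group
      _ = (b * t) * v * (b * t)⁻¹ := by rw [htv]; group
      _ = (t * b) * v * (t * b)⁻¹ := by rw [hTcomm hb ht]
      _ = t * (b * v * b⁻¹) * t⁻¹ := by group
  have hy : ∀ {b : G}, b ∈ T → c * (b * w * b⁻¹) * c⁻¹ = t' * (b * w * b⁻¹) * t'⁻¹ := by
    intro b hb
    calc c * (b * w * b⁻¹) * c⁻¹ = (c * b) * w * (c * b)⁻¹ := by group
      _ = (b * c) * w * (b * c)⁻¹ := by rw [hcT b hb]
      _ = b * (c * w * c⁻¹) * b⁻¹ := by group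
      _ = (b * t') * w * (b * t')⁻¹ := by rw [htw]; group
      _ = (t' * b) * w * (t' * b)⁻¹ := by rw [hTcomm hb ht']
      _ = t' * (b * w * b⁻¹) * t'⁻¹ := by group
  set X := (s * v * s⁻¹)⁻¹ * (t * v * t⁻¹) with hX
  have e : (t * v * t⁻¹) * (t' * w * t'⁻¹) = (s * v * s⁻¹) * (s * w * s⁻¹) := by
    rw [← htv, ← htw, show (c * v * c⁻¹) * (c * w * c⁻¹) = c * (v * w) * c⁻¹ by group, hsvw]
    group
  have eY : X = (s * w * s⁻¹) * (t' * w * t'⁻¹)⁻¹ := by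
    rw [hX, eq_mul_inv_iff_mul_eq, mul_assoc, e, inv_mul_cancel_left]
  have hXN : X ∈ N := mul_mem (inv_mem (hN hs hv)) (hN ht hv)
  have hX1 : c * X * c⁻¹ = t * X * t⁻¹ := by
    calc c * X * c⁻¹ = (c * (s * v * s⁻¹) * c⁻¹)⁻¹ * (c * (t * v * t⁻¹) * c⁻¹) := by rw [hX]; group
      _ = (t * (s * v * s⁻¹) * t⁻¹)⁻¹ * (t * (t * v * t⁻¹) * t⁻¹) := by rw [hx hs, hx ht]
      _ = t * X * t⁻¹ := by rw [hX]; group
  have hX2 : c * X * c⁻¹ = t' * X * t'⁻¹ := by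
    rw [eY]
    calc c * ((s * w * s⁻¹) * (t' * w * t'⁻¹)⁻¹) * c⁻¹
        = (c * (s * w * s⁻¹) * c⁻¹) * (c * (t' * w * t'⁻¹) * c⁻¹)⁻¹ := by group
      _ = (t' * (s * w * s⁻¹) * t'⁻¹) * (t' * (t' * w * t'⁻¹) * t'⁻¹)⁻¹ := by rw [hy hs, hy ht']
      _ = t' * ((s * w * s⁻¹) * (t' * w * t'⁻¹)⁻¹) * t'⁻¹ := by group
  have hX0 : X = 1 := by
    by_contra hX0
    refine htt (inv_mul_eq_one.1 (hone (mul_mem (inv_mem ht') ht) hXN hX0 ?_)).symm
    calc t'⁻¹ * t * X * (t'⁻¹ * t)⁻¹ = t'⁻¹ * (t * X * t⁻¹) * t' := by group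
      _ = t'⁻¹ * (t' * X * t'⁻¹) * t' := by rw [← hX1, hX2]
      _ = X := by group
  have h1 : t = s := by
    refine (inv_mul_eq_one.1 (hone (mul_mem (inv_mem hs) ht) hv hv1 ?_)).symm
    have e1 : t * v * t⁻¹ = s * v * s⁻¹ := (inv_mul_eq_one.1 hX0).symm
    calc s⁻¹ * t * v * (s⁻¹ * t)⁻¹ = s⁻¹ * (t * v * t⁻¹) * s := by group
      _ = v := by rw [e1]; group
  have h2 : t' = s := by
    refine (inv_mul_eq_one.1 (hone (mul_mem (inv_mem hs) ht') hw hw1 ?_)).symm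
    have e1 : t' * w * t'⁻¹ = s * w * s⁻¹ := (mul_inv_eq_one.1 (eY ▸ hX0)).symm
    calc s⁻¹ * t' * w * (s⁻¹ * t')⁻¹ = s⁻¹ * (t' * w * t'⁻¹) * s := by group
      _ = w := by rw [e1]; group
  exact htt (h1.trans h2.symm)

end CfsgLib.Perm.ExtremelyPrimitive
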