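import Mathlib

/-! Tools for multiply transitive groups of permutations whose involutions fix few points. -/

set_option autoImplicit false

open Equiv

namespace CfsgLib.Perm

variable {α : Type*} [Fintype α] [DecidableEq α]

/-- The fixed points of a permutation. -/
def fixFinset (g : Equiv.Perm α) : Finset α := Finset.univ.filter fun x => g x = x

@[simp] theorem mem_fixFinset {g : Equiv.Perm α} {x : α} : x ∈ fixFinset g ↔ g x = x := by
  simp [fixFinset]

/-- Prescribing the images of at most `k` points in a `k`-transitive group. -/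
theorem ktrans_exists {G : Subgroup (Equiv.Perm α)} {k : ℕ}
    (hG : MulAction.IsMultiplyPretransitive G α k) (hk : k ≤ Fintype.card α) {m : ℕ} (hm : m ≤ k)
    (x y : Fin m ↪ α) : ∃ g ∈ G, ∀ i, g (x i) = y i := by
  haveI := hG
  haveI := MulAction.isMultiplyPretransitive_of_le (G := G) (α := α) hm
    (by rw [Nat.card_eq_fintype_card]; exact hk)
  obtain ⟨g, hg⟩ := MulAction.exists_smul_eq G x y
  exact ⟨g, g.2, fun i => DFunLike.congr_fun hg i⟩

/-- Prescribing an injective map on a set of at most `k` points in a `k`-transitive group. -/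
theorem ktrans_exists_finset {G : Subgroup (Equiv.Perm α)} {k : ℕ}
    (hG : MulAction.IsMultiplyPretransitive G α k) (hk : k ≤ Fintype.card α) (s : Finset α)
    (hs : s.card ≤ k) (f : α → α) (hf : Set.InjOn f s) : ∃ g ∈ G, ∀ x ∈ s, g x = f x := by
  let e : Fin s.card ↪ α := s.equivFin.symm.toEmbedding.trans (Function.Embedding.subtype _)
  have he : ∀ i, e i ∈ s := fun i => (s.equivFin.symm i).2
  let e' : Fin s.card ↪ α := ⟨fun i => f (e i), fun i j h => e.injective (hf (he i) (he j) h)⟩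
  obtain ⟨g, hg, hge⟩ := ktrans_exists hG hk hs e e'
  refine ⟨g, hg, fun x hx => ?_⟩
  have h := hge (s.equivFin ⟨x, hx⟩)
  simpa [e, e'] using h

/-- An odd power of an element with prescribed 2-power order. -/
theorem exists_odd_pow_two {M : Type*} [Group M] [Finite M] (g : M) :
    ∃ m : ℕ, Odd m ∧ ∃ i : ℕ, (g ^ m) ^ 2 ^ i = 1 := by
  obtain ⟨i, m, hm, h⟩ := Nat.exists_eq_two_pow_mul_odd (orderOf_pos g).ne'
  refine ⟨m, hm, i, ?_⟩
  rw [← pow_mul, mul_comm, ← h, pow_orderOf_eq_one]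

/-- An element of odd order whose `2 ^ i`-th power is trivial is trivial. -/
theorem eq_one_of_odd_of_two_pow {M : Type*} [Group M] {g : M} {i : ℕ} (hodd : Odd (orderOf g))
    (h : g ^ 2 ^ i = 1) : g = 1 := by
  obtain ⟨j, -, hj⟩ := (Nat.dvd_prime_pow Nat.prime_two).1 (orderOf_dvd_of_pow_eq_one h)
  rcases j with _ | j
  · exact orderOf_eq_one_iff.1 (by rw [hj, pow_zero])
  · rw [hj, pow_succ', Nat.odd_mul] at hodd
    exact absurd hodd.1 (by decide)

/-- Two involutions whose product has odd order are conjugate by a power of the product. -/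
theorem involution_conj_of_odd {M : Type*} [Group M] {u v : M} (hu : u * u = 1) (hv : v * v = 1)
    (hodd : Odd (orderOf (u * v))) : ∃ k ∈ Subgroup.zpowers (u * v), k * u * k⁻¹ = v := by
  set d := u * v with hd
  obtain ⟨j, hj⟩ := hodd
  have hu' : u⁻¹ = u := inv_eq_of_mul_eq_one_right hu
  have hv' : v⁻¹ = v := inv_eq_of_mul_eq_one_right hv
  have hinv : u * d * u⁻¹ = d⁻¹ := by rw [hd, mul_inv_rev, hu', hv', ← mul_assoc u u v, hu, one_mul]
  have hpow : u * d ^ j * u⁻¹ = (d ^ j)⁻¹ := by rw [← conj_pow, hinv, inv_pow]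
  refine ⟨d ^ j, pow_mem (Subgroup.mem_zpowers d) j, ?_⟩
  have h1 : d ^ (2 * j + 1) = 1 := hj ▸ pow_orderOf_eq_one d
  have h2 : d ^ j * u = u * (d ^ j)⁻¹ := by rw [← hpow, ← mul_assoc, ← mul_assoc, hu, one_mul, hu']
  rw [h2, mul_assoc, ← mul_inv_rev, ← pow_add, ← two_mul,
    show (d ^ (2 * j))⁻¹ = d from inv_eq_of_mul_eq_one_right (by rw [← pow_succ, h1]), hd,
    ← mul_assoc, hu, one_mul]

/-- The fixed points and the moved points of an involution. -/
theorem involution_fix_parity {g : Equiv.Perm α} (hg : g * g = 1) :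
    (fixFinset g).card % 2 = Fintype.card α % 2 := by
  haveI := Fact.mk Nat.prime_two
  have h : g ^ 2 ^ 1 = 1 := by rw [pow_one, pow_two, hg]
  have h1 := Equiv.Perm.card_compl_support_modEq h
  rw [show g.supportᶜ = fixFinset g by ext c; simp] at h1
  exact h1

omit [Fintype α] in
/-- A function agreeing with powers. -/
theorem pow_apply_agree {g : Equiv.Perm α} {s : Set α} {f : α → α} (hg : ∀ x ∈ s, g x = f x)
    (hfs : ∀ x ∈ s, f x ∈ s) (hff : ∀ x ∈ s, f (f x) = x) {m : ℕ} (hm : Odd m) :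
    ∀ x ∈ s, (g ^ m) x = f x := by
  intro x hx
  have h2 : ∀ y ∈ s, (g ^ 2) y = y := fun y hy => by
    rw [pow_two, Equiv.Perm.mul_apply, hg y hy, hg _ (hfs y hy), hff y hy]
  have h3 : ∀ (n : ℕ), ∀ y ∈ s, ((g ^ 2) ^ n) y = y := by
    intro n
    induction n with
    | zero => simp
    | succ n ih => intro y hy; rw [pow_succ, Equiv.Perm.mul_apply, h2 y hy, ih y hy]
  obtain ⟨r, rfl⟩ := hm
  rw [pow_succ, Equiv.Perm.mul_apply, hg x hx, pow_mul, h3 r _ (hfs x hx)]

/-- Every involution in `G` fixes at most `B` points. -/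
def InvFixLE (G : Subgroup (Equiv.Perm α)) (B : ℕ) : Prop :=
  ∀ g ∈ G, g * g = 1 → g ≠ 1 → (fixFinset g).card ≤ B

/-- An element fixing more points than the involutions has odd order. -/
theorem InvFixLE.odd_order {G : Subgroup (Equiv.Perm α)} {B : ℕ} (hB : InvFixLE G B)
    {g : Equiv.Perm α} (hg : g ∈ G) {s : Finset α} (hs : B < s.card) (hgs : ∀ x ∈ s, g x = x) :
    Odd (orderOf g) := by
  by_contra h
  obtain ⟨m, hm⟩ := even_iff_two_dvd.1 (Nat.not_odd_iff_even.1 h)
  have hpos := orderOf_pos g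
  have h1 : g ^ m * g ^ m = 1 := by rw [← pow_add, ← two_mul, ← hm, pow_orderOf_eq_one]
  have h2 : g ^ m ≠ 1 := fun e => by
    have := Nat.le_of_dvd (by omega) (orderOf_dvd_of_pow_eq_one e)
    omega
  have h3 := hB _ (G.pow_mem hg m) h1 h2
  have h4 : s ⊆ fixFinset (g ^ m) := fun x hx => mem_fixFinset.2
    (Equiv.Perm.pow_apply_eq_self_of_apply_eq_self (hgs x hx) m)
  have := Finset.card_le_card h4
  omega

/-- Involutions agreeing on more points than involutions fix are conjugate by an element fixing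
those points and centralising whatever both centralise. -/
theorem InvFixLE.conj_of_agree {G : Subgroup (Equiv.Perm α)} {B : ℕ} (hB : InvFixLE G B)
    {u v : Equiv.Perm α} (hu : u ∈ G) (hv : v ∈ G) (hu2 : u * u = 1) (hv2 : v * v = 1)
    {s : Finset α} (hs : B < s.card) (huv : ∀ x ∈ s, u x = v x) :
    ∃ k ∈ G, (∀ x ∈ s, k x = x) ∧ k * u * k⁻¹ = v ∧
      ∀ c : Equiv.Perm α, Commute c u → Commute c v → Commute c k := by
  have hfix : ∀ x ∈ s, (v * u) x = x := fun x hx => by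
    rw [Equiv.Perm.mul_apply, huv x hx, ← Equiv.Perm.mul_apply, hv2, Equiv.Perm.one_apply]
  have hu' : u⁻¹ = u := inv_eq_of_mul_eq_one_right hu2
  have hv' : v⁻¹ = v := inv_eq_of_mul_eq_one_right hv2
  have hodd : Odd (orderOf (u * v)) := by
    rw [← orderOf_inv, mul_inv_rev, hu', hv']
    exact hB.odd_order (G.mul_mem hv hu) hs hfix
  obtain ⟨k, hk, hk'⟩ := involution_conj_of_odd hu2 hv2 hodd
  obtain ⟨i, rfl⟩ := Subgroup.mem_zpowers_iff.1 hk
  refine ⟨_, G.zpow_mem (G.mul_mem hu hv) i, fun x hx => ?_, hk',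
    fun c h1 h2 => (h1.mul_right h2).zpow_right i⟩
  have h0 : (u * v) x = x := by
    have h := congrArg ((u * v) : Equiv.Perm α) (hfix x hx)
    rw [← Equiv.Perm.mul_apply, show u * v * (v * u) = 1 by
      rw [mul_assoc, ← mul_assoc v v u, hv2, one_mul, hu2], Equiv.Perm.one_apply] at h
    exact h.symm
  exact Equiv.Perm.zpow_apply_eq_self_of_apply_eq_self h0 i

/-- An element commuting with an involution `z` and agreeing with a prescribed map. -/
theorem InvFixLE.exists_lift_commute {G : Subgroup (Equiv.Perm α)} {B : ℕ} (hB : InvFixLE G B)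
    {z : Equiv.Perm α} (hz : z ∈ G) (hz2 : z * z = 1) {s : Finset α} (hs : B < s.card)
    (hzs : ∀ x ∈ s, z x ∈ s) {f : α → α} (hfs : ∀ x ∈ s, f x ∈ s) (hfz : ∀ x ∈ s, f (z x) = z (f x))
    (hff : ∀ x ∈ s, f (f x) = x) {g : Equiv.Perm α} (hg : g ∈ G) (hgf : ∀ x ∈ s, g x = f x) :
    ∃ g' ∈ G, (∀ x ∈ s, g' x = f x) ∧ g' * z * g'⁻¹ = z := by
  have hconj : (g * z * g⁻¹) * (g * z * g⁻¹) = 1 := by
    rw [show g * z * g⁻¹ * (g * z * g⁻¹) = g * (z * z) * g⁻¹ by group, hz2, mul_one, mul_inv_cancel]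
  have hagree : ∀ x ∈ s, (g * z * g⁻¹) x = z x := by
    intro x hx
    have hy : g⁻¹ x = f x := by
      rw [Equiv.Perm.inv_eq_iff_eq, hgf _ (hfs x hx), hff x hx]
    rw [Equiv.Perm.mul_apply, Equiv.Perm.mul_apply, hy, hgf _ (hzs _ (hfs x hx)), hfz _ (hfs x hx),
      hff x hx]
  obtain ⟨k, hk, hks, hke, -⟩ := hB.conj_of_agree (G.mul_mem (G.mul_mem hg hz) (G.inv_mem hg)) hz
    hconj hz2 hs hagree
  refine ⟨k * g, G.mul_mem hk hg, fun x hx => ?_, ?_⟩
  · rw [Equiv.Perm.mul_apply, hgf x hx, hks _ (hfs x hx)]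
  · rw [show k * g * z * (k * g)⁻¹ = k * (g * z * g⁻¹) * k⁻¹ by group, hke]

/-- An odd power of a lift of an involutive map is an involution. -/
theorem InvFixLE.exists_pow_involution {G : Subgroup (Equiv.Perm α)} {B : ℕ} (hB : InvFixLE G B)
    {s : Finset α} (hs : B < s.card) {f : α → α} (hfs : ∀ x ∈ s, f x ∈ s)
    (hff : ∀ x ∈ s, f (f x) = x) {g : Equiv.Perm α} (hg : g ∈ G) (hgf : ∀ x ∈ s, g x = f x) :
    ∃ m : ℕ, Odd m ∧ (∀ x ∈ s, (g ^ m) x = f x) ∧ g ^ m * g ^ m = 1 := by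
  obtain ⟨m, hm, i, hi⟩ := exists_odd_pow_two g
  have hgm := pow_apply_agree (s := (s : Set α)) (fun x hx => hgf x hx) (fun x hx => hfs x hx)
    (fun x hx => hff x hx) hm
  refine ⟨m, hm, fun x hx => hgm x hx, ?_⟩
  have hmem : g ^ m * g ^ m ∈ G := G.mul_mem (G.pow_mem hg m) (G.pow_mem hg m)
  refine eq_one_of_odd_of_two_pow (i := i) (hB.odd_order hmem hs fun x hx => ?_) ?_
  · rw [Equiv.Perm.mul_apply, hgm x hx, hgm _ (hfs x hx), hff x hx]
  · rw [← pow_two, ← pow_mul, mul_comm 2, pow_mul, hi, one_pow]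

/-- An involution lifting an involutive map and commuting with a given involution. -/
theorem InvFixLE.exists_involution_lift {G : Subgroup (Equiv.Perm α)} {B k : ℕ} (hB : InvFixLE G B)
    (hG : MulAction.IsMultiplyPretransitive G α k) (hk : k ≤ Fintype.card α)
    {z : Equiv.Perm α} (hz : z ∈ G) (hz2 : z * z = 1) {s : Finset α} (hs : B < s.card)
    (hsk : s.card ≤ k) (hzs : ∀ x ∈ s, z x ∈ s) {f : α → α} (hfs : ∀ x ∈ s, f x ∈ s)
    (hfz : ∀ x ∈ s, f (z x) = z (f x)) (hff : ∀ x ∈ s, f (f x) = x) :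
    ∃ u ∈ G, u * u = 1 ∧ Commute u z ∧ ∀ x ∈ s, u x = f x := by
  obtain ⟨g, hg, hgf⟩ := ktrans_exists_finset hG hk s hsk f fun x hx y hy h => by
    rw [← hff x hx, ← hff y hy, h]
  obtain ⟨g', hg', hg'f, hg'z⟩ := hB.exists_lift_commute hz hz2 hs hzs hfs hfz hff hg hgf
  obtain ⟨m, -, hmf, hm2⟩ := hB.exists_pow_involution hs hfs hff hg' hg'f
  refine ⟨_, G.pow_mem hg' m, hm2, ?_, hmf⟩
  exact Commute.pow_left (mul_inv_eq_iff_eq_mul.1 hg'z) m

end CfsgLib.Perm
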