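import Mathlib
import Cfsg.Agent.Lib.Perm.MultiTrans

/-! Preliminaries on quadruply transitive groups: double transpositions of a quadruple. -/

set_option autoImplicit false

open Equiv

namespace CfsgLib.Perm

variable {α : Type*} [Fintype α] [DecidableEq α]

/-- The map on a quadruple given by a permutation of its indices. -/
noncomputable def tupleMap {m : ℕ} (p : Fin m ↪ α) (σ : Equiv.Perm (Fin m)) : α → α :=
  Function.extend p (p ∘ σ) id

omit [Fintype α] [DecidableEq α] in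
@[simp] theorem tupleMap_apply {m : ℕ} (p : Fin m ↪ α) (σ : Equiv.Perm (Fin m)) (i : Fin m) :
    tupleMap p σ (p i) = p (σ i) := by
  simp [tupleMap, p.injective.extend_apply]

/-- An element commuting with `z` and inducing a given involution on a tuple. -/
theorem InvFixLE.exists_tuple_lift {G : Subgroup (Equiv.Perm α)} {B k m : ℕ} (hB : InvFixLE G B)
    (hG : MulAction.IsMultiplyPretransitive G α k) (hk : k ≤ Fintype.card α) (hBm : B < m) (hmk : m ≤ k)
    {z : Equiv.Perm α} (hz : z ∈ G) (hz2 : z * z = 1) {p : Fin m ↪ α} {π σ : Equiv.Perm (Fin m)}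
    (hzp : ∀ i, z (p i) = p (π i)) (hσ : ∀ i, σ (σ i) = i) (hσπ : ∀ i, σ (π i) = π (σ i)) :
    ∃ u ∈ G, u * u = 1 ∧ Commute u z ∧ ∀ i, u (p i) = p (σ i) := by
  obtain ⟨u, hu, hu2, huz, huf⟩ := hB.exists_involution_lift hG hk hz hz2
    (s := Finset.univ.map p) (by simpa using hBm) (by simpa using hmk)
    (fun x hx => by
      obtain ⟨i, -, rfl⟩ := Finset.mem_map.1 hx
      rw [hzp]; exact Finset.mem_map_of_mem _ (Finset.mem_univ _))
    (f := tupleMap p σ)
    (fun x hx => by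
      obtain ⟨i, -, rfl⟩ := Finset.mem_map.1 hx
      rw [tupleMap_apply]; exact Finset.mem_map_of_mem _ (Finset.mem_univ _))
    (fun x hx => by
      obtain ⟨i, -, rfl⟩ := Finset.mem_map.1 hx
      rw [hzp, tupleMap_apply, tupleMap_apply, hzp, hσπ])
    (fun x hx => by
      obtain ⟨i, -, rfl⟩ := Finset.mem_map.1 hx
      rw [tupleMap_apply, tupleMap_apply, hσ])
  exact ⟨u, hu, hu2, huz, fun i => by rw [huf _ (Finset.mem_map_of_mem _ (Finset.mem_univ i)), tupleMap_apply]⟩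

omit [DecidableEq α] in
/-- In a doubly transitive situation, a normalised subgroup moving a point is transitive. -/
theorem normal_trans_of_two_trans (M N : Subgroup (Equiv.Perm α)) (T : Finset α)
    (hconj : ∀ g ∈ M, ∀ n ∈ N, g * n * g⁻¹ ∈ N) (hNT : ∀ n ∈ N, ∀ x ∈ T, n x ∈ T)
    (h2 : ∀ a ∈ T, ∀ b ∈ T, ∀ c ∈ T, ∀ d ∈ T, a ≠ b → c ≠ d → ∃ g ∈ M, g a = c ∧ g b = d)
    {n₀ : Equiv.Perm α} (hn₀ : n₀ ∈ N) {x : α} (hx : x ∈ T) (hne : n₀ x ≠ x) :
    T.card ∣ Nat.card N := by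
  have htrans : ∀ y ∈ T, ∀ y' ∈ T, ∃ n ∈ N, n y = y' := by
    intro y hy y' hy'
    rcases eq_or_ne y y' with rfl | hyy
    · exact ⟨1, N.one_mem, rfl⟩
    obtain ⟨g, hg, hgx, hgy⟩ := h2 x hx (n₀ x) (hNT _ hn₀ x hx) y hy y' hy' hne.symm hyy
    refine ⟨g * n₀ * g⁻¹, hconj g hg n₀ hn₀, ?_⟩
    rw [← hgx, Equiv.Perm.mul_apply, Equiv.Perm.mul_apply, Equiv.Perm.inv_def, Equiv.symm_apply_apply, hgy]
  have horb : MulAction.orbit N x = (T : Set α) := by
    ext y
    constructor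
    · rintro ⟨⟨n, hn⟩, rfl⟩
      exact hNT n hn x hx
    · intro hy
      obtain ⟨n, hn, hny⟩ := htrans x hx y hy
      exact ⟨⟨n, hn⟩, hny⟩
  rw [← Set.ncard_coe_finset, ← horb, ← MulAction.index_stabilizer]
  exact Subgroup.index_dvd_card _

end CfsgLib.Perm
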