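import Mathlib
import Cfsg.Agent.Lib.Perm.FourTransAux
import Cfsg.Agent.Lib.ZStar.Main

/-! Quadruply transitive groups in which every involution fixes at most three points: the degree is
odd, and the lifts of the four-group of a quadruple fix exactly one further point. -/

set_option autoImplicit false

open Equiv

namespace CfsgLib.Perm

variable {α : Type*} [Fintype α] [DecidableEq α]

/-- The double transposition `(01)(23)`. -/
def dtA : Equiv.Perm (Fin 4) := Equiv.swap 0 1 * Equiv.swap 2 3

/-- The double transposition `(02)(13)`. -/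
def dtB : Equiv.Perm (Fin 4) := Equiv.swap 0 2 * Equiv.swap 1 3

/-- The three double transpositions. -/
def dtC : Fin 3 → Equiv.Perm (Fin 4) := ![dtA, dtB, dtA * dtB]

theorem dt_conj : ∀ σ : Equiv.Perm (Fin 4), ∃ i j : Fin 3, i ≠ j ∧
    (∀ x, σ (dtA (σ.symm x)) = dtC i x) ∧ (∀ x, σ (dtB (σ.symm x)) = dtC j x) := by decide

set_option maxHeartbeats 4000000 in
/-- A quadruply transitive group of degree at least 8 whose involutions fix at most three points has
odd degree, and every quadruple has a point outside it fixed by lifts of all its permutations. -/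
theorem four_trans_inv {G : Subgroup (Equiv.Perm α)}
    (hG : MulAction.IsMultiplyPretransitive G α 4) (hB : InvFixLE G 3) (hn : 8 ≤ Fintype.card α)
    (p : Fin 4 ↪ α) :
    Odd (Fintype.card α) ∧ ∃ a, (∀ i, p i ≠ a) ∧
      ∀ σ : Equiv.Perm (Fin 4), ∃ g ∈ G, (∀ i, g (p i) = p (σ i)) ∧ g a = a := by
  classical
  have h4n : 4 ≤ Fintype.card α := by omega
  have hpS : ∀ i, p i ∈ Finset.univ.map p := fun i => Finset.mem_map_of_mem _ (Finset.mem_univ i)
  have hScard : (Finset.univ.map p).card = 4 := by simp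
  -- the lifts `z` and `w`
  obtain ⟨z, hz, hz2, -, hzp⟩ := hB.exists_tuple_lift hG h4n (show 3 < 4 by omega) le_rfl
    G.one_mem (one_mul _) (p := p) (π := 1) (σ := dtA) (fun i => rfl) (by decide) (fun i => rfl)
  obtain ⟨w, hw, hw2, hwz, hwp⟩ := hB.exists_tuple_lift hG h4n (show 3 < 4 by omega) le_rfl
    hz hz2 (p := p) hzp (σ := dtB) (by decide) (by decide)
  have hz1 : z ≠ 1 := fun h => by
    have h' := hzp 0
    rw [h] at h'
    exact absurd (p.injective h') (by decide)
  -- all involutions are conjugate to `z`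
  have hclass : ∀ u ∈ G, u * u = 1 → u ≠ 1 → ∃ g ∈ G, g * u * g⁻¹ = z := by
    intro u hu hu2 hu1
    obtain ⟨a, ha⟩ : ∃ a, u a ≠ a := by
      by_contra h
      push Not at h
      exact hu1 (Equiv.ext h)
    obtain ⟨b, hb⟩ : ∃ b, b ∉ insert a (insert (u a) (fixFinset u)) := by
      have h1 := hB u hu hu2 hu1
      have h2 := Finset.card_insert_le a (insert (u a) (fixFinset u))
      have h3 := Finset.card_insert_le (u a) (fixFinset u)
      exact Finset.exists_mem_notMem_of_card_lt_card (t := Finset.univ)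
        (s := insert a (insert (u a) (fixFinset u))) (by rw [Finset.card_univ]; omega) |>.imp fun _ h => h.2
    simp only [Finset.mem_insert, mem_fixFinset, not_or] at hb
    obtain ⟨hba, hbua, hbub⟩ := hb
    have huu : ∀ x, u (u x) = x := fun x => by rw [← Equiv.Perm.mul_apply, hu2, Equiv.Perm.one_apply]
    have hinj : Function.Injective ![a, u a, b, u b] := by
      have e1 : a ≠ u a := fun h => ha h.symm
      have e4 : u a ≠ b := fun h => hbua h.symm
      have e3 : a ≠ u b := fun h => e4 (by rw [h, huu])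
      have e5 : u a ≠ u b := fun h => hba (u.injective h).symm
      intro i j h
      fin_cases i <;> fin_cases j <;> simp [e1, e1.symm, e4, e4.symm, e3, e3.symm, e5, e5.symm, hba,
        Ne.symm hba, hbub, Ne.symm hbub] at h ⊢
    obtain ⟨g, hg, hgp⟩ := ktrans_exists hG h4n le_rfl ⟨_, hinj⟩ p
    have hagree : ∀ x ∈ Finset.univ.map p, (g * u * g⁻¹) x = z x := by
      intro x hx
      obtain ⟨i, -, rfl⟩ := Finset.mem_map.1 hx
      have h1 : g⁻¹ (p i) = ![a, u a, b, u b] i := by
        rw [← hgp i, Equiv.Perm.inv_def, Equiv.symm_apply_apply]; rfl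
      have h2 : u (![a, u a, b, u b] i) = ![a, u a, b, u b] (dtA i) := by
        fin_cases i <;> simp [dtA, huu, Equiv.swap_apply_def]
      rw [Equiv.Perm.mul_apply, Equiv.Perm.mul_apply, h1, h2, hzp]
      exact hgp _
    obtain ⟨k, hk, -, hke, -⟩ := hB.conj_of_agree (G.mul_mem (G.mul_mem hg hu) (G.inv_mem hg)) hz
      (by rw [show g * u * g⁻¹ * (g * u * g⁻¹) = g * (u * u) * g⁻¹ by group, hu2, mul_one, mul_inv_cancel])
      hz2 (by omega) hagree
    exact ⟨k * g, G.mul_mem hk hg, by rw [show k * g * u * (k * g)⁻¹ = k * (g * u * g⁻¹) * k⁻¹ by group, hke]⟩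
  set E := fixFinset z with hEdef
  set f := E.card with hfdef
  have hfix : ∀ u ∈ G, u * u = 1 → u ≠ 1 → (fixFinset u).card = f := by
    intro u hu hu2 hu1
    obtain ⟨g, hg, hgz⟩ := hclass u hu hu2 hu1
    rw [hfdef, hEdef, ← hgz]
    refine Finset.card_equiv g fun x => ?_
    simp
  have hBf : InvFixLE G f := fun u hu hu2 hu1 => (hfix u hu hu2 hu1).le
  have hf3 : f ≤ 3 := hB z hz hz2 hz1
  have hES : ∀ i, p i ∉ E := fun i hi => by
    rw [hEdef, mem_fixFinset, hzp] at hi
    revert hi
    fin_cases i <;> exact fun hi => absurd (p.injective hi) (by decide)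
  -- the lift `s` of a transposition normalising the four-group
  obtain ⟨s, hs, hs2, hsz, hsw, hsp⟩ : ∃ s ∈ G, s * s = 1 ∧ Commute s z ∧ s * w * s⁻¹ = z * w ∧
      ∀ i, s (p i) = p (Equiv.swap 0 1 i) := by
    obtain ⟨g0, hg0, hg0p⟩ := ktrans_exists hG h4n le_rfl p ((Equiv.swap 0 1).toEmbedding.trans p)
    have hf0 : ∀ x ∈ Finset.univ.map p, g0 x = tupleMap p (Equiv.swap 0 1) x := by
      intro x hx
      obtain ⟨i, -, rfl⟩ := Finset.mem_map.1 hx
      rw [tupleMap_apply]; exact hg0p i
    obtain ⟨g1, hg1, hg1p, hg1z⟩ := hB.exists_lift_commute hz hz2 (s := Finset.univ.map p) (by omega)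
      (fun x hx => by
        obtain ⟨i, -, rfl⟩ := Finset.mem_map.1 hx
        rw [hzp]; exact hpS _)
      (fun x hx => by
        obtain ⟨i, -, rfl⟩ := Finset.mem_map.1 hx
        rw [tupleMap_apply]; exact hpS _)
      (fun x hx => by
        obtain ⟨i, -, rfl⟩ := Finset.mem_map.1 hx
        rw [hzp, tupleMap_apply, tupleMap_apply, hzp]
        congr 1; clear hx; revert i; decide)
      (fun x hx => by
        obtain ⟨i, -, rfl⟩ := Finset.mem_map.1 hx
        simp)
      hg0 hf0
    have hg1p' : ∀ i, g1 (p i) = p (Equiv.swap 0 1 i) := fun i => by rw [hg1p _ (hpS i), tupleMap_apply]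
    have hg1z' : Commute g1 z := mul_inv_eq_iff_eq_mul.1 hg1z
    have hinv : ∀ i, g1⁻¹ (p i) = p (Equiv.swap 0 1 i) := fun i => by
      rw [Equiv.Perm.inv_eq_iff_eq, hg1p', Equiv.swap_apply_self]
    have hzwz : Commute z (z * w) := (Commute.refl z).mul_right hwz.symm
    obtain ⟨k, hk, hks, hke, hkc⟩ := hB.conj_of_agree (G.mul_mem (G.mul_mem hg1 hw) (G.inv_mem hg1))
      (G.mul_mem hz hw)
      (by rw [show g1 * w * g1⁻¹ * (g1 * w * g1⁻¹) = g1 * (w * w) * g1⁻¹ by group, hw2, mul_one, mul_inv_cancel])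
      (by rw [show z * w * (z * w) = z * (w * z) * w by group, hwz.eq,
        show z * (z * w) * w = (z * z) * (w * w) by group, hz2, hw2, one_mul])
      (s := Finset.univ.map p) (by omega)
      (fun x hx => by
        obtain ⟨i, -, rfl⟩ := Finset.mem_map.1 hx
        rw [Equiv.Perm.mul_apply, Equiv.Perm.mul_apply, Equiv.Perm.mul_apply, hinv, hwp, hg1p', hwp, hzp]
        congr 1; clear hx; revert i; decide)
    have hkz : Commute k z := (hkc z ((hg1z'.symm.mul_right hwz.symm).mul_right hg1z'.symm.inv_right) hzwz).symm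
    set g2 := k * g1 with hg2
    have hg2z : Commute g2 z := hkz.mul_left hg1z'
    have hg2w : g2 * w * g2⁻¹ = z * w := by
      rw [hg2, show k * g1 * w * (k * g1)⁻¹ = k * (g1 * w * g1⁻¹) * k⁻¹ by group, hke]
    have hg2p : ∀ x ∈ Finset.univ.map p, g2 x = tupleMap p (Equiv.swap 0 1) x := fun x hx => by
      obtain ⟨i, -, rfl⟩ := Finset.mem_map.1 hx
      rw [hg2, Equiv.Perm.mul_apply, hg1p', hks _ (hpS _), tupleMap_apply]
    obtain ⟨m, hm, hmp, hm2⟩ := hB.exists_pow_involution (s := Finset.univ.map p) (by omega)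
      (f := tupleMap p (Equiv.swap 0 1))
      (fun x hx => by
        obtain ⟨i, -, rfl⟩ := Finset.mem_map.1 hx
        rw [tupleMap_apply]; exact hpS _)
      (fun x hx => by
        obtain ⟨i, -, rfl⟩ := Finset.mem_map.1 hx
        simp)
      (G.mul_mem hk hg1) hg2p
    refine ⟨g2 ^ m, G.pow_mem (G.mul_mem hk hg1) m, hm2, hg2z.pow_left m, ?_, fun i => by
      rw [hmp _ (hpS i), tupleMap_apply]⟩
    have h2 : Commute (g2 ^ 2) w := by
      refine mul_inv_eq_iff_eq_mul.1 ?_
      rw [show g2 ^ 2 * w * (g2 ^ 2)⁻¹ = g2 * (g2 * w * g2⁻¹) * g2⁻¹ by rw [pow_two]; group, hg2w,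
        show g2 * (z * w) * g2⁻¹ = (g2 * z * g2⁻¹) * (g2 * w * g2⁻¹) by group, hg2w, hg2z.eq,
        mul_inv_cancel_right, ← mul_assoc, hz2, one_mul]
    obtain ⟨r, rfl⟩ := hm
    have h3 : Commute (g2 ^ (2 * r)) w := by rw [pow_mul]; exact h2.pow_left r
    rw [pow_succ', show g2 * g2 ^ (2 * r) * w * (g2 * g2 ^ (2 * r))⁻¹ =
      g2 * (g2 ^ (2 * r) * w * (g2 ^ (2 * r))⁻¹) * g2⁻¹ by group, h3.eq, mul_inv_cancel_right, hg2w]
  have hzz : ∀ x, z (z x) = x := fun x => by rw [← Equiv.Perm.mul_apply, hz2, Equiv.Perm.one_apply]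
  have hww : ∀ x, w (w x) = x := fun x => by rw [← Equiv.Perm.mul_apply, hw2, Equiv.Perm.one_apply]
  have hss : ∀ x, s (s x) = x := fun x => by rw [← Equiv.Perm.mul_apply, hs2, Equiv.Perm.one_apply]
  have hwzx : ∀ x, w (z x) = z (w x) := fun x => DFunLike.congr_fun hwz.eq x
  have hszx : ∀ x, s (z x) = z (s x) := fun x => DFunLike.congr_fun hsz.eq x
  have hswx : ∀ x, s (w x) = z (w (s x)) := fun x => by
    have h := DFunLike.congr_fun (mul_inv_eq_iff_eq_mul.1 hsw) x
    simpa using h
  have hs1 : s ≠ 1 := fun h => by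
    have h' := hsp 0
    rw [h] at h'
    exact absurd (p.injective h') (by decide)
  have hw1 : w ≠ 1 := fun h => by
    have h' := hwp 0
    rw [h] at h'
    exact absurd (p.injective h') (by decide)
  have hsE : ∀ e ∈ E, s e ∈ E := fun e he => by
    rw [hEdef, mem_fixFinset] at he ⊢
    rw [← hszx, he]
  have hwE : ∀ e ∈ E, w e ∈ E := fun e he => by
    rw [hEdef, mem_fixFinset] at he ⊢
    rw [← hwzx, he]
  have hswE : ∀ e ∈ E, s (w e) = w (s e) := fun e he => by
    rw [hswx]; exact mem_fixFinset.1 (hwE _ (hsE e he))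
  -- the fixed points of `s`
  set Fs := fixFinset s with hFs
  have hFscard : Fs.card = f := hfix s hs hs2 hs1
  have hp23 : ({p 2, p 3} : Finset α).card = 2 :=
    Finset.card_pair fun h => absurd (p.injective h) (by decide)
  have hp23s : ({p 2, p 3} : Finset α) ⊆ Fs := by
    intro x hx
    simp only [Finset.mem_insert, Finset.mem_singleton] at hx
    rcases hx with rfl | rfl <;> rw [hFs, mem_fixFinset, hsp] <;> rfl
  have hf2 : 2 ≤ f := hFscard ▸ hp23 ▸ Finset.card_le_card hp23s
  have hpar : f % 2 = Fintype.card α % 2 := involution_fix_parity hz2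
  have hdisj23 : Disjoint ({p 2, p 3} : Finset α) (Fs ∩ E) := by
    refine Finset.disjoint_left.2 fun x hx hx' => ?_
    simp only [Finset.mem_insert, Finset.mem_singleton] at hx
    rcases hx with rfl | rfl <;> exact hES _ (Finset.mem_inter.1 hx').2
  have hsEfix : (Fs ∩ E).card + 2 ≤ f := by
    rw [← hFscard, add_comm, ← hp23, ← Finset.card_union_of_disjoint hdisj23]
    exact Finset.card_le_card (Finset.union_subset hp23s Finset.inter_subset_left)
  have hEpar : (Fs ∩ E).card % 2 = f % 2 := by
    let σE : Equiv.Perm E := s.subtypePerm fun x => ⟨fun h => hss x ▸ hsE _ h, hsE x⟩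
    have h := involution_fix_parity (g := σE) (Equiv.ext fun x => Subtype.ext (hss x))
    rw [Fintype.card_coe] at h
    rw [← h]
    congr 1
    refine Eq.symm (Finset.card_bij (s := fixFinset σE) (t := Fs ∩ E) (fun x _ => (x : α))
      (fun x hx => ?_) (fun x _ y _ e => ?_) fun y hy => ?_)
    rotate_left
    · exact Subtype.ext e
    rotate_left
    · exact Finset.mem_inter.2 ⟨mem_fixFinset.2 (congrArg Subtype.val (mem_fixFinset.1 hx)), x.2⟩
    · obtain ⟨h1, h2⟩ := Finset.mem_inter.1 hy
      exact ⟨⟨y, h2⟩, mem_fixFinset.2 (Subtype.ext (mem_fixFinset.1 h1)), rfl⟩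
  have hFseq : Fs = {p 2, p 3} ∪ (Fs ∩ E) := by
    refine (Finset.eq_of_subset_of_card_le (Finset.union_subset hp23s Finset.inter_subset_left) ?_).symm
    rw [Finset.card_union_of_disjoint hdisj23, hp23, hFscard]
    omega
  set T := Finset.univ \ E with hT
  have hTcard : T.card = Fintype.card α - f := by rw [hT, Finset.card_univ_sdiff]
  have hmemT : ∀ x, x ∈ T ↔ z x ≠ x := fun x => by simp [hT, hEdef]
  by_cases hwid : ∀ e ∈ E, w e = e
  · -- `w` fixing `E` pointwise is impossible
    exfalso
    have hzw1 : z * w ≠ 1 := fun h => by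
      have h1 := DFunLike.congr_fun h (p 0)
      rw [Equiv.Perm.mul_apply, hwp, hzp, Equiv.Perm.one_apply] at h1
      exact absurd (p.injective h1) (by decide)
    have hEw : fixFinset w = E := by
      refine (Finset.eq_of_subset_of_card_le (fun e he => mem_fixFinset.2 (hwid e he)) ?_).symm
      rw [hfix w hw hw2 hw1]
    have hEzw : fixFinset (z * w) = E := by
      refine (Finset.eq_of_subset_of_card_le (fun e he => mem_fixFinset.2 ?_) ?_).symm
      · rw [Equiv.Perm.mul_apply, hwid e he]; exact mem_fixFinset.1 he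
      · rw [hfix (z * w) (G.mul_mem hz hw) (by
          rw [show z * w * (z * w) = z * (w * z) * w by group, hwz.eq,
            show z * (z * w) * w = (z * z) * (w * w) by group, hz2, hw2, one_mul]) hzw1]
    have hwne : ∀ x, x ∉ E → w x ≠ x := fun x hx h => hx (hEw ▸ mem_fixFinset.2 h)
    have hzne : ∀ x, x ∉ E → z x ≠ x := fun x hx h => hx (mem_fixFinset.2 h)
    have hzwne : ∀ x, x ∉ E → z (w x) ≠ x := fun x hx h => hx (hEzw ▸ mem_fixFinset.2 h)
    -- outside the quadruple and `E` the orbits come in pairs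
    set R := Finset.univ \ (Finset.univ.map p ∪ E) with hR
    have hRmem : ∀ x, x ∈ R ↔ (∀ i, p i ≠ x) ∧ x ∉ E := fun x => by simp [hR]
    have hRcard : R.card + 4 + f = Fintype.card α := by
      have hd : Disjoint (Finset.univ.map p) E := Finset.disjoint_left.2 fun x hx => by
        obtain ⟨i, -, rfl⟩ := Finset.mem_map.1 hx
        exact hES i
      have h1 := Finset.card_sdiff_add_card_eq_card (Finset.subset_univ (Finset.univ.map p ∪ E))
      rw [Finset.card_union_of_disjoint hd, hScard, Finset.card_univ, ← hR] at h1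
      omega
    have hRinv : ∀ (g : Equiv.Perm α), (∀ y, g (g y) = y) → (∀ i, ∃ j, g (p i) = p j) →
        (∀ e ∈ E, g e ∈ E) → ∀ x ∈ R, g x ∈ R := by
      intro g hg hgS hgE x hx
      rw [hRmem] at hx ⊢
      refine ⟨fun i h => ?_, fun h => hx.2 (hg x ▸ hgE _ h)⟩
      obtain ⟨j, hj⟩ := hgS i
      rw [h, hg] at hj
      exact hx.1 j hj.symm
    have hRz := hRinv z hzz (fun i => ⟨_, hzp i⟩) fun e he => by rw [mem_fixFinset.1 he]; exact he
    have hRw := hRinv w hww (fun i => ⟨_, hwp i⟩) hwE
    have hRs := hRinv s hss (fun i => ⟨_, hsp i⟩) hsE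
    let orb : α → Finset α := fun x => {x, z x, w x, z (w x)}
    have horbR : ∀ x ∈ R, orb x ⊆ R := fun x hx => by
      intro y hy
      simp only [orb, Finset.mem_insert, Finset.mem_singleton] at hy
      rcases hy with rfl | rfl | rfl | rfl
      exacts [hx, hRz _ hx, hRw _ hx, hRz _ (hRw _ hx)]
    have horb4 : ∀ x ∈ R, (orb x).card = 4 := fun x hx => by
      have hxE := ((hRmem x).1 hx).2
      have e1 := hzne x hxE
      have e2 := hwne x hxE
      have e3 := hzwne x hxE
      have e4 : z x ≠ w x := fun h => e3 (by rw [← h, hzz])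
      have e5 : z x ≠ z (w x) := fun h => e2 (z.injective h).symm
      have e6 : w x ≠ z (w x) := fun h => hzne _ (((hRmem _).1 (hRw x hx)).2) h.symm
      simp [orb, e1.symm, e2.symm, e3.symm, e4, e5, e6]
    have horb_eq : ∀ x y, y ∈ orb x → orb y = orb x := by
      intro x y hy
      simp only [orb, Finset.mem_insert, Finset.mem_singleton] at hy
      ext c
      rcases hy with rfl | rfl | rfl | rfl <;>
        simp only [orb, Finset.mem_insert, Finset.mem_singleton, hzz, hww, hwzx] <;> tauto
    let Q := R.image orb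
    have hQcard : R.card = 4 * Q.card := by
      rw [Finset.card_eq_sum_card_image orb R, mul_comm, ← smul_eq_mul, ← Finset.sum_const]
      refine Finset.sum_congr rfl fun O hO => ?_
      obtain ⟨x, hx, rfl⟩ := Finset.mem_image.1 hO
      rw [← horb4 x hx]
      congr 1
      ext y
      simp only [Finset.mem_filter]
      exact ⟨fun h => h.2 ▸ by simp [orb], fun h => ⟨horbR x hx h, horb_eq x y h⟩⟩
    have hsorb : ∀ x, (orb x).image s = orb (s x) := fun x => by
      simp only [orb, Finset.image_insert, Finset.image_singleton, hszx, hswx, hzz]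
      ext c
      simp only [Finset.mem_insert, Finset.mem_singleton]
      tauto
    have hQeven : Even Q.card := by
      let σQ : Equiv.Perm Q := Equiv.Perm.subtypePerm (Equiv.finsetCongr s : Equiv.Perm (Finset α)) fun O => by
        have hfwd : ∀ O, O ∈ Q → (Equiv.finsetCongr s) O ∈ Q := fun O hO => by
          obtain ⟨x, hx, rfl⟩ := Finset.mem_image.1 hO
          rw [Equiv.finsetCongr_apply, Finset.map_eq_image]
          exact Finset.mem_image.2 ⟨s x, hRs x hx, (hsorb x).symm⟩
        refine ⟨fun h => ?_, hfwd O⟩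
        have h1 := hfwd _ h
        rwa [show (Equiv.finsetCongr s) ((Equiv.finsetCongr s) O) = O by
          simp [Equiv.finsetCongr_apply, Finset.map_map, Finset.map_eq_image, Finset.image_image,
            Function.comp_def, hss]] at h1
      have h2 := involution_fix_parity (g := σQ) (Equiv.ext fun O => Subtype.ext (by
        simp [σQ, Equiv.finsetCongr_apply, Finset.map_eq_image, Finset.image_image, Function.comp_def, hss]))
      have h3 : fixFinset σQ = ∅ := by
        rw [Finset.eq_empty_iff_forall_notMem]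
        rintro ⟨O, hO⟩ h
        obtain ⟨x, hx, rfl⟩ := Finset.mem_image.1 hO
        have h' : (orb x).image s = orb x := by
          have := congrArg Subtype.val (mem_fixFinset.1 h)
          simpa [σQ, Equiv.finsetCongr_apply, Finset.map_eq_image] using this
        have hxS := (hRmem x).1 hx
        have hnf : ∀ y, y ∉ E → (∀ i, p i ≠ y) → s y ≠ y := fun y hy1 hy2 hy3 => by
          have : y ∈ Fs := mem_fixFinset.2 hy3
          rw [hFseq, Finset.mem_union] at this
          rcases this with h | h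
          · simp only [Finset.mem_insert, Finset.mem_singleton] at h
            rcases h with rfl | rfl <;> exact hy2 _ rfl
          · exact hy1 (Finset.mem_inter.1 h).2
        have hsx : s x ∈ orb x := h' ▸ Finset.mem_image_of_mem s (by simp [orb])
        simp only [orb, Finset.mem_insert, Finset.mem_singleton] at hsx
        rcases hsx with h4 | h4 | h4 | h4
        · exact hnf x hxS.2 hxS.1 h4
        · -- the lift `z * s` of the other transposition
          have ht1 : z * s ≠ 1 := fun h => by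
            have h1 := DFunLike.congr_fun h (p 2)
            rw [Equiv.Perm.mul_apply, hsp, hzp, Equiv.Perm.one_apply] at h1
            exact absurd (p.injective h1) (by decide)
          have ht := hfix (z * s) (G.mul_mem hz hs) (by
            rw [show z * s * (z * s) = z * (s * z) * s by group, hsz.eq,
              show z * (z * s) * s = (z * z) * (s * s) by group, hz2, hs2, one_mul]) ht1
          have hsub : insert x ({p 0, p 1} ∪ (Fs ∩ E)) ⊆ fixFinset (z * s) := by
            intro y hy
            rw [mem_fixFinset, Equiv.Perm.mul_apply]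
            simp only [Finset.mem_insert, Finset.mem_union, Finset.mem_singleton, Finset.mem_inter] at hy
            rcases hy with rfl | (rfl | rfl) | ⟨hy1, hy2⟩
            · rw [h4, hzz]
            · rw [hsp, hzp]; rfl
            · rw [hsp, hzp]; rfl
            · rw [mem_fixFinset.1 hy1]; exact mem_fixFinset.1 hy2
          have h01 : Disjoint ({p 0, p 1} : Finset α) (Fs ∩ E) := Finset.disjoint_left.2 fun y hy hy' => by
            simp only [Finset.mem_insert, Finset.mem_singleton] at hy
            rcases hy with rfl | rfl <;> exact hES _ (Finset.mem_inter.1 hy').2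
          have hxn : x ∉ ({p 0, p 1} : Finset α) ∪ (Fs ∩ E) := by
            simp only [Finset.mem_union, Finset.mem_insert, Finset.mem_singleton, Finset.mem_inter]
            rintro ((rfl | rfl) | ⟨-, h⟩)
            exacts [hxS.1 _ rfl, hxS.1 _ rfl, hxS.2 h]
          have h5 := Finset.card_le_card hsub
          rw [Finset.card_insert_of_notMem hxn, Finset.card_union_of_disjoint h01,
            Finset.card_pair (fun h => absurd (p.injective h) (by decide)), ht] at h5
          omega
        · refine hzne x hxS.2 ?_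
          have h5 := congrArg s h4
          rw [hss, hswx, h4, hww] at h5
          exact h5.symm
        · refine hzne x hxS.2 ?_
          have h5 := congrArg s h4
          rw [hss, hszx, hswx, h4, hzz, hwzx, hww] at h5
          exact h5.symm
      rw [h3, Finset.card_empty, Fintype.card_coe] at h2
      exact Nat.even_iff.2 h2.symm
    obtain ⟨q, hq⟩ := hQeven
    -- the action of the centraliser of `z` on its transpositions
    set Lset := T.image fun x => ({x, z x} : Finset α) with hL
    have hTz : ∀ x ∈ T, z x ∈ T := fun x hx => by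
      rw [hmemT] at hx ⊢
      intro h
      exact hx (z.injective h)
    have hpair_eq : ∀ x y : α, y ∈ ({x, z x} : Finset α) → ({y, z y} : Finset α) = {x, z x} := fun x y hy => by
      simp only [Finset.mem_insert, Finset.mem_singleton] at hy
      rcases hy with rfl | rfl
      · rfl
      · rw [hzz, Finset.pair_comm]
    have hTL : T.card = 2 * Lset.card := by
      rw [Finset.card_eq_sum_card_image (fun x => ({x, z x} : Finset α)) T, mul_comm, ← smul_eq_mul,
        ← Finset.sum_const]
      refine Finset.sum_congr rfl fun O hO => ?_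
      obtain ⟨x, hx, rfl⟩ := Finset.mem_image.1 hO
      rw [← Finset.card_pair ((hmemT x).1 hx).symm]
      congr 1
      ext y
      simp only [Finset.mem_filter]
      refine ⟨fun h => h.2 ▸ by simp, fun h => ⟨?_, hpair_eq x y h⟩⟩
      simp only [Finset.mem_insert, Finset.mem_singleton] at h
      rcases h with rfl | rfl
      exacts [hx, hTz x hx]
    let H : Subgroup (Equiv.Perm α) := G ⊓ Subgroup.centralizer {z}
    have hHz : ∀ g ∈ H, ∀ x, g (z x) = z (g x) := fun g hg x =>
      DFunLike.congr_fun (Subgroup.mem_centralizer_singleton_iff.1 hg.2) x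
    have hHE : ∀ g ∈ H, ∀ e ∈ E, g e ∈ E := fun g hg e he => by
      rw [hEdef, mem_fixFinset] at he ⊢
      rw [← hHz g hg, he]
    have hHfwd : ∀ g ∈ H, ∀ O ∈ Lset, (Equiv.finsetCongr g) O ∈ Lset := by
      intro g hg O hO
      obtain ⟨x, hx, rfl⟩ := Finset.mem_image.1 hO
      refine Finset.mem_image.2 ⟨g x, ?_, ?_⟩
      · rw [hmemT] at hx ⊢
        rw [← hHz g hg]
        exact fun h => hx (g.injective h)
      · simp [Equiv.finsetCongr_apply, Finset.map_eq_image, Finset.image_insert, hHz g hg]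
    have hHiff : ∀ g : H, ∀ O, (Equiv.finsetCongr (g : Equiv.Perm α)) O ∈ Lset ↔ O ∈ Lset := fun g O =>
      ⟨fun h => by
        have h1 := hHfwd _ (H.inv_mem g.2) _ h
        rwa [show (Equiv.finsetCongr ((g : Equiv.Perm α))⁻¹)
          ((Equiv.finsetCongr (g : Equiv.Perm α)) O) = O by
            ext y; simp [Equiv.finsetCongr_apply, Equiv.Perm.inv_def]] at h1,
        hHfwd _ g.2 O⟩
    let ρ : H →* Equiv.Perm Lset :=
      { toFun := fun g => Equiv.Perm.subtypePerm (Equiv.finsetCongr (g : Equiv.Perm α) : Equiv.Perm (Finset α)) (hHiff g)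
        map_one' := by
          refine Equiv.ext fun O => Subtype.ext ?_
          simp [Equiv.finsetCongr_apply, Finset.map_eq_image]
        map_mul' := fun g h => by
          refine Equiv.ext fun O => Subtype.ext ?_
          show Equiv.finsetCongr ((g : Equiv.Perm α) * (h : Equiv.Perm α)) (O : Finset α) =
            Equiv.finsetCongr (g : Equiv.Perm α) (Equiv.finsetCongr (h : Equiv.Perm α) (O : Finset α))
          simp [Equiv.finsetCongr_apply, Finset.map_eq_image, Finset.image_image, Function.comp_def] }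
    have hρ : ∀ (g : H) (O : Lset), ((ρ g O : Lset) : Finset α) = (O : Finset α).image g := fun g O => by
      simp [ρ, Equiv.finsetCongr_apply, Finset.map_eq_image]
    let C0 : Subgroup H :=
      { carrier := {g | ∀ e ∈ E, (g : Equiv.Perm α) e = e}
        one_mem' := fun _ _ => rfl
        mul_mem' := fun {g h} hg hh e he => by
          simp only [Subgroup.coe_mul, Equiv.Perm.mul_apply]
          rw [hh e he, hg e he]
        inv_mem' := fun {g} hg e he => by
          simp only [Subgroup.coe_inv, Equiv.Perm.inv_eq_iff_eq]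
          exact (hg e he).symm }
    haveI : C0.Normal := ⟨fun g hg h e he => by
      simp only [Subgroup.coe_mul, Subgroup.coe_inv, Equiv.Perm.mul_apply]
      rw [hg _ (hHE _ (H.inv_mem h.2) e he), Equiv.Perm.inv_def, Equiv.apply_symm_apply]⟩
    let zH : H := ⟨z, hz, Subgroup.mem_centralizer_singleton_iff.2 rfl⟩
    let wH : H := ⟨w, hw, Subgroup.mem_centralizer_singleton_iff.2 hwz.eq⟩
    have hwC : wH ∈ C0 := hwid
    have hzC : zH ∈ C0 := fun e he => mem_fixFinset.1 he
    have hρz : ρ zH = 1 := by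
      refine Equiv.ext fun O => Subtype.ext ?_
      rw [hρ, Equiv.Perm.one_apply]
      obtain ⟨x, -, hxO⟩ := Finset.mem_image.1 O.2
      rw [← hxO, Finset.image_insert, Finset.image_singleton]
      show ({z x, z (z x)} : Finset α) = _
      rw [hzz, Finset.pair_comm]
    -- `w` is an odd permutation of the transpositions
    have hl : Lset.card % 4 = 2 := by omega
    have hwodd : Equiv.Perm.sign (ρ wH) = -1 := by
      have hne : ∀ O : Lset, ρ wH O ≠ O := by
        rintro ⟨O, hO⟩ h
        obtain ⟨x, hx, rfl⟩ := Finset.mem_image.1 hO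
        have h' : ({x, z x} : Finset α).image w = {x, z x} := by
          have := congrArg Subtype.val h
          rwa [hρ] at this
        have hxE : x ∉ E := fun he => (hmemT x).1 hx (mem_fixFinset.1 he)
        have h1 : w x ∈ ({x, z x} : Finset α) := h' ▸ Finset.mem_image_of_mem w (by simp)
        simp only [Finset.mem_insert, Finset.mem_singleton] at h1
        rcases h1 with h1 | h1
        · exact hwne x hxE h1
        · exact hzwne x hxE (by rw [h1, hzz])
      have h2 : ρ wH ^ 2 = 1 := by
        rw [← map_pow, show wH ^ 2 = 1 from Subtype.ext (by rw [pow_two]; exact hw2), map_one]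
      have hsupp : (ρ wH).support.card = Lset.card := by
        rw [show (ρ wH).support = Finset.univ by
          refine Finset.eq_univ_of_forall fun O => ?_
          exact Equiv.Perm.mem_support.2 (hne O), Finset.card_univ, Fintype.card_coe]
      haveI := Fact.mk Nat.prime_two
      have hall : ∀ r ∈ (ρ wH).cycleType, r = 2 := fun r hr =>
        ((Nat.prime_dvd_prime_iff_eq ?_ Nat.prime_two).1
          ((Equiv.Perm.dvd_of_mem_cycleType hr).trans (orderOf_dvd_of_pow_eq_one h2)))
      · have hrep := Multiset.eq_replicate_card.2 hall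
        have hsum := Equiv.Perm.sum_cycleType (ρ wH)
        rw [hrep, Multiset.sum_replicate, smul_eq_mul, hsupp] at hsum
        rw [Equiv.Perm.sign_of_cycleType, hrep, Multiset.sum_replicate, Multiset.card_replicate,
          smul_eq_mul]
        refine Odd.neg_one_pow ?_
        rw [Nat.odd_iff]
        omega
      · have h3 := Equiv.Perm.two_le_of_mem_cycleType hr
        have h4 := Nat.le_of_dvd (by norm_num)
          ((Equiv.Perm.dvd_of_mem_cycleType hr).trans (orderOf_dvd_of_pow_eq_one h2))
        rw [show r = 2 by omega]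
        exact Nat.prime_two
    let χ : H →* ℤˣ := Equiv.Perm.sign.comp ρ
    let N0 : Subgroup H := C0 ⊓ χ.ker
    -- the order of `C0`
    have h8 : ¬ 8 ∣ Nat.card C0 := by
      let M : Subgroup (Equiv.Perm α) := G ⊓ fixingSubgroup (Equiv.Perm α) (E : Set α)
      have hmemM : ∀ g, g ∈ M ↔ g ∈ G ∧ ∀ e ∈ E, g e = e := fun g => by
        simp [M, mem_fixingSubgroup_iff]
      have hle : Nat.card C0 ∣ Nat.card M := by
        rw [Nat.card_congr (Subgroup.equivMapOfInjective C0 H.subtype H.subtype_injective).toEquiv]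
        refine Subgroup.card_dvd_of_le ?_
        rintro _ ⟨g, hg, rfl⟩
        exact (hmemM _).2 ⟨g.2.1, hg⟩
      obtain ⟨x₀, hx₀⟩ : T.Nonempty := Finset.card_pos.1 (by omega)
      have horb : MulAction.orbit M x₀ = (T : Set α) := by
        ext y
        constructor
        · rintro ⟨⟨g, hg⟩, rfl⟩
          show g x₀ ∈ T
          simp only [hT, Finset.mem_sdiff, Finset.mem_univ, true_and] at hx₀ ⊢
          intro h
          have h1 := ((hmemM g).1 hg).2 _ h
          exact hx₀ (g.injective h1 ▸ h)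
        · intro hy
          rw [Finset.mem_coe] at hy
          simp only [hT, Finset.mem_sdiff, Finset.mem_univ, true_and] at hx₀ hy
          obtain ⟨g, hg, hgx⟩ := ktrans_exists_finset hG h4n (insert x₀ E)
            (by rw [Finset.card_insert_of_notMem hx₀]; omega) (fun c => if c = x₀ then y else c) (by
              intro a ha b hb h
              simp only at h
              simp only [Finset.coe_insert, Set.mem_insert_iff, Finset.mem_coe] at ha hb
              rcases ha with rfl | ha <;> rcases hb with rfl | hb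
              · rfl
              · rw [if_pos rfl, if_neg (fun e : b = a => hx₀ (e ▸ hb))] at h
                exact absurd (h ▸ hb) hy
              · rw [if_pos rfl, if_neg (fun e : a = b => hx₀ (e ▸ ha))] at h
                exact absurd (h ▸ ha) hy
              · rwa [if_neg (fun e : a = x₀ => hx₀ (e ▸ ha)), if_neg (fun e : b = x₀ => hx₀ (e ▸ hb))] at h)
          refine ⟨⟨g, (hmemM g).2 ⟨hg, fun e he => ?_⟩⟩, ?_⟩
          · rw [hgx e (Finset.mem_insert_of_mem he), if_neg (fun h : e = x₀ => hx₀ (h ▸ he))]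
          · show g x₀ = y
            rw [hgx x₀ (Finset.mem_insert_self _ _), if_pos rfl]
      have hodd : Odd (Nat.card (MulAction.stabilizer M x₀)) := by
        by_contra h
        haveI := Fact.mk Nat.prime_two
        obtain ⟨g, hg⟩ := exists_prime_orderOf_dvd_card' (G := MulAction.stabilizer M x₀) 2
          (even_iff_two_dvd.1 (Nat.not_odd_iff_even.1 h))
        have hx₀E : x₀ ∉ E := fun he => (hmemT x₀).1 hx₀ (mem_fixFinset.1 he)
        have h1 : Odd (orderOf ((g : M) : Equiv.Perm α)) := hBf.odd_order ((hmemM _).1 (g : M).2).1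
          (s := insert x₀ E) (by rw [Finset.card_insert_of_notMem hx₀E]; omega) (fun c hc => by
            rcases Finset.mem_insert.1 hc with rfl | hc
            · exact g.2
            · exact ((hmemM _).1 (g : M).2).2 c hc)
        rw [orderOf_submonoid, orderOf_submonoid, hg] at h1
        exact absurd h1 (by decide)
      intro h
      have h1 := h.trans hle
      rw [← (MulAction.stabilizer M x₀).index_mul_card, MulAction.index_stabilizer, horb,
        Set.ncard_coe_finset] at h1
      have h2 : 8 ∣ T.card := (Nat.Coprime.dvd_of_dvd_mul_right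
        (Nat.Coprime.pow_left 3 (Nat.coprime_two_left.2 hodd)) h1)
      omega
    have hN0 : 2 * Nat.card N0 = Nat.card C0 := by
      let ψ := χ.comp C0.subtype
      have hsurj : Function.Surjective ψ := fun u => by
        rcases Int.units_eq_one_or u with rfl | rfl
        · exact ⟨1, map_one ψ⟩
        · exact ⟨⟨wH, hwC⟩, hwodd⟩
      have h1 := ψ.ker.card_mul_index
      rw [Subgroup.index_ker, MonoidHom.range_eq_top.2 hsurj, Subgroup.card_top,
        Nat.card_eq_fintype_card (α := ℤˣ), Fintype.card_units_int] at h1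
      rw [← h1, mul_comm 2, Nat.card_congr (Subgroup.equivMapOfInjective ψ.ker C0.subtype C0.subtype_injective).toEquiv]
      congr 2
      have : ψ.ker.map C0.subtype = N0 := by
        ext g
        constructor
        · rintro ⟨g, hg, rfl⟩
          exact ⟨g.2, hg⟩
        · rintro ⟨h1, h2⟩
          exact ⟨⟨g, h1⟩, h2, rfl⟩
      rw [this]
    have hN0odd : Odd (Nat.card (N0.map ρ)) := by
      let θ := ρ.comp N0.subtype
      have h1 := θ.ker.card_mul_index
      rw [Subgroup.index_ker] at h1
      have hrange : θ.range = N0.map ρ := by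
        rw [MonoidHom.range_comp, Subgroup.range_subtype]
      rw [hrange] at h1
      have hker : 2 ∣ Nat.card θ.ker := by
        have hzN : zH ∈ N0 := ⟨hzC, by show χ zH = 1; simp [χ, hρz]⟩
        have hzk : (⟨zH, hzN⟩ : N0) ∈ θ.ker := hρz
        have h2 : orderOf (⟨⟨zH, hzN⟩, hzk⟩ : θ.ker) = 2 := by
          rw [← orderOf_submonoid, ← orderOf_submonoid, ← orderOf_submonoid, orderOf_eq_prime_iff]
          exact ⟨by rw [pow_two]; exact hz2, hz1⟩
        exact h2 ▸ orderOf_dvd_natCard _
      rw [Nat.odd_iff]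
      by_contra hev
      refine h8 ?_
      rw [← hN0, ← h1]
      exact mul_dvd_mul (dvd_refl 2) (show 2 * 2 ∣ _ from mul_dvd_mul hker (show 2 ∣ Nat.card (N0.map ρ) by omega))
    -- the image is doubly transitive
    have hmap : ∀ x ∈ T, ∀ y ∈ T, y ∉ ({x, z x} : Finset α) → ∃ g ∈ H, g x = p 0 ∧ g y = p 2 := by
      intro x hx y hy hyx
      simp only [Finset.mem_insert, Finset.mem_singleton, not_or] at hyx
      rw [hmemT] at hx hy
      have e1 : x ≠ z x := Ne.symm hx
      have e2 : y ≠ z y := Ne.symm hy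
      have e3 : z x ≠ z y := fun h => hyx.1 (z.injective h).symm
      have e4 : x ≠ z y := fun h => hyx.2 (by rw [h, hzz])
      have hinj : Function.Injective ![x, z x, y, z y] := by
        intro i j h
        fin_cases i <;> fin_cases j <;> simp [e1, e1.symm, e2, e2.symm, e3, e3.symm, e4, e4.symm,
          hyx.1, Ne.symm hyx.1, hyx.2, Ne.symm hyx.2] at h ⊢
      obtain ⟨g, hg, hgp⟩ := ktrans_exists hG h4n le_rfl ⟨_, hinj⟩ p
      have hagree : ∀ c ∈ Finset.univ.map p, (g * z * g⁻¹) c = z c := by
        intro c hc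
        obtain ⟨i, -, rfl⟩ := Finset.mem_map.1 hc
        have h1 : g⁻¹ (p i) = ![x, z x, y, z y] i := by
          rw [← hgp i, Equiv.Perm.inv_def, Equiv.symm_apply_apply]; rfl
        have h2 : z (![x, z x, y, z y] i) = ![x, z x, y, z y] (dtA i) := by
          fin_cases i <;> simp [dtA, hzz, Equiv.swap_apply_def]
        rw [Equiv.Perm.mul_apply, Equiv.Perm.mul_apply, h1, h2, hzp]
        exact hgp _
      obtain ⟨k, hk, hks, hke, -⟩ := hB.conj_of_agree (G.mul_mem (G.mul_mem hg hz) (G.inv_mem hg)) hz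
        (by rw [show g * z * g⁻¹ * (g * z * g⁻¹) = g * (z * z) * g⁻¹ by group, hz2, mul_one, mul_inv_cancel])
        hz2 (by omega) hagree
      refine ⟨k * g, ⟨G.mul_mem hk hg, Subgroup.mem_centralizer_singleton_iff.2 ?_⟩, ?_, ?_⟩
      · exact mul_inv_eq_iff_eq_mul.1 (by
          rw [show k * g * z * (k * g)⁻¹ = k * (g * z * g⁻¹) * k⁻¹ by group, hke])
      · rw [Equiv.Perm.mul_apply, show g x = p 0 from hgp 0, hks _ (hpS 0)]
      · rw [Equiv.Perm.mul_apply, show g y = p 2 from hgp 2, hks _ (hpS 2)]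
    have h2t : ∀ A ∈ (Finset.univ : Finset Lset), ∀ B ∈ (Finset.univ : Finset Lset),
        ∀ C ∈ (Finset.univ : Finset Lset), ∀ D ∈ (Finset.univ : Finset Lset), A ≠ B → C ≠ D →
        ∃ g ∈ ρ.range, g A = C ∧ g B = D := by
      rintro ⟨A, hA⟩ - ⟨B, hB'⟩ - ⟨C, hC⟩ - ⟨D, hD⟩ - hAB hCD
      obtain ⟨x, hx, rfl⟩ := Finset.mem_image.1 hA
      obtain ⟨y, hy, rfl⟩ := Finset.mem_image.1 hB'
      obtain ⟨x', hx', rfl⟩ := Finset.mem_image.1 hC
      obtain ⟨y', hy', rfl⟩ := Finset.mem_image.1 hD
      obtain ⟨g, hg, hgx, hgy⟩ := hmap x hx y hy fun h => hAB (Subtype.ext (hpair_eq x y h).symm)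
      obtain ⟨g', hg', hgx', hgy'⟩ := hmap x' hx' y' hy' fun h => hCD (Subtype.ext (hpair_eq x' y' h).symm)
      refine ⟨ρ ((⟨g', hg'⟩ : H)⁻¹ * ⟨g, hg⟩), ⟨_, rfl⟩, Subtype.ext ?_, Subtype.ext ?_⟩ <;>
        simp only [hρ, Subgroup.coe_mul, Subgroup.coe_inv, Equiv.Perm.coe_mul, Finset.image_insert,
          Finset.image_singleton, Function.comp_apply]
      · rw [hHz g hg, hgx, ← hgx', ← hHz g' hg', Equiv.Perm.inv_def, Equiv.symm_apply_apply,
          Equiv.symm_apply_apply]
      · rw [hHz g hg, hgy, ← hgy', ← hHz g' hg', Equiv.Perm.inv_def, Equiv.symm_apply_apply,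
          Equiv.symm_apply_apply]
    have hconj : ∀ (K : Subgroup H), K.Normal → ∀ g ∈ ρ.range, ∀ k ∈ K.map ρ, g * k * g⁻¹ ∈ K.map ρ := by
      intro K hK g hg k hk
      obtain ⟨g, rfl⟩ := hg
      obtain ⟨k, hk, rfl⟩ := hk
      exact ⟨g * k * g⁻¹, hK.conj_mem k hk g, by simp⟩
    have hLcard : (Finset.univ : Finset Lset).card = Lset.card := by rw [Finset.card_univ, Fintype.card_coe]
    have hN0triv : ∀ g ∈ N0, ρ g = 1 := by
      intro g hg
      by_contra hne
      obtain ⟨O, hO⟩ : ∃ O, ρ g O ≠ O := by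
        by_contra h
        push Not at h
        exact hne (Equiv.ext h)
      have h1 := normal_trans_of_two_trans ρ.range (N0.map ρ) Finset.univ (hconj N0 inferInstance)
        (fun _ _ _ _ => Finset.mem_univ _) h2t (Subgroup.mem_map_of_mem ρ hg) (Finset.mem_univ O) hO
      rw [hLcard] at h1
      have h2 := Nat.odd_iff.1 (Odd.of_dvd_nat hN0odd h1)
      omega
    have hC0le : Nat.card (C0.map ρ) ≤ 2 := by
      rw [← Nat.card_eq_two_iff' (1 : ℤˣ) |>.2 ⟨-1, by decide, fun y hy => (Int.units_eq_one_or y).resolve_left hy⟩]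
      refine Nat.card_le_card_of_injective (fun g : C0.map ρ => Equiv.Perm.sign (g : Equiv.Perm Lset)) ?_
      rintro ⟨_, g, hg, rfl⟩ ⟨_, k, hk, rfl⟩ h
      refine Subtype.ext ?_
      have h' : χ g = χ k := h
      have h3 := hN0triv (k⁻¹ * g) ⟨C0.mul_mem (C0.inv_mem hk) hg, by
        show χ (k⁻¹ * g) = 1
        rw [map_mul, map_inv, h', inv_mul_cancel]⟩
      rw [map_mul, map_inv, inv_mul_eq_one] at h3
      exact h3.symm
    obtain ⟨O₀⟩ : Nonempty Lset := Fintype.card_pos_iff.1 (by rw [Fintype.card_coe]; omega)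
    have hne0 : ρ wH O₀ ≠ O₀ ∨ ∃ O, ρ wH O ≠ O := by
      refine Or.inr ?_
      by_contra h
      push Not at h
      rw [show ρ wH = 1 from Equiv.ext h, map_one] at hwodd
      exact absurd hwodd (by decide)
    obtain ⟨O, hO⟩ : ∃ O, ρ wH O ≠ O := hne0.elim (fun h => ⟨_, h⟩) id
    have h1 := normal_trans_of_two_trans ρ.range (C0.map ρ) Finset.univ (hconj C0 inferInstance)
      (fun _ _ _ _ => Finset.mem_univ _) h2t (Subgroup.mem_map_of_mem ρ hwC) (Finset.mem_univ O) hO
    rw [hLcard] at h1
    have := Nat.le_of_dvd Nat.card_pos h1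
    omega
  push Not at hwid
  obtain ⟨e₀, he₀, hwe₀⟩ := hwid
  by_cases hf : f = 3
  · -- the common fixed point
    refine ⟨Nat.odd_iff.2 (by omega), ?_⟩
    obtain ⟨a, ha⟩ : (Fs ∩ E).Nonempty := Finset.card_pos.1 (by omega)
    obtain ⟨ha1, ha2⟩ := Finset.mem_inter.1 ha
    have hone : (Fs ∩ E).card = 1 := by omega
    have hwa : w a = a := by
      have hm : w a ∈ Fs ∩ E := Finset.mem_inter.2 ⟨mem_fixFinset.2 (by
        rw [hswE a ha2, mem_fixFinset.1 ha1]), hwE a ha2⟩
      obtain ⟨c, hc⟩ := Finset.card_eq_one.1 hone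
      rw [hc, Finset.mem_singleton] at hm ha
      rw [hm, ha]
    have hza : z a = a := mem_fixFinset.1 ha2
    have huniq : ∀ c, z c = c → w c = c → c = a := by
      intro c hzc hwc
      by_contra hne
      have hcE : c ∈ E := mem_fixFinset.2 hzc
      have hwe₁ : w e₀ ≠ a := fun h => by
        have := congrArg w h
        rw [hww, hwa] at this
        exact hwe₀ (h.trans this.symm)
      have hwe₂ : w e₀ ≠ c := fun h => by
        have := congrArg w h
        rw [hww, hwc] at this
        exact hwe₀ (h.trans this.symm)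
      have he₁ : e₀ ≠ a := fun h => hwe₀ (h ▸ hwa)
      have he₂ : e₀ ≠ c := fun h => hwe₀ (h ▸ hwc)
      have hsub : ({a, c, e₀, w e₀} : Finset α) ⊆ E := by
        intro y hy
        simp only [Finset.mem_insert, Finset.mem_singleton] at hy
        rcases hy with rfl | rfl | rfl | rfl
        exacts [ha2, hcE, he₀, hwE _ he₀]
      have h5 := Finset.card_le_card hsub
      rw [Finset.card_insert_of_notMem (by simp [Ne.symm hne, he₁.symm, hwe₁.symm]),
        Finset.card_insert_of_notMem (by simp [he₂.symm, hwe₂.symm]),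
        Finset.card_pair (Ne.symm hwe₀)] at h5
      omega
    refine ⟨a, fun i h => hES i (h ▸ ha2), fun σ => ?_⟩
    let v : Fin 3 → Equiv.Perm α := ![z, w, z * w]
    have hvG : ∀ i, v i ∈ G := fun i => by fin_cases i <;> simp [v, hz, hw, G.mul_mem hz hw]
    have hzw2 : z * w * (z * w) = 1 := by
      rw [show z * w * (z * w) = z * (w * z) * w by group, hwz.eq,
        show z * (z * w) * w = (z * z) * (w * w) by group, hz2, hw2, one_mul]
    have hv2 : ∀ i, v i * v i = 1 := fun i => by fin_cases i <;> simp [v, hz2, hw2, hzw2]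
    have hvp : ∀ i j, v i (p j) = p (dtC i j) := fun i j => by
      fin_cases i <;> simp [v, dtC, hzp, hwp, Equiv.Perm.mul_apply]
    have hvc : ∀ i j, Commute (v i) (v j) := fun i j => by
      fin_cases i <;> fin_cases j <;> simp [v] <;>
        first
          | exact hwz
          | exact hwz.symm
          | exact (Commute.refl z).mul_right hwz.symm
          | exact ((Commute.refl z).mul_right hwz.symm).symm
          | exact hwz.mul_right (Commute.refl w)
          | exact (hwz.mul_right (Commute.refl w)).symm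
    obtain ⟨i, j, hij, hiA, hjB⟩ := dt_conj σ
    obtain ⟨g0, hg0, hg0p⟩ := ktrans_exists hG h4n le_rfl p (σ.toEmbedding.trans p)
    have hg0p' : ∀ l, g0 (p l) = p (σ l) := hg0p
    have hg0i : ∀ l, g0⁻¹ (p l) = p (σ.symm l) := fun l => by
      rw [Equiv.Perm.inv_eq_iff_eq, hg0p', Equiv.apply_symm_apply]
    obtain ⟨k1, hk1, hk1s, hk1e, -⟩ := hB.conj_of_agree (G.mul_mem (G.mul_mem hg0 hz) (G.inv_mem hg0))
      (hvG i)
      (by rw [show g0 * z * g0⁻¹ * (g0 * z * g0⁻¹) = g0 * (z * z) * g0⁻¹ by group, hz2, mul_one, mul_inv_cancel])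
      (hv2 i) (s := Finset.univ.map p) (by omega) (fun c hc => by
        obtain ⟨l, -, rfl⟩ := Finset.mem_map.1 hc
        rw [Equiv.Perm.mul_apply, Equiv.Perm.mul_apply, hg0i, hzp, hg0p', hvp, hiA])
    set g1 := k1 * g0 with hg1
    have hg1z : g1 * z * g1⁻¹ = v i := by
      rw [hg1, show k1 * g0 * z * (k1 * g0)⁻¹ = k1 * (g0 * z * g0⁻¹) * k1⁻¹ by group, hk1e]
    have hg1p : ∀ l, g1 (p l) = p (σ l) := fun l => by
      rw [hg1, Equiv.Perm.mul_apply, hg0p', hk1s _ (hpS _)]
    have hg1i : ∀ l, g1⁻¹ (p l) = p (σ.symm l) := fun l => by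
      rw [Equiv.Perm.inv_eq_iff_eq, hg1p, Equiv.apply_symm_apply]
    have hcomm1 : Commute (v i) (g1 * w * g1⁻¹) := by
      rw [← hg1z]
      show g1 * z * g1⁻¹ * (g1 * w * g1⁻¹) = g1 * w * g1⁻¹ * (g1 * z * g1⁻¹)
      rw [show g1 * z * g1⁻¹ * (g1 * w * g1⁻¹) = g1 * (z * w) * g1⁻¹ by group, ← hwz.eq]
      group
    obtain ⟨k2, hk2, hk2s, hk2e, hk2c⟩ := hB.conj_of_agree
      (G.mul_mem (G.mul_mem (G.mul_mem hk1 hg0) hw) (G.inv_mem (G.mul_mem hk1 hg0))) (hvG j)
      (by rw [← hg1, show g1 * w * g1⁻¹ * (g1 * w * g1⁻¹) = g1 * (w * w) * g1⁻¹ by group, hw2, mul_one,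
        mul_inv_cancel])
      (hv2 j) (s := Finset.univ.map p) (by omega) (fun c hc => by
        obtain ⟨l, -, rfl⟩ := Finset.mem_map.1 hc
        rw [← hg1, Equiv.Perm.mul_apply, Equiv.Perm.mul_apply, hg1i, hwp, hg1p, hvp, hjB])
    rw [← hg1] at hk2e hk2c
    set g := k2 * g1 with hg
    have hgz : g * z * g⁻¹ = v i := by
      rw [hg, show k2 * g1 * z * (k2 * g1)⁻¹ = k2 * (g1 * z * g1⁻¹) * k2⁻¹ by group, hg1z,
        (hk2c (v i) hcomm1 (hvc i j)).symm.eq, mul_inv_cancel_right]
    have hgw : g * w * g⁻¹ = v j := by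
      rw [hg, show k2 * g1 * w * (k2 * g1)⁻¹ = k2 * (g1 * w * g1⁻¹) * k2⁻¹ by group, hk2e]
    refine ⟨g, G.mul_mem hk2 (G.mul_mem hk1 hg0), fun l => by
      rw [hg, Equiv.Perm.mul_apply, hg1p, hk2s _ (hpS _)], ?_⟩
    have hfi : v i (g a) = g a := by
      rw [← hgz, Equiv.Perm.mul_apply, Equiv.Perm.mul_apply, Equiv.Perm.inv_def, Equiv.symm_apply_apply, hza]
    have hfj : v j (g a) = g a := by
      rw [← hgw, Equiv.Perm.mul_apply, Equiv.Perm.mul_apply, Equiv.Perm.inv_def, Equiv.symm_apply_apply, hwa]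
    have key : ∀ i j : Fin 3, i ≠ j → ∀ c, v i c = c → v j c = c → z c = c ∧ w c = c := by
      intro i j hne c hi hj
      fin_cases i <;> fin_cases j <;> simp only [v] at hi hj
      · exact absurd rfl hne
      · exact ⟨hi, hj⟩
      · refine ⟨hi, ?_⟩
        have h5 := congrArg z (show z (w c) = c from hj)
        rwa [hzz, show z c = c from hi] at h5
      · exact ⟨hj, hi⟩
      · exact absurd rfl hne
      · have h5 : z (w c) = c := hj
        rw [show w c = c from hi] at h5
        exact ⟨h5, hi⟩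
      · refine ⟨hj, ?_⟩
        have h5 := congrArg z (show z (w c) = c from hi)
        rwa [hzz, show z c = c from hj] at h5
      · have h5 : z (w c) = c := hi
        rw [show w c = c from hj] at h5
        exact ⟨h5, hj⟩
      · exact absurd rfl hne
    obtain ⟨h5, h6⟩ := key i j hij _ hfi hfj
    exact huniq (g a) h5 h6
  -- fixed pairs: the centraliser involution is isolated
  exfalso
  have hf' : f = 2 := by omega
  let M : Subgroup (Equiv.Perm α) := G ⊓ fixingSubgroup (Equiv.Perm α) (E : Set α)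
  have hmemM : ∀ g, g ∈ M ↔ g ∈ G ∧ ∀ e ∈ E, g e = e := fun g => by
    simp [M, mem_fixingSubgroup_iff]
  have honly : ∀ x ∈ M, x * x = 1 → x ≠ 1 → Commute z x → x = z := by
    intro x hx hx2 hx1 hzx
    obtain ⟨hxG, hxE⟩ := (hmemM x).1 hx
    by_contra hne
    have hxx : ∀ y, x (x y) = y := fun y => by rw [← Equiv.Perm.mul_apply, hx2, Equiv.Perm.one_apply]
    have hxzy : ∀ y, z (x y) = x (z y) := fun y => DFunLike.congr_fun hzx.eq y
    have hfx : fixFinset x = E := (Finset.eq_of_subset_of_card_le (fun e he => mem_fixFinset.2 (hxE e he))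
      (by rw [hfix x hxG hx2 hx1])).symm
    obtain ⟨q, hq⟩ : T.Nonempty := Finset.card_pos.1 (by omega)
    rw [hmemT] at hq
    have e1 : x q ≠ q := fun h => hq (mem_fixFinset.1 (hfx ▸ mem_fixFinset.2 h : q ∈ E))
    have e2 : x q ≠ z q := by
      intro h
      have hzx1 : z * x ≠ 1 := fun e => hne (by
        rw [← inv_eq_of_mul_eq_one_right hz2]; exact eq_inv_of_mul_eq_one_right e)
      have h6 := hfix (z * x) (G.mul_mem hz hxG) (by
        rw [show z * x * (z * x) = z * (x * z) * x by group, ← hzx.eq,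
          show z * (z * x) * x = (z * z) * (x * x) by group, hz2, hx2, one_mul]) hzx1
      have hsub : insert q E ⊆ fixFinset (z * x) := by
        intro y hy
        rw [mem_fixFinset, Equiv.Perm.mul_apply]
        rcases Finset.mem_insert.1 hy with rfl | hy
        · rw [h, hzz]
        · rw [hxE y hy]; exact mem_fixFinset.1 hy
      have := Finset.card_le_card hsub
      rw [Finset.card_insert_of_notMem (fun he => hq (mem_fixFinset.1 he)), h6, ← hfdef] at this
      omega
    have e3 : z (x q) ≠ x q := fun h => hq (x.injective (by rw [← hxzy, h]))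
    have e4 : z (x q) ≠ q := fun h => e2 (by rw [← hzz (x q), h])
    have e5 : z (x q) ≠ z q := fun h => e1 (z.injective h)
    have hinj : Function.Injective ![q, z q, x q, z (x q)] := by
      intro i j h
      fin_cases i <;> fin_cases j <;> simp [hq, Ne.symm hq, e1, e1.symm, e2, e2.symm, e3, e3.symm, e4,
        e4.symm, e5, e5.symm] at h ⊢
    obtain ⟨g, hg, hgp⟩ := ktrans_exists hG h4n le_rfl ⟨_, hinj⟩ p
    have hgi : ∀ i, g⁻¹ (p i) = ![q, z q, x q, z (x q)] i := fun i => by
      rw [← hgp i, Equiv.Perm.inv_def, Equiv.symm_apply_apply]; rfl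
    have hagree : ∀ c ∈ Finset.univ.map p, (g * z * g⁻¹) c = z c := by
      intro c hc
      obtain ⟨i, -, rfl⟩ := Finset.mem_map.1 hc
      have h2 : z (![q, z q, x q, z (x q)] i) = ![q, z q, x q, z (x q)] (dtA i) := by
        fin_cases i <;> simp [dtA, hzz, Equiv.swap_apply_def]
      rw [Equiv.Perm.mul_apply, Equiv.Perm.mul_apply, hgi, h2, hzp]
      exact hgp _
    obtain ⟨k, hk, hks, hke, -⟩ := hB.conj_of_agree (G.mul_mem (G.mul_mem hg hz) (G.inv_mem hg)) hz
      (by rw [show g * z * g⁻¹ * (g * z * g⁻¹) = g * (z * z) * g⁻¹ by group, hz2, mul_one, mul_inv_cancel])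
      hz2 (by omega) hagree
    set g' := k * g with hg'
    have hg'z : g' * z * g'⁻¹ = z := by
      rw [hg', show k * g * z * (k * g)⁻¹ = k * (g * z * g⁻¹) * k⁻¹ by group, hke]
    have hg'p : ∀ i, g' (![q, z q, x q, z (x q)] i) = p i := fun i => by
      rw [hg', Equiv.Perm.mul_apply, show g (![q, z q, x q, z (x q)] i) = p i from hgp i, hks _ (hpS i)]
    have hxg : Commute z (g' * x * g'⁻¹) := by
      show z * (g' * x * g'⁻¹) = g' * x * g'⁻¹ * z
      calc z * (g' * x * g'⁻¹) = g' * z * g'⁻¹ * (g' * x * g'⁻¹) := by rw [hg'z]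
        _ = g' * (z * x) * g'⁻¹ := by group
        _ = g' * (x * z) * g'⁻¹ := by rw [hzx.eq]
        _ = g' * x * g'⁻¹ * (g' * z * g'⁻¹) := by group
        _ = g' * x * g'⁻¹ * z := by rw [hg'z]
    have hg'G : g' ∈ G := G.mul_mem hk hg
    obtain ⟨k2, hk2, -, hk2e, hk2c⟩ := hB.conj_of_agree
      (G.mul_mem (G.mul_mem hg'G hxG) (G.inv_mem hg'G)) hw
      (by rw [show g' * x * g'⁻¹ * (g' * x * g'⁻¹) = g' * (x * x) * g'⁻¹ by group, hx2, mul_one, mul_inv_cancel])
      hw2 (s := Finset.univ.map p) (by omega) (fun c hc => by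
        obtain ⟨i, -, rfl⟩ := Finset.mem_map.1 hc
        have h2 : x (![q, z q, x q, z (x q)] i) = ![q, z q, x q, z (x q)] (dtB i) := by
          fin_cases i <;> simp [dtB, hxx, hxzy, Equiv.swap_apply_def]
        rw [Equiv.Perm.mul_apply, Equiv.Perm.mul_apply,
          show g'⁻¹ (p i) = ![q, z q, x q, z (x q)] i from Equiv.Perm.inv_eq_iff_eq.2 (hg'p i).symm,
          h2, hg'p, hwp])
    set h := k2 * g' with hh
    have hhz : ∀ y, h (z y) = z (h y) := fun y => DFunLike.congr_fun
      ((hk2c z hxg hwz.symm).symm.mul_left (mul_inv_eq_iff_eq_mul.1 hg'z : Commute g' z)).eq y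
    have hhw : h * x * h⁻¹ = w := by
      rw [hh, show k2 * g' * x * (k2 * g')⁻¹ = k2 * (g' * x * g'⁻¹) * k2⁻¹ by group, hk2e]
    refine hwe₀ ?_
    have he' : h⁻¹ e₀ ∈ E := mem_fixFinset.2 (by
      apply h.injective
      rw [hhz, Equiv.Perm.inv_def, Equiv.apply_symm_apply, mem_fixFinset.1 he₀])
    rw [← hhw, Equiv.Perm.mul_apply, Equiv.Perm.mul_apply, hxE _ he', Equiv.Perm.inv_def,
      Equiv.apply_symm_apply]
  let zM : M := ⟨z, (hmemM z).2 ⟨hz, fun e he => mem_fixFinset.1 he⟩⟩
  have hiso : Cfsg.IsIsolatedInvolution zM := by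
    refine ⟨by rw [← orderOf_submonoid, orderOf_eq_prime_iff]; exact ⟨by rw [pow_two]; exact hz2, hz1⟩,
      fun g hc => Subtype.ext (honly _ (g * zM * g⁻¹).2 ?_ ?_ (congrArg Subtype.val hc.eq))⟩
    · show ((g : Equiv.Perm α) * z * (g : Equiv.Perm α)⁻¹) * ((g : Equiv.Perm α) * z * (g : Equiv.Perm α)⁻¹) = 1
      rw [show (g : Equiv.Perm α) * z * (g : Equiv.Perm α)⁻¹ * ((g : Equiv.Perm α) * z * (g : Equiv.Perm α)⁻¹) =
        (g : Equiv.Perm α) * (z * z) * (g : Equiv.Perm α)⁻¹ by group, hz2, mul_one, mul_inv_cancel]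
    · show (g : Equiv.Perm α) * z * (g : Equiv.Perm α)⁻¹ ≠ 1
      exact fun e => hz1 (conj_eq_one_iff.1 e)
  -- transitivity on ordered pairs outside `E`
  have hTfix : ∀ g ∈ M, ∀ c ∈ T, g c ∈ T := by
    intro g hg c hc
    simp only [hT, Finset.mem_sdiff, Finset.mem_univ, true_and] at hc ⊢
    intro h
    have h1 := ((hmemM g).1 hg).2 _ h
    exact hc (g.injective h1 ▸ h)
  have h2T : ∀ a ∈ T, ∀ b ∈ T, ∀ c ∈ T, ∀ d ∈ T, a ≠ b → c ≠ d → ∃ g ∈ M, g a = c ∧ g b = d := by
    intro a ha b hb c hc d hd hab hcd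
    simp only [hT, Finset.mem_sdiff, Finset.mem_univ, true_and] at ha hb hc hd
    obtain ⟨g, hg, hgx⟩ := ktrans_exists_finset hG h4n (insert a (insert b E))
      (by
        have h1 := Finset.card_insert_le a (insert b E)
        have h2 := Finset.card_insert_le b E
        omega)
      (fun x => if x = a then c else if x = b then d else x) (by
        intro x hx y hy h
        simp only [Finset.coe_insert, Set.mem_insert_iff, Finset.mem_coe] at hx hy
        have key : ∀ e ∈ E, e ≠ a ∧ e ≠ b ∧ e ≠ c ∧ e ≠ d := fun e he =>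
          ⟨fun h => ha (h ▸ he), fun h => hb (h ▸ he), fun h => hc (h ▸ he), fun h => hd (h ▸ he)⟩
        rcases hx with rfl | rfl | hx <;> rcases hy with rfl | rfl | hy
        all_goals first
          | rfl
          | (simp [hab, hab.symm, hcd, hcd.symm] at h; done)
          | (obtain ⟨e1, e2, e3, e4⟩ := key _ hx
             simp [e1, e2, e3, e4, hab, hab.symm] at h; done)
          | (obtain ⟨e1, e2, e3, e4⟩ := key _ hy
             simp [e1, e2, Ne.symm e3, Ne.symm e4, hab, hab.symm] at h; done)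
          | (obtain ⟨e1, e2, -, -⟩ := key _ hx
             obtain ⟨f1, f2, -, -⟩ := key _ hy
             simpa [e1, e2, f1, f2] using h))
    refine ⟨g, (hmemM g).2 ⟨hg, fun e he => ?_⟩, ?_, ?_⟩
    · rw [hgx e (Finset.mem_insert_of_mem (Finset.mem_insert_of_mem he)),
        if_neg (fun h : e = a => ha (h ▸ he)), if_neg (fun h : e = b => hb (h ▸ he))]
    · rw [hgx a (Finset.mem_insert_self _ _), if_pos rfl]
    · rw [hgx b (Finset.mem_insert_of_mem (Finset.mem_insert_self _ _)), if_neg hab.symm, if_pos rfl]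
  let O : Subgroup (Equiv.Perm α) := (Cfsg.oddCore M).map M.subtype
  have hOtriv : ∀ g ∈ O, g = 1 := by
    intro g hg
    refine Equiv.ext fun c => ?_
    obtain ⟨g', hg', rfl⟩ := hg
    by_cases hcT : c ∈ T
    swap
    · simp only [hT, Finset.mem_sdiff, Finset.mem_univ, true_and, not_not] at hcT
      exact ((hmemM _).1 g'.2).2 c hcT
    by_contra hne
    have h1 := normal_trans_of_two_trans M O T (fun m hm o ho => by
        obtain ⟨o, ho, rfl⟩ := ho
        exact ⟨⟨m, hm⟩ * o * ⟨m, hm⟩⁻¹, Subgroup.Normal.conj_mem inferInstance o ho ⟨m, hm⟩, rfl⟩)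
      (fun o ho => by
        obtain ⟨o, -, rfl⟩ := ho
        exact hTfix _ o.2) h2T (Subgroup.mem_map_of_mem M.subtype hg') hcT hne
    rw [Subgroup.card_map_of_injective M.subtype_injective] at h1
    have h2 := Nat.odd_iff.1 (Odd.of_dvd_nat (CfsgLib.ZStar.odd_card_oddCore M) h1)
    omega
  obtain ⟨q, hq⟩ : T.Nonempty := Finset.card_pos.1 (by omega)
  obtain ⟨r, hr⟩ : (T \ {q, z q}).Nonempty := by
    refine Finset.card_pos.1 ?_
    have h1 := Finset.le_card_sdiff ({q, z q} : Finset α) T
    have h2 : ({q, z q} : Finset α).card ≤ 2 := Finset.card_le_two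
    omega
  simp only [Finset.mem_sdiff, Finset.mem_insert, Finset.mem_singleton, not_or] at hr
  have hzqT : z q ∈ T := hTfix z zM.2 q hq
  obtain ⟨g, hg, hgq, hgr⟩ := h2T q hq (z q) hzqT q hq r hr.1 (Ne.symm ((hmemT q).1 hq)) (Ne.symm hr.2.1)
  have hcomm := hOtriv _ (Subgroup.mem_map_of_mem M.subtype (CfsgLib.ZStar.mem_oddCore_of_isolated hiso ⟨g, hg⟩))
  have hcomm' : z * g = g * z := by
    have h1 : z * g * z⁻¹ * g⁻¹ = 1 := hcomm
    rwa [mul_inv_eq_one, mul_inv_eq_iff_eq_mul] at h1
  have := DFunLike.congr_fun hcomm' q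
  rw [Equiv.Perm.mul_apply, Equiv.Perm.mul_apply, hgq, hgr] at this
  exact hr.2.2 this.symm

end CfsgLib.Perm
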