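import Mathlib

/-!
# Functions on `ZMod p` and permutation groups of prime degree

* `polyFun K p r`: the functions given by polynomials of degree `< r`.
* `eq_polyFun_of_shift_invariant`: the translation-invariant subspaces.
* `affine_of_pow_mem`: a map all whose small powers have small degree is affine.
* `isSolvable_of_affine`, `exists_coords`: affine groups are solvable; coordinates from a `p`-cycle.
* `affine_of_invariant_set`: Müller's lemma.
-/

set_option autoImplicit false
set_option linter.all false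

namespace CfsgLib.Perm.PrimeDegree

open Polynomial

variable {p : ℕ} [hp : Fact p.Prime] (K : Type*) [Field K] [CharP K p]

/-- The inclusion of the prime field. -/
noncomputable def ι : ZMod p →+* K := ZMod.castHom dvd_rfl K

/-- Evaluation of polynomials on the prime field. -/
noncomputable def evalFun : K[X] →ₗ[K] (ZMod p → K) :=
  LinearMap.pi fun j => Polynomial.leval (ι K j)

theorem evalFun_apply (P : K[X]) (j : ZMod p) : evalFun K P j = P.eval (ι K j) := rfl

theorem evalFun_comp (P Q : K[X]) (j : ZMod p) :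
    evalFun (p := p) K (P * Q) j = evalFun K P j * evalFun K Q j := eval_mul

theorem eq_zero_of_evalFun_eq_zero {P : K[X]} (hd : P.natDegree < p)
    (h : evalFun (p := p) K P = 0) : P = 0 :=
  eq_zero_of_natDegree_lt_card_of_eval_eq_zero P (f := fun j : ZMod p => ι K j)
    (ι (p := p) K).injective (fun j => congrFun h j) (by rwa [ZMod.card])

/-- The functions given by polynomials of degree `< r`. -/
noncomputable def polyFun (r : ℕ) : Submodule K (ZMod p → K) := (degreeLT K r).map (evalFun K)

theorem mem_polyFun {r : ℕ} {f : ZMod p → K} :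
    f ∈ polyFun K r ↔ ∃ P : K[X], P.degree < r ∧ evalFun K P = f := by
  simp [polyFun, Submodule.mem_map, mem_degreeLT]

theorem evalFun_injective_degreeLT {r : ℕ} (hr : r ≤ p) {P : K[X]} (hP : P.degree < r)
    (h : evalFun (p := p) K P = 0) : P = 0 := by
  by_contra hne
  refine hne (eq_zero_of_evalFun_eq_zero K ?_ h)
  exact lt_of_lt_of_le ((natDegree_lt_iff_degree_lt hne).2 hP) hr

theorem eq_of_evalFun_eq {P Q : K[X]} (hP : P.degree < p) (hQ : Q.degree < p)
    (h : evalFun (p := p) K P = evalFun K Q) : P = Q := by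
  refine sub_eq_zero.1 (evalFun_injective_degreeLT K le_rfl (P := P - Q) ?_ ?_)
  · exact lt_of_le_of_lt (degree_sub_le _ _) (max_lt hP hQ)
  · rw [map_sub, h, sub_self]

theorem finrank_polyFun {r : ℕ} (hr : r ≤ p) : Module.finrank K (polyFun (p := p) K r) = r := by
  have hinj : Function.Injective ((evalFun (p := p) K).comp (degreeLT K r).subtype) := by
    rw [injective_iff_map_eq_zero]
    rintro ⟨P, hP⟩ h
    exact Subtype.ext (evalFun_injective_degreeLT K hr (mem_degreeLT.1 hP) h)
  have h1 : LinearMap.range ((evalFun (p := p) K).comp (degreeLT K r).subtype) = polyFun K r := by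
    rw [LinearMap.range_comp, Submodule.range_subtype]; rfl
  rw [← h1, LinearMap.finrank_range_of_inj hinj, (degreeLTEquiv K r).finrank_eq,
    Module.finrank_fin_fun]

theorem polyFun_p : polyFun (p := p) K p = ⊤ := by
  apply Submodule.eq_top_of_finrank_eq
  rw [finrank_polyFun K le_rfl, Module.finrank_fintype_fun_eq_card, ZMod.card]

theorem exists_rep (f : ZMod p → K) : ∃ P : K[X], P.degree < p ∧ evalFun K P = f :=
  (mem_polyFun K).1 (by rw [polyFun_p]; trivial)

theorem hasseDeriv_top {R : Type*} [CommRing R] {P : R[X]} {n : ℕ} (h : P.natDegree ≤ n) :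
    hasseDeriv n P = C (P.coeff n) := by
  ext k
  rw [hasseDeriv_coeff, coeff_C]
  rcases k with _ | k
  · simp
  · rw [if_neg (Nat.succ_ne_zero k), coeff_eq_zero_of_natDegree_lt (by omega), mul_zero]

theorem hasseDeriv_pred {R : Type*} [CommRing R] {P : R[X]} {n : ℕ} (h : P.natDegree ≤ n + 1) :
    hasseDeriv n P = C (P.coeff n) + C (((n + 1 : ℕ) : R) * P.coeff (n + 1)) * X := by
  ext k
  rw [hasseDeriv_coeff, coeff_add, coeff_C, coeff_C_mul, coeff_X]
  rcases k with _ | _ | k
  · simp
  · rw [show 0 + 1 + n = n + 1 by ring, Nat.choose_succ_self_right]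
    simp
  · rw [if_neg (Nat.succ_ne_zero _), if_neg (by omega), coeff_eq_zero_of_natDegree_lt (by omega)]
    simp

/-- A translation-invariant subspace is a `polyFun`. -/
theorem eq_polyFun_of_shift_invariant (W : Submodule K (ZMod p → K))
    (hW : ∀ f ∈ W, (fun j => f (j - 1)) ∈ W) : ∃ r ≤ p, W = polyFun K r := by
  classical
  let S : Submodule K K[X] := W.comap (evalFun K) ⊓ degreeLT K p
  have hex : ∃ n, S ≤ degreeLT K n := ⟨p, inf_le_right⟩
  let r := Nat.find hex
  have hr : S ≤ degreeLT K r := Nat.find_spec hex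
  have hrp : r ≤ p := Nat.find_min' hex inf_le_right
  have hshift : ∀ P ∈ S, P - P.comp (X - C 1) ∈ S := by
    intro P hP
    refine S.sub_mem hP ⟨?_, ?_⟩
    · rw [SetLike.mem_coe, Submodule.mem_comap]
      convert hW _ hP.1 using 1
      ext j
      simp [evalFun_apply, map_sub]
    · have h := mem_degreeLT.1 hP.2
      rw [SetLike.mem_coe, mem_degreeLT]
      by_cases h0 : P = 0
      · simp [h0, WithBot.bot_lt_coe]
      · have hlt := (natDegree_lt_iff_degree_lt h0).2 h
        refine lt_of_le_of_lt degree_le_natDegree (WithBot.coe_lt_coe.2 ?_)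
        rw [natDegree_comp, natDegree_X_sub_C, mul_one]
        exact hlt
  -- an element of every degree below `r`
  have hall : ∀ k d, k + d + 1 = r → ∃ P ∈ S, P.natDegree ≤ d ∧ P.coeff d ≠ 0 := by
    intro k
    induction k with
    | zero =>
      intro d hd
      have hmin : ¬ S ≤ degreeLT K d := Nat.find_min hex (by omega)
      obtain ⟨P, hP, hPd⟩ := Set.not_subset.1 hmin
      rw [SetLike.mem_coe, mem_degreeLT, not_lt] at hPd
      have hPr := mem_degreeLT.1 (hr hP)
      have h0 : P ≠ 0 := fun h => by simp [h] at hPd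
      have h1 : P.natDegree < r := (natDegree_lt_iff_degree_lt h0).2 hPr
      have h2 : d ≤ P.natDegree := le_natDegree_of_coe_le_degree hPd
      have h3 : P.natDegree = d := by omega
      exact ⟨P, hP, h3.le, h3 ▸ leadingCoeff_ne_zero.2 h0⟩
    | succ k ih =>
      intro d hd
      obtain ⟨P, hP, hPd, hPc⟩ := ih (d + 1) (by omega)
      refine ⟨_, hshift P hP, ?_, ?_⟩
      · refine natDegree_le_iff_coeff_eq_zero.2 fun N hN => ?_
        have hc : P.comp (X - C 1) = taylor (-1) P := by rw [taylor_apply, map_neg, sub_eq_add_neg]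
        rw [coeff_sub, hc]
        rcases eq_or_lt_of_le (Nat.succ_le_of_lt hN) with h | h
        · subst h
          rw [taylor_coeff, hasseDeriv_top hPd, eval_C, sub_self]
        · rw [coeff_eq_zero_of_natDegree_lt (by omega),
            coeff_eq_zero_of_natDegree_lt (by rw [natDegree_taylor]; omega), sub_zero]
      · have hc : P.comp (X - C 1) = taylor (-1) P := by rw [taylor_apply, map_neg, sub_eq_add_neg]
        rw [coeff_sub, hc, taylor_coeff, hasseDeriv_pred hPd]
        simp only [eval_add, eval_mul, eval_C, eval_X, mul_neg, mul_one, ne_eq]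
        have hd1 : ((d + 1 : ℕ) : K) ≠ 0 := by
          rw [Ne, CharP.cast_eq_zero_iff K p]
          intro hdvd
          exact absurd (Nat.le_of_dvd (Nat.succ_pos d) hdvd) (by omega)
        intro h
        rw [sub_eq_zero] at h
        apply mul_ne_zero hd1 hPc
        linear_combination h
  refine ⟨r, hrp, le_antisymm (fun f hf => ?_) ?_⟩
  · obtain ⟨P, hP, rfl⟩ := exists_rep K f
    exact (mem_polyFun K).2 ⟨P, mem_degreeLT.1 (hr ⟨hf, mem_degreeLT.2 hP⟩), rfl⟩
  · have : ∀ n ≤ r, polyFun (p := p) K n ≤ W := by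
      intro n
      induction n with
      | zero =>
        intro _ f hf
        obtain ⟨P, hP, rfl⟩ := (mem_polyFun K).1 hf
        have : P = 0 := by
          rw [← degree_eq_bot]
          exact Nat.WithBot.lt_zero_iff.1 (by simpa using hP)
        simp [this]
      | succ n ih =>
        intro hn f hf
        obtain ⟨Q, hQ, rfl⟩ := (mem_polyFun K).1 hf
        obtain ⟨P, hP, hPd, hPc⟩ := hall (r - n - 1) n (by omega)
        have h' : evalFun (p := p) K (Q - (Q.coeff n / P.coeff n) • P) ∈ W := by
          refine ih (by omega) ((mem_polyFun K).2 ⟨_, ?_, rfl⟩)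
          rw [degree_lt_iff_coeff_zero]
          intro m hm
          rw [coeff_sub, coeff_smul, smul_eq_mul]
          rcases eq_or_lt_of_le hm with h | h
          · subst h
            rw [div_mul_cancel₀ _ hPc, sub_self]
          · rw [coeff_eq_zero_of_natDegree_lt (show P.natDegree < m by omega), mul_zero, sub_zero]
            exact coeff_eq_zero_of_degree_lt (lt_of_lt_of_le hQ (WithBot.coe_le_coe.2 h))
        have h2 := W.add_mem h' (W.smul_mem (Q.coeff n / P.coeff n) hP.1)
        rwa [← map_smul, ← map_add, sub_add_cancel] at h2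
    exact this r le_rfl

theorem natDegree_lt_of_mem {r : ℕ} (hr : r ≤ p) (hr0 : 0 < r) {P : K[X]} (hP : P.natDegree < p)
    (h : evalFun (p := p) K P ∈ polyFun K r) : P.natDegree < r := by
  obtain ⟨Q, hQ, he⟩ := (mem_polyFun K).1 h
  have : Q = P := eq_of_evalFun_eq K (lt_of_lt_of_le hQ (WithBot.coe_le_coe.2 hr))
    (lt_of_le_of_lt degree_le_natDegree (WithBot.coe_lt_coe.2 hP)) he
  subst this
  by_cases h0 : Q = 0
  · simpa [h0] using hr0
  · exact (natDegree_lt_iff_degree_lt h0).2 hQ

/-- A map whose powers of exponent `< r` all have degree `< r` is affine, if `2 r ≤ p + 1`. -/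
theorem affine_of_pow_mem {r : ℕ} (hr2 : 2 ≤ r) (hrp : 2 * r ≤ p + 1) (g : ZMod p → ZMod p)
    (h : ∀ m < r, (fun i => ι K (g i) ^ m) ∈ polyFun (p := p) K r) (i : ZMod p) :
    g i = (g 1 - g 0) * i + g 0 := by
  obtain ⟨P, hPd, hPe⟩ := (mem_polyFun K).1 (h 1 (by omega))
  have hval : ∀ j, P.eval (ι K j) = ι K (g j) := fun j => by
    have := congrFun hPe j
    simpa [evalFun_apply] using this
  have hn : P.natDegree < r := by
    by_cases h0 : P = 0
    · simp [h0]; omega
    · exact (natDegree_lt_iff_degree_lt h0).2 hPd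
  have hn1 : P.natDegree ≤ 1 := by
    by_contra hcon
    push Not at hcon
    set n := P.natDegree with hn'
    have hpos : 0 < n := by omega
    set m := (r - 1) / n + 1 with hm
    have hml : m < r := by
      have : (r - 1) / n < r - 1 := Nat.div_lt_self (by omega) hcon
      omega
    have hdm : n * ((r - 1) / n) ≤ r - 1 := Nat.mul_div_le (r - 1) n
    have hmod := Nat.div_add_mod (r - 1) n
    have hmodlt := Nat.mod_lt (r - 1) hpos
    have hmn : m * n = n * ((r - 1) / n) + n := by rw [hm]; ring
    have hmnp : m * n < p := by omega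
    have hPm : (P ^ m).natDegree = m * n := by rw [natDegree_pow]
    have hlt : (P ^ m).natDegree < r := by
      refine natDegree_lt_of_mem (p := p) K (by omega) (by omega) (by omega) ?_
      convert h m hml using 1
      ext j
      rw [evalFun_apply, eval_pow, hval]
    omega
  obtain ⟨a, b, hab⟩ := exists_eq_X_add_C_of_natDegree_le_one hn1
  have h' : ∀ j, ι K (g j) = a * ι K j + b := fun j => by rw [← hval, hab]; simp
  apply (ι (p := p) K).injective
  have h0 := h' 0
  have h1 := h' 1
  have hi := h' i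
  simp only [map_zero, map_one, mul_zero, mul_one, zero_add] at h0 h1
  rw [hi, map_add, map_mul, map_sub, h0, h1]
  ring

/-- `Σ_i P(i)` for a polynomial of degree `< p` is minus its coefficient of `X^(p-1)`. -/
theorem sum_evalFun {P : K[X]} (hP : P.natDegree < p) :
    ∑ j : ZMod p, evalFun K P j = - P.coeff (p - 1) := by
  have h1 := hp.out.two_le
  have hpow : ∀ k < p - 1, ∑ j : ZMod p, (ι K j) ^ k = 0 := by
    intro k hk
    simp only [← map_pow, ← map_sum]
    rw [FiniteField.sum_pow_lt_card_sub_one (ZMod p) k (by rwa [ZMod.card]), map_zero]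
  have hlast : ∑ j : ZMod p, (ι K j) ^ (p - 1) = -1 := by
    have : ∀ j : ZMod p, (ι K j) ^ (p - 1) = if j = 0 then 0 else 1 := by
      intro j
      split_ifs with hj
      · subst hj
        rw [map_zero, zero_pow (by omega)]
      · rw [← map_pow, ZMod.pow_card_sub_one_eq_one hj, map_one]
    simp only [this]
    rw [Finset.sum_ite, Finset.sum_const_zero, zero_add, Finset.sum_const, nsmul_eq_mul, mul_one,
      Finset.filter_ne', Finset.card_erase_of_mem (Finset.mem_univ _), Finset.card_univ, ZMod.card,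
      Nat.cast_sub (by omega), CharP.cast_eq_zero, Nat.cast_one, zero_sub]
  simp only [evalFun_apply, eval_eq_sum_range' hP]
  rw [Finset.sum_comm, show Finset.range p = Finset.range (p - 1 + 1) by
    rw [Nat.sub_add_cancel hp.out.one_le], Finset.sum_range_succ]
  simp only [← Finset.mul_sum]
  rw [Finset.sum_eq_zero fun k hk => by
    have := hpow k (Finset.mem_range.1 hk); simp_all]
  have e : p - 1 + 1 - 1 = p - 1 := by omega
  simp_all

theorem sum_mul_eq_zero {r : ℕ} (hr : r ≤ p) {f h : ZMod p → K} (hf : f ∈ polyFun K r)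
    (hh : h ∈ polyFun K (p - r)) : ∑ j, f j * h j = 0 := by
  obtain ⟨P, hP, rfl⟩ := (mem_polyFun K).1 hf
  obtain ⟨Q, hQ, rfl⟩ := (mem_polyFun K).1 hh
  have h1 := hp.out.two_le
  by_cases hP0 : P = 0
  · simp [hP0]
  by_cases hQ0 : Q = 0
  · simp [hQ0]
  have e1 := (natDegree_lt_iff_degree_lt hP0).2 hP
  have e2 := (natDegree_lt_iff_degree_lt hQ0).2 hQ
  simp only [← evalFun_comp]
  rw [sum_evalFun K (by rw [natDegree_mul hP0 hQ0]; omega),
    coeff_eq_zero_of_natDegree_lt (by rw [natDegree_mul hP0 hQ0]; omega), neg_zero]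

theorem mem_polyFun_of_sum_mul {r : ℕ} (hr : 0 < r) (hrp : r ≤ p) {h : ZMod p → K}
    (hh : ∀ f ∈ polyFun (p := p) K r, ∑ j, f j * h j = 0) : h ∈ polyFun K (p - r) := by
  obtain ⟨Q, hQ, rfl⟩ := exists_rep K h
  refine (mem_polyFun K).2 ⟨Q, ?_, rfl⟩
  by_contra hcon
  rw [not_lt] at hcon
  have hQ0 : Q ≠ 0 := fun e => by simp [e] at hcon
  have e1 : Q.natDegree < p := (natDegree_lt_iff_degree_lt hQ0).2 hQ
  have e2 : p - r ≤ Q.natDegree := le_natDegree_of_coe_le_degree hcon
  have := hh (evalFun K (X ^ (p - 1 - Q.natDegree))) ((mem_polyFun K).2 ⟨_, by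
    rw [degree_X_pow]; exact_mod_cast (show p - 1 - Q.natDegree < r by omega), rfl⟩)
  simp only [← evalFun_comp] at this
  have hd : (X ^ (p - 1 - Q.natDegree) * Q).natDegree = p - 1 := by
    rw [natDegree_mul (pow_ne_zero _ X_ne_zero) hQ0, natDegree_X_pow]; omega
  rw [sum_evalFun K (by omega), neg_eq_zero] at this
  exact mul_ne_zero (pow_ne_zero _ X_ne_zero) hQ0
    (leadingCoeff_eq_zero.1 (by rw [leadingCoeff, hd]; exact this))

/-! ### Groups -/

/-- A faithful group of affine maps of `ZMod p` is solvable. -/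
theorem isSolvable_of_affine {G : Type*} [Group G] (q : G →* Equiv.Perm (ZMod p))
    (hq : Function.Injective q) (h : ∀ g i, q g i = (q g 1 - q g 0) * i + q g 0) :
    Group.IsSolvable G := by
  let φ : G →* ZMod p :=
    { toFun := fun g => q g 1 - q g 0
      map_one' := by simp
      map_mul' := fun a b => by
        rw [map_mul, Equiv.Perm.mul_apply, Equiv.Perm.mul_apply, h a (q b 1), h a (q b 0)]
        ring }
  haveI : IsMulCommutative φ.toHomUnits.ker := by
    refine ⟨⟨fun a b => Subtype.ext (hq (Equiv.ext fun i => ?_))⟩⟩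
    have hk : ∀ c : φ.toHomUnits.ker, ∀ i, q c i = i + q c 0 := fun c i => by
      have e : φ (c : G) = 1 := congrArg Units.val c.2
      rw [h c i, show q c 1 - q c 0 = 1 from e, one_mul]
    show q (a * b : G) i = q (b * a : G) i
    rw [map_mul, map_mul, Equiv.Perm.mul_apply, Equiv.Perm.mul_apply, hk a (q b i), hk b i,
      hk b (q a i), hk a i]
    ring
  haveI : Group.IsSolvable φ.toHomUnits.ker :=
    Group.isSolvable_of_comm fun a b => IsMulCommutative.is_comm.comm a b
  exact Group.isSolvable_of_ker_le_range φ.toHomUnits.ker.subtype φ.toHomUnits (by simp)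

/-- Coordinates of a transitive group of prime degree, with a translation in the group. -/
theorem exists_coords {α : Type*} [Fintype α] (hα : Fintype.card α = p) {G : Type*} [Group G]
    [Finite G] [MulAction G α] [MulAction.IsPretransitive G α] :
    ∃ (e : ZMod p ≃ α) (σ : G), ∀ i, σ • e i = e (i + 1) := by
  classical
  obtain ⟨a⟩ : Nonempty α := Fintype.card_pos_iff.1 (hα ▸ hp.out.pos)
  have hdvd : p ∣ Nat.card G := by
    have := MulAction.index_stabilizer_of_transitive G a
    rw [Nat.card_eq_fintype_card, hα] at this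
    exact this ▸ Subgroup.index_dvd_card _
  -- an element of a Sylow subgroup moving `a` acts as a `p`-cycle
  obtain ⟨P⟩ : Nonempty (Sylow p G) := inferInstance
  have hindex : ¬ p ∣ (P : Subgroup G).index := P.not_dvd_index
  obtain ⟨σ₀, hσ₀⟩ : ∃ x : (P : Subgroup G), x • a ≠ a := by
    by_contra hcon
    push Not at hcon
    have hle : (P : Subgroup G) ≤ MulAction.stabilizer G a := fun x hx => hcon ⟨x, hx⟩
    apply hindex
    have h2 := Subgroup.index_dvd_of_le hle
    rwa [MulAction.index_stabilizer_of_transitive, Nat.card_eq_fintype_card, hα] at h2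
  set σ : G := (σ₀ : G) with hσdef
  let Z := Subgroup.zpowers σ
  have hσ : σ • a ≠ a := hσ₀
  have horb : MulAction.orbit Z a = Set.univ := by
    have hpg : IsPGroup p Z := (P.2.to_le (Subgroup.zpowers_le.2 σ₀.2))
    obtain ⟨k, hk⟩ := hpg.card_orbit a
    have hle : Nat.card (MulAction.orbit Z a) ≤ p := by
      rw [← hα, ← Nat.card_eq_fintype_card]
      exact Nat.card_le_card_of_injective _ Subtype.val_injective
    have hk1 : k ≠ 0 := by
      intro h0
      rw [h0, pow_zero, Nat.card_eq_one_iff_unique] at hk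
      haveI := hk.1
      exact hσ (congrArg Subtype.val (Subsingleton.elim
        (⟨σ • a, ⟨⟨σ, Subgroup.mem_zpowers σ⟩, rfl⟩⟩ : MulAction.orbit Z a)
        ⟨a, MulAction.mem_orbit_self a⟩))
    refine Set.eq_of_subset_of_ncard_le (Set.subset_univ _) ?_
    rw [Set.ncard_univ, Nat.card_eq_fintype_card, hα, ← Nat.card_coe_set_eq, hk]
    exact le_self_pow₀ hp.out.one_le hk1
  have hper : MulAction.period σ a = p := by
    have h1 : Nat.card (MulAction.orbit Z a) = p := by
      rw [horb, Nat.card_congr (Equiv.Set.univ α), Nat.card_eq_fintype_card, hα]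
    rw [MulAction.period_eq_minimalPeriod, MulAction.minimalPeriod_eq_card, ← Nat.card_eq_fintype_card]
    exact h1
  have hpow : ∀ m n : ℕ, (m : ZMod p) = n → σ ^ m • a = σ ^ n • a := by
    intro m n hmn
    rw [← MulAction.pow_mod_period_smul m, ← MulAction.pow_mod_period_smul n, hper]
    rw [(ZMod.natCast_eq_natCast_iff' m n p).1 hmn]
  let f : ZMod p → α := fun i => σ ^ i.val • a
  have hsurj : Function.Surjective f := by
    intro b
    have hb : b ∈ MulAction.orbit Z a := horb ▸ Set.mem_univ b
    obtain ⟨⟨z, hz⟩, rfl⟩ := hb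
    obtain ⟨n, rfl⟩ := (isOfFinOrder_of_finite σ).mem_powers_iff_mem_zpowers.2 hz
    exact ⟨n, hpow _ _ (by simp)⟩
  have hbij : Function.Bijective f := by
    rw [Fintype.bijective_iff_surjective_and_card]
    exact ⟨hsurj, by rw [ZMod.card, hα]⟩
  refine ⟨Equiv.ofBijective f hbij, σ, fun i => ?_⟩
  show σ • σ ^ i.val • a = σ ^ (i + 1).val • a
  rw [← mul_smul, ← pow_succ']
  exact hpow _ _ (by simp)

omit [CharP K p] in
/-- The defect operator of a set of differences. -/
def defect (U : Finset (ZMod p)) (f : ZMod p → ZMod p) (i : ZMod p) : ZMod p :=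
  ∑ u ∈ U, (f (i + u) - f i)

theorem eval_add_sub {P : (ZMod p)[X]} {m : ℕ} (hm : P.natDegree ≤ m) (i u : ZMod p) :
    P.eval (i + u) - P.eval i = ∑ j ∈ Finset.Icc 1 m, (hasseDeriv j P).eval i * u ^ j := by
  have h1 : P.eval (i + u) = ∑ j ∈ Finset.range (m + 1), (hasseDeriv j P).eval i * u ^ j := by
    rw [show i + u = u + i from add_comm _ _, ← taylor_eval, eval_eq_sum_range' (n := m + 1)
      (by rw [natDegree_taylor]; omega)]
    simp [taylor_coeff]
  rw [h1, Finset.range_eq_Ico, Finset.sum_eq_sum_Ico_succ_bot (Nat.succ_pos m)]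
  simp only [hasseDeriv_zero, LinearMap.id_coe, id_eq, pow_zero, mul_one, add_sub_cancel_left]
  exact Finset.sum_congr (by ext j; simp) fun _ _ => rfl

theorem defect_eval (U : Finset (ZMod p)) {P : (ZMod p)[X]} {m : ℕ} (hm : P.natDegree ≤ m)
    (i : ZMod p) : defect U (fun j => P.eval j) i =
      ∑ j ∈ Finset.Icc 1 m, (hasseDeriv j P).eval i * ∑ u ∈ U, u ^ j := by
  simp only [defect, eval_add_sub hm, Finset.mul_sum]
  exact Finset.sum_comm

/-- The effect of the defect operator on degrees. -/
theorem exists_defect (U : Finset (ZMod p)) {w : ℕ} (hw : 1 ≤ w)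
    (hlow : ∀ j, 1 ≤ j → j < w → ∑ u ∈ U, u ^ j = 0) (hne : ∑ u ∈ U, u ^ w ≠ 0)
    {P : (ZMod p)[X]} (hP : P.natDegree < p) :
    ∃ Q : (ZMod p)[X], (∀ i, defect U (fun j => P.eval j) i = Q.eval i) ∧
      Q.natDegree ≤ P.natDegree - w ∧ (w ≤ P.natDegree → Q.coeff (P.natDegree - w) ≠ 0) := by
  set m := P.natDegree with hm
  refine ⟨∑ j ∈ Finset.Icc w m, C (∑ u ∈ U, u ^ j) * hasseDeriv j P, fun i => ?_, ?_, fun hwm => ?_⟩
  · rw [defect_eval U le_rfl, eval_finsetSum]
    symm
    rw [← Finset.sum_subset (s₁ := Finset.Icc w m) (s₂ := Finset.Icc 1 m)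
      (Finset.Icc_subset_Icc_left hw) fun j hj hj' => ?_]
    · exact Finset.sum_congr rfl fun j _ => by rw [eval_mul, eval_C, mul_comm]
    · rw [Finset.mem_Icc] at hj hj'
      rw [hlow j hj.1 (by omega), mul_zero]
  · refine natDegree_sum_le_of_forall_le _ _ fun j hj => ?_
    rw [Finset.mem_Icc] at hj
    refine (natDegree_C_mul_le _ _).trans ((natDegree_hasseDeriv_le P j).trans ?_)
    omega
  · rw [finsetSum_coeff, Finset.sum_eq_single w]
    · rw [coeff_C_mul, hasseDeriv_coeff, show m - w + w = m by omega]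
      refine mul_ne_zero hne (mul_ne_zero ?_ ?_)
      · rw [Ne, ZMod.natCast_eq_zero_iff]
        intro hdvd
        have : p ∣ m.factorial :=
          (dvd_mul_of_dvd_left (dvd_mul_of_dvd_left hdvd _) _).trans
            (dvd_of_eq (Nat.choose_mul_factorial_mul_factorial hwm))
        have := (Nat.Prime.dvd_factorial hp.out).1 this
        omega
      · rw [hm]
        exact leadingCoeff_ne_zero.2 fun h => by simp [h] at hm; omega
    · intro j hj hjw
      rw [Finset.mem_Icc] at hj
      rw [coeff_C_mul, hasseDeriv_coeff, coeff_eq_zero_of_natDegree_lt (by omega), mul_zero,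
        mul_zero]
    · intro h
      exact absurd (Finset.mem_Icc.2 ⟨le_rfl, hwm⟩) h

/-- A non-empty set of fewer than `p` non-zero residues has a non-zero small power sum. -/
theorem exists_sum_pow_ne_zero (U : Finset (ZMod p)) (h0 : (0 : ZMod p) ∉ U) (hU : U.Nonempty)
    (hlt : U.card < p) : ∃ j, 1 ≤ j ∧ j ≤ U.card ∧ ∑ u ∈ U, u ^ j ≠ 0 := by
  by_contra hcon
  push Not at hcon
  let P : (ZMod p)[X] := ∏ u ∈ U, (X - C u)
  have hd : P.natDegree = U.card := natDegree_finsetProd_X_sub_C_eq_card U id
  have h : ∑ u ∈ U, P.eval u = 0 := Finset.sum_eq_zero fun u hu => by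
    rw [eval_prod]
    exact Finset.prod_eq_zero hu (by simp)
  simp only [eval_eq_sum_range, hd] at h
  rw [Finset.sum_comm, Finset.sum_range_succ'] at h
  simp only [← Finset.mul_sum, pow_zero, Finset.sum_const, nsmul_one] at h
  rw [Finset.sum_eq_zero, zero_add] at h
  · rcases mul_eq_zero.1 h with h | h
    · rw [coeff_zero_eq_eval_zero, eval_prod, Finset.prod_eq_zero_iff] at h
      obtain ⟨u, hu, hu0⟩ := h
      simp only [eval_sub, eval_X, eval_C, zero_sub, neg_eq_zero] at hu0
      exact h0 (hu0 ▸ hu)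
    · rw [ZMod.natCast_eq_zero_iff] at h
      exact absurd (Nat.le_of_dvd hU.card_pos h) (by omega)
  · intro j hj
    rw [Finset.mem_range] at hj
    rw [hcon (j + 1) (by omega) (by omega), mul_zero]

/-- Müller's lemma: a permutation preserving the differences in a proper set is affine. -/
theorem affine_of_invariant_set (U : Finset (ZMod p)) (h0 : (0 : ZMod p) ∉ U) (hU : U.Nonempty)
    (hUp : ∃ v, v ≠ 0 ∧ v ∉ U) (g : Equiv.Perm (ZMod p))
    (hg : ∀ i, ∀ u ∈ U, g (i + u) - g i ∈ U) (i : ZMod p) :
    g i = (g 1 - g 0) * i + g 0 := by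
  classical
  obtain ⟨v, hv0, hvU⟩ := hUp
  set U' := ((Finset.univ : Finset (ZMod p)).erase 0) \ U with hU'
  have hsub : U ⊆ (Finset.univ : Finset (ZMod p)).erase 0 := fun u hu => by
    simpa using fun e : u = 0 => h0 (e ▸ hu)
  have hcard : U'.card + U.card = p - 1 := by
    rw [hU', Finset.card_sdiff_of_subset hsub, Finset.card_erase_of_mem (Finset.mem_univ _),
      Finset.card_univ, ZMod.card]
    have := Finset.card_le_card hsub
    rw [Finset.card_erase_of_mem (Finset.mem_univ _), Finset.card_univ, ZMod.card] at this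
    omega
  have hU'ne : U'.Nonempty := ⟨v, by simp [hU', hv0, hvU]⟩
  have := hU.card_pos
  have := hU'ne.card_pos
  have hp2 := hp.out.two_le
  have hex : ∃ j, 1 ≤ j ∧ 2 * j ≤ p - 1 ∧ ∑ u ∈ U, u ^ j ≠ 0 := by
    by_cases hk : 2 * U.card ≤ p - 1
    · obtain ⟨j, h1, h2, h3⟩ := exists_sum_pow_ne_zero U h0 hU (by omega)
      exact ⟨j, h1, by omega, h3⟩
    · obtain ⟨j, h1, h2, h3⟩ := exists_sum_pow_ne_zero U' (by simp [hU']) hU'ne (by omega)
      refine ⟨j, h1, by omega, fun h => h3 ?_⟩
      have hs := Finset.sum_sdiff (f := fun u : ZMod p => u ^ j) hsub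
      rw [h, add_zero] at hs
      rw [hU', hs]
      have hfull : ∑ u : ZMod p, u ^ j = 0 :=
        FiniteField.sum_pow_lt_card_sub_one (ZMod p) j (by rw [ZMod.card]; omega)
      rw [← Finset.sum_erase_add _ _ (Finset.mem_univ (0 : ZMod p)), zero_pow (by omega), add_zero]
        at hfull
      exact hfull
  let w := Nat.find hex
  obtain ⟨hw1, hw2, hw3⟩ := Nat.find_spec hex
  have hlow : ∀ j, 1 ≤ j → j < w → ∑ u ∈ U, u ^ j = 0 := fun j hj hjw => by
    by_contra h
    exact Nat.find_min hex hjw ⟨hj, by omega, h⟩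
  have hι : ∀ j : ZMod p, ι (ZMod p) j = j := fun j => by simp [ι]
  have hcomm : ∀ f : ZMod p → ZMod p, ∀ i, defect U (fun j => f (g j)) i = defect U f (g i) := by
    intro f i
    refine Finset.sum_bij (fun u _ => g (i + u) - g i) (fun u hu => hg i u hu)
      (fun u hu u' hu' h => ?_) (fun u' hu' => ?_) (fun u hu => by simp)
    · simpa using h
    · have himg : U.image (fun u => g (i + u) - g i) = U := by
        refine Finset.eq_of_subset_of_card_le (Finset.image_subset_iff.2 (hg i)) ?_
        rw [Finset.card_image_of_injective]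
        exact fun a b h => by simpa using h
      rw [← himg, Finset.mem_image] at hu'
      obtain ⟨u, hu, rfl⟩ := hu'
      exact ⟨u, hu, rfl⟩
  have hrep : ∀ f : ZMod p → ZMod p, ∃ P : (ZMod p)[X], P.natDegree < p ∧ ∀ j, P.eval j = f j := by
    intro f
    obtain ⟨P, hP, he⟩ := exists_rep (ZMod p) f
    refine ⟨P, ?_, fun j => by rw [← he, evalFun_apply, hι]⟩
    by_cases h : P = 0
    · simpa [h] using hp.out.pos
    · exact (natDegree_lt_iff_degree_lt h).2 hP
  -- a function killed by the defect operator has degree `< w`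
  have hker : ∀ P : (ZMod p)[X], P.natDegree < p →
      (∀ i, defect U (fun j => P.eval j) i = 0) → P.natDegree < w := by
    intro P hP h
    by_contra hcon
    push Not at hcon
    obtain ⟨Q, hQ, hQd, hQc⟩ := exists_defect U hw1 hlow hw3 hP
    have : Q = 0 := eq_zero_of_evalFun_eq_zero (p := p) (ZMod p) (by omega) (funext fun j => by
      rw [evalFun_apply, hι, ← hQ, h]; rfl)
    exact hQc hcon (by simp [this])
  by_cases hw : w = 1
  · -- the square of the defect operator kills `g`
    refine affine_of_pow_mem (p := p) (ZMod p) (r := 2) le_rfl (by omega) g (fun m hm => ?_) i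
    rw [mem_polyFun]
    interval_cases m
    · refine ⟨1, ?_, ?_⟩
      · rw [degree_one]; exact WithBot.coe_lt_coe.2 (by omega)
      · ext j; simp [evalFun_apply]
    obtain ⟨P, hP, he⟩ := hrep g
    have hfun : (fun j => P.eval j) = fun j => g j := funext he
    have hd2 : ∀ i, defect U (fun j => g j) i = ∑ u ∈ U, u := by
      intro i
      rw [hcomm (fun x => x)]
      exact Finset.sum_congr rfl fun u _ => add_sub_cancel_left _ _
    obtain ⟨Q, hQ, hQd, hQc⟩ := exists_defect U hw1 hlow hw3 hP
    have hle : P.natDegree ≤ 1 := by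
      by_contra hcon
      push Not at hcon
      have hQ' : Q = C (∑ u ∈ U, u) := by
        refine sub_eq_zero.1 (eq_zero_of_evalFun_eq_zero (p := p) (ZMod p) ?_ (funext fun j => ?_))
        · rw [natDegree_sub_C]; omega
        · rw [evalFun_apply, hι, eval_sub, eval_C, ← hQ, hfun, hd2, sub_self]; rfl
      have := hQc (by omega)
      rw [hQ', coeff_C, if_neg (by omega)] at this
      exact this rfl
    refine ⟨P, ?_, funext fun j => by rw [evalFun_apply, hι, he, hι, pow_one]⟩
    exact lt_of_le_of_lt degree_le_natDegree (by exact_mod_cast (show P.natDegree < 2 by omega))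
  · refine affine_of_pow_mem (p := p) (ZMod p) (r := w) (by omega) (by omega) g (fun m hm => ?_) i
    obtain ⟨P, hP, he⟩ := hrep fun j => g j ^ m
    have hfun : (fun j => P.eval j) = fun j => g j ^ m := funext he
    have hz : ∀ i, defect U (fun j => P.eval j) i = 0 := by
      intro i
      rw [hfun, hcomm (fun x => x ^ m)]
      obtain ⟨Q, hQ, hQd, -⟩ := exists_defect U hw1 hlow hw3 (P := (X : (ZMod p)[X]) ^ m)
        (by rw [natDegree_X_pow]; omega)
      have h2 := defect_eval U (P := (X : (ZMod p)[X]) ^ m) (m := m) (natDegree_X_pow_le m) (g i)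
      simp only [eval_pow, eval_X] at h2
      rw [h2]
      refine Finset.sum_eq_zero fun j hj => ?_
      rw [Finset.mem_Icc] at hj
      rw [hlow j hj.1 (by omega), mul_zero]
    rw [mem_polyFun]
    refine ⟨P, lt_of_le_of_lt degree_le_natDegree (WithBot.coe_lt_coe.2 (hker P hP hz)), ?_⟩
    ext j
    rw [evalFun_apply, hι, he, hι]

end CfsgLib.Perm.PrimeDegree
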