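import Mathlib
import Cfsg.Agent.Lib.Char.Perm
import Cfsg.Agent.Lib.Char.Complete
import Cfsg.Agent.Lib.Char.Real
import Cfsg.Prelude.Def_Perm

/-!
# The centraliser ring of a permutation representation

* `commute_of_multFree`, `classInner_le_one_of_commute`: commutative centraliser ↔ multiplicity free.
* `charSum`, `charSum_eq_zero`, `exists_smul_charSum`, `sum_charSum`: the isotypic operators.
* `permRep_character`, `classInner_perm_self`, `dvd_finrank_of_subrep`, `orbitalOp`.
-/

set_option autoImplicit false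
set_option linter.all false

namespace CfsgLib.Perm.CentralizerRing

open scoped ComplexConjugate
open Module CfsgLib.Char

universe v

variable {G : Type*} [Group G] [Fintype G]

section General

variable {V : Type v} [AddCommGroup V] [Module ℂ V] [FiniteDimensional ℂ V]

/-- Commutes with the representations. -/
def IsEquivariant {W : Type*} [AddCommGroup W] [Module ℂ W] (σ : Representation ℂ G W)
    (ρ : Representation ℂ G V) (f : W →ₗ[ℂ] V) : Prop :=
  ∀ g, f ∘ₗ σ g = ρ g ∘ₗ f

theorem eq_smul_of_classInner_one {W : Type*} [AddCommGroup W] [Module ℂ W] [FiniteDimensional ℂ W]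
    {σ : Representation ℂ G W} {ρ : Representation ℂ G V}
    (h : Cfsg.classInner ρ.character σ.character = 1) {i f : W →ₗ[ℂ] V} (hi : IsEquivariant σ ρ i)
    (hi0 : i ≠ 0) (hf : IsEquivariant σ ρ f) : ∃ c : ℂ, f = c • i := by
  rw [classInner_eq_finrank σ ρ, Nat.cast_eq_one] at h
  let I : σ.IntertwiningMap ρ := ⟨i, hi⟩
  let F : σ.IntertwiningMap ρ := ⟨f, hf⟩
  have hI : I ≠ 0 := fun e => hi0 (congrArg Representation.IntertwiningMap.toLinearMap e)
  obtain ⟨c, hc⟩ := (finrank_eq_one_iff_of_nonzero' I hI).1 h F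
  exact ⟨c, (congrArg Representation.IntertwiningMap.toLinearMap hc).symm⟩

theorem eq_zero_of_classInner_zero {W : Type*} [AddCommGroup W] [Module ℂ W] [FiniteDimensional ℂ W]
    {σ : Representation ℂ G W} {ρ : Representation ℂ G V}
    (h : Cfsg.classInner ρ.character σ.character = 0) {f : W →ₗ[ℂ] V} (hf : IsEquivariant σ ρ f) :
    f = 0 := by
  rw [classInner_eq_finrank σ ρ, Nat.cast_eq_zero] at h
  let F : σ.IntertwiningMap ρ := ⟨f, hf⟩
  haveI : Subsingleton (σ.IntertwiningMap ρ) := Module.finrank_zero_iff.1 h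
  exact congrArg Representation.IntertwiningMap.toLinearMap (Subsingleton.elim F 0)

theorem exists_equivariant_left_inverse {W : Type*} [AddCommGroup W] [Module ℂ W]
    {σ : Representation ℂ G W} {ρ : Representation ℂ G V} {i : W →ₗ[ℂ] V}
    (hi : IsEquivariant σ ρ i) (hinj : Function.Injective i) :
    ∃ p : V →ₗ[ℂ] W, IsEquivariant ρ σ p ∧ p ∘ₗ i = LinearMap.id := by
  obtain ⟨q, hq⟩ := i.exists_leftInverse_of_injective (LinearMap.ker_eq_bot.2 hinj)
  have hN : (Nat.card G : ℂ) ≠ 0 := Nat.cast_ne_zero.2 Nat.card_pos.ne'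
  refine ⟨(Nat.card G : ℂ)⁻¹ • ∑ g : G, σ g⁻¹ ∘ₗ q ∘ₗ ρ g, fun h => ?_, ?_⟩
  · refine LinearMap.ext fun v => ?_
    simp only [LinearMap.smul_comp, LinearMap.comp_smul, LinearMap.smul_apply, LinearMap.comp_apply,
      LinearMap.sum_apply, map_sum]
    congr 1
    refine Fintype.sum_equiv (Equiv.mulRight h) _ _ fun g => ?_
    rw [Equiv.coe_mulRight, mul_inv_rev, map_mul, map_mul, Module.End.mul_apply, Module.End.mul_apply,
      ← Module.End.mul_apply (σ h), ← map_mul, mul_inv_cancel, map_one]
    rfl
  · refine LinearMap.ext fun w => ?_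
    simp only [LinearMap.smul_apply, LinearMap.comp_apply, LinearMap.sum_apply, LinearMap.id_apply]
    have h1 : ∀ g : G, σ g⁻¹ (q (ρ g (i w))) = w := fun g => by
      rw [show ρ g (i w) = i (σ g w) from (LinearMap.congr_fun (hi g) w).symm,
        show q (i (σ g w)) = σ g w from LinearMap.congr_fun hq _, ← Module.End.mul_apply,
        ← map_mul, inv_mul_cancel, map_one]
      rfl
    simp only [h1, Finset.sum_const, Finset.card_univ]
    rw [← Nat.card_eq_fintype_card, ← Nat.cast_smul_eq_nsmul ℂ, smul_smul, inv_mul_cancel₀ hN, one_smul]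

theorem injective_of_irreducible {W : Type*} [AddCommGroup W] [Module ℂ W]
    {σ : Representation ℂ G W} [hσ : σ.IsIrreducible] {ρ : Representation ℂ G V} {i : W →ₗ[ℂ] V}
    (hi : IsEquivariant σ ρ i) (hi0 : i ≠ 0) : Function.Injective i := by
  let K : Subrepresentation σ :=
    { toSubmodule := LinearMap.ker i
      apply_mem_toSubmodule := fun g v hv => by
        rw [LinearMap.mem_ker] at hv ⊢
        rw [show i (σ g v) = ρ g (i v) from LinearMap.congr_fun (hi g) v, hv, map_zero] }
  rcases hσ.eq_bot_or_eq_top K with h | h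
  · exact LinearMap.ker_eq_bot.1 (congrArg Subrepresentation.toSubmodule h)
  · exact absurd (LinearMap.ker_eq_top.1 (congrArg Subrepresentation.toSubmodule h)) hi0

/-- A constituent embeds. -/
theorem exists_embedding {χ : G → ℂ} (hχ : Cfsg.IsIrrCharacter G χ) (ρ : Representation ℂ G V)
    (h : Cfsg.classInner ρ.character χ ≠ 0) :
    ∃ (n : ℕ) (σ : Representation ℂ G (Fin n → ℂ)) (i : (Fin n → ℂ) →ₗ[ℂ] V),
      σ.IsIrreducible ∧ σ.character = χ ∧ IsEquivariant σ ρ i ∧ Function.Injective i := by
  obtain ⟨n, σ, hσ, rfl⟩ := hχ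
  rw [classInner_eq_finrank σ ρ, Nat.cast_ne_zero] at h
  haveI : Nontrivial (σ.IntertwiningMap ρ) :=
    Module.nontrivial_of_finrank_pos (R := ℂ) (Nat.pos_of_ne_zero h)
  obtain ⟨F, hF⟩ := exists_ne (0 : σ.IntertwiningMap ρ)
  have h0 : F.toLinearMap ≠ 0 := fun e => hF (Representation.IntertwiningMap.ext e)
  exact ⟨n, σ, F.toLinearMap, hσ, rfl, F.isIntertwining', injective_of_irreducible F.isIntertwining' h0⟩

/-- A multiplicity-free representation has a commutative centraliser. -/
theorem commute_of_multFree (ρ : Representation ℂ G V)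
    (h : ∀ χ : Cfsg.IrrCharacter G, Cfsg.classInner ρ.character (χ : G → ℂ) = 0 ∨
      Cfsg.classInner ρ.character (χ : G → ℂ) = 1)
    {S T : V →ₗ[ℂ] V} (hS : IsEquivariant ρ ρ S) (hT : IsEquivariant ρ ρ T) :
    S ∘ₗ T = T ∘ₗ S := by
  classical
  haveI := Fintype.ofFinite (Cfsg.IrrCharacter G)
  suffices H : ∀ (W : Type v) [AddCommGroup W] [Module ℂ W] [FiniteDimensional ℂ W]
      (ρ : Representation ℂ G W),
      (∀ χ : Cfsg.IrrCharacter G, Cfsg.classInner ρ.character (χ : G → ℂ) = 0 ∨
        Cfsg.classInner ρ.character (χ : G → ℂ) = 1) →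
      ∀ S T : W →ₗ[ℂ] W, IsEquivariant ρ ρ S → IsEquivariant ρ ρ T → S ∘ₗ T = T ∘ₗ S from
    H V ρ h S T hS hT
  intro W _ _ _ ρ
  refine rep_induction (P := fun W _ _ ρ =>
      (∀ χ : Cfsg.IrrCharacter G, Cfsg.classInner ρ.character (χ : G → ℂ) = 0 ∨
        Cfsg.classInner ρ.character (χ : G → ℂ) = 1) →
      ∀ S T : W →ₗ[ℂ] W, IsEquivariant ρ ρ S → IsEquivariant ρ ρ T → S ∘ₗ T = T ∘ₗ S) ?_ ?_ ?_ W ρ
  · intro W _ _ ρ hW _ S T _ _
    exact LinearMap.ext fun v => Subsingleton.elim _ _
  · intro W _ _ _ ρ hirr _ S T hS hT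
    obtain ⟨c, hc⟩ := exists_eq_smul_of_commute ρ S fun g => hS g
    rw [hc, LinearMap.smul_comp, LinearMap.comp_smul, LinearMap.id_comp, LinearMap.comp_id]
  · intro W _ _ _ ρ A B hAB hA hB hmf S T hS hT
    have hdec := character_of_isCompl hAB
    obtain ⟨mA, hmA⟩ := IsChar.exists_sum (G := G) (χ := A.toRepresentation.character) (isCharacter_rep _)
    obtain ⟨mB, hmB⟩ := IsChar.exists_sum (G := G) (χ := B.toRepresentation.character) (isCharacter_rep _)
    have hm : ∀ χ : Cfsg.IrrCharacter G, mA χ + mB χ ≤ 1 := by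
      intro χ
      have := hmf χ
      rw [hdec, classInner_add_left, hmA, hmB, classInner_sum_irr, classInner_sum_irr] at this
      rcases this with h | h <;> norm_cast at h <;> omega
    have hcrossA : Cfsg.classInner A.toRepresentation.character B.toRepresentation.character = 0 := by
      conv_lhs => arg 2; rw [hmB]
      rw [classInner_sum_right]
      refine Finset.sum_eq_zero fun χ _ => ?_
      rw [classInner_smul_right, hmA, classInner_sum_irr, map_natCast]
      have := hm χ
      rcases Nat.eq_zero_or_pos (mB χ) with h | h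
      · simp [h]
      · simp [show mA χ = 0 by omega]
    have hcrossB : Cfsg.classInner B.toRepresentation.character A.toRepresentation.character = 0 := by
      rw [← classInner_conj_symm, hcrossA, map_zero]
    -- equivariant maps preserve the two summands
    have hpres : ∀ (X Y : Subrepresentation ρ), IsCompl X.toSubmodule Y.toSubmodule →
        Cfsg.classInner Y.toRepresentation.character X.toRepresentation.character = 0 →
        ∀ S : W →ₗ[ℂ] W, IsEquivariant ρ ρ S → ∀ x ∈ X.toSubmodule, S x ∈ X.toSubmodule := by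
      intro X Y hXY hz S hS x hx
      let f : X.toSubmodule →ₗ[ℂ] Y.toSubmodule :=
        (Submodule.projectionOnto Y.toSubmodule X.toSubmodule hXY.symm) ∘ₗ S ∘ₗ X.toSubmodule.subtype
      have hf : IsEquivariant X.toRepresentation Y.toRepresentation f := by
        intro g
        apply LinearMap.ext
        intro z
        show (Submodule.projectionOnto Y.toSubmodule X.toSubmodule hXY.symm) (S (ρ g (z : W))) =
          Y.toRepresentation g ((Submodule.projectionOnto Y.toSubmodule X.toSubmodule hXY.symm) (S (z : W)))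
        rw [show S (ρ g (z : W)) = ρ g (S (z : W)) from LinearMap.congr_fun (hS g) _]
        have hmem : S (z : W) ∈ Y.toSubmodule ⊔ X.toSubmodule := hXY.symm.sup_eq_top ▸ Submodule.mem_top
        obtain ⟨y, hy, x', hx', he⟩ := Submodule.mem_sup.1 hmem
        rw [← he, map_add, map_add, map_add, map_add,
          Submodule.projectionOnto_apply_left (x := ⟨y, hy⟩),
          Submodule.projectionOnto_apply_of_mem_right hXY.symm hx',
          Submodule.projectionOnto_apply_left (x := ⟨ρ g y, Y.apply_mem_toSubmodule g hy⟩),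
          Submodule.projectionOnto_apply_of_mem_right hXY.symm (X.apply_mem_toSubmodule g hx'), map_zero]
        rfl
      have h0 := LinearMap.congr_fun (eq_zero_of_classInner_zero hz hf) ⟨x, hx⟩
      exact (Submodule.projectionOnto_apply_eq_zero_iff hXY.symm).1 h0
    have hA' := hpres A B hAB hcrossB
    have hB' := hpres B A hAB.symm hcrossA
    have hres : ∀ (X : Subrepresentation ρ) (U : W →ₗ[ℂ] W) (hU : ∀ x ∈ X.toSubmodule, U x ∈ X.toSubmodule),
        IsEquivariant ρ ρ U → IsEquivariant X.toRepresentation X.toRepresentation (U.restrict hU) := by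
      intro X U hU he g
      apply LinearMap.ext
      intro z
      exact Subtype.ext (LinearMap.congr_fun (he g) (z : W))
    have hmfA : ∀ χ : Cfsg.IrrCharacter G, Cfsg.classInner A.toRepresentation.character (χ : G → ℂ) = 0 ∨
        Cfsg.classInner A.toRepresentation.character (χ : G → ℂ) = 1 := fun χ => by
      rw [hmA, classInner_sum_irr]; have := hm χ; norm_cast; omega
    have hmfB : ∀ χ : Cfsg.IrrCharacter G, Cfsg.classInner B.toRepresentation.character (χ : G → ℂ) = 0 ∨
        Cfsg.classInner B.toRepresentation.character (χ : G → ℂ) = 1 := fun χ => by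
      rw [hmB, classInner_sum_irr]; have := hm χ; norm_cast; omega
    have ha := hA hmfA _ _ (hres A S (hA' S hS) hS) (hres A T (hA' T hT) hT)
    have hb := hB hmfB _ _ (hres B S (hB' S hS) hS) (hres B T (hB' T hT) hT)
    apply LinearMap.ext
    intro v
    obtain ⟨a, ha', b, hb', rfl⟩ := Submodule.mem_sup.1
      (hAB.sup_eq_top ▸ Submodule.mem_top : v ∈ A.toSubmodule ⊔ B.toSubmodule)
    have e1 := congrArg Subtype.val (LinearMap.congr_fun ha ⟨a, ha'⟩)
    have e2 := congrArg Subtype.val (LinearMap.congr_fun hb ⟨b, hb'⟩)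
    rw [map_add, map_add]
    exact congrArg₂ (· + ·) e1 e2

/-- A commutative centraliser forces multiplicities at most one. -/
theorem classInner_le_one_of_commute (ρ : Representation ℂ G V)
    (h : ∀ S T : V →ₗ[ℂ] V, IsEquivariant ρ ρ S → IsEquivariant ρ ρ T → S ∘ₗ T = T ∘ₗ S)
    {χ : G → ℂ} (hχ : Cfsg.IsIrrCharacter G χ) :
    Cfsg.classInner ρ.character χ = 0 ∨ Cfsg.classInner ρ.character χ = 1 := by
  obtain ⟨n, σ, hσ, rfl⟩ := hχ
  rw [classInner_eq_finrank σ ρ, Nat.cast_eq_zero, Nat.cast_eq_one]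
  by_contra hcon
  push Not at hcon
  haveI : Nontrivial (σ.IntertwiningMap ρ) :=
    Module.nontrivial_of_finrank_pos (R := ℂ) (Nat.pos_of_ne_zero hcon.1)
  obtain ⟨F₁, hF₁⟩ := exists_ne (0 : σ.IntertwiningMap ρ)
  obtain ⟨F₂, hF₂⟩ : ∃ F₂ : σ.IntertwiningMap ρ, ∀ c : ℂ, c • F₁ ≠ F₂ := by
    by_contra hno
    push Not at hno
    exact hcon.2 ((finrank_eq_one_iff_of_nonzero' F₁ hF₁).2 hno)
  set i := F₁.toLinearMap
  have hi : IsEquivariant σ ρ i := F₁.isIntertwining'
  have hinj := injective_of_irreducible hi fun e => hF₁ (Representation.IntertwiningMap.ext e)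
  obtain ⟨p, hp, hpi⟩ := exists_equivariant_left_inverse hi hinj
  set j := F₂.toLinearMap - i ∘ₗ p ∘ₗ F₂.toLinearMap with hjdef
  have hF₂' : IsEquivariant σ ρ F₂.toLinearMap := F₂.isIntertwining'
  have hj : IsEquivariant σ ρ j := by
    intro g
    refine LinearMap.ext fun w => ?_
    have e1 := LinearMap.congr_fun (hF₂' g) w
    have e2 := LinearMap.congr_fun (hp g) (F₂.toLinearMap w)
    have e3 := LinearMap.congr_fun (hi g) (p (F₂.toLinearMap w))
    simp only [LinearMap.comp_apply] at e1 e2 e3
    simp only [hjdef, LinearMap.comp_apply, LinearMap.sub_apply, map_sub, e1, e2, e3]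
  have hpj : p ∘ₗ j = 0 := by
    refine LinearMap.ext fun w => ?_
    simp only [hjdef, LinearMap.comp_apply, LinearMap.sub_apply, map_sub, LinearMap.zero_apply]
    rw [show p (i (p (F₂.toLinearMap w))) = p (F₂.toLinearMap w) from LinearMap.congr_fun hpi _, sub_self]
  have hj0 : j ≠ 0 := by
    intro e
    rw [hjdef, sub_eq_zero] at e
    obtain ⟨c, hc⟩ := exists_eq_smul_of_commute σ (p ∘ₗ F₂.toLinearMap) fun g => by
      show p ∘ₗ F₂.toLinearMap ∘ₗ σ g = σ g ∘ₗ (p ∘ₗ F₂.toLinearMap)
      rw [hF₂' g, ← LinearMap.comp_assoc, hp g, LinearMap.comp_assoc]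
    refine hF₂ c (Representation.IntertwiningMap.ext ?_)
    rw [e, hc, LinearMap.comp_smul, LinearMap.comp_id]
    rfl
  obtain ⟨q, hq, hqj⟩ := exists_equivariant_left_inverse hj (injective_of_irreducible hj hj0)
  set q' := q - q ∘ₗ i ∘ₗ p with hq'def
  have hq' : IsEquivariant ρ σ q' := by
    intro g
    refine LinearMap.ext fun v => ?_
    have e1 := LinearMap.congr_fun (hq g) v
    have e2 := LinearMap.congr_fun (hp g) v
    have e3 := LinearMap.congr_fun (hi g) (p v)
    have e4 := LinearMap.congr_fun (hq g) (i (p v))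
    simp only [LinearMap.comp_apply] at e1 e2 e3 e4
    simp only [hq'def, LinearMap.comp_apply, LinearMap.sub_apply, map_sub, e1, e2, e3, e4]
  have hS : IsEquivariant ρ ρ (i ∘ₗ p) := fun g => by
    rw [LinearMap.comp_assoc, hp g, ← LinearMap.comp_assoc, hi g, LinearMap.comp_assoc]
  have hT : IsEquivariant ρ ρ (i ∘ₗ q') := fun g => by
    rw [LinearMap.comp_assoc, hq' g, ← LinearMap.comp_assoc, hi g, LinearMap.comp_assoc]
  have hcomm := h _ _ hS hT
  have hq'i : q' ∘ₗ i = 0 := by
    refine LinearMap.ext fun w => ?_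
    simp only [hq'def, LinearMap.comp_apply, LinearMap.sub_apply, LinearMap.zero_apply]
    rw [show p (i w) = w from LinearMap.congr_fun hpi w, sub_self]
  refine hj0 (LinearMap.ext fun w => ?_)
  have e1 := LinearMap.congr_fun hcomm (j w)
  simp only [LinearMap.comp_apply] at e1
  rw [show p (j w) = 0 from LinearMap.congr_fun hpj w, map_zero, map_zero, map_zero,
    show p (i (q' (j w))) = q' (j w) from LinearMap.congr_fun hpi _] at e1
  have hjw : q' (j w) = w := by
    simp only [hq'def, LinearMap.comp_apply, LinearMap.sub_apply]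
    rw [show p (j w) = 0 from LinearMap.congr_fun hpj w, map_zero, map_zero, sub_zero]
    exact LinearMap.congr_fun hqj w
  rw [hjw] at e1
  have hw : w = 0 := hinj (e1.trans (map_zero i).symm)
  rw [hw, map_zero]
  rfl

/-- `∑ g, conj (χ g) • ρ g`. -/
noncomputable def charSum (ρ : Representation ℂ G V) (χ : G → ℂ) : V →ₗ[ℂ] V :=
  ∑ g, conj (χ g) • ρ g

theorem isEquivariant_charSum (ρ : Representation ℂ G V) {χ : G → ℂ}
    (hχ : Cfsg.IsClassFunction G χ) : IsEquivariant ρ ρ (charSum ρ χ) := fun h =>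
  sum_smul_commute (θ := fun g => conj (χ g)) (fun g x => congrArg conj (hχ g x)) ρ h

theorem charSum_eq_zero (ρ : Representation ℂ G V) (χ : Cfsg.IrrCharacter G)
    (h : Cfsg.classInner ρ.character (χ : G → ℂ) = 0) : charSum ρ (χ : G → ℂ) = 0 := by
  classical
  suffices H : ∀ v : V, ∑ g, conj ((χ : G → ℂ) g) • ρ g v = 0 by
    refine LinearMap.ext fun v => ?_
    simpa [charSum] using H v
  refine rep_induction (P := fun W _ _ ρ => Cfsg.classInner ρ.character (χ : G → ℂ) = 0 →
      ∀ v : W, ∑ g, conj ((χ : G → ℂ) g) • ρ g v = 0) ?_ ?_ ?_ V ρ h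
  · intro W _ _ ρ hW _ v
    exact Subsingleton.elim _ _
  · intro W _ _ _ ρ hirr h v
    obtain ⟨c, hc⟩ := exists_eq_smul_of_commute ρ (∑ g, conj ((χ : G → ℂ) g) • ρ g)
      (fun g => sum_smul_commute (fun a x => by
        obtain ⟨n, σ, -, hσ⟩ := χ.2
        rw [← hσ, Representation.char_conj]) ρ g)
    have htr := congrArg (LinearMap.trace ℂ W) hc
    simp only [map_sum, map_smul, LinearMap.trace_id, smul_eq_mul] at htr
    have h1 : ∑ g, conj ((χ : G → ℂ) g) * ρ.character g = 0 := by
      rw [Cfsg.classInner, mul_eq_zero] at h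
      rw [← h.resolve_left (inv_ne_zero (Nat.cast_ne_zero.2 Nat.card_pos.ne'))]
      exact Finset.sum_congr rfl fun g _ => mul_comm _ _
    have hc0 : c = 0 := by
      rcases mul_eq_zero.mp (htr.symm.trans h1) with h0 | h0
      · exact h0
      · exact absurd h0 (Nat.cast_ne_zero.mpr (finrank_pos_of_irreducible ρ).ne')
    rw [hc0, zero_smul] at hc
    simpa using LinearMap.congr_fun hc v
  · intro W _ _ _ ρ A B hAB hA hB h v
    rw [character_of_isCompl hAB, classInner_add_left] at h
    obtain ⟨a, ha⟩ := IsChar.classInner_eq_natCast (isCharacter_rep A.toRepresentation) (IsIrr.isCharacter χ.2)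
    obtain ⟨b, hb⟩ := IsChar.classInner_eq_natCast (isCharacter_rep B.toRepresentation) (IsIrr.isCharacter χ.2)
    rw [ha, hb] at h
    norm_cast at h
    obtain ⟨x, hx, y, hy, rfl⟩ := Submodule.mem_sup.mp
      (hAB.sup_eq_top ▸ Submodule.mem_top : v ∈ A.toSubmodule ⊔ B.toSubmodule)
    have h1 := congrArg Subtype.val (hA (by rw [ha]; simp; omega) ⟨x, hx⟩)
    have h2 := congrArg Subtype.val (hB (by rw [hb]; simp; omega) ⟨y, hy⟩)
    simp only [Submodule.coe_sum, Submodule.coe_smul, ZeroMemClass.coe_zero,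
      Subrepresentation.toRepresentation, MonoidHom.coe_mk, OneHom.coe_mk,
      LinearMap.restrict_apply] at h1 h2
    simp only [map_add, smul_add, Finset.sum_add_distrib, h1, h2, add_zero]

theorem sum_charSum [Fintype (Cfsg.IrrCharacter G)] (ρ : Representation ℂ G V) :
    ∑ χ : Cfsg.IrrCharacter G, (χ : G → ℂ) 1 • charSum ρ (χ : G → ℂ) =
      (Nat.card G : ℂ) • LinearMap.id := by
  classical
  simp only [charSum, Finset.smul_sum, smul_smul]
  rw [Finset.sum_comm]
  simp only [← Finset.sum_smul]
  rw [Finset.sum_eq_single (1 : G)]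
  · rw [map_one, ← sum_sq_degree (G := G)]
    congr 1
    refine Finset.sum_congr rfl fun χ _ => ?_
    obtain ⟨n, σ, -, hσ⟩ := χ.2
    rw [← hσ, Representation.char_one, map_natCast]
    ring
  · intro g _ hg
    have h := sum_degree_mul_apply_of_ne_one (G := G) (inv_ne_one.2 hg)
    rw [show ∑ χ : Cfsg.IrrCharacter G, (χ : G → ℂ) 1 * conj ((χ : G → ℂ) g) = 0 by
      rw [← h]; exact Finset.sum_congr rfl fun χ _ => by rw [IsIrr.map_inv χ.2], zero_smul]
  · exact fun h => absurd (Finset.mem_univ _) h

/-- On a constituent of multiplicity one every equivariant map is a scalar. -/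
theorem exists_smul_charSum (ρ : Representation ℂ G V) (χ : Cfsg.IrrCharacter G)
    (h : Cfsg.classInner ρ.character (χ : G → ℂ) = 1) {D : V →ₗ[ℂ] V} (hD : IsEquivariant ρ ρ D) :
    charSum ρ (χ : G → ℂ) ≠ 0 ∧ ∃ c : ℂ, D ∘ₗ charSum ρ (χ : G → ℂ) = c • charSum ρ (χ : G → ℂ) := by
  classical
  obtain ⟨n, σ, i, hσ, hσc, hi, hinj⟩ := exists_embedding χ.2 ρ (by rw [h]; exact one_ne_zero)
  have hne : (0 : ℕ) < n := by
    have := finrank_pos_of_irreducible σ
    simpa using this
  obtain ⟨p, hp, hpi⟩ := exists_equivariant_left_inverse hi hinj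
  let K : Subrepresentation ρ :=
    { toSubmodule := LinearMap.ker p
      apply_mem_toSubmodule := fun g v hv => by
        rw [LinearMap.mem_ker] at hv ⊢
        rw [show p (ρ g v) = σ g (p v) from LinearMap.congr_fun (hp g) v, hv, map_zero] }
  let R : Subrepresentation ρ :=
    { toSubmodule := LinearMap.range i
      apply_mem_toSubmodule := fun g v hv => by
        obtain ⟨w, rfl⟩ := hv
        exact ⟨σ g w, LinearMap.congr_fun (hi g) w⟩ }
  have hc : IsCompl R.toSubmodule K.toSubmodule := by
    refine ⟨Submodule.disjoint_def.2 ?_, codisjoint_iff.2 (eq_top_iff.2 fun v _ => ?_)⟩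
    · rintro _ ⟨w, rfl⟩ hk
      have : p (i w) = 0 := hk
      rw [show p (i w) = w from LinearMap.congr_fun hpi w] at this
      rw [this, map_zero]
    · refine Submodule.mem_sup.2 ⟨i (p v), ⟨_, rfl⟩, v - i (p v), ?_, add_sub_cancel _ _⟩
      show p (v - i (p v)) = 0
      rw [map_sub, show p (i (p v)) = p v from LinearMap.congr_fun hpi _, sub_self]
  have hK : Cfsg.classInner K.toRepresentation.character (χ : G → ℂ) = 0 := by
    have hR : R.toRepresentation.character = (χ : G → ℂ) := by
      rw [← hσc]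
      let e : (Fin n → ℂ) ≃ₗ[ℂ] R.toSubmodule := LinearEquiv.ofInjective i hinj
      rw [← character_mapEquiv σ e]
      funext g
      show LinearMap.trace ℂ _ _ = LinearMap.trace ℂ _ _
      congr 1
      apply LinearMap.ext
      intro z
      obtain ⟨w, rfl⟩ := e.surjective z
      apply Subtype.ext
      rw [mapEquiv_apply, LinearEquiv.symm_apply_apply]
      show ρ g (i w) = i (σ g w)
      exact (LinearMap.congr_fun (hi g) w).symm
    rw [character_of_isCompl hc, classInner_add_left, hR, classInner_irr_self] at h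
    linear_combination h
  have hzero := charSum_eq_zero K.toRepresentation χ hK
  have hkey : charSum ρ (χ : G → ℂ) = i ∘ₗ charSum σ (χ : G → ℂ) ∘ₗ p := by
    apply LinearMap.ext
    intro v
    have hv : v - i (p v) ∈ K.toSubmodule := by
      show p (v - i (p v)) = 0
      rw [map_sub, show p (i (p v)) = p v from LinearMap.congr_fun hpi _, sub_self]
    have h0 := congrArg Subtype.val (LinearMap.congr_fun hzero ⟨_, hv⟩)
    simp only [charSum, LinearMap.sum_apply, LinearMap.smul_apply, Submodule.coe_sum, Submodule.coe_smul,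
      LinearMap.zero_apply, ZeroMemClass.coe_zero, Subrepresentation.toRepresentation, MonoidHom.coe_mk,
      OneHom.coe_mk, LinearMap.restrict_apply, map_sub, smul_sub, Finset.sum_sub_distrib, sub_eq_zero] at h0
    simp only [charSum, LinearMap.sum_apply, LinearMap.smul_apply, LinearMap.comp_apply, map_sum, map_smul]
    rw [h0]
    exact Finset.sum_congr rfl fun g _ => congrArg _ (LinearMap.congr_fun (hi g) (p v)).symm
  obtain ⟨c, hcs⟩ := exists_eq_smul_of_commute σ (charSum σ (χ : G → ℂ))
    (isEquivariant_charSum σ (fun g x => by rw [← hσc, Representation.char_conj]))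
  have hc0 : c ≠ 0 := by
    intro e
    have htr := congrArg (LinearMap.trace ℂ (Fin n → ℂ)) hcs
    simp only [charSum, map_sum, map_smul, smul_eq_mul, e, zero_mul] at htr
    have h1 := classInner_irr_self χ
    rw [Cfsg.classInner] at h1
    have h2 : ∑ g, (χ : G → ℂ) g * conj ((χ : G → ℂ) g) = 0 := by
      rw [← htr]
      exact Finset.sum_congr rfl fun g _ => by rw [mul_comm]; congr 1; exact (congrFun hσc g).symm
    rw [h2, mul_zero] at h1
    exact zero_ne_one h1
  have hE : charSum ρ (χ : G → ℂ) = c • (i ∘ₗ p) := by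
    rw [hkey, hcs, LinearMap.smul_comp, LinearMap.id_comp, LinearMap.comp_smul]
  refine ⟨fun e => ?_, ?_⟩
  · rw [hE, smul_eq_zero] at e
    have e' := LinearMap.congr_fun (e.resolve_left hc0) (i (fun _ => 1))
    simp only [LinearMap.comp_apply, LinearMap.zero_apply] at e'
    rw [show p (i (fun _ => 1)) = (fun _ => 1) from LinearMap.congr_fun hpi _] at e'
    have := congrFun (hinj (e'.trans (map_zero i).symm)) ⟨0, hne⟩
    exact one_ne_zero this
  · have hDi : IsEquivariant σ ρ (D ∘ₗ i) := fun g => by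
      rw [LinearMap.comp_assoc, hi g, ← LinearMap.comp_assoc, hD g, LinearMap.comp_assoc]
    obtain ⟨d, hd⟩ := eq_smul_of_classInner_one (σ := σ) (ρ := ρ) (by rw [hσc]; exact h) hi
      (fun e => by
        have := congrFun (hinj ((LinearMap.congr_fun e (fun _ => 1)).trans (map_zero i).symm)) ⟨0, hne⟩
        exact one_ne_zero this) hDi
    refine ⟨d, ?_⟩
    rw [hE, LinearMap.comp_smul, ← LinearMap.comp_assoc, hd, LinearMap.smul_comp, smul_comm]

end General

/-! ### Permutation representations -/

section Perm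

open MulAction

variable {Ω : Type*} [Fintype Ω] [MulAction G Ω]

theorem permRep_character :
    (Cfsg.permRep ℂ G Ω).character = fun g => (Nat.card (fixedBy Ω g) : ℂ) := by
  classical
  funext g
  rw [Representation.character, LinearMap.trace_eq_matrix_trace ℂ (Pi.basisFun ℂ Ω), Matrix.trace]
  simp only [Matrix.diag, LinearMap.toMatrix_apply, Pi.basisFun_repr, Pi.basisFun_apply]
  have h1 : ∀ x : Ω, (Cfsg.permRep ℂ G Ω g) (Pi.single x 1) x = if g • x = x then 1 else 0 := by
    intro x
    show (Pi.single x (1 : ℂ) : Ω → ℂ) (g⁻¹ • x) = _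
    rw [Pi.single_apply]
    exact if_congr (inv_smul_eq_iff.trans eq_comm) rfl rfl
  simp only [h1, Finset.sum_boole]
  rw [Nat.card_coe_set_eq, ← Set.ncard_coe_finset]
  congr 2
  ext x
  simp [MulAction.mem_fixedBy]

theorem mem_invariants_iff (S : (Ω → ℂ) →ₗ[ℂ] (Ω → ℂ)) :
    S ∈ ((Cfsg.permRep ℂ G Ω).linHom (Cfsg.permRep ℂ G Ω)).invariants ↔
      IsEquivariant (Cfsg.permRep ℂ G Ω) (Cfsg.permRep ℂ G Ω) S := by
  rw [Representation.mem_invariants]
  constructor
  · intro h g
    apply LinearMap.ext
    intro v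
    have := LinearMap.congr_fun (h g) (Cfsg.permRep ℂ G Ω g v)
    simp only [Representation.linHom_apply, LinearMap.comp_apply, Representation.inv_self_apply] at this
    exact this.symm
  · intro h g
    apply LinearMap.ext
    intro v
    simp only [Representation.linHom_apply, LinearMap.comp_apply]
    rw [← LinearMap.comp_apply (Cfsg.permRep ℂ G Ω g) S, ← h g, LinearMap.comp_apply,
      Representation.self_inv_apply]

theorem card_suborbits_eq [IsPretransitive G Ω] (a : Ω) :
    Nat.card (orbitRel.Quotient G (Ω × Ω)) = Nat.card (orbitRel.Quotient (stabilizer G a) Ω) := by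
  symm
  let f : orbitRel.Quotient (stabilizer G a) Ω → orbitRel.Quotient G (Ω × Ω) :=
    Quotient.lift (fun b => Quotient.mk'' (a, b)) fun b c hbc => by
      obtain ⟨⟨g, hg⟩, rfl⟩ := MulAction.orbitRel_apply.1 hbc
      exact Quotient.sound' ⟨g, Prod.ext (hg : g • a = a) rfl⟩
  refine Nat.card_eq_of_bijective f ⟨fun p q h => ?_, fun o => ?_⟩
  · induction p using Quotient.inductionOn' with | _ b => ?_
    induction q using Quotient.inductionOn' with | _ c => ?_
    obtain ⟨g, hg⟩ := Quotient.exact' (h : (Quotient.mk'' (a, b) : orbitRel.Quotient G (Ω × Ω)) = _)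
    exact Quotient.sound' ⟨⟨g, congrArg Prod.fst hg⟩, congrArg Prod.snd hg⟩
  · induction o using Quotient.inductionOn' with | _ p => ?_
    obtain ⟨g, hg⟩ := exists_smul_eq G p.1 a
    exact ⟨Quotient.mk'' (g • p.2), Quotient.sound' ⟨g, Prod.ext hg rfl⟩⟩

theorem classInner_perm_self [IsPretransitive G Ω] (a : Ω) :
    Cfsg.classInner (fun g : G => (Nat.card (fixedBy Ω g) : ℂ)) (fun g : G => (Nat.card (fixedBy Ω g) : ℂ)) =
      (Nat.card (orbitRel.Quotient (stabilizer G a) Ω) : ℂ) := by
  rw [← card_suborbits_eq a]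
  exact classInner_permChar_self

theorem classInner_perm_one [IsPretransitive G Ω] [Nonempty Ω] :
    Cfsg.classInner (fun g : G => (Nat.card (fixedBy Ω g) : ℂ)) (fun _ => 1) = 1 := by
  have h := classInner_permChar_one (G := G) (X := Ω)
  rw [show Nat.card (orbitRel.Quotient G Ω) = 1 by
    rw [Nat.card_eq_one_iff_unique]
    exact ⟨(MulAction.pretransitive_iff_subsingleton_quotient G Ω).mp inferInstance,
      ⟨Quotient.mk'' (Classical.arbitrary Ω)⟩⟩, Nat.cast_one] at h
  exact h

theorem exists_perm_decomp [Fintype (Cfsg.IrrCharacter G)] [IsPretransitive G Ω] [Nonempty Ω] :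
    ∃ m : Cfsg.IrrCharacter G → ℕ,
      (fun g : G => (Nat.card (fixedBy Ω g) : ℂ)) = ∑ χ, (m χ : ℂ) • (χ : G → ℂ) ∧
      m (trivChar G) = 1 ∧
      ∀ χ : Cfsg.IrrCharacter G,
        Cfsg.classInner (fun g : G => (Nat.card (fixedBy Ω g) : ℂ)) (χ : G → ℂ) = (m χ : ℂ) := by
  obtain ⟨m, hm⟩ := IsChar.exists_sum (isCharacter_permChar (G := G) (X := Ω))
  have hm' : (fun g : G => (Nat.card (fixedBy Ω g) : ℂ)) = ∑ χ, (m χ : ℂ) • (χ : G → ℂ) := hm
  refine ⟨m, hm', ?_, fun χ => ?_⟩
  · have h := classInner_sum_irr (fun ψ => (m ψ : ℂ)) (trivChar G)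
    rw [← hm'] at h
    exact_mod_cast h.symm.trans classInner_perm_one
  · rw [hm', classInner_sum_irr]

/-- Off the trivial constituent the degrees of the constituents divide the dimension. -/
theorem exists_finrank_subrep [Fintype (Cfsg.IrrCharacter G)] [IsPretransitive G Ω] [Nonempty Ω]
    (S : Subrepresentation (Cfsg.permRep ℂ G Ω)) (f : ℕ)
    (hf : ∀ χ : G → ℂ, Cfsg.IsIrrCharacter G χ → χ ≠ (fun _ => 1) →
      Cfsg.classInner (fun g : G => (Nat.card (fixedBy Ω g) : ℂ)) χ ≠ 0 → ∃ m : ℕ, χ 1 = (f : ℂ) * m) :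
    ∃ t m : ℕ, finrank ℂ S.toSubmodule = t + f * m ∧ (t = 0 ∨ t = 1) ∧
      ((fun _ => (1 : ℂ)) ∈ S.toSubmodule ↔ t = 1) := by
  classical
  obtain ⟨mS, hmS⟩ := IsChar.exists_sum (G := G) (χ := S.toRepresentation.character) (isCharacter_rep _)
  obtain ⟨μ, hμ, hμ1, hμc⟩ := exists_perm_decomp (G := G) (Ω := Ω)
  haveI : NeZero (Nat.card G : ℂ) := ⟨Nat.cast_ne_zero.mpr Nat.card_pos.ne'⟩
  obtain ⟨T, hT⟩ := exists_isCompl S
  have hc : IsCompl S.toSubmodule T.toSubmodule := by
    refine ⟨disjoint_iff.mpr ?_, codisjoint_iff.mpr ?_⟩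
    · exact (Subrepresentation.toSubmodule_inf S T).symm.trans
        (congrArg Subrepresentation.toSubmodule hT.inf_eq_bot)
    · exact (Subrepresentation.toSubmodule_sup S T).symm.trans
        (congrArg Subrepresentation.toSubmodule hT.sup_eq_top)
  have hle : ∀ χ, mS χ ≤ μ χ := by
    intro χ
    obtain ⟨mT, hmT⟩ := IsChar.exists_sum (G := G) (χ := T.toRepresentation.character) (isCharacter_rep _)
    have h := hμc χ
    rw [← permRep_character, character_of_isCompl hc, classInner_add_left, hmS, hmT,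
      classInner_sum_irr, classInner_sum_irr] at h
    norm_cast at h
    omega
  have hdeg : ∀ χ : Cfsg.IrrCharacter G, χ ≠ trivChar G → ∃ d : ℕ, (mS χ : ℂ) * (χ : G → ℂ) 1 = (f : ℂ) * d := by
    intro χ hχ
    rcases Nat.eq_zero_or_pos (mS χ) with h | h
    · exact ⟨0, by simp [h]⟩
    · obtain ⟨d, hd⟩ := hf χ χ.2 (fun e => hχ (Subtype.ext e))
        (by rw [hμc, Nat.cast_ne_zero]; have := hle χ; omega)
      exact ⟨mS χ * d, by rw [hd]; push_cast; ring⟩
  choose! d hd using hdeg
  refine ⟨mS (trivChar G), ∑ χ ∈ Finset.univ.erase (trivChar G), d χ, ?_, ?_, ?_⟩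
  · have h := congrFun hmS 1
    rw [Representation.char_one, Finset.sum_apply] at h
    rw [← Finset.add_sum_erase _ _ (Finset.mem_univ (trivChar G))] at h
    simp only [Pi.smul_apply, smul_eq_mul, trivChar_apply, mul_one] at h
    rw [Finset.sum_congr rfl fun χ hχ => hd χ (Finset.ne_of_mem_erase hχ), ← Finset.mul_sum] at h
    exact_mod_cast h
  · have := hle (trivChar G)
    omega
  · have hiff : (fun _ => (1 : ℂ)) ∈ S.toSubmodule ↔
        Cfsg.classInner S.toRepresentation.character (fun _ => 1) ≠ 0 := by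
      constructor
      · intro hone h0
        let τ : Representation ℂ G ℂ := Representation.trivial ℂ G ℂ
        have hτ : τ.character = fun _ => 1 := by
          funext g
          show LinearMap.trace ℂ ℂ (τ g) = 1
          rw [show τ g = LinearMap.id from LinearMap.ext fun v => rfl, LinearMap.trace_id, Module.finrank_self,
            Nat.cast_one]
        rw [← hτ] at h0
        have hz := eq_zero_of_classInner_zero (ρ := S.toRepresentation) (σ := τ) h0
          (f := LinearMap.toSpanSingleton ℂ S.toSubmodule ⟨_, hone⟩) (fun g => by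
            apply LinearMap.ext_ring
            apply Subtype.ext
            funext x
            rfl)
        obtain ⟨x⟩ := ‹Nonempty Ω›
        have := congrFun (congrArg Subtype.val (LinearMap.congr_fun hz 1)) x
        simp at this
      · intro h
        obtain ⟨n, σ, i, hσ, hσc, hi, hinj⟩ := exists_embedding (isIrrCharacter_one (G := G)) S.toRepresentation h
        have hn : n = 1 := by
          have h1 := congrFun hσc 1
          rw [Representation.char_one, Module.finrank_fin_fun] at h1
          exact_mod_cast h1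
        subst hn
        have htriv : ∀ g, σ g = LinearMap.id := by
          intro g
          obtain ⟨c, hc⟩ : ∃ c : ℂ, σ g = c • LinearMap.id :=
            ⟨σ g (fun _ => 1) 0, LinearMap.pi_ext' fun k => LinearMap.ext_ring (funext fun l => by
              rw [Subsingleton.elim k 0, Subsingleton.elim l 0]
              have : (Pi.single (0 : Fin 1) (1 : ℂ) : Fin 1 → ℂ) = fun _ => 1 := funext fun l => by
                rw [Subsingleton.elim l 0, Pi.single_eq_same]
              simp [this])⟩
          have h1 := congrFun hσc g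
          rw [Representation.character, hc, map_smul, LinearMap.trace_id, Module.finrank_fin_fun,
            Nat.cast_one, smul_eq_mul, mul_one] at h1
          rw [hc, h1, one_smul]
        set v := i (fun _ => 1)
        have hv : ∀ g, Cfsg.permRep ℂ G Ω g (v : Ω → ℂ) = (v : Ω → ℂ) := fun g => by
          have := congrArg Subtype.val (LinearMap.congr_fun (hi g) (fun _ => 1))
          rw [htriv] at this
          exact this.symm
        obtain ⟨a⟩ := ‹Nonempty Ω›
        have hvc : (v : Ω → ℂ) = (v : Ω → ℂ) a • fun _ => (1 : ℂ) := by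
          funext x
          obtain ⟨g, rfl⟩ := exists_smul_eq G a x
          have := congrFun (hv g) (g • a)
          rw [Pi.smul_apply, smul_eq_mul, mul_one]
          show (v : Ω → ℂ) (g • a) = _
          rw [← this]
          show (v : Ω → ℂ) (g⁻¹ • g • a) = _
          rw [inv_smul_smul]
        have hva : (v : Ω → ℂ) a ≠ 0 := by
          intro e
          rw [e, zero_smul] at hvc
          have h2 : v = 0 := Subtype.ext hvc
          have := congrFun (hinj (h2.trans (map_zero i).symm)) 0
          exact one_ne_zero this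
        have hmem := S.toSubmodule.smul_mem ((v : Ω → ℂ) a)⁻¹ v.2
        have he : ((v : Ω → ℂ) a)⁻¹ • (v : Ω → ℂ) = fun _ => (1 : ℂ) := by
          conv_lhs => arg 2; rw [hvc]
          rw [smul_smul, inv_mul_cancel₀ hva, one_smul]
        rw [he] at hmem
        exact hmem
    rw [hiff, show (fun _ : G => (1 : ℂ)) = ((trivChar G : Cfsg.IrrCharacter G) : G → ℂ) from rfl,
      hmS, classInner_sum_irr, Nat.cast_ne_zero]
    have := hle (trivChar G)
    omega

end Perm

end CfsgLib.Perm.CentralizerRing
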