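import Mathlib
import Cfsg.Agent.Lib.Perm.PrimeDegree

/-!
# Transitive groups of prime degree with a Sylow normaliser of even order

* `coordHom`, `affine_or_two_pretransitive`, `exists_inverting_coords`, `exists_fixed_of_affine`,
  `symmetric_difference_set`.
-/

set_option autoImplicit false
set_option linter.all false

namespace CfsgLib.Perm.PrimeNormalizer

open MulAction

variable {α : Type*} {p : ℕ} [hp : Fact p.Prime]

section General
variable {G : Type*} [Group G] [MulAction G α] (e : ZMod p ≃ α)

/-- The action in coordinates. -/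
def coordHom : G →* Equiv.Perm (ZMod p) where
  toFun g := (e.trans (MulAction.toPerm g)).trans e.symm
  map_one' := by ext i; simp
  map_mul' a b := by ext i; simp [mul_smul]

theorem coordHom_apply (g : G) (i : ZMod p) : e (coordHom e g i) = g • e i := by
  simp [coordHom]

theorem coordHom_injective [FaithfulSMul G α] : Function.Injective (coordHom (G := G) e) := by
  intro a b hab
  refine FaithfulSMul.eq_of_smul_eq_smul (α := α) fun x => ?_
  have h1 : a • e (e.symm x) = b • e (e.symm x) := by rw [← coordHom_apply, ← coordHom_apply, hab]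
  rwa [e.apply_symm_apply] at h1

theorem coordHom_pow {σ : G} (hσ : ∀ i, σ • e i = e (i + 1)) (n : ℕ) (i : ZMod p) :
    coordHom e (σ ^ n) i = i + n := by
  induction n generalizing i with
  | zero => simp
  | succ n ih =>
    apply e.injective
    rw [coordHom_apply, pow_succ', mul_smul, ← coordHom_apply, ih, hσ, Nat.cast_succ, add_assoc]

theorem exists_translation {σ : G} (hσ : ∀ i, σ • e i = e (i + 1)) (c : ZMod p) :
    ∃ g : G, ∀ i, coordHom e g i = i + c :=
  ⟨σ ^ c.val, fun i => by rw [coordHom_pow e hσ, ZMod.natCast_zmod_val]⟩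

/-- Burnside's dichotomy in coordinates. -/
theorem affine_or_two_pretransitive {σ : G} (hσ : ∀ i, σ • e i = e (i + 1)) :
    (∀ (g : G) i, coordHom e g i = (coordHom e g 1 - coordHom e g 0) * i + coordHom e g 0) ∨
      IsMultiplyPretransitive G α 2 := by
  classical
  let U : Finset (ZMod p) :=
    Finset.univ.filter fun u => ∃ g : G, coordHom e g 0 = 0 ∧ coordHom e g 1 = u
  have h0 : (0 : ZMod p) ∉ U := by
    intro h
    simp only [U, Finset.mem_filter, Finset.mem_univ, true_and] at h
    obtain ⟨g, hg0, hg1⟩ := h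
    exact zero_ne_one ((coordHom e g).injective (hg0.trans hg1.symm))
  have h1U : U.Nonempty := ⟨1, by
    simp only [U, Finset.mem_filter, Finset.mem_univ, true_and]
    exact ⟨1, by simp, by simp⟩⟩
  by_cases hall : ∀ v, v ≠ 0 → v ∈ U
  · right
    rw [is_two_pretransitive_iff]
    have key : ∀ a b : α, a ≠ b → ∃ g : G, g • e 0 = a ∧ g • e 1 = b := by
      intro a b hab
      have := hall _ (sub_ne_zero.2 fun h => hab (e.symm.injective h.symm) : e.symm b - e.symm a ≠ 0)
      simp only [U, Finset.mem_filter, Finset.mem_univ, true_and] at this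
      obtain ⟨g, hg0, hg1⟩ := this
      obtain ⟨t, ht⟩ := exists_translation e hσ (e.symm a)
      refine ⟨t * g, ?_, ?_⟩
      · rw [← coordHom_apply, map_mul, Equiv.Perm.mul_apply, hg0, ht, zero_add, e.apply_symm_apply]
      · rw [← coordHom_apply, map_mul, Equiv.Perm.mul_apply, hg1, ht, sub_add_cancel,
          e.apply_symm_apply]
    intro a b c d hab hcd
    obtain ⟨g, rfl, rfl⟩ := key a b hab
    obtain ⟨g', rfl, rfl⟩ := key c d hcd
    exact ⟨g' * g⁻¹, by rw [← mul_smul, inv_mul_cancel_right],
      by rw [← mul_smul, inv_mul_cancel_right]⟩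
  · left
    push Not at hall
    intro g
    refine CfsgLib.Perm.PrimeDegree.affine_of_invariant_set U h0 h1U hall (coordHom e g)
      fun i u hu => ?_
    simp only [U, Finset.mem_filter, Finset.mem_univ, true_and] at hu ⊢
    obtain ⟨k, hk0, hk1⟩ := hu
    obtain ⟨t, ht⟩ := exists_translation e hσ i
    obtain ⟨t', ht'⟩ := exists_translation e hσ (-(coordHom e g i))
    refine ⟨t' * g * t * k, ?_, ?_⟩ <;>
      simp only [map_mul, Equiv.Perm.mul_apply, hk0, hk1, ht, ht', zero_add]
    · exact add_neg_cancel _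
    · rw [add_comm u i, sub_eq_add_neg]

/-- A subgroup of an affine group with no element of order `p` fixes a point. -/
theorem exists_fixed_of_affine [Finite G] [FaithfulSMul G α] (H : Subgroup G)
    (hH : ¬ p ∣ Nat.card H)
    (haff : ∀ (g : G) i, coordHom e g i = (coordHom e g 1 - coordHom e g 0) * i + coordHom e g 0) :
    ∃ a : α, ∀ h ∈ H, h • a = a := by
  classical
  let q := coordHom (G := G) e
  let A : G → ZMod p := fun g => q g 1 - q g 0
  have hA : ∀ g k, A (g * k) = A g * A k := by
    intro g k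
    simp only [A, q, map_mul, Equiv.Perm.mul_apply]
    rw [haff g (coordHom e k 1), haff g (coordHom e k 0)]
    ring
  -- no non-trivial translation lies in `H`
  have htr : ∀ h ∈ H, A h = 1 → h = 1 := by
    intro h hh h1
    by_contra hne
    have hpow : ∀ n : ℕ, ∀ i, q (h ^ n) i = i + n * q h 0 := by
      intro n
      induction n with
      | zero => intro i; simp [q]
      | succ n ih =>
        intro i
        show coordHom e (h ^ (n + 1)) i = _
        rw [pow_succ', map_mul, Equiv.Perm.mul_apply, haff, show coordHom e h 1 - coordHom e h 0 = 1 from h1,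
          show coordHom e (h ^ n) i = _ from ih i]
        simp only [q, Nat.cast_succ]; ring
    have hp1 : h ^ p = 1 := coordHom_injective e (Equiv.ext fun i => by
      rw [show coordHom e (h ^ p) i = _ from hpow p i]; simp)
    have hord := orderOf_eq_prime hp1 hne
    exact hH (by rw [← hord]; exact (Subgroup.orderOf_mk h hh) ▸ orderOf_dvd_natCard _)
  by_cases hall : ∀ h ∈ H, h = 1
  · exact ⟨e 0, fun h hh => by rw [hall h hh, one_smul]⟩
  push Not at hall
  obtain ⟨h₀, hh₀, hne₀⟩ := hall
  have hA0 : A h₀ ≠ 1 := fun h => hne₀ (htr h₀ hh₀ h)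
  let c : ZMod p := q h₀ 0 / (1 - A h₀)
  have hfix : ∀ x, q h₀ x = x → x = c := by
    intro x hx
    have h1 : (1 - A h₀) ≠ 0 := sub_ne_zero.2 (Ne.symm hA0)
    rw [eq_div_iff h1]
    have := (haff h₀ x).symm.trans hx
    simp only [A, q] at this ⊢
    linear_combination -this
  have hc : q h₀ c = c := by
    have h1 : (1 - A h₀) ≠ 0 := sub_ne_zero.2 (Ne.symm hA0)
    show coordHom e h₀ c = c
    rw [haff h₀ c]
    show A h₀ * c + q h₀ 0 = c
    field_simp [c] at *
    simp only [c]
    field_simp
    ring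
  refine ⟨e c, fun h hh => ?_⟩
  have hcomm : h * h₀ = h₀ * h := by
    have hA1 : A 1 = 1 := by simp [A, q]
    have hinv : ∀ g, A g * A g⁻¹ = 1 := fun g => by rw [← hA, mul_inv_cancel, hA1]
    have key : h * h₀ * h⁻¹ * h₀⁻¹ = 1 := by
      refine htr _ (H.mul_mem (H.mul_mem (H.mul_mem hh hh₀) (H.inv_mem hh)) (H.inv_mem hh₀)) ?_
      rw [hA, hA, hA]
      linear_combination (A h₀ * A h₀⁻¹) * hinv h + hinv h₀
    rw [mul_inv_eq_one, mul_inv_eq_iff_eq_mul] at key
    exact key
  have : q h c = c := hfix _ (by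
    rw [← Equiv.Perm.mul_apply, ← map_mul, ← hcomm, map_mul, Equiv.Perm.mul_apply, hc])
  rw [← coordHom_apply]
  exact congrArg e this

/-- An element normalising the translations and of order 2 acts as `x ↦ -x` in suitable coordinates. -/
theorem exists_inverting_coords [Fintype α] [Finite G] [FaithfulSMul G α] [IsPretransitive G α]
    (hα : Fintype.card α = p) (hp2 : p ≠ 2) (P : Sylow p G)
    (heven : Even (Nat.card (Subgroup.normalizer ((P : Subgroup G) : Set G)))) :
    ∃ (e : ZMod p ≃ α) (σ t : G), (∀ i, σ • e i = e (i + 1)) ∧ (∀ i, t • e i = e (-i)) ∧ t ≠ 1 ∧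
      t ^ 2 = 1 := by
  classical
  obtain ⟨e, σ, hσ⟩ := CfsgLib.Perm.PrimeDegree.exists_coords (p := p) hα (G := G)
  have hσp : σ ^ p = 1 := coordHom_injective e (Equiv.ext fun i => by
    rw [coordHom_pow e hσ]; simp)
  have hσ1 : σ ≠ 1 := fun h => by
    have := hσ 0
    rw [h, one_smul] at this
    exact zero_ne_one (α := ZMod p) ((e.injective this).trans (zero_add _))
  have hord : orderOf σ = p := orderOf_eq_prime hσp hσ1
  have hcardG : ¬ p ^ 2 ∣ Nat.card G := by
    intro h
    have h1 : Nat.card G ∣ Nat.card (Equiv.Perm α) :=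
      Subgroup.card_dvd_of_injective (MulAction.toPermHom G α) MulAction.toPerm_injective
    rw [Nat.card_perm, Nat.card_eq_fintype_card (α := α), hα] at h1
    have h2 := h.trans h1
    rw [← Nat.mul_factorial_pred hp.out.ne_zero, pow_two] at h2
    have h3 := Nat.dvd_of_mul_dvd_mul_left hp.out.pos h2
    have h4 := hp.out.dvd_factorial.1 h3
    have := hp.out.pos
    omega
  have hZ : Nat.card (Subgroup.zpowers σ) = p ^ (Nat.card G).factorization p := by
    rw [Nat.card_zpowers, hord]
    have h1 : p ∣ Nat.card G := hord ▸ orderOf_dvd_natCard σ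
    have h2 := (hp.out.pow_dvd_iff_le_factorization Nat.card_pos.ne' (k := 1)).1 (by rwa [pow_one])
    have h3 : ¬ 2 ≤ (Nat.card G).factorization p := fun h =>
      hcardG ((hp.out.pow_dvd_iff_le_factorization Nat.card_pos.ne').2 h)
    rw [show (Nat.card G).factorization p = 1 by omega, pow_one]
  let S : Sylow p G := Sylow.ofCard (Subgroup.zpowers σ) hZ
  obtain ⟨g, hg⟩ := exists_smul_eq G P S
  have heven' : Even (Nat.card (Subgroup.normalizer ((S : Subgroup G) : Set G))) := by
    have h : (S : Subgroup G) = (P : Subgroup G).map (MulAut.conj g).toMonoidHom := by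
      rw [← hg]; rfl
    have hn : (Subgroup.normalizer ((S : Subgroup G) : Set G)) =
        (Subgroup.normalizer ((P : Subgroup G) : Set G)).map (MulAut.conj g).toMonoidHom := by
      rw [h]
      exact (Subgroup.map_equiv_normalizer_eq (P : Subgroup G) (MulAut.conj g)).symm
    rw [hn, Subgroup.card_map_of_injective (MulAut.conj g).injective]
    exact heven
  haveI : Fact (Nat.Prime 2) := ⟨Nat.prime_two⟩
  obtain ⟨⟨t, htN⟩, ht2⟩ := exists_prime_orderOf_dvd_card' 2 (even_iff_two_dvd.1 heven')
  rw [← Subgroup.orderOf_coe] at ht2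
  have htne : t ≠ 1 := fun h => by simp [h] at ht2
  have htt : t ^ 2 = 1 := by rw [← ht2]; exact pow_orderOf_eq_one t
  -- a fixed point of `t`
  obtain ⟨a, ha⟩ : ∃ a : α, t • a = a := by
    have hT : IsPGroup 2 (Subgroup.zpowers t) := IsPGroup.of_card (n := 1) (by rw [Nat.card_zpowers, ht2, pow_one])
    obtain ⟨a, ha⟩ := hT.nonempty_fixed_point_of_prime_not_dvd_card α (by
      rw [Nat.card_eq_fintype_card, hα]
      exact fun h => hp2 ((Nat.prime_dvd_prime_iff_eq Nat.prime_two hp.out).1 h).symm)
    exact ⟨a, ha ⟨t, Subgroup.mem_zpowers t⟩⟩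
  let e' : ZMod p ≃ α := (Equiv.addRight (e.symm a)).trans e
  have hσ' : ∀ i, σ • e' i = e' (i + 1) := fun i => by
    show σ • e (i + e.symm a) = e (i + 1 + e.symm a)
    rw [hσ]; congr 1; ring
  have ht0 : coordHom e' t 0 = 0 := by
    apply e'.injective
    rw [coordHom_apply, show e' 0 = a by simp [e'], ha]
  have hconj : t * σ * t⁻¹ ∈ Subgroup.zpowers σ := by
    exact (Subgroup.mem_normalizer_iff.1 htN σ).1 (Subgroup.mem_zpowers σ)
  obtain ⟨k, hk⟩ := (isOfFinOrder_of_finite σ).mem_powers_iff_mem_zpowers.2 hconj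
  have hk' : t * σ = σ ^ k * t := by
    rw [show σ ^ k = t * σ * t⁻¹ from hk, inv_mul_cancel_right]
  have hlin : ∀ n : ℕ, coordHom e' t (n : ZMod p) = (k : ZMod p) * n := by
    intro n
    induction n with
    | zero => simp [ht0]
    | succ n ih =>
      have h1 : coordHom e' σ (n : ZMod p) = (n : ZMod p) + 1 := by
        simpa using coordHom_pow e' hσ' 1 (n : ZMod p)
      rw [Nat.cast_succ, ← h1, ← Equiv.Perm.mul_apply, ← map_mul, hk', map_mul,
        Equiv.Perm.mul_apply, ih, coordHom_pow e' hσ', h1]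
      ring
  have hlin' : ∀ i, coordHom e' t i = (k : ZMod p) * i := fun i => by
    rw [← ZMod.natCast_zmod_val i]; exact hlin i.val
  have hk2 : (k : ZMod p) * k = 1 := by
    have : coordHom e' (t ^ 2) 1 = 1 := by rw [htt]; simp
    rw [pow_two, map_mul, Equiv.Perm.mul_apply, hlin', hlin', mul_one] at this
    exact this
  have hk1 : (k : ZMod p) ≠ 1 := fun h => htne (coordHom_injective e' (Equiv.ext fun i => by
    rw [hlin', h, one_mul]; simp))
  have hkneg : (k : ZMod p) = -1 := (mul_self_eq_one_iff.1 hk2).resolve_left hk1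
  refine ⟨e', σ, t, hσ', fun i => ?_, htne, htt⟩
  rw [← coordHom_apply, hlin', hkneg, neg_one_mul]

end General

/-- A symmetric set of residues whose difference counts are constant is trivial. -/
theorem symmetric_difference_set (hp2 : p ≠ 2) (D : Finset (ZMod p)) (hsym : ∀ x ∈ D, -x ∈ D)
    (l : ℕ) (hl : ∀ d : ZMod p, d ≠ 0 → (D.filter fun x => x + d ∈ D).card = l) :
    D.card ≤ 1 ∨ p ≤ D.card + 1 := by
  classical
  have h2 : (2 : ZMod p) ≠ 0 := by
    intro h
    have : ((2 : ℕ) : ZMod p) = 0 := by exact_mod_cast h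
    rw [ZMod.natCast_eq_zero_iff] at this
    exact hp2 ((Nat.prime_dvd_prime_iff_eq hp.out Nat.prime_two).1 this)
  -- the parity of the count of `d` tells whether `-d/2` lies in `D`
  have hpar : ∀ d : ZMod p, d ≠ 0 → ((-d / 2 ∈ D) ↔ (l : ZMod 2) = 1) := by
    intro d hd
    set S := D.filter fun x => x + d ∈ D with hS
    have hmem : ∀ x, x ∈ S ↔ x ∈ D ∧ x + d ∈ D := fun x => Finset.mem_filter
    have hself : -d / 2 = -(-d / 2 + d) := by field_simp; ring
    have hsum : ∑ x ∈ S.erase (-d / 2), (1 : ZMod 2) = 0 := by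
      refine Finset.sum_involution (fun x _ => -(x + d)) (fun _ _ => by decide) (fun x hx _ h => ?_)
        (fun x hx => ?_) (fun x _ => by ring)
      · apply (Finset.mem_erase.1 hx).1
        rw [eq_div_iff h2]
        linear_combination -h
      · obtain ⟨hne, hxS⟩ := Finset.mem_erase.1 hx
        obtain ⟨h1, h3⟩ := (hmem x).1 hxS
        refine Finset.mem_erase.2 ⟨fun h => hne ?_, (hmem _).2 ⟨hsym _ h3, ?_⟩⟩
        · rw [eq_div_iff h2] at h ⊢
          linear_combination -h
        · rw [show -(x + d) + d = -x by ring]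
          exact hsym x h1
    rw [Finset.sum_const, nsmul_one] at hsum
    have hiff : -d / 2 ∈ S ↔ -d / 2 ∈ D := by
      rw [hmem]
      refine ⟨fun h => h.1, fun h => ⟨h, ?_⟩⟩
      have := hsym _ h
      rwa [show -(-d / 2) = -d / 2 + d by field_simp; ring] at this
    rw [← hl d hd, ← hiff]
    constructor
    · intro h
      rw [← Finset.card_erase_add_one h, Nat.cast_succ, hsum, zero_add]
    · intro h
      by_contra hn
      rw [Finset.erase_eq_of_notMem hn] at hsum
      rw [hsum] at h
      exact zero_ne_one h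
  have hall : ∀ z : ZMod p, z ≠ 0 → (z ∈ D ↔ (l : ZMod 2) = 1) := by
    intro z hz
    rw [← hpar (-2 * z) (mul_ne_zero (neg_ne_zero.2 h2) hz)]
    rw [show -(-2 * z) / 2 = z by field_simp]
  by_cases hl1 : (l : ZMod 2) = 1
  · right
    have hsub : (Finset.univ : Finset (ZMod p)).erase 0 ⊆ D := fun z hz =>
      (hall z (Finset.mem_erase.1 hz).1).2 hl1
    have := Finset.card_le_card hsub
    rw [Finset.card_erase_of_mem (Finset.mem_univ _), Finset.card_univ, ZMod.card] at this
    omega
  · left
    refine Finset.card_le_one.2 fun x hx y hy => ?_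
    have : ∀ z ∈ D, z = (0 : ZMod p) := fun z hz => by_contra fun h => hl1 ((hall z h).1 hz)
    rw [this x hx, this y hy]

end CfsgLib.Perm.PrimeNormalizer
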