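import Mathlib
import Cfsg.Prelude.Def_Perm

/-!
# Permutation modules of transitive actions of prime power degree

* `isPretransitive_sylow`, `constants_le`, `le_sumZero`.
-/

set_option autoImplicit false
set_option linter.all false

namespace CfsgLib.Perm.PermModule

open MulAction

variable {G : Type*} [Group G] [Finite G] {K : Type*} [Field K] {p f : ℕ} [hp : Fact p.Prime]
  [CharP K p] {Ω : Type*} [Fintype Ω] [MulAction G Ω] [IsPretransitive G Ω]

theorem permRep_apply (g : G) (v : Ω → K) (x : Ω) : Cfsg.permRep K G Ω g v x = v (g⁻¹ • x) := rfl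

/-- A Sylow subgroup of a transitive group of prime power degree is transitive. -/
theorem isPretransitive_sylow (hcard : Fintype.card Ω = p ^ f) (P : Sylow p G) :
    IsPretransitive (P : Subgroup G) Ω := by
  classical
  refine ⟨fun a b => ?_⟩
  have hΩ : Nat.card Ω = p ^ f := by rw [Nat.card_eq_fintype_card, hcard]
  obtain ⟨m, hm⟩ := P.2.card_orbit a
  have hidx : (stabilizer G a).index = p ^ f := by rw [index_stabilizer_of_transitive, hΩ]
  set Pa : Subgroup (P : Subgroup G) := stabilizer (P : Subgroup G) a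
  have hle : Pa.map (P : Subgroup G).subtype ≤ stabilizer G a := by
    rintro _ ⟨x, hx, rfl⟩
    exact hx
  have hd : Nat.card Pa ∣ Nat.card (stabilizer G a) := by
    rw [← Subgroup.card_map_of_injective (P : Subgroup G).subtype_injective]
    exact Subgroup.card_dvd_of_le hle
  have hidxP : Pa.index = p ^ m := by
    rw [← hm]
    exact index_stabilizer (G := (P : Subgroup G)) a
  have hfm : f ≤ m := by
    by_contra h
    have h1 : p ^ f * Nat.card Pa ∣ Nat.card G := by
      rw [← Subgroup.index_mul_card (stabilizer G a), hidx]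
      exact Nat.mul_dvd_mul_left _ hd
    have hPc : Nat.card (P : Subgroup G) = p ^ m * Nat.card Pa := by
      rw [← Subgroup.index_mul_card Pa, hidxP]
    have h2 : Nat.card (P : Subgroup G) * p ∣ Nat.card G := by
      refine dvd_trans ?_ h1
      rw [hPc, mul_right_comm, ← pow_succ]
      exact Nat.mul_dvd_mul_right (pow_dvd_pow p (by omega)) _
    rw [← Subgroup.card_mul_index (P : Subgroup G)] at h2
    exact P.not_dvd_index (Nat.dvd_of_mul_dvd_mul_left Nat.card_pos h2)
  have huniv : orbit (P : Subgroup G) a = Set.univ := by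
    refine Set.eq_of_subset_of_ncard_le (Set.subset_univ _) ?_
    rw [Set.ncard_univ, ← Nat.card_coe_set_eq, hm, hΩ]
    exact Nat.pow_le_pow_right hp.out.pos hfm
  exact (huniv ▸ Set.mem_univ b : b ∈ orbit (P : Subgroup G) a)

/-- A nonzero subrepresentation contains the constants. -/
theorem constants_le (hcard : Fintype.card Ω = p ^ f) (W : Subrepresentation (Cfsg.permRep K G Ω))
    (hW : W.toSubmodule ≠ ⊥) :
    (Cfsg.permConstants K G Ω).toSubmodule ≤ W.toSubmodule := by
  classical
  obtain ⟨v, hv, hv0⟩ := W.toSubmodule.ne_bot_iff.1 hW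
  obtain ⟨P⟩ : Nonempty (Sylow p G) := inferInstance
  haveI := isPretransitive_sylow hcard P
  haveI := Fintype.ofFinite (P : Subgroup G)
  let ι : ZMod p →+* K := ZMod.castHom dvd_rfl K
  let φ : (↥(P : Subgroup G) → ZMod p) →+ (Ω → K) :=
    { toFun := fun c => ∑ g, ι (c g) • Cfsg.permRep K G Ω (g : G) v
      map_zero' := by simp
      map_add' := fun c c' => by simp [add_smul, Finset.sum_add_distrib] }
  have hmem : ∀ x ∈ φ.range, x ∈ W.toSubmodule := by
    rintro _ ⟨c, rfl⟩
    exact Submodule.sum_mem _ fun g _ => W.toSubmodule.smul_mem _ (W.apply_mem_toSubmodule _ hv)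
  have hinv : ∀ (h : (P : Subgroup G)), ∀ x ∈ φ.range, Cfsg.permRep K G Ω (h : G) x ∈ φ.range := by
    rintro h _ ⟨c, rfl⟩
    refine ⟨fun g => c (h⁻¹ * g), ?_⟩
    show ∑ g, ι (c (h⁻¹ * g)) • Cfsg.permRep K G Ω (g : G) v =
      Cfsg.permRep K G Ω (h : G) (∑ g, ι (c g) • Cfsg.permRep K G Ω (g : G) v)
    rw [map_sum, ← Equiv.sum_comp (Equiv.mulLeft h)]
    refine Finset.sum_congr rfl fun g _ => ?_
    rw [Equiv.coe_mulLeft, inv_mul_cancel_left, map_smul, Subgroup.coe_mul, map_mul]
    rfl
  letI : MulAction (P : Subgroup G) φ.range :=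
    { smul := fun h x => ⟨_, hinv h x x.2⟩
      one_smul := fun x => Subtype.ext (by
        show Cfsg.permRep K G Ω ((1 : (P : Subgroup G)) : G) x = x
        rw [Subgroup.coe_one, map_one]; rfl)
      mul_smul := fun g h x => Subtype.ext (by
        show Cfsg.permRep K G Ω ((g * h : (P : Subgroup G)) : G) x = _
        rw [Subgroup.coe_mul, map_mul]; rfl) }
  have hvr : v ∈ φ.range := ⟨Pi.single 1 1, by
    show ∑ g, ι ((Pi.single (1 : (P : Subgroup G)) (1 : ZMod p) : _ → _) g) • _ = v
    rw [Finset.sum_eq_single 1] <;> simp +contextual⟩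
  have hdvd : p ∣ Nat.card φ.range := by
    have h1 : Nat.card φ.range ∣ Nat.card (↥(P : Subgroup G) → ZMod p) :=
      AddSubgroup.card_range_dvd φ
    rw [Nat.card_fun, Nat.card_zmod] at h1
    obtain ⟨k, -, hk⟩ := (Nat.dvd_prime_pow hp.out).1 h1
    rcases k with _ | k
    · rw [pow_zero, Nat.card_eq_one_iff_unique] at hk
      haveI := hk.1
      exact absurd (congrArg Subtype.val
        (Subsingleton.elim (⟨v, hvr⟩ : φ.range) ⟨0, φ.range.zero_mem⟩)) hv0
    · exact hk ▸ dvd_pow_self p (Nat.succ_ne_zero k)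
  haveI : Finite φ.range := Finite.of_surjective
    (fun c => (⟨φ c, ⟨c, rfl⟩⟩ : φ.range)) (by rintro ⟨_, c, rfl⟩; exact ⟨c, rfl⟩)
  obtain ⟨⟨b, hbr⟩, hb, hne⟩ := P.2.exists_fixed_point_of_prime_dvd_card_of_fixed_point φ.range hdvd
    (a := ⟨0, φ.range.zero_mem⟩) (fun h => Subtype.ext (map_zero (Cfsg.permRep K G Ω (h : G))))
  have hb0 : b ≠ 0 := fun e => hne (Subtype.ext e.symm)
  have hconst : ∀ h : (P : Subgroup G), ∀ x, b (h⁻¹ • x) = b x := fun h x =>
    congrFun (congrArg Subtype.val (hb h)) x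
  obtain ⟨a, ha⟩ := Function.ne_iff.1 hb0
  refine Submodule.span_le.2 (Set.singleton_subset_iff.2 ?_)
  have : (fun _ => 1 : Ω → K) = (b a)⁻¹ • b := by
    funext x
    obtain ⟨h, rfl⟩ := exists_smul_eq (P : Subgroup G) a x
    have := hconst h⁻¹ a
    rw [inv_inv] at this
    rw [Pi.smul_apply, this, smul_eq_mul, inv_mul_cancel₀ ha]
  rw [SetLike.mem_coe, this]
  exact W.toSubmodule.smul_mem _ (hmem b hbr)

/-- A proper subrepresentation consists of sum-zero functions. -/
theorem le_sumZero (hcard : Fintype.card Ω = p ^ f) (W : Subrepresentation (Cfsg.permRep K G Ω))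
    (hW : W.toSubmodule ≠ ⊤) : W.toSubmodule ≤ (Cfsg.permSumZero K G Ω).toSubmodule := by
  classical
  let W' : Subrepresentation (Cfsg.permRep K G Ω) :=
    { toSubmodule :=
        { carrier := {h | ∀ w ∈ W.toSubmodule, ∑ x, h x * w x = 0}
          add_mem' := fun {a b} ha hb w hw => by
            simp only [Pi.add_apply, add_mul, Finset.sum_add_distrib, ha w hw, hb w hw, add_zero]
          zero_mem' := fun w hw => by simp
          smul_mem' := fun c a ha w hw => by
            simp only [Pi.smul_apply, smul_eq_mul, mul_assoc, ← Finset.mul_sum, ha w hw, mul_zero] }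
      apply_mem_toSubmodule := fun g h hh w hw => by
        have hw' : Cfsg.permRep K G Ω g⁻¹ w ∈ W.toSubmodule := W.apply_mem_toSubmodule _ hw
        rw [← hh _ hw', ← Equiv.sum_comp (MulAction.toPerm g)]
        refine Finset.sum_congr rfl fun x _ => ?_
        simp only [permRep_apply, MulAction.toPerm_apply, inv_smul_smul, inv_inv] }
  obtain ⟨φ, hφ, hle⟩ := Submodule.exists_le_ker_of_lt_top W.toSubmodule (lt_top_iff_ne_top.2 hW)
  have hW' : W'.toSubmodule ≠ ⊥ := by
    refine W'.toSubmodule.ne_bot_iff.2 ⟨fun x => φ (Pi.single x 1), fun w hw => ?_, fun h => hφ ?_⟩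
    · have h0 : φ w = 0 := hle hw
      rw [pi_eq_sum_univ w, map_sum] at h0
      refine Eq.trans (Finset.sum_congr rfl fun x _ => ?_) h0
      rw [map_smul, smul_eq_mul, mul_comm]
      congr 1
      refine congrArg φ (funext fun j => ?_)
      rw [Pi.single_apply]
      exact if_congr eq_comm rfl rfl
    · exact LinearMap.pi_ext' fun x => LinearMap.ext_ring (congrFun h x)
  intro w hw
  show ∑ x, w x = 0
  have h1 := constants_le hcard W' hW' (Submodule.mem_span_singleton_self (fun _ => (1 : K))) w hw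
  simpa using h1

end CfsgLib.Perm.PermModule
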