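import Cfsg.Agent.Lib.Perm.AltSquarePerm
import Cfsg.Agent.Lib.Perm.FewSylowTable
import Cfsg.Agent.Lib.Perm.FewSylowSmall
import Cfsg.Agent.Lib.Perm.SharplyThreeOdd
import Cfsg.Agent.S0157
import Cfsg.Agent.S0676

/-!
# Groups of prime degree whose Sylow normalizer has order `2 p`
-/

set_option autoImplicit false

namespace CfsgLib.Perm.ItoPrimeDegree

open CfsgLib.Char MulAction
open scoped _root_.Classical ComplexConjugate

variable {α : Type*} [Fintype α] [DecidableEq α] {p : ℕ} [Fact p.Prime]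

/-- A transitive subgroup containing a Sylow subgroup with centralizer itself. -/
theorem sylow_facts (hα : Fintype.card α = p) (G : Subgroup (Equiv.Perm α)) (P : Sylow p G)
    (hN : Nat.card (Subgroup.normalizer ((P : Subgroup G) : Set G)) = 2 * p) (hp : 2 < p) :
    Nat.card (P : Subgroup G) = p ∧ IsPretransitive G α ∧
      Subgroup.centralizer ((P : Subgroup G) : Set G) = (P : Subgroup G) := by
  have hpp : p.Prime := Fact.out
  have hdvd : p ∣ Nat.card G :=
    (dvd_mul_left p 2).trans (hN ▸ Subgroup.card_subgroup_dvd_card _)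
  have hP : Nat.card (P : Subgroup G) = p := by
    obtain ⟨k, hk⟩ := IsPGroup.iff_card.1 P.isPGroup'
    have h1 : p ^ k ∣ 2 * p := hk ▸ hN ▸ Subgroup.card_dvd_of_le Subgroup.le_normalizer
    rcases Nat.lt_or_ge k 2 with h | h
    · interval_cases k
      · exfalso
        have := P.ne_bot_of_dvd_card hdvd
        exact this (Subgroup.eq_bot_of_card_eq _ (by rw [hk, pow_zero]))
      · rw [hk, pow_one]
    · exfalso
      have h2 : p ^ 2 ∣ 2 * p := (pow_dvd_pow p h).trans h1
      rw [pow_two] at h2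
      have := Nat.le_of_dvd (by omega) (Nat.dvd_of_mul_dvd_mul_right hpp.pos h2)
      omega
  haveI : Nontrivial (P : Subgroup G) :=
    Finite.one_lt_card_iff_nontrivial.1 (by rw [hP]; exact hpp.one_lt)
  obtain ⟨⟨x, hx⟩, hx1'⟩ := exists_ne (1 : (P : Subgroup G))
  have hx1 : x ≠ 1 := fun h => hx1' (Subtype.ext h)
  have hxo : orderOf (x : Equiv.Perm α) = p := by
    rw [Subgroup.orderOf_coe]
    have h := orderOf_dvd_natCard (⟨x, hx⟩ : (P : Subgroup G))
    rw [← orderOf_submonoid, hP] at h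
    exact ((Nat.dvd_prime hpp).1 h).resolve_left fun h => hx1 (orderOf_eq_one_iff.1 h)
  have hcyc : (x : Equiv.Perm α).IsCycle :=
    Equiv.Perm.isCycle_of_prime_order' (hxo.symm ▸ hpp) (by rw [hxo]; omega)
  have hsupp : (x : Equiv.Perm α).support = Finset.univ :=
    Finset.eq_univ_of_card _ (by rw [← hcyc.orderOf, hxo, hα])
  have hmove : ∀ u : α, (x : Equiv.Perm α) u ≠ u := fun u =>
    Equiv.Perm.mem_support.1 (hsupp ▸ Finset.mem_univ u)
  have horb : ∀ u v : α, ∃ i : ℤ, (x ^ i) • u = v := by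
    intro u v
    obtain ⟨i, hi⟩ := hcyc.exists_zpow_eq (hmove u) (hmove v)
    exact ⟨i, by rw [← hi]; simp [Subgroup.smul_def]⟩
  refine ⟨hP, ⟨fun u v => ⟨x ^ (horb u v).choose, (horb u v).choose_spec⟩⟩, le_antisymm ?_ ?_⟩
  · intro c hc
    obtain ⟨u⟩ : Nonempty α := Fintype.card_pos_iff.1 (by omega)
    obtain ⟨i, hi⟩ := horb u (c • u)
    have hcx : ∀ j : ℤ, x ^ j * c = c * x ^ j := fun j =>
      Subgroup.mem_centralizer_iff.1 hc _ (Subgroup.zpow_mem _ hx j)
    have : c = x ^ i := by
      refine Subtype.ext (Equiv.ext fun v => ?_)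
      obtain ⟨j, hj⟩ := horb u v
      show c • v = (x ^ i) • v
      rw [← hj, ← mul_smul, ← hcx, mul_smul, ← hi, ← mul_smul, ← mul_smul, ← zpow_add, ← zpow_add,
        add_comm]
    rw [this]
    exact Subgroup.zpow_mem _ hx i
  · haveI : IsCyclic (P : Subgroup G) := isCyclic_of_prime_card hP
    exact fun y hy => Subgroup.mem_centralizer_iff.2 fun z hz =>
      congrArg Subtype.val ((IsCyclic.commGroup (α := (P : Subgroup G))).mul_comm ⟨z, hz⟩ ⟨y, hy⟩)

/-- Such a group with a non-normal Sylow subgroup is perfect. -/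
theorem perfect (hα : Fintype.card α = p) (G : Subgroup (Equiv.Perm α)) [IsPretransitive G α]
    (P : Sylow p G) (hP : Nat.card (P : Subgroup G) = p)
    (hC : Subgroup.centralizer ((P : Subgroup G) : Set G) = (P : Subgroup G))
    (hN : Nat.card (Subgroup.normalizer ((P : Subgroup G) : Set G)) = 2 * p)
    (hnn : ¬ (P : Subgroup G).Normal) : commutator G = ⊤ := by
  have hpp : p.Prime := Fact.out
  have hcardα : Nat.card α = p := by rw [Nat.card_eq_fintype_card, hα]
  haveI : IsPreprimitive G α := IsPreprimitive.of_prime_card (by rw [hcardα]; exact hpp)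
  have htr : ∀ (S : Subgroup G), S.Normal → S ≠ ⊥ → IsPretransitive S α := by
    intro S hS hne
    haveI := hS
    refine IsQuasiPreprimitive.isPretransitive_of_normal (G := G) fun h => hne ?_
    rw [Subgroup.eq_bot_iff_forall]
    intro s hs
    refine Subtype.ext (Equiv.ext fun u => ?_)
    exact (Set.eq_univ_iff_forall.1 h u) ⟨s, hs⟩
  set D := commutator G with hD
  have hDne : D ≠ ⊥ := by
    intro h
    refine hnn ?_
    have hc : ∀ g h' : G, g * h' = h' * g := fun g h' =>
      commutatorElement_eq_one_iff_mul_comm.1 (Subgroup.mem_bot.1 (h ▸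
        Subgroup.commutator_mem_commutator (Subgroup.mem_top g) (Subgroup.mem_top h')))
    exact ⟨fun u hu g => by rw [hc g u, mul_assoc, mul_inv_cancel, mul_one]; exact hu⟩
  haveI := htr D inferInstance hDne
  obtain ⟨u⟩ : Nonempty α := Fintype.card_pos_iff.1 (by rw [hα]; exact hpp.pos)
  have hpD : p ∣ Nat.card D := by
    rw [← hcardα, ← index_stabilizer_of_transitive D u]
    exact Subgroup.index_dvd_card _
  have hPD : (P : Subgroup G) ≤ D := by
    obtain ⟨⟨z, hz⟩, hzo⟩ := exists_prime_orderOf_dvd_card' (G := D) p hpD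
    rw [← orderOf_submonoid] at hzo
    obtain ⟨Q, hQ⟩ := (IsPGroup.of_card (n := 1) (G := Subgroup.zpowers z)
      (by rw [Nat.card_zpowers, hzo, pow_one])).exists_le_sylow
    have hQcard : Nat.card (Q : Subgroup G) = p := by
      rw [Q.card_eq_multiplicity, ← P.card_eq_multiplicity, hP]
    have hQD : (Q : Subgroup G) ≤ D := by
      rw [← Subgroup.eq_of_le_of_card_ge hQ (by rw [hQcard, Nat.card_zpowers, hzo])]
      exact Subgroup.zpowers_le.2 hz
    obtain ⟨g, hg⟩ := MulAction.exists_smul_eq G Q P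
    rw [← hg, Sylow.coe_subgroup_smul]
    intro w hw
    obtain ⟨v, hv, rfl⟩ := hw
    exact (inferInstance : D.Normal).conj_mem v (hQD hv) g
  set N := Subgroup.normalizer ((P : Subgroup G) : Set G)
  by_cases hle : N ≤ D
  · have h := Sylow.normalizer_sup_eq_top' (N := D) P hPD
    exact (sup_eq_right.2 hle).symm.trans h
  exfalso
  -- now the Sylow subgroup is self-normalizing in the commutator subgroup
  have hND : N ⊓ D = (P : Subgroup G) := by
    refine (Subgroup.eq_of_le_of_card_ge (le_inf Subgroup.le_normalizer hPD) ?_).symm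
    obtain ⟨k, hk⟩ := hP ▸ Subgroup.card_dvd_of_le (le_inf Subgroup.le_normalizer hPD : (P : Subgroup G) ≤ N ⊓ D)
    have h2 : Nat.card (N ⊓ D : Subgroup G) ∣ 2 * p := hN ▸ Subgroup.card_dvd_of_le inf_le_left
    rw [hk, mul_comm 2 p] at h2
    rcases (Nat.dvd_prime Nat.prime_two).1 (Nat.dvd_of_mul_dvd_mul_left hpp.pos h2) with h | h
    · rw [hk, h, mul_one, hP]
    · refine absurd ?_ hle
      rw [← inf_eq_left]
      exact Subgroup.eq_of_le_of_card_ge inf_le_left (by rw [hk, h, hN, mul_comm])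
  set P' : Sylow p D := P.subtype hPD
  have hle' : Subgroup.normalizer ((P' : Subgroup D) : Set D) ≤ Subgroup.centralizer ((P' : Subgroup D) : Set D) := by
    intro d hd
    have hdP : (d : G) ∈ (P : Subgroup G) := by
      rw [← hND]
      refine ⟨?_, d.2⟩
      show (d : G) ∈ Subgroup.normalizer ((P : Subgroup G) : Set G)
      rw [Subgroup.mem_normalizer_iff]
      intro h
      constructor
      · intro hh
        exact ((Subgroup.mem_normalizer_iff.1 hd ⟨h, hPD hh⟩).1 hh)
      · intro hh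
        have hh' : h ∈ D := by
          have := (inferInstance : D.Normal).conj_mem _ (hPD hh) (d : G)⁻¹
          simpa [mul_assoc] using this
        exact (Subgroup.mem_normalizer_iff.1 hd ⟨h, hh'⟩).2 hh
    refine Subgroup.mem_centralizer_iff.2 fun h hh => Subtype.ext ?_
    exact Subgroup.mem_centralizer_iff.1 (hC.ge hdP) _ hh
  have hcomp := MonoidHom.ker_transferSylow_isComplement' P' hle'
  set K := (MonoidHom.transferSylow P' hle').ker
  have hP' : Nat.card (P' : Subgroup D) = p := by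
    show Nat.card ((P : Subgroup G).subgroupOf D) = p
    rw [Nat.card_congr (Subgroup.subgroupOfEquivOfLe hPD).toEquiv, hP]
  rcases eq_or_ne K ⊥ with hK | hK
  · refine hnn ?_
    have hDP : D = (P : Subgroup G) := by
      refine (Subgroup.eq_of_le_of_card_ge hPD ?_).symm
      have h := hcomp.card_mul
      rw [hK, Subgroup.card_bot, one_mul, hP'] at h
      rw [← h, hP]
    rw [← hDP]; infer_instance
  · haveI : IsPreprimitive D α := IsPreprimitive.of_prime_card (by rw [hcardα]; exact hpp)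
    haveI : IsPretransitive K α := by
      refine IsQuasiPreprimitive.isPretransitive_of_normal (G := D) fun h => hK ?_
      rw [Subgroup.eq_bot_iff_forall]
      intro s hs
      refine Subtype.ext (Subtype.ext (Equiv.ext fun v => ?_))
      exact (Set.eq_univ_iff_forall.1 h v) ⟨s, hs⟩
    have hpK : p ∣ Nat.card K := by
      rw [← hcardα, ← index_stabilizer_of_transitive K u]
      exact Subgroup.index_dvd_card _
    exact MonoidHom.not_dvd_card_ker_transferSylow P' hle' hpK

set_option maxHeartbeats 800000 in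
/-- Ito's theorem: such a group is sharply triply transitive. -/
theorem eq_one_of_fix_three (hα : Fintype.card α = p) (G : Subgroup (Equiv.Perm α))
    [IsPretransitive G α] (P : Sylow p G) (hP : Nat.card (P : Subgroup G) = p)
    (hC : Subgroup.centralizer ((P : Subgroup G) : Set G) = (P : Subgroup G))
    (hN : Nat.card (Subgroup.normalizer ((P : Subgroup G) : Set G)) = 2 * p)
    (hperf : commutator G = ⊤) (h3 : IsMultiplyPretransitive G α 3) :
    ∀ (g : G) (x y z : α), x ≠ y → x ≠ z → y ≠ z → g • x = x → g • y = y → g • z = z → g = 1 := by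
  have hpp : p.Prime := Fact.out
  haveI := Fintype.ofFinite G
  haveI := Fintype.ofFinite (Cfsg.IrrCharacter G)
  obtain ⟨a, e, t, n, F⟩ := FewSylow.exists_frame P hP hC hperf
  have he : e = 2 := Nat.eq_of_mul_eq_mul_right hpp.pos (F.cardN ▸ hN)
  subst he
  have het := F.et
  have ht0 := F.t_pos
  have hp5 : 5 ≤ p := by
    by_contra h5
    have hp3 := F.p_three
    have : p ≠ 4 := fun h => by rw [h] at hpp; norm_num at hpp
    have hp' : p = 3 := by omega
    have h6 : Nat.card G ≤ 6 := by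
      refine (Subgroup.card_le_card_group G).trans (le_of_eq ?_)
      rw [Nat.card_perm, Nat.card_eq_fintype_card, hα, hp']
      rfl
    rw [F.cardG, hp'] at h6
    have := F.npos
    omega
  have hn2 : IsMultiplyPretransitive G α 2 :=
    isMultiplyPretransitive_of_le (n := 3) (by norm_num) (by rw [Nat.card_eq_fintype_card, hα]; omega)
  set f : G → ℂ := permChar G α with hf
  have hf1 : f 1 = p := by simp [hf, permChar, hα]
  have hconj : ∀ g : G, conj (f g) = f g := fun g => by simp [hf, permChar]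
  obtain ⟨ψ, hψ⟩ : ∃ ψ : Cfsg.IrrCharacter G, (ψ : G → ℂ) = fun g => f g - 1 :=
    ⟨⟨_, (Cfsg.Agent.S0157.result α (by rw [Nat.card_eq_fintype_card, hα]; omega)).2 hn2⟩, rfl⟩
  have hψT : ψ ≠ trivChar G := fun h => by
    have := congrArg (fun χ : Cfsg.IrrCharacter G => (χ : G → ℂ) 1) h
    simp only [hψ, trivChar_apply, hf1] at this
    have h2 : (p : ℂ) = ((2 : ℕ) : ℂ) := by push_cast; linear_combination this
    have := Nat.cast_inj.1 h2
    omega
  have hN0 : (Nat.card G : ℂ) ≠ 0 := Nat.cast_ne_zero.2 Nat.card_pos.ne'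
  have hsum1 : ∑ g : G, f g = Nat.card G := by
    have h := classInner_irr_of_ne hψT
    simp only [Cfsg.classInner, hψ, trivChar_apply, map_one, mul_one] at h
    rw [mul_eq_zero, inv_eq_zero, Finset.sum_sub_distrib, Finset.sum_const, Finset.card_univ, nsmul_one,
      ← Nat.card_eq_fintype_card] at h
    rcases h with h | h
    · exact absurd h hN0
    · exact sub_eq_zero.1 h
  have hsum2 : ∑ g : G, f g * f g = 2 * Nat.card G := by
    have h := classInner_irr_self ψ
    simp only [Cfsg.classInner, hψ, map_sub, map_one, hconj] at h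
    rw [inv_mul_eq_iff_eq_mul₀ hN0, mul_one] at h
    simp only [sub_mul, mul_sub, one_mul, mul_one, Finset.sum_sub_distrib, Finset.sum_const, Finset.card_univ,
      nsmul_one, ← Nat.card_eq_fintype_card, hsum1] at h
    linear_combination h
  have hswap3 : ∀ z x y : α, z ≠ x → z ≠ y → ∃ s : G, s • z = z ∧ s • x = y ∧ s • y = x := by
    intro z x y hzx hzy
    rcases eq_or_ne x y with rfl | hxy
    · exact ⟨1, one_smul _ _, one_smul _ _, one_smul _ _⟩
    obtain ⟨s, h1, h2, h3⟩ := SharplyThree.exists_triple h3 hzx hzy hxy hzy hzx hxy.symm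
    exact ⟨s, h1, h2, h3⟩
  have hswap2 : ∀ x y : α, ∃ s : G, s • x = y ∧ s • y = x := by
    intro x y
    obtain ⟨z, hzx, hzy⟩ : ∃ z, z ≠ x ∧ z ≠ y :=
      ENat.exists_ne_ne_of_three_le (by rw [ENat.card_eq_coe_natCard, Nat.card_eq_fintype_card, hα]; exact_mod_cast (by omega : 3 ≤ p)) x y
    obtain ⟨s, -, h⟩ := hswap3 z x y hzx hzy
    exact ⟨s, h⟩
  set Λ : G → ℂ := fun g => (f g * f g - f (g * g)) / 2 with hΛ
  have hΛchar : Cfsg.IsCharacter G Λ := AltSquarePerm.isCharacter_altSquare isCharacter_permChar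
  have hΛ0 : ∑ g : G, Λ g = 0 := by
    simp only [hΛ, ← Finset.sum_div, Finset.sum_sub_distrib, hf, AltSquarePerm.sum_permChar_sq hswap2,
      sub_self, zero_div]
  have hΛ1 : ∑ g : G, Λ g * f g = Nat.card G := by
    have h := AltSquarePerm.sum_permChar_mul_sq hswap3
    rw [← hf, hsum1, hsum2] at h
    have h' : ∑ g : G, Λ g * f g = (∑ g : G, f g * f g * f g - ∑ g : G, f g * f (g * g)) / 2 := by
      simp only [hΛ, ← Finset.sum_sub_distrib, Finset.sum_div]
      exact Finset.sum_congr rfl fun g _ => by ring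
    rw [h']
    linear_combination -(1 / 2 : ℂ) * h
  have hfixreg : ∀ (g : G) (u : α), g • u = u → ¬ p ∣ orderOf g := by
    intro g u hu hdvd
    have h := (hdvd.trans ((dvd_of_eq (orderOf_submonoid (⟨g, hu⟩ : stabilizer G u))).trans
      (orderOf_dvd_natCard (⟨g, hu⟩ : stabilizer G u))))
    have h2 := (stabilizer G u).index_mul_card
    rw [index_stabilizer_of_transitive, Nat.card_eq_fintype_card (α := α), hα, F.cardG] at h2
    obtain ⟨k, hk⟩ := h
    rw [hk] at h2
    have h4 : p * k = 2 * (1 + n * p) := by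
      refine Nat.eq_of_mul_eq_mul_left hpp.pos ?_
      rw [h2]; ring
    have h5 : p ∣ 2 * (1 + n * p) := ⟨k, h4.symm⟩
    rcases hpp.dvd_mul.1 h5 with h6 | h6
    · have := Nat.le_of_dvd two_pos h6; omega
    · exact hpp.not_dvd_one ((Nat.dvd_add_left (dvd_mul_left p n)).1 h6)
  have hfs : ∀ g : G, p ∣ orderOf g → f g = 0 := by
    intro g hg
    simp only [hf, permChar, Nat.cast_eq_zero, Nat.card_eq_zero]
    exact Or.inl ⟨fun u => hfixreg g u.1 u.2 hg⟩
  have hΛs : ∀ g : G, p ∣ orderOf g → Λ g = 0 := by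
    intro g hg
    have h2 : p ∣ orderOf (g * g) := by
      obtain ⟨k, hk⟩ := hg
      rw [← pow_two, orderOf_pow, hk]
      have hco : Nat.Coprime p 2 := hpp.coprime_iff_not_dvd.2 fun h => by
        have := Nat.le_of_dvd two_pos h; omega
      have h1 : Nat.gcd (p * k) 2 ∣ k :=
        (Nat.Coprime.coprime_dvd_left (Nat.gcd_dvd_right _ _) hco.symm).dvd_of_dvd_mul_left (Nat.gcd_dvd_left _ _)
      rw [Nat.mul_div_assoc p h1]
      exact dvd_mul_right _ _
    simp [hΛ, hfs g hg, hfs _ h2]
  -- the principal block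
  obtain ⟨X, Y, εX, ε, hdisj, hTX, hT1, hXc, hYc, hX, hε, hYdeg, -, hrel, -, hK0, -⟩ :=
    FewSylow.exists_values F
  obtain ⟨x, hx⟩ : (FewSylow.star (P : Subgroup G)).Nonempty :=
    Finset.card_pos.1 (by rw [F.card_Pstar]; omega)
  have hxo : p ∣ orderOf x := by
    obtain ⟨hx1, hxP⟩ := FewSylow.mem_star.1 hx
    have h := orderOf_dvd_natCard (⟨x, hxP⟩ : (P : Subgroup G))
    rw [← orderOf_submonoid, hP] at h
    rw [((Nat.dvd_prime hpp).1 h).resolve_left fun h => hx1 (orderOf_eq_one_iff.1 h)]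
  have hψx : (ψ : G → ℂ) x = -1 := by simp [hψ, hfs x hxo]
  have hψdeg : Cfsg.charDegree (ψ : G → ℂ) = p - 1 :=
    CfsgLib.CharDegree.charDegree_eq_of_apply_one (by simp only [hψ]; rw [hf1, Nat.cast_sub hpp.one_le, Nat.cast_one])
  have hψX : ψ ∈ X := by
    by_contra hno
    by_cases hψY : ψ ∈ Y
    · have h := Int.modEq_iff_dvd.1 (hYdeg ψ hψY)
      rw [hψdeg, Nat.cast_sub hpp.one_le] at h
      rcases hε with rfl | rfl
      · have h3 : (p : ℤ) ∣ 3 := by
          obtain ⟨c, hc⟩ := h
          exact ⟨c + 1, by push_cast at hc; linarith⟩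
        have := Int.le_of_dvd (by norm_num) h3
        omega
      · have h3 : (p : ℤ) ∣ 1 := by
          obtain ⟨c, hc⟩ := h
          exact ⟨-c - 1, by push_cast at hc; linarith⟩
        have := Int.le_of_dvd (by norm_num) h3
        omega
    · have h := hK0 ψ (by simp [hno, hψY]) x hx
      rw [hψx] at h
      norm_num at h
  have hXeq : X = {trivChar G, ψ} := by
    refine (Finset.eq_of_subset_of_card_le (Finset.insert_subset hTX (Finset.singleton_subset_iff.2 hψX)) ?_).symm
    rw [Finset.card_pair hψT.symm, hXc]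
  have hεψ : εX ψ = -1 := by
    have h := (hX ψ hψX).2.2 x hx
    rw [hψx] at h
    exact_mod_cast h.symm
  have hθ : ∀ θ ∈ Y, ∀ g : G, ¬ p ∣ orderOf g → (θ : G → ℂ) g = f g - 2 := by
    intro θ hθ
    have hε' : ε = -1 := by
      have h := hrel θ hθ 1 (by rw [orderOf_one]; exact hpp.not_dvd_one)
      rw [hXeq, Finset.sum_pair hψT.symm, hT1, hεψ, trivChar_apply, hψ,
        ← CfsgLib.CharDegree.cast_irrDegree] at h
      simp only at h
      rcases hε with h' | h'
      · exfalso
        rw [h', hf1] at h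
        have h0 : ((Cfsg.charDegree (θ : G → ℂ) + p : ℕ) : ℂ) = ((2 : ℕ) : ℂ) := by
          push_cast at h ⊢; linear_combination h
        have := Nat.cast_inj.1 h0
        omega
      · exact h'
    intro g hg
    have h := hrel θ hθ g hg
    rw [hXeq, Finset.sum_pair hψT.symm, hT1, hεψ, trivChar_apply, hψ, hε'] at h
    push_cast at h
    linear_combination -h
  -- the multiplicities
  obtain ⟨m, hm⟩ := IsChar.exists_sum hΛchar
  have hmval : ∀ χ : Cfsg.IrrCharacter G, (Nat.card G : ℂ) * (m χ : ℂ) = ∑ g : G, Λ g * conj ((χ : G → ℂ) g) := by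
    intro χ
    have h := classInner_sum_irr (fun ψ => (m ψ : ℂ)) χ
    rw [← hm, Cfsg.classInner, inv_mul_eq_iff_eq_mul₀ hN0] at h
    exact h.symm
  have hmψ : m ψ = 1 := by
    have h := hmval ψ
    simp only [hψ, map_sub, map_one, hconj, mul_sub, mul_one, Finset.sum_sub_distrib, hΛ0, hΛ1, sub_zero] at h
    exact_mod_cast (mul_eq_left₀ hN0).1 h
  have hmθ : ∀ θ ∈ Y, m θ = 1 := by
    intro θ hθY
    have h := hmval θ
    rw [Finset.sum_congr rfl (g := fun g => Λ g * f g - 2 * Λ g) (fun g _ => ?_), Finset.sum_sub_distrib,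
      ← Finset.mul_sum, hΛ0, hΛ1, mul_zero, sub_zero] at h
    · exact_mod_cast (mul_eq_left₀ hN0).1 h
    · by_cases hg : p ∣ orderOf g
      · rw [hΛs g hg]; ring
      · rw [hθ θ hθY g hg, map_sub, hconj, Complex.conj_ofNat]; ring
  have hψY : ψ ∉ Y := fun h => Finset.disjoint_left.1 hdisj hψX h
  have hdeg : ∀ χ, χ ∉ insert ψ Y → m χ = 0 := by
    intro χ hχ
    have h1 := congrFun hm 1
    simp only [hΛ, mul_one, hf1, Finset.sum_apply, Pi.smul_apply, smul_eq_mul] at h1
    rw [← Finset.add_sum_erase _ _ (Finset.mem_univ χ),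
      ← Finset.sum_sdiff (s₁ := insert ψ Y) (fun χ' hχ' => Finset.mem_erase.2 ⟨fun h => hχ (by rw [← h]; exact hχ'), Finset.mem_univ χ'⟩),
      Finset.sum_insert hψY,
      Finset.sum_congr rfl (s₁ := Y) (g := fun _ => (p : ℂ) - 2) (fun θ hθY => by
        rw [hmθ θ hθY, hθ θ hθY 1 (by rw [orderOf_one]; exact hpp.not_dvd_one), hf1]; simp),
      Finset.sum_const, hYc, hmψ, hψ] at h1
    simp only [hf1, nsmul_eq_mul, Nat.cast_one, one_mul] at h1
    simp only [← CfsgLib.CharDegree.cast_irrDegree, ← Nat.cast_mul, ← Nat.cast_sum] at h1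
    have h2 : (2 : ℂ) * t + 1 = p := by exact_mod_cast het
    have h3 : ((m χ * Cfsg.charDegree (χ : G → ℂ) +
        ∑ i ∈ Finset.univ.erase χ \ insert ψ Y, m i * Cfsg.charDegree (i : G → ℂ) : ℕ) : ℂ) = ((0 : ℕ) : ℂ) := by
      push_cast at h1 ⊢
      linear_combination -h1 - ((p : ℂ) - 2) / 2 * h2
    have h4 := Nat.cast_inj.1 h3
    rcases Nat.mul_eq_zero.1 (Nat.add_eq_zero_iff.1 h4).1 with h5 | h5
    · exact h5
    · exact absurd h5 (CfsgLib.CharDegree.charDegree_pos χ).ne'
  -- the identity at an element fixing three points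
  intro g u v w huv huw hvw hu hv hw
  have hreg := hfixreg g u hu
  have h := congrFun hm g
  simp only [Finset.sum_apply, Pi.smul_apply, smul_eq_mul] at h
  rw [← Finset.sum_subset (Finset.subset_univ (insert ψ Y)) (fun χ _ hχ => by rw [hdeg χ hχ]; simp),
    Finset.sum_insert hψY,
    Finset.sum_congr rfl (s₁ := Y) (g := fun _ => f g - 2) (fun θ hθY => by
      rw [hmθ θ hθY, hθ θ hθY g hreg]; simp),
    Finset.sum_const, hYc, hmψ, hψ] at h
  simp only [nsmul_eq_mul, Nat.cast_one, one_mul] at h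
  obtain ⟨k, hk⟩ : ∃ k : ℕ, Nat.card (fixedBy α g) = k := ⟨_, rfl⟩
  obtain ⟨l, hl⟩ : ∃ l : ℕ, Nat.card (fixedBy α (g * g)) = l := ⟨_, rfl⟩
  have hkl : k ≤ l := by
    rw [← hk, ← hl]
    refine Nat.card_mono (Set.toFinite _) fun q hq => ?_
    show (g * g) • q = q
    rw [mul_smul, show g • q = q from hq, show g • q = q from hq]
  have hk3 : 3 ≤ k := by
    rw [← hk, Nat.card_coe_set_eq]
    refine le_trans (le_of_eq ?_) (Set.ncard_le_ncard (s := (({u, v, w} : Finset α) : Set α)) (fun q hq => ?_) (Set.toFinite _))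
    · rw [Set.ncard_coe_finset]
      exact (Finset.card_eq_three.2 ⟨u, v, w, huv, huw, hvw, rfl⟩).symm
    · simp only [Finset.coe_insert, Finset.coe_singleton, Set.mem_insert_iff, Set.mem_singleton_iff] at hq
      rcases hq with rfl | rfl | rfl <;> assumption
  have hkp : k ≤ p := by
    rw [← hk, ← hα, ← Nat.card_eq_fintype_card]
    exact Finite.card_subtype_le _
  have heq : (k : ℤ) * k - l = 2 * (k - 1) + 2 * t * (k - 2) := by
    have h' : ((k : ℂ) * k - l) = 2 * ((k : ℂ) - 1) + 2 * t * ((k : ℂ) - 2) := by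
      simp only [hΛ, hf, permChar, hk, hl] at h
      linear_combination 2 * h
    exact_mod_cast h'
  have hz : (2 : ℤ) * t + 1 = p := by exact_mod_cast het
  have hkp' : k = p := by
    have h1 : ((k : ℤ) - 2) * ((p : ℤ) - k) ≤ 0 := by
      rw [← hz]
      nlinarith [(Int.ofNat_le.2 hkl : (k : ℤ) ≤ l)]
    by_contra hne
    have : (0 : ℤ) < ((k : ℤ) - 2) * ((p : ℤ) - k) := mul_pos (by omega) (by omega)
    omega
  refine Subtype.ext (Equiv.ext fun q => ?_)
  have huniv : fixedBy α g = Set.univ :=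
    Set.eq_of_subset_of_ncard_le (Set.subset_univ _)
      (by rw [Set.ncard_univ, ← Nat.card_coe_set_eq, hk, hkp', Nat.card_eq_fintype_card, hα])
  exact (Set.eq_univ_iff_forall.1 huniv q)

/-- Ito's theorem. -/
theorem main (hp : 2 < p) (hα : Fintype.card α = p) (G : Subgroup (Equiv.Perm α)) (P : Sylow p G)
    (hN : Nat.card (Subgroup.normalizer ((P : Subgroup G) : Set G)) = 2 * p) :
    (P : Subgroup G).Normal ∨ ∃ (a : ℕ) (F : Type) (_ : Field F) (_ : Fintype F),
      p = 2 ^ a + 1 ∧ Fintype.card F = 2 ^ a ∧ Nonempty (G ≃* Matrix.SpecialLinearGroup (Fin 2) F) := by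
  by_cases hnn : (P : Subgroup G).Normal
  · exact Or.inl hnn
  refine Or.inr ?_
  obtain ⟨hP, htr, hC⟩ := sylow_facts hα G P hN hp
  have hperf := perfect hα G P hP hC hN hnn
  have hns : ¬ Group.IsSolvable G := by
    intro hsol
    haveI : Nontrivial G := by
      by_contra h
      rw [not_nontrivial_iff_subsingleton] at h
      exact hnn (by rw [Subsingleton.elim (P : Subgroup G) ⊥]; infer_instance)
    exact IsSolvable.commutator_lt_top_of_nontrivial G |>.ne hperf
  have h3 : IsMultiplyPretransitive G α 3 :=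
    Cfsg.Agent.S0676.result hα G hns P (by rw [hN]; exact even_two_mul p)
  obtain ⟨a, -, ha, F, i1, i2, hF, hiso⟩ := SharplyThreeOdd.exists_iso_sl (by omega)
    (by rw [hα]; exact (Fact.out : p.Prime).odd_of_ne_two (by omega)) G h3
    (eq_one_of_fix_three hα G P hP hC hN hperf h3)
  exact ⟨a, F, i1, i2, by rw [← hα, ha], hF, hiso⟩

end CfsgLib.Perm.ItoPrimeDegree
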