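import Cfsg.Agent.Lib.Perm.FewSylowTwo
import Cfsg.Agent.Lib.Classical.Dickson.Classify
import Cfsg.Agent.S0157

/-!
# Primitive groups of degree `2 p` whose Sylow normalizer has order `2 p`
-/

set_option autoImplicit false

namespace CfsgLib.Perm.ItoDegreeTwoP

open CfsgLib.Char MulAction
open scoped _root_.Classical ComplexConjugate

variable {α : Type*} [Fintype α] [DecidableEq α] {p : ℕ} [Fact p.Prime]

/-- The Sylow subgroup has order `p`, is its own centralizer, and the group is perfect. -/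
theorem group_facts (hp : 3 < p) (hα : Fintype.card α = 2 * p) (G : Subgroup (Equiv.Perm α))
    [IsPreprimitive G α] (P : Sylow p G)
    (hN : Nat.card (Subgroup.normalizer ((P : Subgroup G) : Set G)) = 2 * p) :
    Nat.card (P : Subgroup G) = p ∧
      Subgroup.centralizer ((P : Subgroup G) : Set G) = (P : Subgroup G) ∧ commutator G = ⊤ := by
  have hpp : p.Prime := Fact.out
  haveI : IsPretransitive G α := inferInstance
  have hdvd : p ∣ Nat.card G :=
    (dvd_mul_left p 2).trans (hN ▸ Subgroup.card_subgroup_dvd_card _)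
  have hP : Nat.card (P : Subgroup G) = p := by
    obtain ⟨k, hk⟩ := IsPGroup.iff_card.1 P.isPGroup'
    have h1 : p ^ k ∣ 2 * p := hk ▸ hN ▸ Subgroup.card_dvd_of_le Subgroup.le_normalizer
    rcases Nat.lt_or_ge k 2 with h | h
    · interval_cases k
      · exfalso
        have := P.ne_bot_of_dvd_card hdvd
        exact this (Subgroup.eq_bot_of_card_eq _ (by rw [hk, pow_zero]))
      · rw [hk, pow_one]
    · exfalso
      have h2 : p ^ 2 ∣ 2 * p := (pow_dvd_pow p h).trans h1
      rw [pow_two] at h2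
      have := Nat.le_of_dvd (by omega) (Nat.dvd_of_mul_dvd_mul_right hpp.pos h2)
      omega
  obtain ⟨u⟩ : Nonempty α := Fintype.card_pos_iff.1 (by omega)
  have hdeg : Nat.card α = 2 * p := by rw [Nat.card_eq_fintype_card, hα]
  set N := Subgroup.normalizer ((P : Subgroup G) : Set G)
  have htr : ∀ (S : Subgroup G), S.Normal → S ≠ ⊥ → p ∣ Nat.card S ∧ 2 * p ∣ Nat.card S := by
    intro S hS hne
    haveI := hS
    haveI : IsPretransitive S α := by
      refine IsQuasiPreprimitive.isPretransitive_of_normal (G := G) fun h => hne ?_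
      rw [Subgroup.eq_bot_iff_forall]
      intro s hs
      refine Subtype.ext (Equiv.ext fun v => ?_)
      exact (Set.eq_univ_iff_forall.1 h v) ⟨s, hs⟩
    have h : 2 * p ∣ Nat.card S := by
      rw [← hdeg, ← index_stabilizer_of_transitive S u]
      exact Subgroup.index_dvd_card _
    exact ⟨(dvd_mul_left p 2).trans h, h⟩
  have hPC : (P : Subgroup G) ≤ Subgroup.centralizer ((P : Subgroup G) : Set G) := by
    haveI : IsCyclic (P : Subgroup G) := isCyclic_of_prime_card hP
    exact fun y hy => Subgroup.mem_centralizer_iff.2 fun z hz =>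
      congrArg Subtype.val ((IsCyclic.commGroup (α := (P : Subgroup G))).mul_comm ⟨z, hz⟩ ⟨y, hy⟩)
  have hmid : ∀ S : Subgroup G, (P : Subgroup G) ≤ S → S ≤ N → S = (P : Subgroup G) ∨ S = N := by
    intro S h1 h2
    obtain ⟨k, hk⟩ := hP ▸ Subgroup.card_dvd_of_le h1
    have h3 : Nat.card S ∣ 2 * p := hN ▸ Subgroup.card_dvd_of_le h2
    rw [hk, mul_comm 2 p] at h3
    rcases (Nat.dvd_prime Nat.prime_two).1 (Nat.dvd_of_mul_dvd_mul_left hpp.pos h3) with h | h
    · exact Or.inl (Subgroup.eq_of_le_of_card_ge h1 (by rw [hk, h, mul_one, hP])).symm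
    · exact Or.inr (Subgroup.eq_of_le_of_card_ge h2 (by rw [hk, h, hN, mul_comm]))
  have hC : Subgroup.centralizer ((P : Subgroup G) : Set G) = (P : Subgroup G) := by
    refine (hmid _ hPC (Subgroup.centralizer_le_normalizer _)).resolve_right fun h => ?_
    have hcomp := MonoidHom.ker_transferSylow_isComplement' P h.ge
    have hnd := MonoidHom.not_dvd_card_ker_transferSylow P h.ge
    rcases eq_or_ne (MonoidHom.transferSylow P h.ge).ker ⊥ with hK | hK
    · have h1 := hcomp.card_mul
      rw [hK, Subgroup.card_bot, one_mul, hP] at h1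
      have h2 : 2 * p ∣ Nat.card G := by
        rw [← hdeg, ← index_stabilizer_of_transitive G u]
        exact Subgroup.index_dvd_card _
      rw [← h1] at h2
      have := Nat.le_of_dvd hpp.pos h2
      omega
    · exact hnd (htr _ inferInstance hK).1
  refine ⟨hP, hC, ?_⟩
  set D := commutator G with hD
  have hDne : D ≠ ⊥ := by
    intro h
    have hc : ∀ g h' : G, g * h' = h' * g := fun g h' =>
      commutatorElement_eq_one_iff_mul_comm.1 (Subgroup.mem_bot.1 (h ▸
        Subgroup.commutator_mem_commutator (Subgroup.mem_top g) (Subgroup.mem_top h')))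
    have htop : Subgroup.centralizer ((P : Subgroup G) : Set G) = ⊤ :=
      eq_top_iff.2 fun g _ => Subgroup.mem_centralizer_iff.2 fun z _ => hc z g
    have h1 := (hN ▸ Subgroup.card_le_card_group N : 2 * p ≤ Nat.card G)
    rw [← Subgroup.card_top (G := G), ← htop, hC, hP] at h1
    omega
  have hpD := (htr D inferInstance hDne).1
  have h2pD := (htr D inferInstance hDne).2
  have hPD : (P : Subgroup G) ≤ D := by
    obtain ⟨⟨z, hz⟩, hzo⟩ := exists_prime_orderOf_dvd_card' (G := D) p hpD
    rw [← orderOf_submonoid] at hzo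
    obtain ⟨Q, hQ⟩ := (IsPGroup.of_card (n := 1) (G := Subgroup.zpowers z)
      (by rw [Nat.card_zpowers, hzo, pow_one])).exists_le_sylow
    have hQcard : Nat.card (Q : Subgroup G) = p := by
      rw [Q.card_eq_multiplicity, ← P.card_eq_multiplicity, hP]
    have hQD : (Q : Subgroup G) ≤ D := by
      rw [← Subgroup.eq_of_le_of_card_ge hQ (by rw [hQcard, Nat.card_zpowers, hzo])]
      exact Subgroup.zpowers_le.2 hz
    obtain ⟨g, hg⟩ := MulAction.exists_smul_eq G Q P
    rw [← hg, Sylow.coe_subgroup_smul]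
    intro w hw
    obtain ⟨v, hv, rfl⟩ := hw
    exact (inferInstance : D.Normal).conj_mem v (hQD hv) g
  rcases hmid (N ⊓ D) (le_inf Subgroup.le_normalizer hPD) inf_le_left with hND | hND
  swap
  · have h := Sylow.normalizer_sup_eq_top' (N := D) P hPD
    exact (sup_eq_right.2 (inf_eq_left.1 hND)).symm.trans h
  exfalso
  set P' : Sylow p D := P.subtype hPD
  have hle' : Subgroup.normalizer ((P' : Subgroup D) : Set D) ≤ Subgroup.centralizer ((P' : Subgroup D) : Set D) := by
    intro d hd
    have hdP : (d : G) ∈ (P : Subgroup G) := by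
      rw [← hND]
      refine ⟨?_, d.2⟩
      show (d : G) ∈ Subgroup.normalizer ((P : Subgroup G) : Set G)
      rw [Subgroup.mem_normalizer_iff]
      intro h
      constructor
      · intro hh
        exact ((Subgroup.mem_normalizer_iff.1 hd ⟨h, hPD hh⟩).1 hh)
      · intro hh
        have hh' : h ∈ D := by
          have := (inferInstance : D.Normal).conj_mem _ (hPD hh) (d : G)⁻¹
          simpa [mul_assoc] using this
        exact (Subgroup.mem_normalizer_iff.1 hd ⟨h, hh'⟩).2 hh
    refine Subgroup.mem_centralizer_iff.2 fun h hh => Subtype.ext ?_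
    exact Subgroup.mem_centralizer_iff.1 (hC.ge hdP) _ hh
  have hcomp := MonoidHom.ker_transferSylow_isComplement' P' hle'
  set K := (MonoidHom.transferSylow P' hle').ker with hK
  have hnd : ¬ p ∣ Nat.card K := MonoidHom.not_dvd_card_ker_transferSylow P' hle'
  have hP' : Nat.card (P' : Subgroup D) = p := by
    show Nat.card ((P : Subgroup G).subgroupOf D) = p
    rw [Nat.card_congr (Subgroup.subgroupOfEquivOfLe hPD).toEquiv, hP]
  -- the kernel consists of the `p`-regular elements
  have hmem : ∀ d : D, d ∈ K ↔ ¬ p ∣ orderOf d := by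
    intro d
    constructor
    · intro hd h
      exact hnd (h.trans ((dvd_of_eq (orderOf_submonoid (⟨d, hd⟩ : K))).trans (orderOf_dvd_natCard _)))
    · intro hd
      rw [hK, MonoidHom.mem_ker, ← orderOf_eq_one_iff]
      refine Nat.eq_one_of_dvd_coprimes (hpp.coprime_iff_not_dvd.2 hd).symm (orderOf_map_dvd _ d) ?_
      exact (orderOf_dvd_natCard _).trans (dvd_of_eq hP')
  haveI : (K.map D.subtype).Normal := by
    refine ⟨fun w hw g => ?_⟩
    obtain ⟨d, hd, rfl⟩ := hw
    let d' : D := ⟨g * d * g⁻¹, (inferInstance : D.Normal).conj_mem _ d.2 g⟩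
    have e : orderOf d' = orderOf d := by
      have h := (MulAut.conj g).orderOf_eq (d : G)
      rw [← Subgroup.orderOf_coe d', ← Subgroup.orderOf_coe d]
      exact h
    refine ⟨d', ?_, rfl⟩
    rw [SetLike.mem_coe, hmem] at hd ⊢
    rwa [e]
  have hKbot : K = ⊥ := by
    by_contra hne
    have h := (htr (K.map D.subtype) inferInstance (fun h => hne (by
      rwa [Subgroup.map_eq_bot_iff_of_injective _ D.subtype_injective] at h))).1
    rw [Subgroup.card_map_of_injective D.subtype_injective] at h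
    exact hnd h
  have h1 := hcomp.card_mul
  rw [hKbot, Subgroup.card_bot, one_mul, hP'] at h1
  rw [← h1] at h2pD
  have := Nat.le_of_dvd hpp.pos h2pD
  omega

set_option maxHeartbeats 800000 in
/-- The permutation character contains a character of degree `p - 1`. -/
theorem exists_char (hp : 3 < p) (hα : Fintype.card α = 2 * p) (G : Subgroup (Equiv.Perm α))
    [IsPreprimitive G α] [Fintype G] (hnot2 : ¬ IsMultiplyPretransitive G α 2) {P : Sylow p G}
    {a : G} {t n : ℕ} (F : FewSylow.Frame P a 2 t n) :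
    ∃ χ : Cfsg.IrrCharacter G, Cfsg.charDegree (χ : G → ℂ) = p - 1 ∧
      (∀ x ∈ FewSylow.star (P : Subgroup G), (χ : G → ℂ) x ≠ 0) ∧
      ∀ g : G, (χ : G → ℂ) g = (χ : G → ℂ) 1 → g = 1 := by
  haveI := Fintype.ofFinite (Cfsg.IrrCharacter G)
  have hpp : p.Prime := Fact.out
  have het := F.et
  haveI : IsPretransitive G α := inferInstance
  obtain ⟨u₀⟩ : Nonempty α := Fintype.card_pos_iff.1 (by omega)
  obtain ⟨X, Y, εX, ε, hdisj, hTX, hT1, hXc, hYc, hX, hε, hYdeg, hYagree, hrel, hYsum, hK0, -⟩ :=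
    FewSylow.exists_values F
  obtain ⟨χ, hχ⟩ : ∃ χ, X.erase (trivChar G) = {χ} :=
    Finset.card_eq_one.1 (by rw [Finset.card_erase_of_mem hTX, hXc])
  have hχX : χ ∈ X := Finset.mem_of_mem_erase (hχ ▸ Finset.mem_singleton_self χ)
  have hχT : χ ≠ trivChar G := Finset.ne_of_mem_erase (hχ ▸ Finset.mem_singleton_self χ)
  obtain ⟨hsgn, hmod, hval⟩ := hX χ hχX
  obtain ⟨θ₀, hθ₀⟩ : Y.Nonempty := Finset.card_pos.1 (by omega)
  set d := Cfsg.charDegree (χ : G → ℂ)
  set D := Cfsg.charDegree (θ₀ : G → ℂ)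
  have hone : ∀ η : Cfsg.IrrCharacter G, (η : G → ℂ) 1 = (Cfsg.charDegree (η : G → ℂ) : ℂ) :=
    fun η => (CfsgLib.CharDegree.cast_irrDegree η).symm
  have h1p : ¬ p ∣ orderOf (1 : G) := by rw [orderOf_one]; exact hpp.not_dvd_one
  have hYD : ∀ θ ∈ Y, (θ : G → ℂ) 1 = (D : ℂ) := fun θ hθ => by
    rw [hYagree θ hθ θ₀ hθ₀ 1 h1p, hone]
  have hrel1 : (ε : ℤ) * D = 1 + εX χ * d := by
    have h := hrel θ₀ hθ₀ 1 h1p
    rw [← Finset.add_sum_erase _ _ hTX, hχ, Finset.sum_singleton, hT1, trivChar_apply, hone, hone] at h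
    push_cast at h
    rw [one_mul] at h
    exact_mod_cast h
  -- the permutation character
  set f : G → ℂ := permChar G α with hf
  have hN0 : (Nat.card G : ℂ) ≠ 0 := Nat.cast_ne_zero.2 Nat.card_pos.ne'
  obtain ⟨m, hm⟩ := IsChar.exists_sum (isCharacter_permChar (G := G) (X := α))
  have hm1 : m (trivChar G) = 1 := by
    have h := classInner_sum_irr (fun ψ => (m ψ : ℂ)) (trivChar G)
    rw [← hm] at h
    have h2 := classInner_permChar_one (G := G) (X := α)
    have h3 : Nat.card (MulAction.orbitRel.Quotient G α) = 1 := by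
      rw [Nat.card_eq_one_iff_unique]
      exact ⟨(MulAction.pretransitive_iff_subsingleton_quotient G α).mp inferInstance,
        ⟨Quotient.mk'' u₀⟩⟩
    rw [h3, Nat.cast_one] at h2
    have h4 : ((trivChar G : Cfsg.IrrCharacter G) : G → ℂ) = fun _ => 1 := funext fun g => trivChar_apply g
    rw [h4, h2] at h
    exact_mod_cast h.symm
  have hfix : ∀ x ∈ FewSylow.star (P : Subgroup G), f x = 0 := by
    intro x hx
    obtain ⟨hx1, hxP⟩ := FewSylow.mem_star.1 hx
    simp only [hf, permChar, Nat.cast_eq_zero, Nat.card_eq_zero]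
    refine Or.inl ⟨fun ⟨v, hv⟩ => ?_⟩
    have hxo : orderOf x = p := by
      have h := orderOf_dvd_natCard (⟨x, hxP⟩ : (P : Subgroup G))
      rw [← orderOf_submonoid, F.card] at h
      exact ((Nat.dvd_prime hpp).1 h).resolve_left fun h => hx1 (orderOf_eq_one_iff.1 h)
    obtain ⟨k, hk⟩ := (dvd_of_eq hxo.symm).trans ((dvd_of_eq (orderOf_submonoid (⟨x, hv⟩ : stabilizer G v))).trans
      (orderOf_dvd_natCard (⟨x, hv⟩ : stabilizer G v)))
    have h2 := (stabilizer G v).index_mul_card
    rw [index_stabilizer_of_transitive, Nat.card_eq_fintype_card (α := α), hα, F.cardG, hk] at h2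
    have h4 : p * k = 1 + n * p := by
      refine Nat.eq_of_mul_eq_mul_left (show 0 < 2 * p by omega) ?_
      rw [h2]
    exact hpp.not_dvd_one ((Nat.dvd_add_left (dvd_mul_left p n)).1 ⟨k, h4.symm⟩)
  have hsplit : ∀ φ : Cfsg.IrrCharacter G → ℂ,
      ∑ η, φ η = φ (trivChar G) + φ χ + ∑ η ∈ Y, φ η + ∑ η ∈ Finset.univ \ (X ∪ Y), φ η := fun φ => by
    rw [← Finset.sum_sdiff (Finset.subset_univ (X ∪ Y)), Finset.sum_union hdisj,
      ← Finset.add_sum_erase _ _ hTX, hχ, Finset.sum_singleton]
    ring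
  set S := ∑ θ ∈ Y, m θ
  set R := ∑ η ∈ Finset.univ \ (X ∪ Y), m η * Cfsg.charDegree (η : G → ℂ)
  have hf1 : 2 * p = 1 + m χ * d + S * D + R := by
    have h := congrFun hm 1
    simp only [Finset.sum_apply, Pi.smul_apply, smul_eq_mul] at h
    rw [hsplit, hm1, trivChar_apply,
      Finset.sum_congr rfl (s₁ := Y) (g := fun θ => ((m θ * D : ℕ) : ℂ)) (fun θ hθ => by
        rw [hYD θ hθ]; push_cast; ring),
      Finset.sum_congr rfl (s₁ := Finset.univ \ (X ∪ Y))
        (g := fun η => ((m η * Cfsg.charDegree (η : G → ℂ) : ℕ) : ℂ)) (fun η _ => by rw [hone]; push_cast; ring),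
      ← Nat.cast_sum, ← Nat.cast_sum, ← Finset.sum_mul, hone χ] at h
    have h' : ((2 * p : ℕ) : ℂ) = ((1 + m χ * d + S * D + R : ℕ) : ℂ) := by
      rw [← hα, ← Nat.card_eq_fintype_card]
      push_cast at h ⊢
      rw [show permChar G α (1 : G) = (Nat.card α : ℂ) by simp [permChar]] at h
      simp only [S, R] at h ⊢
      push_cast at h ⊢
      linear_combination h
    exact_mod_cast h'
  have hfP : ((p : ℤ) - 1) * (1 + εX χ * m χ) = 2 * (ε : ℤ) * S := by
    have h : ∑ x ∈ FewSylow.star (P : Subgroup G), f x = 0 := Finset.sum_eq_zero hfix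
    simp only [hf] at h
    rw [hm] at h
    simp only [Finset.sum_apply, Pi.smul_apply, smul_eq_mul] at h
    rw [Finset.sum_comm, hsplit, hm1] at h
    simp only [trivChar_apply, ← Finset.mul_sum] at h
    rw [Finset.sum_congr rfl (s₁ := FewSylow.star (P : Subgroup G)) hval, Finset.sum_const, Finset.sum_const,
      F.card_Pstar,
      Finset.sum_congr rfl (s₁ := Y) (g := fun θ => (m θ : ℂ) * -((ε : ℂ) * (2 : ℕ))) (fun θ hθ => by
        rw [hYsum θ hθ]),
      Finset.sum_eq_zero (s := Finset.univ \ (X ∪ Y)) (fun η hη => by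
        rw [Finset.sum_eq_zero (hK0 η (Finset.mem_sdiff.1 hη).2), mul_zero]),
      ← Finset.sum_mul, ← Nat.cast_sum] at h
    have h2t : (2 : ℂ) * t + 1 = p := by exact_mod_cast het
    have h' : ((((p : ℤ) - 1) * (1 + εX χ * m χ) : ℤ) : ℂ) = ((2 * (ε : ℤ) * S : ℤ) : ℂ) := by
      simp only [nsmul_eq_mul] at h
      simp only [S]
      push_cast at h ⊢
      linear_combination h - (1 + (εX χ : ℂ) * m χ) * h2t
    exact_mod_cast h'
  have hd1 : d ≠ 1 := fun h => hχT (FewSylow.eq_trivChar F.perf χ h)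
  have hd0 : 0 < d := CfsgLib.CharDegree.charDegree_pos χ
  have hD0 : 0 < D := CfsgLib.CharDegree.charDegree_pos θ₀
  obtain ⟨r, hr⟩ := Int.modEq_iff_dvd.1 hmod
  rcases hsgn with h1 | h1 <;> rw [h1] at hr hrel1 hfP
  · exfalso
    have hr0 : r ≤ -1 := by
      by_contra h
      have : (0 : ℤ) ≤ (p : ℤ) * r := mul_nonneg (Int.natCast_nonneg p) (by omega)
      omega
    have hdp : (p : ℤ) + 1 ≤ d := by nlinarith
    have hε1 : ε = 1 := hε.resolve_right fun h => by rw [h] at hrel1; omega
    rw [hε1] at hrel1 hfP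
    have hS1 : S ≤ 1 := by
      by_contra h
      have : 2 * D ≤ S * D := Nat.mul_le_mul_right D (by omega)
      omega
    nlinarith
  · have hr0 : r ≤ -1 := by
      by_contra h
      have : (0 : ℤ) ≤ (p : ℤ) * r := mul_nonneg (Int.natCast_nonneg p) (by omega)
      omega
    have hε1 : ε = -1 := hε.resolve_left fun h => by rw [h] at hrel1; omega
    rw [hε1] at hrel1 hfP
    have hmχ : 1 ≤ m χ := by
      by_contra h
      have h0 : m χ = 0 := by omega
      rw [h0] at hfP
      push_cast at hfP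
      omega
    have hdle : d + 1 ≤ 2 * p := by
      have : 1 * d ≤ m χ * d := Nat.mul_le_mul_right d hmχ
      omega
    rcases (show r = -1 ∨ r ≤ -2 by omega) with hr1 | hr1
    · subst hr1
      have hdeg : d = p - 1 := by omega
      refine ⟨χ, hdeg, fun x hx => by rw [hval x hx, h1]; norm_num, ?_⟩
      intro g hg
      have hgK : g ∈ CfsgLib.CharDegree.kerSubgroup χ := CfsgLib.CharDegree.mem_kerSubgroup.2 hg
      by_contra hg1
      haveI := CfsgLib.CharDegree.kerSubgroup_normal χ
      set K := CfsgLib.CharDegree.kerSubgroup χ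
      haveI : IsPretransitive K α := by
        refine IsQuasiPreprimitive.isPretransitive_of_normal (G := G) fun h => hg1 ?_
        refine Subtype.ext (Equiv.ext fun v => ?_)
        exact (Set.eq_univ_iff_forall.1 h v) ⟨g, hgK⟩
      have hpK : p ∣ Nat.card K := by
        have h := Subgroup.index_dvd_card (stabilizer K u₀)
        rw [index_stabilizer_of_transitive, Nat.card_eq_fintype_card (α := α), hα] at h
        exact (dvd_mul_left p 2).trans h
      obtain ⟨⟨z, hz⟩, hzo⟩ := exists_prime_orderOf_dvd_card' (G := K) p hpK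
      rw [← orderOf_submonoid] at hzo
      obtain ⟨Q, hQ⟩ := (IsPGroup.of_card (n := 1) (G := Subgroup.zpowers z)
        (by rw [Nat.card_zpowers, hzo, pow_one])).exists_le_sylow
      obtain ⟨w, hw⟩ := MulAction.exists_smul_eq G P Q
      have hzQ : z ∈ (Q : Subgroup G) := hQ (Subgroup.mem_zpowers z)
      rw [← hw, Sylow.coe_subgroup_smul, Subgroup.mem_pointwise_smul_iff_inv_smul_mem, ← map_inv] at hzQ
      have hz1 : w⁻¹ * z * w ≠ 1 := by
        intro h
        have : z = 1 := by
          calc z = w * (w⁻¹ * z * w) * w⁻¹ := by group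
            _ = 1 := by rw [h]; group
        exact hpp.ne_one (by rw [← hzo]; exact orderOf_eq_one_iff.2 this)
      have h2 := hval _ (FewSylow.mem_star.2 ⟨hz1, by simpa using hzQ⟩)
      have h3 : (χ : G → ℂ) (w⁻¹ * z * w) = (χ : G → ℂ) 1 := by
        rw [← CfsgLib.CharDegree.mem_kerSubgroup]
        have := (CfsgLib.CharDegree.kerSubgroup_normal χ).conj_mem z hz w⁻¹
        rwa [inv_inv] at this
      rw [h3, hone, h1] at h2
      have h4 : ((d + 1 : ℕ) : ℂ) = ((0 : ℕ) : ℂ) := by push_cast at h2 ⊢; linear_combination h2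
      have := Nat.cast_inj.1 h4
      omega
    · exfalso
      -- the group would be doubly transitive
      have hd2 : d + 1 = 2 * p := by nlinarith
      have hmχ1 : m χ = 1 := by
        by_contra h
        have : 2 * d ≤ m χ * d := Nat.mul_le_mul_right d (by omega)
        omega
      rw [hmχ1, one_mul] at hf1
      have hS0 : S = 0 := Nat.eq_zero_of_not_pos fun h => by
        have : 1 * D ≤ S * D := Nat.mul_le_mul_right D h
        omega
      have hR0 : R = 0 := by omega
      refine hnot2 ((Cfsg.Agent.S0157.result α (by rw [Nat.card_eq_fintype_card, hα]; omega)).1 ?_)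
      have hψ : (fun g : G => (Nat.card (fixedBy α g) : ℂ) - 1) = (χ : G → ℂ) := by
        funext g
        have h := congrFun hm g
        simp only [Finset.sum_apply, Pi.smul_apply, smul_eq_mul] at h
        rw [hsplit, hm1, hmχ1, trivChar_apply,
          Finset.sum_eq_zero (s := Y) (fun θ hθ => by
            rw [Finset.sum_eq_zero_iff.1 hS0 θ hθ]; simp),
          Finset.sum_eq_zero (s := Finset.univ \ (X ∪ Y)) (fun η hη => by
            rcases Nat.mul_eq_zero.1 (Finset.sum_eq_zero_iff.1 hR0 η hη) with h0 | h0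
            · rw [h0]; simp
            · exact absurd h0 (CfsgLib.CharDegree.charDegree_pos η).ne'),
          show permChar G α g = (Nat.card (fixedBy α g) : ℂ) from rfl] at h
        rw [h]; push_cast; ring
      rw [hψ]
      exact χ.2

/-- No maximal subgroup of `PSL(2, 2^m)`, `m ≥ 3`, has order `2^(m-1) (2^m - 1)`. -/
theorem no_coatom {F : Type} [Field F] [Fintype F] {m : ℕ} (hF : Fintype.card F = 2 ^ m) (hm : 3 ≤ m)
    (M : Subgroup (Matrix.ProjectiveSpecialLinearGroup (Fin 2) F)) (hM : IsCoatom M)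
    (hcard : 2 * Nat.card M = 2 ^ m * (2 ^ m - 1)) : False := by
  have h8 : 8 ≤ 2 ^ m := le_trans (by norm_num) (Nat.pow_le_pow_right two_pos hm)
  have heven : Even (Fintype.card F) := by rw [hF]; exact Nat.even_pow.2 ⟨even_two, by omega⟩
  rcases CfsgLib.Classical.Dickson.even_cases heven (by omega) M hM with
    h | ⟨⟨e⟩⟩ | ⟨⟨e⟩⟩ | ⟨F₀, _, _, r, hr, hne2, hpow, ⟨e⟩⟩
  · rw [h, hF] at hcard
    have : 0 < 2 ^ m * (2 ^ m - 1) := Nat.mul_pos (by omega) (by omega)
    omega
  · rw [Nat.card_congr e.toEquiv, DihedralGroup.nat_card, hF] at hcard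
    have : 8 * (2 ^ m - 1) ≤ 2 ^ m * (2 ^ m - 1) := Nat.mul_le_mul_right _ h8
    omega
  · rw [Nat.card_congr e.toEquiv, DihedralGroup.nat_card, hF] at hcard
    have : 8 * (2 ^ m - 1) ≤ 2 ^ m * (2 ^ m - 1) := Nat.mul_le_mul_right _ h8
    omega
  · have h2 := CfsgLib.Classical.Dickson.gcd_mul_card_psl (F := F₀) rfl
    rw [Nat.card_congr e.toEquiv] at hcard
    generalize Fintype.card F₀ = q at *
    have hq3 : 3 ≤ q := by
      have : 2 ≤ q := by
        by_contra h
        interval_cases q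
        · rw [zero_pow hr.ne_zero] at hpow; omega
        · rw [one_pow] at hpow; omega
      omega
    have hle : Nat.card (Matrix.ProjectiveSpecialLinearGroup (Fin 2) F₀) ≤ q * (q ^ 2 - 1) := by
      rw [← h2]
      exact Nat.le_mul_of_pos_left _ (Nat.gcd_pos_of_pos_left _ two_pos)
    have hqr : q ^ 2 ≤ 2 ^ m := by
      rw [← hF, hpow]
      exact Nat.pow_le_pow_right (by omega) hr.two_le
    have h3 : q ^ 2 * (q ^ 2 - 1) ≤ 2 ^ m * (2 ^ m - 1) := Nat.mul_le_mul hqr (by omega)
    have h4 : 3 * q * (q ^ 2 - 1) ≤ q ^ 2 * (q ^ 2 - 1) := Nat.mul_le_mul_right _ (by nlinarith)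
    have h9 : 9 ≤ q ^ 2 := by nlinarith
    have h5 : 0 < q * (q ^ 2 - 1) := Nat.mul_pos (by omega) (by omega)
    nlinarith

/-- Ito's theorem for degree `2 p`. -/
theorem main (hp : 3 < p) (hα : Fintype.card α = 2 * p) (G : Subgroup (Equiv.Perm α))
    (hprim : IsPreprimitive G α) (hnot2 : ¬ IsMultiplyPretransitive G α 2) (P : Sylow p G)
    (hN : Nat.card (Subgroup.normalizer ((P : Subgroup G) : Set G)) = 2 * p) :
    p = 5 ∧ Nonempty (G ≃* alternatingGroup (Fin 5)) := by
  haveI := hprim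
  have hpp : p.Prime := Fact.out
  haveI := Fintype.ofFinite G
  have hp5 : 5 ≤ p := by
    have : p ≠ 4 := fun h => by rw [h] at hpp; norm_num at hpp
    omega
  obtain ⟨hP, hC, hperf⟩ := group_facts hp hα G P hN
  obtain ⟨a, e, t, n, F⟩ := FewSylow.exists_frame P hP hC hperf
  have he : e = 2 := Nat.eq_of_mul_eq_mul_right hpp.pos (F.cardN ▸ hN)
  subst he
  obtain ⟨χ, hdeg, hx, hfaith⟩ := exists_char hp hα G hnot2 F
  obtain ⟨hn, hiso⟩ := FewSylowTwo.classify hp5 hP hC hperf F χ hdeg hx hfaith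
  rcases hn with ⟨hp5', -⟩ | ⟨h7, hn⟩
  · refine ⟨hp5', ?_⟩
    rcases hiso with ⟨K, _, _, hK, -, ⟨f⟩⟩ | ⟨m, K, _, _, hK, hm, -, ⟨f⟩⟩
    · obtain ⟨φ⟩ := CfsgLib.Classical.Dickson.psl_four_five_equiv K (Or.inr (hK.trans hp5'))
      exact ⟨f.trans φ.symm⟩
    · obtain ⟨φ⟩ := CfsgLib.Classical.Dickson.psl_four_five_equiv K (Or.inl (by omega))
      exact ⟨f.trans φ.symm⟩
  exfalso
  have hG : Nat.card G = p * ((p - 1) * (p - 2)) := by
    rw [F.cardG]
    obtain ⟨j, hj⟩ : ∃ j, p = j + 2 := ⟨p - 2, by omega⟩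
    have e1 : p - 1 = j + 1 := by omega
    have e2 : p - 2 = j := by omega
    rw [e1, e2]
    obtain rfl : j = 2 * n + 1 := by omega
    rw [hj]; ring
  rcases hiso with ⟨K, _, _, hK, -, ⟨f⟩⟩ | ⟨m, K, _, _, hK, hm, -, ⟨f⟩⟩
  · have h := CfsgLib.Classical.Dickson.gcd_mul_card_psl (F := K) hK
    rw [← Nat.card_congr f.toEquiv, hG] at h
    have hg : Nat.gcd 2 (p - 1) = 2 := by
      refine Nat.gcd_eq_left (even_iff_two_dvd.1 ?_)
      rw [Nat.even_sub hpp.one_le]
      simp [Nat.not_even_iff_odd.2 (hpp.odd_of_ne_two (by omega))]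
    obtain ⟨j, hj⟩ : ∃ j, p = j + 2 := ⟨p - 2, by omega⟩
    have e1 : p - 1 = j + 1 := by omega
    have e2 : p - 2 = j := by omega
    have e3 : p ^ 2 - 1 = (j + 1) * (j + 3) := by
      rw [hj, show (j + 2) ^ 2 = (j + 1) * (j + 3) + 1 by ring]; omega
    rw [hg, e1, e2, e3] at h
    nlinarith
  · have hm3 : 3 ≤ m := by
      by_contra h
      have : 2 ^ m ≤ 2 ^ 2 := Nat.pow_le_pow_right two_pos (by omega)
      omega
    haveI : Nontrivial α := Fintype.one_lt_card_iff_nontrivial.1 (by omega)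
    obtain ⟨u⟩ : Nonempty α := inferInstance
    have hM := IsPreprimitive.isCoatom_stabilizer_of_isPreprimitive G u
    have hM' : IsCoatom ((stabilizer G u).map (f : G →* Matrix.ProjectiveSpecialLinearGroup (Fin 2) K)) :=
      ((f.mapSubgroup).isCoatom_iff (stabilizer G u)).2 hM
    refine no_coatom hK hm3 _ hM' ?_
    rw [Subgroup.card_map_of_injective f.injective]
    have h := (stabilizer G u).index_mul_card
    rw [index_stabilizer_of_transitive, Nat.card_eq_fintype_card (α := α), hα, hG] at h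
    rw [show 2 ^ m = p - 1 by omega, show p - 1 - 1 = p - 2 by omega]
    refine Nat.eq_of_mul_eq_mul_left hpp.pos ?_
    rw [← h]; ring

end CfsgLib.Perm.ItoDegreeTwoP
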