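import Mathlib.LinearAlgebra.Matrix.GeneralLinearGroup.Defs
import Mathlib.LinearAlgebra.Matrix.ToLinearEquiv
import Mathlib.Data.ZMod.Basic
import Mathlib.GroupTheory.OrderOfElement
import Mathlib.Algebra.Field.ZMod
import Mathlib.Tactic.FinCases
import Mathlib.Tactic.LinearCombination

/-!
Subgroups of `GL₂(p)` generated by explicit matrices, computed from a list of their elements.
-/

namespace CfsgLib.Perm.MatrixClosure

open Matrix

/-- Four natural numbers standing for a 2 by 2 matrix. -/
abbrev M4 := ℕ × ℕ × ℕ × ℕ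

/-- Product modulo `p`. -/
def mul4 (p : ℕ) : M4 → M4 → M4
  | (a, b, c, d), (a', b', c', d') =>
    ((a * a' + b * c') % p, (a * b' + b * d') % p, (c * a' + d * c') % p, (c * b' + d * d') % p)

/-- The matrix over `ZMod p`. -/
def toMat (p : ℕ) : M4 → Matrix (Fin 2) (Fin 2) (ZMod p)
  | (a, b, c, d) => !![(a : ZMod p), (b : ZMod p); (c : ZMod p), (d : ZMod p)]

theorem toMat_mul4 (p : ℕ) (x y : M4) : toMat p (mul4 p x y) = toMat p x * toMat p y := by
  obtain ⟨a, b, c, d⟩ := x
  obtain ⟨a', b', c', d'⟩ := y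
  simp [toMat, mul4, Matrix.mul_fin_two, ZMod.natCast_mod]

theorem toMat_one (p : ℕ) : toMat p (1, 0, 0, 1) = 1 := by
  simp [toMat, Matrix.one_fin_two]

/-- Entries reduced modulo `p`. -/
def reduced (p : ℕ) : M4 → Bool
  | (a, b, c, d) => decide (a < p) && decide (b < p) && decide (c < p) && decide (d < p)

theorem toMat_injective (p : ℕ) {x y : M4} (hx : reduced p x = true) (hy : reduced p y = true)
    (h : toMat p x = toMat p y) : x = y := by
  obtain ⟨a, b, c, d⟩ := x
  obtain ⟨a', b', c', d'⟩ := y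
  simp only [reduced, Bool.and_eq_true, decide_eq_true_eq] at hx hy
  have key : ∀ {u v : ℕ}, u < p → v < p → (u : ZMod p) = (v : ZMod p) → u = v := by
    intro u v hu hv huv
    rw [ZMod.natCast_eq_natCast_iff'] at huv
    rwa [Nat.mod_eq_of_lt hu, Nat.mod_eq_of_lt hv] at huv
  have h00 := congrFun (congrFun h 0) 0
  have h01 := congrFun (congrFun h 0) 1
  have h10 := congrFun (congrFun h 1) 0
  have h11 := congrFun (congrFun h 1) 1
  simp [toMat] at h00 h01 h10 h11
  obtain ⟨⟨⟨ha, hb⟩, hc⟩, hd⟩ := hx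
  obtain ⟨⟨⟨ha', hb'⟩, hc'⟩, hd'⟩ := hy
  rw [key ha ha' h00, key hb hb' h01, key hc hc' h10, key hd hd' h11]

/-- Every element is one or a generator times an element further down the list. -/
def built (p : ℕ) (gens : List M4) : List M4 → Bool
  | [] => true
  | x :: rest =>
    ((x == (1, 0, 0, 1)) || gens.any (fun g => rest.any (fun y => mul4 p g y == x))) &&
      built p gens rest

/-- Closed under left multiplication by the generators, containing one, no repetition. -/
def closedList (p : ℕ) (gens L : List M4) : Bool :=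
  L.contains (1, 0, 0, 1) && gens.all (fun g => L.all (fun x => L.contains (mul4 p g x))) &&
    L.all (fun x => reduced p x) && decide L.Nodup && built p gens L

/-- `det (X - 1) ≠ 0` for all `X ≠ 1` in the list, after scaling by `l`. -/
def fpf (p l : ℕ) (L : List M4) : Bool :=
  L.all fun x =>
    match x with
    | (a, b, c, d) =>
      (l * a % p == 1 % p && l * b % p == 0 && l * c % p == 0 && l * d % p == 1 % p) ||
        !((l * a * (l * d) + 1) % p == (l * a + l * d + l * b * (l * c)) % p)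

variable {p : ℕ}

theorem mem_closure_iff [NeZero p] {gens L : List M4} (hL : closedList p gens L = true)
    {S : Set (GeneralLinearGroup (Fin 2) (ZMod p))}
    (hS : ∀ s ∈ S, ∃ g ∈ gens, (s : Matrix (Fin 2) (Fin 2) (ZMod p)) = toMat p g)
    (hg : ∀ g ∈ gens, ∃ s ∈ S, (s : Matrix (Fin 2) (Fin 2) (ZMod p)) = toMat p g)
    (h : GeneralLinearGroup (Fin 2) (ZMod p)) :
    h ∈ Subgroup.closure S ↔ ∃ x ∈ L, (h : Matrix (Fin 2) (Fin 2) (ZMod p)) = toMat p x := by
  simp only [closedList, Bool.and_eq_true, List.contains_iff_mem, List.all_eq_true,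
    decide_eq_true_eq] at hL
  obtain ⟨⟨⟨⟨h1, hcl⟩, -⟩, -⟩, hb⟩ := hL
  constructor
  · intro hh
    rw [← Subgroup.mem_toSubmonoid, Subgroup.closure_toSubmonoid_of_finite] at hh
    induction hh using Submonoid.closure_induction_left with
    | one => exact ⟨_, h1, by rw [toMat_one]; rfl⟩
    | mul_left s hs y _ ih =>
      obtain ⟨g, hgg, hgs⟩ := hS s hs
      obtain ⟨x, hx, hxy⟩ := ih
      exact ⟨_, hcl g hgg x hx, by rw [toMat_mul4, Units.val_mul, hgs, hxy]⟩
  · rintro ⟨x, hx, hxh⟩
    suffices key : ∀ M : List M4, built p gens M = true → ∀ x ∈ M,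
        ∀ h : GeneralLinearGroup (Fin 2) (ZMod p),
          (h : Matrix (Fin 2) (Fin 2) (ZMod p)) = toMat p x → h ∈ Subgroup.closure S from
      key L hb x hx h hxh
    intro M
    induction M with
    | nil => intro _ x hx; simp at hx
    | cons a rest ih =>
      intro hM x hx k hk
      simp only [built, Bool.and_eq_true, Bool.or_eq_true, List.any_eq_true, beq_iff_eq] at hM
      rcases List.mem_cons.1 hx with rfl | hx
      · rcases hM.1 with h0 | ⟨g, hgg, y, hy, hgy⟩
        · have : k = 1 := Units.ext (by rw [hk, h0, toMat_one]; rfl)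
          rw [this]
          exact one_mem _
        · obtain ⟨s, hs, hsg⟩ := hg g hgg
          have hy' : ((s⁻¹ * k : GeneralLinearGroup (Fin 2) (ZMod p)) :
              Matrix (Fin 2) (Fin 2) (ZMod p)) = toMat p y := by
            rw [Units.val_mul, hk, ← hgy, toMat_mul4, ← hsg, ← Matrix.mul_assoc, Units.inv_mul,
              Matrix.one_mul]
          have := mul_mem (Subgroup.subset_closure hs) (ih hM.2 y hy _ hy')
          rwa [mul_inv_cancel_left] at this
      · exact ih hM.2 x hx k hk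

theorem card_closure [NeZero p] {gens L : List M4} (hL : closedList p gens L = true)
    {S : Set (GeneralLinearGroup (Fin 2) (ZMod p))}
    (hS : ∀ s ∈ S, ∃ g ∈ gens, (s : Matrix (Fin 2) (Fin 2) (ZMod p)) = toMat p g)
    (hg : ∀ g ∈ gens, ∃ s ∈ S, (s : Matrix (Fin 2) (Fin 2) (ZMod p)) = toMat p g) :
    Nat.card (Subgroup.closure S) = L.length := by
  classical
  have hmem := fun h => mem_closure_iff hL hS hg h
  simp only [closedList, Bool.and_eq_true, List.contains_iff_mem, List.all_eq_true,
    decide_eq_true_eq] at hL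
  obtain ⟨⟨⟨⟨h1, hcl⟩, hred⟩, hnd⟩, hb⟩ := hL
  have hsurj : ∀ M : List M4, built p gens M = true → ∀ x ∈ M,
      ∃ h : GeneralLinearGroup (Fin 2) (ZMod p),
        (h : Matrix (Fin 2) (Fin 2) (ZMod p)) = toMat p x := by
    intro M
    induction M with
    | nil => intro _ x hx; simp at hx
    | cons a rest ih =>
      intro hM x hx
      simp only [built, Bool.and_eq_true, Bool.or_eq_true, List.any_eq_true, beq_iff_eq] at hM
      rcases List.mem_cons.1 hx with rfl | hx
      · rcases hM.1 with h0 | ⟨g, hgg, y, hy, hgy⟩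
        · exact ⟨1, by rw [h0, toMat_one]; rfl⟩
        · obtain ⟨s, hs, hsg⟩ := hg g hgg
          obtain ⟨k, hk⟩ := ih hM.2 y hy
          exact ⟨s * k, by rw [Units.val_mul, hsg, hk, ← toMat_mul4, hgy]⟩
      · exact ih hM.2 x hx
  let f : Subgroup.closure S → L.toFinset := fun h =>
    ⟨((hmem h).1 h.2).choose, List.mem_toFinset.2 ((hmem h).1 h.2).choose_spec.1⟩
  have hbij : Function.Bijective f := by
    constructor
    · intro a b hab
      apply Subtype.ext
      apply Units.ext
      rw [((hmem a).1 a.2).choose_spec.2, ((hmem b).1 b.2).choose_spec.2]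
      exact congrArg _ (congrArg Subtype.val hab)
    · rintro ⟨x, hx⟩
      rw [List.mem_toFinset] at hx
      obtain ⟨h, hh⟩ := hsurj L hb x hx
      have hh' : h ∈ Subgroup.closure S := (hmem h).2 ⟨x, hx, hh⟩
      refine ⟨⟨h, hh'⟩, Subtype.ext ?_⟩
      obtain ⟨hc1, hc2⟩ := ((hmem h).1 hh').choose_spec
      exact toMat_injective p (hred _ hc1) (hred _ hx) (hc2.symm.trans hh)
  rw [Nat.card_congr (Equiv.ofBijective f hbij), Nat.card_eq_fintype_card, Fintype.card_coe,
    List.toFinset_card_of_nodup hnd]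

/-- An element of the scaled list fixing a non-zero vector is one. -/
theorem eq_one_of_fix [Fact p.Prime] {L : List M4} {l : ℕ} (hL : fpf p l L = true) {x : M4}
    (hx : x ∈ L) {X : Matrix (Fin 2) (Fin 2) (ZMod p)} (hX : X = (l : ZMod p) • toMat p x)
    {v : Fin 2 → ZMod p} (hv : v ≠ 0) (h : X.mulVec v = v) : X = 1 := by
  obtain ⟨a, b, c, d⟩ := x
  simp only [fpf, List.all_eq_true] at hL
  have h' := hL _ hx
  simp only [Bool.or_eq_true, Bool.and_eq_true, beq_iff_eq, Bool.not_eq_true'] at h'
  rcases h' with ⟨⟨⟨h1, h2⟩, h3⟩, h4⟩ | hdet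
  · have e : ∀ u v : ℕ, u % p = v % p → (u : ZMod p) = (v : ZMod p) := fun u v huv =>
      (ZMod.natCast_eq_natCast_iff' u v p).2 huv
    have e1 := e (l * a) 1 h1
    have e2 := e (l * b) 0 (by rw [h2, Nat.zero_mod])
    have e3 := e (l * c) 0 (by rw [h3, Nat.zero_mod])
    have e4 := e (l * d) 1 h4
    push_cast at e1 e2 e3 e4
    ext i j
    rw [hX]
    fin_cases i <;> fin_cases j <;> simp [toMat, e1, e2, e3, e4]
  · exfalso
    have hz : (X - 1).mulVec v = 0 := by rw [Matrix.sub_mulVec, h, Matrix.one_mulVec, sub_self]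
    have hd := Matrix.exists_mulVec_eq_zero_iff.1 ⟨v, hv, hz⟩
    rw [hX, Matrix.det_fin_two] at hd
    simp [toMat] at hd
    rw [beq_eq_false_iff_ne] at hdet
    apply hdet
    rw [← ZMod.natCast_eq_natCast_iff']
    push_cast
    linear_combination hd

/-- A fixed-point-free linear group of the same order as the set of non-zero vectors is regular. -/
theorem existsUnique_mulVec [Fact p.Prime] (H : Subgroup (GeneralLinearGroup (Fin 2) (ZMod p)))
    (hcard : Nat.card H = p ^ 2 - 1)
    (hfpf : ∀ h ∈ H, ∀ v : Fin 2 → ZMod p, v ≠ 0 →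
      (h : Matrix (Fin 2) (Fin 2) (ZMod p)).mulVec v = v → h = 1)
    (v w : Fin 2 → ZMod p) (hv : v ≠ 0) (hw : w ≠ 0) :
    ∃! h : H, ((h : GeneralLinearGroup (Fin 2) (ZMod p)) :
      Matrix (Fin 2) (Fin 2) (ZMod p)).mulVec v = w := by
  classical
  let f : H → {u : Fin 2 → ZMod p // u ≠ 0} := fun h =>
    ⟨((h : GeneralLinearGroup (Fin 2) (ZMod p)) : Matrix (Fin 2) (Fin 2) (ZMod p)).mulVec v,
      fun h0 => hv (by
        have := congrArg (((h : GeneralLinearGroup (Fin 2) (ZMod p))⁻¹ :
          GeneralLinearGroup (Fin 2) (ZMod p)) : Matrix (Fin 2) (Fin 2) (ZMod p)).mulVec h0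
        rwa [Matrix.mulVec_mulVec, Units.inv_mul, Matrix.one_mulVec, Matrix.mulVec_zero] at this)⟩
  have hinj : Function.Injective f := by
    intro a b hab
    have h0 := congrArg Subtype.val hab
    have h1 := hfpf ((b : GeneralLinearGroup (Fin 2) (ZMod p))⁻¹ * a) (mul_mem (inv_mem b.2) a.2) v hv
      (by
        rw [Units.val_mul, ← Matrix.mulVec_mulVec]
        simp only [f] at h0
        rw [h0, Matrix.mulVec_mulVec, Units.inv_mul, Matrix.one_mulVec])
    exact Subtype.ext (inv_mul_eq_one.1 h1).symm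
  have hbij : Function.Bijective f := by
    refine (Nat.bijective_iff_injective_and_card f).2 ⟨hinj, ?_⟩
    rw [hcard, Nat.card_eq_fintype_card, Fintype.card_subtype_compl, Fintype.card_subtype_eq,
      Fintype.card_fun, ZMod.card, Fintype.card_fin]
  obtain ⟨h, hh⟩ := hbij.2 ⟨w, hw⟩
  exact ⟨h, congrArg Subtype.val hh, fun k hk => hinj (hh.symm ▸ Subtype.ext hk)⟩

end CfsgLib.Perm.MatrixClosure
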