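import Cfsg.Agent.Lib.Perm.CubicRelations
import Cfsg.Agent.Lib.Signalizer.Involutions

/-!
The four possible stabilizers: `D₁₂`, `S₄`, `S₄ × C₂`, besides `C₃` and `S₃`.
-/

set_option autoImplicit false
set_option linter.style.haveILetI false

open Cfsg
open CfsgLib.ThompsonWielandt
open scoped commutatorElement

namespace CfsgLib.CubicChain

section Abstract

variable {H : Type*} [Group H] [Finite H]

/-- A group of order `24` that is a four-group extended by a faithful complement of order `6`. -/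
theorem equiv_perm_four {N T : Subgroup H} [N.Normal] (hH : Nat.card H = 24)
    (hT : Nat.card T = 6) (hNT : N ⊓ T = ⊥) {s y n₁ n₂ : H} (hs : s ∈ T) (hy : y ∈ T)
    (hs2 : s * s = 1) (hy3 : y ^ 3 = 1) (h1 : n₁ ∈ N) (h2 : n₂ ∈ N)
    (hsn : ¬ Commute n₁ s) (hyn : ¬ Commute n₂ y) : Nonempty (H ≃* Equiv.Perm (Fin 4)) := by
  classical
  have hTi : T.index = 4 := by
    have := T.card_mul_index
    rw [hT, hH] at this
    omega
  let ψ := MulAction.toPermHom H (H ⧸ T)
  have hker : ψ.ker = ⊥ := by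
    set M := ψ.ker
    have hMT : M ≤ T := fun m hm => by
      have := congrArg (fun σ : Equiv.Perm (H ⧸ T) => σ ((1 : H) : H ⧸ T))
        (show ψ m = 1 from hm)
      simpa [ψ, MulAction.Quotient.smul_coe, QuotientGroup.eq] using this
    have hdis : Disjoint N M := disjoint_iff.2 (le_bot_iff.1
      ((inf_le_inf_left N hMT).trans hNT.le))
    have hcomm : ∀ n ∈ N, ∀ m ∈ M, Commute n m := fun n hn m hm =>
      Subgroup.commute_of_normal_of_disjoint N M inferInstance inferInstance hdis n m hn hm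
    have hmul : Nat.card M * (M.subgroupOf T).index = 6 := by
      have := (M.subgroupOf T).card_mul_index
      rwa [Nat.card_congr (Subgroup.subgroupOfEquivOfLe hMT).toEquiv, hT] at this
    have hnormT : (M.subgroupOf T).IsSubnormal :=
      (inferInstance : (M.subgroupOf T).Normal).isSubnormal
    by_contra hM
    have hM1 : Nat.card M ≠ 1 := fun hc => hM (Subgroup.card_eq_one.1 hc)
    have hi : (M.subgroupOf T).index ∣ 6 := Dvd.intro_left _ hmul
    have hi6 : (M.subgroupOf T).index ≤ 6 := Nat.le_of_dvd (by norm_num) hi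
    have hine : (M.subgroupOf T).index ≠ 6 := fun he => hM1 (by rw [he] at hmul; omega)
    by_cases hev : 2 ∣ (M.subgroupOf T).index
    · have h2eq : (M.subgroupOf T).index = 2 := by
        have h0 : (M.subgroupOf T).index ≠ 0 := fun he => by rw [he] at hmul; omega
        have : (M.subgroupOf T).index ≠ 4 := fun he => by rw [he] at hi; norm_num at hi
        omega
      refine hyn (hcomm _ h2 _ (mem_of_subnormal_coprime hnormT (x := ⟨y, hy⟩) ?_))
      rw [h2eq, ← Subgroup.orderOf_coe]
      exact Nat.Coprime.coprime_dvd_left (orderOf_dvd_of_pow_eq_one hy3) (by norm_num)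
    · refine hsn (hcomm _ h1 _ (mem_of_subnormal_coprime hnormT (x := ⟨s, hs⟩) ?_))
      rw [← Subgroup.orderOf_coe]
      exact Nat.Coprime.coprime_dvd_left (orderOf_dvd_of_pow_eq_one (by rw [pow_two]; exact hs2))
        ((Nat.Prime.coprime_iff_not_dvd Nat.prime_two).2 hev)
  have e : H ⧸ T ≃ Fin 4 := Finite.equivFinOfCardEq (by rw [← Subgroup.index]; exact hTi)
  let F : H →* Equiv.Perm (Fin 4) := (e.permCongrHom : _ →* _).comp ψ
  have hinj : Function.Injective F :=
    e.permCongrHom.injective.comp ((MonoidHom.ker_eq_bot_iff ψ).1 hker)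
  exact ⟨MulEquiv.ofBijective F ((Nat.bijective_iff_injective_and_card _).2
    ⟨hinj, by rw [hH, Nat.card_perm, Nat.card_fin]; rfl⟩)⟩

end Abstract

variable {G : Type*} [Group G] [Finite G] {g x : G} {A : Subgroup G} {r : ℕ}
  {f : A →* Equiv.Perm (Fin 3)}

theorem seg_one_cases (hx : x * x = 1) {i : ℕ} {z : G} (hz : z ∈ seg g x i 1) :
    z = 1 ∨ z = xs g x i := by
  rcases seg_cases_left (m := 0) hx (fun j h1 h2 => absurd h2 (by omega)) hz with h | h <;>
    rw [seg_zero, Subgroup.mem_bot] at h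
  · exact Or.inl h
  · exact Or.inr (by rw [mul_eq_one_iff_eq_inv] at h; rw [← inv_inv z, ← h, xs_inv hx])

namespace Chain

variable (h : Chain A g r f x)
include h

theorem seg_sq {i k : ℕ} (hk : k ≤ h.lam) {z : G} (hz : z ∈ seg g x i k) : z * z = 1 := by
  induction k generalizing i z with
  | zero => rw [seg_zero, Subgroup.mem_bot] at hz; simp [hz]
  | succ k ih =>
    have hcomm : ∀ j, i < j → j < i + (k + 1) → Commute (xs g x i) (xs g x j) :=
      fun j _ _ => h.commute_of_lt (by omega) (by omega)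
    rcases seg_cases_left h.sq hcomm hz with hm | hm
    · exact ih (by omega) hm
    · set t := xs g x i
      have htt : t * t = 1 := xs_mul_self h.sq i
      have hc : Commute t (t * z) :=
        commute_seg (fun j _ _ => h.commute_of_lt (by omega) (by omega)) hm
      have hz' : z = t * (t * z) := by rw [← mul_assoc, htt, one_mul]
      rw [hz', mul_assoc, ← mul_assoc (t * z) t, ← hc.eq, mul_assoc, ← mul_assoc, htt, one_mul]
      exact ih (by omega) hm

theorem xs_ne_succ (i : ℕ) : xs g x i ≠ xs g x (i + 1) := by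
  intro he
  have h0 : xs g x 0 = xs g x 1 := (MulAut.conj (g⁻¹ ^ i)).injective
    (by rw [conj_xs, conj_xs, add_zero]; exact he)
  exact h.xs_zero_not_mem (k := 1) h.two (h0 ▸ xs_mem_seg le_rfl (by omega))

/-- `x_i` as an element of `A`. -/
abbrev el (i : ℕ) (hi : i ≤ r) : A := ⟨xs g x i, h.xs_mem i hi⟩

theorem f_el_sq (i : ℕ) (hi : i ≤ r) : f (h.el i hi) * f (h.el i hi) = 1 := by
  rw [← map_mul]
  exact (congrArg f (Subtype.ext (xs_mul_self h.sq i))).trans (map_one f)

theorem f_cube :
    (f (h.el 0 (Nat.zero_le r)) * f (h.el r le_rfl)) ^ 3 = 1 ∧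
      f (h.el 0 (Nat.zero_le r)) * f (h.el r le_rfl) ≠ 1 ∧
      f (h.el 0 (Nat.zero_le r)) * f (h.el r le_rfl) * f (h.el 0 (Nat.zero_le r)) *
        f (h.el r le_rfl) * f (h.el 0 (Nat.zero_le r)) = f (h.el r le_rfl) := by
  have key : ∀ σ τ : Equiv.Perm (Fin 3), σ * σ = 1 → τ * τ = 1 → σ ≠ 1 → τ ≠ 1 → σ ≠ τ →
      (σ * τ) ^ 3 = 1 ∧ σ * τ ≠ 1 ∧ σ * τ * σ * τ * σ = τ := by decide
  exact key _ _ (h.f_el_sq 0 _) (h.f_el_sq r _) (h.f_ne_one (Or.inl rfl) _)
    (h.f_ne_one (Or.inr rfl) _) h.f_ne

theorem sign_el (i : ℕ) (hi : i ≤ r) (hne : f (h.el i hi) ≠ 1) :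
    Equiv.Perm.sign (f (h.el i hi)) = -1 := by
  have key : ∀ σ : Equiv.Perm (Fin 3), σ * σ = 1 → σ ≠ 1 → Equiv.Perm.sign σ = -1 := by decide
  exact key _ (h.f_el_sq i hi) hne

theorem mem_seg_of_f {z : A} (hz : f z = 1) : (z : G) ∈ seg g x 1 (r - 1) :=
  h.map_ker ▸ ⟨z, hz, rfl⟩

theorem f_of_mem_seg {i : ℕ} (hi : 1 ≤ i) (hir : i ≤ r - 1) (hi' : i ≤ r) :
    f (h.el i hi') = 1 := by
  have : xs g x i ∈ f.ker.map A.subtype := h.map_ker ▸ xs_mem_seg hi (by omega)
  obtain ⟨z, hz, hzx⟩ := this
  rw [show h.el i hi' = z from Subtype.ext hzx.symm]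
  exact hz

theorem cube_commute (hl : r - 1 ≤ h.lam) :
    ((xs g x 0 * xs g x r) ^ 3) ∈ seg g x 1 (r - 1) ∧
      Commute ((xs g x 0 * xs g x r) ^ 3) (xs g x 0) ∧
      Commute ((xs g x 0 * xs g x r) ^ 3) (xs g x r) := by
  set s := xs g x 0
  set t := xs g x r
  have hm : (s * t) ^ 3 ∈ seg g x 1 (r - 1) :=
    h.mem_seg_of_f (z := (h.el 0 (Nat.zero_le r) * h.el r le_rfl) ^ 3)
      (by rw [map_pow, map_mul]; exact h.f_cube.1)
  have hss : s⁻¹ = s := xs_inv h.sq 0
  have htt : t⁻¹ = t := xs_inv h.sq r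
  have hinv : ((s * t) ^ 3)⁻¹ = (s * t) ^ 3 :=
    inv_eq_of_mul_eq_one_right (h.seg_sq hl hm)
  have hsc : s * (s * t) ^ 3 * s⁻¹ = (s * t) ^ 3 := by
    conv_rhs => rw [← hinv]
    rw [← conj_pow, ← inv_pow, mul_inv_rev, htt, hss, ← mul_assoc, xs_mul_self h.sq, one_mul]
  have hs : Commute ((s * t) ^ 3) s := (mul_inv_eq_iff_eq_mul.1 hsc).symm
  refine ⟨hm, hs, ?_⟩
  have h2 := (Commute.refl (s * t)).pow_left 3
  have h3 := hs.inv_right.mul_right h2
  rwa [← mul_assoc, inv_mul_cancel, one_mul] at h3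

theorem r_cases : r = 2 ∨ r = 3 ∨ r = 4 ∨ r = 6 := by
  have h1 := h.two_le_lam
  have h2 := h.upper
  have h3 := h.lam_le
  rcases Nat.lt_or_eq_of_le h3 with hlt | heq
  · obtain ⟨i, m, hi, hm, hl, hu, -⟩ := h.support hlt
    omega
  · have := h.two
    omega

theorem case_two (hr : r = 2) : Nonempty (A ≃* DihedralGroup 6) := by
  subst hr
  have hl : h.lam = 2 := le_antisymm h.lam_le h.two_le_lam
  obtain ⟨hw, hw0, hw2⟩ := h.cube_commute (by omega)
  set s := h.el 0 (Nat.zero_le 2)
  set u := h.el 1 (by omega)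
  set t₀ := h.el 2 le_rfl
  have hss : s * s = 1 := Subtype.ext (xs_mul_self h.sq 0)
  have huu : u * u = 1 := Subtype.ext (xs_mul_self h.sq 1)
  have htt : t₀ * t₀ = 1 := Subtype.ext (xs_mul_self h.sq 2)
  have hus : Commute s u := Subtype.ext (h.commute_of_lt (i := 0) (j := 1) (by omega) (by omega)).eq
  have hut : Commute t₀ u := Subtype.ext (h.commute_of_lt (i := 2) (j := 1) (by omega) (by omega)).eq
  have hu1 : u ≠ 1 := fun he => h.xs_ne_one 1 (congrArg Subtype.val he)
  have hfu : f u = 1 := h.f_of_mem_seg le_rfl (by omega) _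
  -- choose the second involution
  obtain ⟨t, ht2, hft, hcube⟩ : ∃ t : A, t * t = 1 ∧ f t = f t₀ ∧ (s * t) ^ 3 = u := by
    rcases seg_one_cases h.sq hw with hone | hone
    · refine ⟨t₀ * u, ?_, by rw [map_mul, hfu, mul_one], ?_⟩
      · rw [mul_assoc, ← mul_assoc u, ← hut.eq, mul_assoc, huu, mul_one, htt]
      · rw [← mul_assoc, ((hus.mul_left hut)).mul_pow,
          show (s * t₀) ^ 3 = 1 from Subtype.ext hone, one_mul, pow_succ, pow_two, huu, one_mul]
    · exact ⟨t₀, htt, rfl, Subtype.ext hone⟩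
  have hne : f (s * t) ≠ 1 := by rw [map_mul, hft]; exact h.f_cube.2.1
  have hord : orderOf (s * t) = 6 := by
    rw [orderOf_eq_iff (by norm_num)]
    refine ⟨by rw [pow_mul (s * t) 3 2, hcube, pow_two, huu], fun m hm hm0 he => ?_⟩
    have hf : f (s * t) ^ m = 1 := by rw [← map_pow, he, map_one]
    have h3 : f (s * t) ^ 3 = 1 := by rw [← map_pow, hcube, hfu]
    interval_cases m
    · exact hne (by simpa using hf)
    · exact hne (by rw [pow_succ, hf, one_mul] at h3; exact h3)
    · exact hu1 (hcube.symm.trans he)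
    · exact hne (by rw [pow_succ, h3, one_mul] at hf; exact hf)
    · refine hne ?_
      have h6 : f (s * t) ^ 6 = 1 := by rw [pow_mul _ 3 2, h3, one_pow]
      rw [pow_succ, hf, one_mul] at h6
      exact h6
  have hso : orderOf s = 2 := orderOf_eq_prime (by rw [pow_two, hss])
    (fun he => h.xs_ne_one 0 (congrArg Subtype.val he))
  have hto : orderOf t = 2 := orderOf_eq_prime (by rw [pow_two, ht2]) (fun he => by
    apply h.f_ne_one (Or.inr rfl) (h.xs_mem 2 le_rfl)
    show f t₀ = 1
    rw [← hft, he, map_one])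
  obtain ⟨ψ, hψ, -⟩ := CfsgLib.Signalizer.exists_dihedral_hom hso hto
  obtain ⟨φ, hφ⟩ : ∃ φ : DihedralGroup 6 →* A, Function.Injective φ := hord ▸ ⟨ψ, hψ⟩
  refine ⟨(MulEquiv.ofBijective φ ((Nat.bijective_iff_injective_and_card _).2 ⟨hφ, ?_⟩)).symm⟩
  rw [DihedralGroup.nat_card, h.cardA]
  norm_num

/-- The complement generated by two involutions whose product has order three. -/
theorem exists_complement {t : A} (ht : t * t = 1) (hft : f t = f (h.el r le_rfl))
    (hcube : (h.el 0 (Nat.zero_le r) * t) ^ 3 = 1) :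
    ∃ T : Subgroup A, Nat.card T = 6 ∧ f.ker ⊓ T = ⊥ ∧
      T = Subgroup.closure {h.el 0 (Nat.zero_le r), t} := by
  set s := h.el 0 (Nat.zero_le r)
  have hne : f (s * t) ≠ 1 := by rw [map_mul, hft]; exact h.f_cube.2.1
  haveI : Fact (Nat.Prime 3) := ⟨Nat.prime_three⟩
  have hord : orderOf (s * t) = 3 :=
    orderOf_eq_prime hcube (fun he => hne (by rw [he, map_one]))
  have hso : orderOf s = 2 :=
    orderOf_eq_prime (by rw [pow_two]; exact Subtype.ext (xs_mul_self h.sq 0))
      (fun he => h.xs_ne_one 0 (congrArg Subtype.val he))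
  have hto : orderOf t = 2 := orderOf_eq_prime (by rw [pow_two, ht]) (fun he => by
    apply h.f_ne_one (Or.inr rfl) (h.xs_mem r le_rfl)
    show f (h.el r le_rfl) = 1
    rw [← hft, he, map_one])
  obtain ⟨φ, hφ, hrange⟩ := CfsgLib.Signalizer.exists_dihedral_hom hso hto
  have hfo : orderOf (f (s * t)) = 3 :=
    orderOf_eq_prime (by rw [← map_pow, hcube, map_one]) hne
  have hcardT : Nat.card φ.range = 6 := by
    rw [← Nat.card_congr (MonoidHom.ofInjective hφ).toEquiv, DihedralGroup.nat_card, hord]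
  refine ⟨φ.range, hcardT, ?_, hrange⟩
  rw [eq_bot_iff]
  rintro z ⟨hz, hzT⟩
  rw [Subgroup.mem_bot]
  rw [hrange] at hzT
  rcases (CfsgLib.Signalizer.mem_closure_pair_iff hso hto).1 hzT with ⟨k, rfl | rfl⟩
  · have hfk : f (s * t) ^ k = 1 := by rw [← map_zpow]; exact hz
    rw [← orderOf_dvd_iff_zpow_eq_one, hfo] at hfk
    obtain ⟨j, rfl⟩ := hfk
    rw [zpow_mul]
    norm_cast
    rw [hcube, one_zpow]
  · exfalso
    have h1 := congrArg Equiv.Perm.sign (show f ((s * t) ^ k * s) = 1 from hz)
    rw [map_mul, map_zpow, map_mul, map_mul, map_zpow, map_mul, hft,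
      h.sign_el 0 _ (h.f_ne_one (Or.inl rfl) _), h.sign_el r _ (h.f_ne_one (Or.inr rfl) _),
      neg_mul_neg, one_mul, one_zpow, one_mul, map_one] at h1
    exact absurd h1 (by decide)

theorem case_three (hr : r = 3) : Nonempty (A ≃* Equiv.Perm (Fin 4)) := by
  subst hr
  have hl : h.lam = 2 := by have := h.upper; have := h.two_le_lam; omega
  obtain ⟨hw, hw0, hw3⟩ := h.cube_commute (by omega)
  have hn02 : ¬ Commute (xs g x 0) (xs g x 2) := by simpa [hl] using h.not_commute 0
  have hn13 : ¬ Commute (xs g x 1) (xs g x 3) := by simpa [hl] using h.not_commute 1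
  have h01 : Commute (xs g x 0) (xs g x 1) := h.commute_of_lt (by omega) (by omega)
  have hcube : (xs g x 0 * xs g x 3) ^ 3 = 1 := by
    rcases seg_cases_left (m := 1) h.sq
      (fun j _ _ => h.commute_of_lt (by omega) (by omega)) hw with hm | hm
    · rcases seg_one_cases h.sq hm with he | he
      · exact he
      · exact absurd (he ▸ hw0 : Commute (xs g x 2) (xs g x 0)).symm hn02
    · rcases seg_one_cases h.sq hm with he | he
      · rw [mul_eq_one_iff_eq_inv] at he
        have he' : (xs g x 0 * xs g x 3) ^ 3 = xs g x 1 := by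
          rw [← inv_inv ((xs g x 0 * xs g x 3) ^ 3), ← he, xs_inv h.sq]
        exact absurd (he' ▸ hw3 : Commute (xs g x 1) (xs g x 3)) hn13
      · exfalso
        have h4 := (h01.symm).mul_left hw0
        rw [he] at h4
        exact hn02 h4.symm
  set t := h.el 3 le_rfl
  obtain ⟨T, hT, hNT, hTeq⟩ := h.exists_complement (t := t) (Subtype.ext (xs_mul_self h.sq 3)) rfl
    (Subtype.ext hcube)
  refine equiv_perm_four (N := f.ker) (T := T) (s := h.el 0 (Nat.zero_le 3))
    (y := h.el 0 (Nat.zero_le 3) * t) (n₁ := h.el 2 (by omega)) (n₂ := h.el 1 (by omega))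
    (by rw [h.cardA]; norm_num) hT hNT ?_ ?_ (Subtype.ext (xs_mul_self h.sq 0))
    (Subtype.ext hcube) (h.f_of_mem_seg (by omega) (by omega) _)
    (h.f_of_mem_seg le_rfl (by omega) _) ?_ ?_
  · rw [hTeq]; exact Subgroup.subset_closure (Set.mem_insert _ _)
  · rw [hTeq]
    exact Subgroup.mul_mem _ (Subgroup.subset_closure (Set.mem_insert _ _))
      (Subgroup.subset_closure (Set.mem_insert_of_mem _ rfl))
  · exact fun hc => hn02 (congrArg Subtype.val hc.eq).symm
  · intro hc
    have hc' : Commute (xs g x 1) (xs g x 0 * xs g x 3) := congrArg Subtype.val hc.eq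
    have h5 := (h01.symm.inv_right).mul_right hc'
    rw [← mul_assoc, inv_mul_cancel, one_mul] at h5
    exact hn13 h5

theorem case_four (hr : r = 4) :
    Nonempty (A ≃* Equiv.Perm (Fin 4) × Multiplicative (ZMod 2)) := by
  subst hr
  have hl : h.lam = 3 := by
    rcases Nat.lt_or_eq_of_le h.lam_le with hlt | heq
    · obtain ⟨i, m, hi, hm, hl1, hu, -⟩ := h.support hlt
      have := h.upper
      omega
    · have := h.upper; omega
  set a := xs g x 0
  set b := xs g x 4
  set p := xs g x 1
  set q := xs g x 2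
  set v := xs g x 3
  have haa : a * a = 1 := xs_mul_self h.sq 0
  have hbb : b * b = 1 := xs_mul_self h.sq 4
  have hqq : q * q = 1 := xs_mul_self h.sq 2
  have hap : Commute a p := h.commute_of_lt (by omega) (by omega)
  have haq : Commute a q := h.commute_of_lt (by omega) (by omega)
  have hbq : Commute b q := h.commute_of_lt (by omega) (by omega)
  have hbv : Commute b v := h.commute_of_lt (by omega) (by omega)
  have hpq : Commute p q := h.commute_of_lt (by omega) (by omega)
  have hpv : Commute p v := h.commute_of_lt (by omega) (by omega)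
  have hqv : Commute q v := h.commute_of_lt (by omega) (by omega)
  have hnav : ¬ Commute a v := by simpa [hl] using h.not_commute 0
  have hnpb : ¬ Commute p b := by simpa [hl] using h.not_commute 1
  have hfix : ∀ {u z : G}, u * u = 1 → Commute u z → u * z * u = z := fun huu hc => by
    rw [hc.eq, mul_assoc, huu, mul_one]
  have hhom : ∀ {u : G} (y z : G), u * u = 1 → u * (y * z) * u = (u * y * u) * (u * z * u) :=
    fun {u} y z huu => by
      rw [show u * y * u * (u * z * u) = u * y * (u * u) * (z * u) by group, huu]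
      group
  -- the commutator of `a` and `v`
  set c := a * v * a * v with hc
  have hav : a * v * a = c * v := by rw [hc, mul_assoc _ v v, xs_mul_self h.sq, mul_one]
  set c' := p * b * p * b with hc'
  have hcc' : MulAut.conj (g⁻¹ ^ 1) c = c' := by
    rw [hc, hc']; simp only [a, v, p, b, map_mul, conj_xs]
  have hbp : b * p * b = p * c' := by
    rw [hc', ← mul_assoc, ← mul_assoc, ← mul_assoc, xs_mul_self h.sq, one_mul]
  have hcm : c ∈ seg g x 1 2 := h.comm_mem 0 (d := 3) (by omega) (by omega)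
  -- conjugation by `abab·a` is conjugation by `b` on the kernel
  have hword : ∀ z ∈ seg g x 1 3,
      a * (b * (a * (b * (a * (b * z * b) * a) * b) * a) * b) * a = z := by
    intro z hz
    set W := h.el 0 (by omega) * h.el 4 le_rfl * h.el 0 (by omega) * h.el 4 le_rfl *
      h.el 0 (by omega) * h.el 4 le_rfl
    have hW : f W = 1 := by
      simp only [W, map_mul]
      rw [h.f_cube.2.2]
      exact h.f_el_sq 4 le_rfl
    have hu : (a * b * a * b * a * b) ∈ seg g x 1 3 := h.mem_seg_of_f hW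
    have hcm' : Commute (a * b * a * b * a * b) z := commute_seg (fun j h1 h2 => Commute.symm
      (commute_seg (fun j' h3 h4 => h.commute_of_lt (by omega) (by omega)) hu)) hz
    have hai : a⁻¹ = a := xs_inv h.sq 0
    have hbi : b⁻¹ = b := xs_inv h.sq 4
    calc a * (b * (a * (b * (a * (b * z * b) * a) * b) * a) * b) * a
        = (a * b * a * b * a * b) * z * (a * b * a * b * a * b)⁻¹ := by
          simp only [mul_inv_rev, hai, hbi, mul_assoc]
      _ = z := by rw [hcm'.eq, mul_inv_cancel_right]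
  have hc12 : c = p * q := by
    have hc2 : c = 1 ∨ c = p ∨ c = q ∨ c = p * q := by
      rcases seg_cases_left (m := 1) h.sq
        (fun j _ _ => h.commute_of_lt (by omega) (by omega)) hcm with hm | hm
      · rcases seg_one_cases h.sq hm with he | he
        · exact Or.inl he
        · exact Or.inr (Or.inr (Or.inl he))
      · rcases seg_one_cases h.sq hm with he | he
        · refine Or.inr (Or.inl ?_)
          rw [mul_eq_one_iff_eq_inv] at he
          rw [← inv_inv c, ← he]
          exact xs_inv h.sq 1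
        · refine Or.inr (Or.inr (Or.inr ?_))
          show c = p * q
          rw [← one_mul c, ← xs_mul_self h.sq 1, mul_assoc]
          exact congrArg (p * ·) he
    rcases hc2 with he | he | he | he
    · exfalso
      apply hnav
      show a * v = v * a
      rw [he, one_mul] at hav
      nth_rw 2 [← hav]
      rw [mul_assoc _ a a, haa, mul_one]
    · exfalso
      have he' : c' = q := by rw [← hcc', he]; simp only [p, q, conj_xs]
      have hap' := hfix haa hap
      have haq' := hfix haa haq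
      have hbq' := hfix hbb hbq
      have hbv' := hfix hbb hbv
      have := hword v (xs_mem_seg (by omega) (by omega))
      rw [hbv', hav, he, hhom p v hbb, hbp, he', hbv', hhom (p * q) v haa, hhom p q haa, hap',
        haq', hav, he] at this
      have e1 : p * q * (p * v) = q * v := by
        rw [hpq.eq, mul_assoc, ← mul_assoc p p, xs_mul_self h.sq, one_mul]
      rw [e1, hhom q v hbb, hbq', hbv', hhom q v haa, haq', hav, he, ← mul_assoc,
        mul_eq_right, mul_eq_one_iff_eq_inv, xs_inv h.sq] at this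
      exact h.xs_ne_succ 1 this.symm
    · exfalso
      have he' : c' = v := by rw [← hcc', he]; simp only [q, v, conj_xs]
      have hap' := hfix haa hap
      have haq' := hfix haa haq
      have hbq' := hfix hbb hbq
      have hbv' := hfix hbb hbv
      have := hword p (xs_mem_seg (by omega) (by omega))
      rw [hbp, he', hhom p v haa, hap', hav, he, hhom p (q * v) hbb, hbp, he', hhom q v hbb,
        hbq', hbv'] at this
      have e1 : p * v * (q * v) = p * q := by
        rw [hqv.eq, mul_assoc, ← mul_assoc v v, xs_mul_self h.sq, one_mul]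
      rw [e1, hhom p q haa, hap', haq', hhom p q hbb, hbp, he', hbq', hhom (p * v) q haa,
        hhom p v haa, hap', hav, he, haq'] at this
      have e2 : p * (q * v) * q = p * v := by
        rw [hqv.eq, mul_assoc, mul_assoc v, hqq, mul_one]
      rw [e2, mul_eq_left] at this
      exact h.xs_ne_one 3 this
    · exact he
  have hc'12 : c' = q * v := by
    rw [← hcc', hc12]; simp only [p, q, v, map_mul, conj_xs]
  rw [hc12] at hav
  rw [hc'12] at hbp
  -- the complement of the centre
  obtain ⟨hw, hw0, hw4⟩ := h.cube_commute (by omega)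
  set A₀ := h.el 0 (Nat.zero_le 4)
  set B₀ := h.el 4 le_rfl
  set P := h.el 1 (by omega)
  set Q := h.el 2 (by omega)
  set V := h.el 3 (by omega)
  have hQQ : Q * Q = 1 := Subtype.ext hqq
  have hQ1 : Q ≠ 1 := fun he => h.xs_ne_one 2 (congrArg Subtype.val he)
  have hfP : f P = 1 := h.f_of_mem_seg le_rfl (by omega) _
  have hfQ : f Q = 1 := h.f_of_mem_seg (by omega) (by omega) _
  have hfV : f V = 1 := h.f_of_mem_seg (by omega) (by omega) _
  have hAQ : Commute A₀ Q := Subtype.ext haq.eq
  have hBQ : Commute B₀ Q := Subtype.ext hbq.eq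
  obtain ⟨t, htt, hft, hcube, hBt⟩ : ∃ t : A, t * t = 1 ∧ f t = f B₀ ∧ (A₀ * t) ^ 3 = 1 ∧
      (B₀ = t ∨ B₀ = t * Q) := by
    have hw' : (a * b) ^ 3 = 1 ∨ (a * b) ^ 3 = q := by
      have hwq : (a * b) ^ 3 ∈ seg g x 2 2 ∨ p * (a * b) ^ 3 ∈ seg g x 2 2 :=
        seg_cases_left (m := 2) h.sq (fun j _ _ => h.commute_of_lt (by omega) (by omega)) hw
      rcases hwq with hm | hm
      · rcases seg_cases_right (m := 1) h.sq
          (fun j _ _ => h.commute_of_lt (by omega) (by omega)) hm with hm' | hm'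
        · exact seg_one_cases h.sq hm'
        · exfalso
          have h4 : Commute a (v * (a * b) ^ 3) :=
            commute_seg (fun j _ _ => h.commute_of_lt (by omega) (by omega)) hm'
          have h5 := h4.mul_right hw0.symm.inv_right
          rw [mul_assoc, mul_inv_cancel, mul_one] at h5
          exact hnav h5
      · exfalso
        have h4 : Commute b (p * (a * b) ^ 3) :=
          commute_seg (fun j _ _ => h.commute_of_lt (by omega) (by omega)) hm
        have h5 := h4.mul_right hw4.symm.inv_right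
        rw [mul_assoc, mul_inv_cancel, mul_one] at h5
        exact hnpb h5.symm
    rcases hw' with he | he
    · exact ⟨B₀, Subtype.ext hbb, rfl, Subtype.ext he, Or.inl rfl⟩
    · refine ⟨B₀ * Q, ?_, by rw [map_mul, hfQ, mul_one], ?_,
        Or.inr (by rw [mul_assoc, hQQ, mul_one])⟩
      · rw [mul_assoc, ← mul_assoc Q, ← hBQ.eq, mul_assoc, hQQ, mul_one]
        exact Subtype.ext hbb
      · rw [← mul_assoc, (hAQ.mul_left hBQ).mul_pow, show (A₀ * B₀) ^ 3 = Q from Subtype.ext he,
          pow_succ, pow_two, hQQ, one_mul, hQQ]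
  obtain ⟨T, hT, hNT, hTeq⟩ := h.exists_complement htt hft hcube
  have hA0T : A₀ ∈ T := hTeq ▸ Subgroup.subset_closure (Set.mem_insert _ _)
  have htT : t ∈ T := hTeq ▸ Subgroup.subset_closure (Set.mem_insert_of_mem _ rfl)
  set N := Subgroup.closure ({P * Q, Q * V} : Set A) with hN
  have hn1 : P * Q ∈ N := Subgroup.subset_closure (Set.mem_insert _ _)
  have hn2 : Q * V ∈ N := Subgroup.subset_closure (Set.mem_insert_of_mem _ rfl)
  have hNker : N ≤ f.ker := by
    rw [hN, Subgroup.closure_le]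
    rintro _ (rfl | rfl)
    · show f (P * Q) = 1
      rw [map_mul, hfP, hfQ, one_mul]
    · show f (Q * V) = 1
      rw [map_mul, hfQ, hfV, one_mul]
  have hTN : T ≤ Subgroup.normalizer (N : Set A) := by
    have hgen : ∀ u : A, u * u = 1 → u * (P * Q) * u ∈ N → u * (Q * V) * u ∈ N →
        u ∈ Subgroup.normalizer (N : Set A) := fun u hu h1 h2 =>
      mem_normalizer_closure (by
        rw [inv_eq_of_mul_eq_one_right hu]
        rintro _ (rfl | rfl)
        · exact h1
        · exact h2)
    have hmid : (P * Q) * (Q * V) = P * V := by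
      rw [mul_assoc, ← mul_assoc Q Q, hQQ, one_mul]
    rw [hTeq, Subgroup.closure_le]
    rintro z (hz | hz) <;> rw [hz]
    · refine hgen _ (Subtype.ext haa) ?_ ?_
      · rw [show A₀ * (P * Q) * A₀ = P * Q from Subtype.ext (hfix haa (hap.mul_right haq))]
        exact hn1
      · rw [show A₀ * (Q * V) * A₀ = (P * Q) * (Q * V) from ?_]
        · exact N.mul_mem hn1 hn2
        · rw [hmid]
          refine Subtype.ext ?_
          show a * (q * v) * a = p * v
          rw [hhom q v haa, hfix haa haq, hav, ← mul_assoc, ← mul_assoc, ← hpq.eq,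
            mul_assoc p q q, hqq, mul_one]
    · have hQn : ∀ n : A, Commute Q n → ∀ u : A, Commute u Q → (u * Q) * n * (u * Q) = u * n * u :=
        fun n hn u hu => by
          rw [mul_assoc u Q n, hn.eq, mul_assoc u (n * Q), mul_assoc n Q, ← mul_assoc Q u,
            ← hu.eq, mul_assoc u Q Q, hQQ, mul_one, ← mul_assoc]
      have hB1 : B₀ * (P * Q) * B₀ = (P * Q) * (Q * V) * 1 → B₀ * (P * Q) * B₀ ∈ N := fun e => by
        rw [e, mul_one]; exact N.mul_mem hn1 hn2
      have hb1 : B₀ * (P * Q) * B₀ ∈ N := hB1 (by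
        rw [mul_one, hmid]
        refine Subtype.ext ?_
        show b * (p * q) * b = p * v
        rw [hhom p q hbb, hbp, hfix hbb hbq, mul_assoc p, ← hqv.symm.eq, mul_assoc, hqq, mul_one])
      have hb2 : B₀ * (Q * V) * B₀ ∈ N := by
        rw [show B₀ * (Q * V) * B₀ = Q * V from Subtype.ext (hfix hbb (hbq.mul_right hbv))]
        exact hn2
      have hPQ : Commute Q (P * Q) := Commute.mul_right (Subtype.ext hpq.eq.symm) (Commute.refl Q)
      have hQV : Commute Q (Q * V) := (Commute.refl Q).mul_right (Subtype.ext hqv.eq)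
      refine hgen _ htt ?_ ?_
      · rcases hBt with he | he
        · rwa [← he]
        · have htB : t = B₀ * Q := by rw [he, mul_assoc, hQQ, mul_one]
          rwa [htB, hQn _ hPQ _ hBQ]
      · rcases hBt with he | he
        · rwa [← he]
        · have htB : t = B₀ * Q := by rw [he, mul_assoc, hQQ, mul_one]
          rwa [htB, hQn _ hQV _ hBQ]
  set H := N ⊔ T with hH
  set Z := Subgroup.zpowers Q with hZ
  have hZ2 : Nat.card Z = 2 := by
    rw [Nat.card_zpowers, orderOf_eq_prime (by rw [pow_two, hQQ]) hQ1]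
  have hgenA : ∀ j (hj : j ≤ 4), h.el j hj ∈ H ⊔ Z := by
    have hQm : Q ∈ H ⊔ Z := Subgroup.mem_sup_right (Subgroup.mem_zpowers Q)
    have hNm : ∀ n ∈ N, n ∈ H ⊔ Z := fun n hn =>
      Subgroup.mem_sup_left (Subgroup.mem_sup_left hn)
    have hTm : ∀ n ∈ T, n ∈ H ⊔ Z := fun n hn =>
      Subgroup.mem_sup_left (Subgroup.mem_sup_right hn)
    intro j hj
    interval_cases j
    · exact hTm _ hA0T
    · have := (H ⊔ Z).mul_mem (hNm _ hn1) hQm
      rwa [mul_assoc, hQQ, mul_one] at this
    · exact hQm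
    · have := (H ⊔ Z).mul_mem hQm (hNm _ hn2)
      rwa [← mul_assoc, hQQ, one_mul] at this
    · rcases hBt with he | he
      · show B₀ ∈ _
        rw [he]; exact hTm _ htT
      · show B₀ ∈ _
        rw [he]; exact (H ⊔ Z).mul_mem (hTm _ htT) hQm
  have htop : H ⊔ Z = ⊤ := by
    rw [eq_top_iff]
    rintro ⟨z, hz⟩ -
    have hle : seg g x 0 (4 + 1) ≤ (H ⊔ Z).map A.subtype := seg_le fun j _ hj =>
      ⟨_, hgenA j (by omega), rfl⟩
    obtain ⟨z', hz', hze⟩ := hle (h.seg_eq_A.ge hz)
    rwa [show (⟨z, hz⟩ : A) = z' from Subtype.ext hze.symm]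
  have hQc : ∀ z : A, Commute Q z := by
    intro z
    refine Subtype.ext (commute_seg (i := 0) (k := 4 + 1)
      (fun j _ _ => h.commute_of_lt (by omega) (by omega)) (h.seg_eq_A.ge z.2)).eq
  haveI hZn : Z.Normal := ⟨fun z hz k => by
    obtain ⟨n, rfl⟩ := hz
    show k * Q ^ n * k⁻¹ ∈ Z
    rw [← ((hQc k).zpow_left n).eq, mul_inv_cancel_right]
    exact Subgroup.zpow_mem _ (Subgroup.mem_zpowers Q) n⟩
  have hN4 : Nat.card N ≤ 4 := by
    have e : N = Subgroup.zpowers (P * Q) ⊔ Subgroup.zpowers (Q * V) := by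
      rw [hN, Set.insert_eq, Subgroup.closure_union, ← Subgroup.zpowers_eq_closure,
        ← Subgroup.zpowers_eq_closure]
    have ho : ∀ z : A, f z = 1 → Nat.card (Subgroup.zpowers z) ∣ 2 := fun z hz => by
      rw [Nat.card_zpowers]
      exact orderOf_dvd_of_pow_eq_one (Subtype.ext (by
        show ((z ^ 2 : A) : G) = 1
        rw [pow_two]
        exact h.seg_sq (k := 3) (by omega) (h.mem_seg_of_f hz)))
    have hc : Commute (P * Q) (Q * V) := Subtype.ext
      ((hpq.mul_right hpv).mul_left ((Commute.refl q).mul_right hqv)).eq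
    have hle : Subgroup.zpowers (Q * V) ≤
        Subgroup.normalizer (Subgroup.zpowers (P * Q) : Set A) := by
      refine Subgroup.zpowers_le.2 (Subgroup.centralizer_le_normalizer _
        (Subgroup.mem_centralizer_iff.2 fun z hz => ?_))
      obtain ⟨n, rfl⟩ := hz
      exact (hc.zpow_left n).eq
    rw [e]
    exact Nat.le_of_dvd (by norm_num) ((CfsgLib.Components.card_sup_dvd_mul hle).trans
      (mul_dvd_mul (ho _ (by rw [map_mul, hfP, hfQ, one_mul]))
        (ho _ (by rw [map_mul, hfQ, hfV, one_mul]))))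
  have hH24 : Nat.card H = 24 := by
    have h1 : Nat.card A ∣ Nat.card Z * Nat.card H :=
      CfsgLib.Components.card_dvd_mul_of_sup_eq_top (A := Z) (B := H) (by rwa [sup_comm])
    have h2 : Nat.card H ∣ Nat.card N * Nat.card T := CfsgLib.Components.card_sup_dvd_mul hTN
    rw [hZ2, h.cardA] at h1
    rw [hT] at h2
    have h3 : 24 ≤ Nat.card H := Nat.le_of_dvd Nat.card_pos
      (Nat.dvd_of_mul_dvd_mul_left (by norm_num : 0 < 2) (by norm_num at h1 ⊢; exact h1))
    have h4 : Nat.card H ≤ Nat.card N * 6 := Nat.le_of_dvd (by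
      have : 0 < Nat.card N := Nat.card_pos
      omega) h2
    omega
  have hQH : Q ∉ H := fun hm => by
    have : H = ⊤ := top_le_iff.1 (htop ▸ sup_le le_rfl (Subgroup.zpowers_le.2 hm))
    rw [this, Subgroup.card_top, h.cardA] at hH24
    norm_num at hH24
  -- `H ≅ S₄`
  have hHn : H ≤ Subgroup.normalizer (N : Set A) := sup_le Subgroup.le_normalizer hTN
  haveI : (N.subgroupOf H).Normal :=
    (Subgroup.normal_subgroupOf_iff_le_normalizer (le_sup_left : N ≤ H)).2 hHn
  obtain ⟨eH⟩ : Nonempty (H ≃* Equiv.Perm (Fin 4)) := by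
    refine equiv_perm_four (H := H) (N := N.subgroupOf H) (T := T.subgroupOf H)
      (s := ⟨A₀, Subgroup.mem_sup_right hA0T⟩)
      (y := ⟨A₀ * t, Subgroup.mem_sup_right (T.mul_mem hA0T htT)⟩)
      (n₁ := ⟨Q * V, Subgroup.mem_sup_left hn2⟩) (n₂ := ⟨P * Q, Subgroup.mem_sup_left hn1⟩)
      hH24 ?_ ?_ hA0T (T.mul_mem hA0T htT) (Subtype.ext (Subtype.ext haa)) (Subtype.ext hcube)
      hn2 hn1 ?_ ?_
    · rw [Nat.card_congr (Subgroup.subgroupOfEquivOfLe (le_sup_right : T ≤ H)).toEquiv, hT]
    · rw [eq_bot_iff]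
      rintro z ⟨hz1, hz2⟩
      rw [Subgroup.mem_bot]
      exact Subtype.ext (Subgroup.mem_bot.1 (hNT ▸ ⟨hNker hz1, hz2⟩))
    · intro hc
      have hc0 : Commute (q * v) a := congrArg Subtype.val (congrArg Subtype.val hc.eq)
      have h5 := (haq.symm.inv_left).mul_left hc0
      rw [← mul_assoc, inv_mul_cancel, one_mul] at h5
      exact hnav h5.symm
    · intro hc
      have hc0 : Commute (P * Q) (A₀ * t) := congrArg Subtype.val hc.eq
      have hPA : Commute (P * Q) A₀ := Subtype.ext (hap.mul_right haq).eq.symm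
      have h5 := hPA.inv_right.mul_right hc0
      rw [← mul_assoc, inv_mul_cancel, one_mul] at h5
      have hPB : Commute (P * Q) B₀ := by
        rcases hBt with he | he
        · rwa [he]
        · rw [he]; exact h5.mul_right (hQc _).symm
      have h6 : Commute p b := by
        have h7 : Commute (p * q) b := congrArg Subtype.val hPB.eq
        have h8 := h7.mul_left (hbq.symm.inv_left)
        rwa [mul_assoc, mul_inv_cancel, mul_one] at h8
      exact hnpb h6
  -- `A = H × Z`
  haveI : Fact (Nat.Prime 2) := ⟨Nat.prime_two⟩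
  let eZ : Z ≃* Multiplicative (ZMod 2) := mulEquivOfPrimeCardEq (p := 2) hZ2 (by simp)
  let F : H × Z →* A := MonoidHom.noncommCoprod H.subtype Z.subtype fun u z => by
    obtain ⟨n, hn⟩ := z.2
    show Commute (u : A) (z : A)
    rw [← hn]
    exact ((hQc _).zpow_left n).symm
  have hF : Function.Bijective F := by
    refine (Nat.bijective_iff_injective_and_card _).2 ⟨?_, ?_⟩
    · rw [injective_iff_map_eq_one]
      rintro ⟨u, z⟩ he
      have he' : (u : A) * z = 1 := he
      have hzH : (z : A) ∈ H := by rw [eq_inv_of_mul_eq_one_right he']; exact H.inv_mem u.2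
      obtain ⟨n, hn⟩ := z.2
      rcases Int.even_or_odd n with ⟨k, rfl⟩ | ⟨k, rfl⟩
      · have hz1 : (z : A) = 1 := by
          rw [← hn]; simp only [← two_mul, zpow_mul, zpow_two, hQQ, one_zpow]
        rw [hz1, mul_one] at he'
        exact Prod.ext (Subtype.ext he') (Subtype.ext hz1)
      · exfalso
        apply hQH
        rw [← hn] at hzH
        simpa only [zpow_add, zpow_mul, zpow_two, hQQ, one_zpow, one_mul, zpow_one] using hzH
    · rw [Nat.card_prod, hH24, hZ2, h.cardA]; norm_num
  exact ⟨(MulEquiv.ofBijective F hF).symm.trans (eH.prodCongr eZ)⟩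

theorem not_six (hr : r = 6) : False := by
  subst hr
  have hlt : h.lam < 6 := by have := h.upper; omega
  have hl : h.lam = 4 := by
    obtain ⟨i, m, hi, hm, hl1, hu, -⟩ := h.support hlt
    have := h.upper
    omega
  have hn : ∀ i, ¬ Commute (xs g x i) (xs g x (i + 4)) := fun i => by
    simpa [hl] using h.not_commute i
  have hcom : ∀ i j, i < j + 4 → j < i + 4 → Commute (xs g x i) (xs g x j) :=
    fun i j h1 h2 => h.commute_of_lt (by omega) (by omega)
  have hc : xs g x 0 * xs g x 4 * xs g x 0 * xs g x 4 = xs g x 2 := by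
    obtain ⟨i, m, hi, hm, hl1, hu, hmem⟩ := h.support hlt
    rw [hl] at hmem
    obtain ⟨rfl, rfl⟩ : i = 2 ∧ m = 1 := by omega
    rcases seg_one_cases h.sq hmem with he | he
    · exfalso
      apply hn 0
      unfold Commute SemiconjBy
      calc xs g x 0 * xs g x 4
          = xs g x 0 * xs g x 4 * (xs g x 0 * xs g x 4 * xs g x 0 * xs g x 4)⁻¹ := by
            rw [he, inv_one, mul_one]
        _ = (xs g x 4)⁻¹ * (xs g x 0)⁻¹ := by group
        _ = xs g x 4 * xs g x 0 := by rw [xs_inv h.sq, xs_inv h.sq]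
    · exact he
  set w := xs g x 0 * xs g x 5 * xs g x 0 * xs g x 5 with hw
  have hwm : w ∈ seg g x 1 4 := h.comm_mem 0 (d := 5) (by omega) (by omega)
  have hwinv : w⁻¹ = w := inv_eq_of_mul_eq_one_right (h.seg_sq (by omega) hwm)
  have hw0 : Commute (xs g x 0) w := by
    unfold Commute SemiconjBy
    conv_rhs => rw [← hwinv]
    rw [hw, mul_inv_rev, mul_inv_rev, mul_inv_rev, xs_inv h.sq, xs_inv h.sq]
    simp only [mul_assoc, xs_mul_self h.sq, mul_one]
    rw [← mul_assoc (xs g x 0), xs_mul_self h.sq, one_mul]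
  have hw5 : Commute w (xs g x 5) := by
    unfold Commute SemiconjBy
    conv_rhs => rw [← hwinv]
    rw [hw, mul_inv_rev, mul_inv_rev, mul_inv_rev, xs_inv h.sq, xs_inv h.sq]
    simp only [mul_assoc, xs_mul_self h.sq, mul_one]
    rw [← mul_assoc (xs g x 5) (xs g x 5), xs_mul_self h.sq, one_mul]
  have hw13 : w ∈ seg g x 1 3 := by
    rcases seg_cases_right (m := 3) h.sq
      (fun j _ _ => hcom _ _ (by omega) (by omega)) hwm with hm | hm
    · exact hm
    · exfalso
      have h5 := (commute_seg (fun j _ _ => hcom 0 j (by omega) (by omega)) hm).mul_right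
        hw0.inv_right
      rw [mul_assoc, mul_inv_cancel, mul_one] at h5
      exact hn 0 h5
  have hw22 : w ∈ seg g x 2 2 := by
    rcases seg_cases_left (m := 2) h.sq
      (fun j _ _ => hcom _ _ (by omega) (by omega)) hw13 with hm | hm
    · exact hm
    · exfalso
      have h5 := (commute_seg (fun j _ _ => hcom 5 j (by omega) (by omega)) hm).mul_right
        hw5.symm.inv_right
      rw [mul_assoc, mul_inv_cancel, mul_one] at h5
      exact hn 1 h5.symm
  have hsub : ∀ a b : ℕ, a ≤ 2 → 4 ≤ a + b → ∀ z ∈ seg g x 2 2, z ∈ seg g x a b :=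
    fun a b h1 h2 => seg_le fun j h3 h4 => xs_mem_seg (by omega) (by omega)
  -- the two rewriting forms of a commutator
  have hL : ∀ i j, xs g x i * xs g x j * (xs g x i)⁻¹ =
      (xs g x i * xs g x j * xs g x i * xs g x j) * xs g x j := fun i j => by
    rw [xs_inv h.sq, mul_assoc _ (xs g x j) (xs g x j), xs_mul_self h.sq, mul_one]
  have hR : ∀ i j, xs g x j * xs g x i * (xs g x j)⁻¹ =
      xs g x i * (xs g x i * xs g x j * xs g x i * xs g x j) := fun i j => by
    rw [xs_inv h.sq, ← mul_assoc, ← mul_assoc, ← mul_assoc, xs_mul_self h.sq, one_mul]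
  have hshift : ∀ n i j k, xs g x i * xs g x j * xs g x i * xs g x j = xs g x k →
      xs g x (n + i) * xs g x (n + j) * xs g x (n + i) * xs g x (n + j) = xs g x (n + k) := by
    intro n i j k he
    rw [← conj_xs n i, ← conj_xs n j, ← map_mul, ← map_mul, ← map_mul, he, conj_xs]
  have hfix : ∀ i j, i < j + 4 → j < i + 4 →
      xs g x i * xs g x j * (xs g x i)⁻¹ = xs g x j := fun i j h1 h2 => by
    rw [(hcom i j h1 h2).eq, mul_inv_cancel_right]
  have hw' : xs g x 1 * xs g x 6 * xs g x 1 * xs g x 6 ∈ seg g x 3 2 := by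
    have := Subgroup.mem_map_of_mem (MulAut.conj (g⁻¹ ^ 1)).toMonoidHom hw22
    rw [map_seg, MulEquiv.coe_toMonoidHom, hw] at this
    simpa only [map_mul, conj_xs] using this
  have hE1 : ∀ i, i ≤ 6 → xs g x i ∈ Subgroup.normalizer (seg g x 1 4 : Set G) := by
    intro i hi
    refine mem_normalizer_seg fun j h1 h2 => ?_
    have hj : xs g x j ∈ seg g x 1 4 := xs_mem_seg h1 h2
    by_cases hfar : i < j + 4 ∧ j < i + 4
    · rw [hfix i j hfar.1 hfar.2]; exact hj
    · obtain ⟨rfl, rfl⟩ | ⟨rfl, rfl⟩ | ⟨rfl, rfl⟩ | ⟨rfl, rfl⟩ :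
          (i = 0 ∧ j = 4) ∨ (i = 5 ∧ j = 1) ∨ (i = 6 ∧ j = 1) ∨ (i = 6 ∧ j = 2) := by omega
      · rw [hL, hc]; exact Subgroup.mul_mem _ (xs_mem_seg (by omega) (by omega)) hj
      · rw [hR, hshift 1 0 4 2 hc]; exact Subgroup.mul_mem _ hj (xs_mem_seg (by omega) (by omega))
      · rw [hR]
        exact Subgroup.mul_mem _ hj
          ((seg_le fun k h3 h4 => xs_mem_seg (by omega) (by omega) : seg g x 3 2 ≤ _) hw')
      · rw [hR, hshift 2 0 4 2 hc]; exact Subgroup.mul_mem _ hj (xs_mem_seg (by omega) (by omega))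
  refine h.not_normal_two (i := 2) (k := 4) (by omega) (by omega) (by omega) fun i hi => ?_
  rcases Nat.lt_or_eq_of_le hi with hi' | rfl
  · refine mem_normalizer_seg fun j h1 h2 => ?_
    have hj : xs g x j ∈ seg g x 2 4 := xs_mem_seg h1 h2
    by_cases hfar : i < j + 4 ∧ j < i + 4
    · rw [hfix i j hfar.1 hfar.2]; exact hj
    · obtain ⟨rfl, rfl⟩ | ⟨rfl, rfl⟩ | ⟨rfl, rfl⟩ | ⟨rfl, rfl⟩ :
          (i = 0 ∧ j = 4) ∨ (i = 0 ∧ j = 5) ∨ (i = 1 ∧ j = 5) ∨ (i = 6 ∧ j = 2) := by omega
      · rw [hL, hc]; exact Subgroup.mul_mem _ (xs_mem_seg (by omega) (by omega)) hj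
      · rw [hL]; exact Subgroup.mul_mem _ (hsub 2 4 le_rfl (by omega) _ hw22) hj
      · rw [hL, hshift 1 0 4 2 hc]; exact Subgroup.mul_mem _ (xs_mem_seg (by omega) (by omega)) hj
      · rw [hR, hshift 2 0 4 2 hc]; exact Subgroup.mul_mem _ hj (xs_mem_seg (by omega) (by omega))
  · refine mem_normalizer_seg fun j h1 h2 => ?_
    have h6 := (Subgroup.mem_normalizer_iff.1 (hE1 6 le_rfl) (xs g x (j - 1))).1
      (xs_mem_seg (by omega) (by omega))
    have h7 := Subgroup.mem_map_of_mem (MulAut.conj (g⁻¹ ^ 1)).toMonoidHom h6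
    rw [map_seg, MulEquiv.coe_toMonoidHom] at h7
    simp only [map_mul, map_inv, conj_xs] at h7
    rwa [show 1 + (j - 1) = j by omega] at h7

end Chain

end CfsgLib.CubicChain
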