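import Mathlib

/-!
# Permutations of `2`-power order in a unique Sylow `2`-subgroup of the symmetric group

* `unique_sylow_iff`: exactly when there are at most two fixed points and the non-trivial cycles
  have different lengths.
-/

set_option autoImplicit false
set_option linter.all false

namespace CfsgLib.Perm.UniqueSylowTwo

open Equiv Equiv.Perm MulAction

variable {α : Type*}

/-- At most two fixed points, and moved points of equal period lie in one cycle. -/
def Separated (x : Perm α) : Prop :=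
  (∀ a b c : α, x a = a → x b = b → x c = c → a = b ∨ a = c ∨ b = c) ∧
    ∀ a b : α, x a ≠ a → x b ≠ b → period x a = period x b → x.SameCycle a b

theorem zpow_fix (x : Perm α) (a : α) (k : ℤ) : (x ^ k) a = a ↔ (period x a : ℤ) ∣ k :=
  zpow_smul_eq_iff_period_dvd (g := x) (a := a) (j := k)

theorem pow_fix (x : Perm α) (a : α) (k : ℕ) : (x ^ k) a = a ↔ period x a ∣ k :=
  pow_smul_eq_iff_period_dvd (m := x) (a := a) (n := k)

theorem period_even (x : Perm α) (hx : ∃ k : ℕ, orderOf x = 2 ^ k) {a : α} (ha : x a ≠ a) :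
    ∃ m : ℕ, 0 < m ∧ period x a = 2 * m := by
  obtain ⟨k, hk⟩ := hx
  obtain ⟨i, -, hi⟩ := (Nat.dvd_prime_pow Nat.prime_two).1 (hk ▸ period_dvd_orderOf x a)
  rcases Nat.eq_zero_or_pos i with rfl | hi0
  · refine absurd ?_ ha
    have := (pow_fix x a 1).2 (by rw [hi, pow_zero])
    rwa [pow_one] at this
  · exact ⟨2 ^ (i - 1), Nat.two_pow_pos _, by rw [hi, ← pow_succ']; congr 1; omega⟩

theorem commute_zpow {x z : Perm α} (h : Commute z x) (k : ℤ) (a : α) :
    (x ^ k) (z a) = z ((x ^ k) a) :=
  (congrArg (fun f : Perm α => f a) (h.zpow_right k).eq).symm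

theorem zpow_two_mul (x : Perm α) (k : ℤ) (a : α) : (x ^ (2 * k)) a = (x ^ k) ((x ^ k) a) := by
  rw [two_mul, zpow_add]; rfl

/-- A point at half a period of a moved point is the antipodal one. -/
theorem eq_antipode (x : Perm α) (hx : ∃ k : ℕ, orderOf x = 2 ^ k) {a : α} (ha : x a ≠ a) {i j : ℤ}
    (hi : (x ^ (2 * i)) a = a) (hi' : (x ^ i) a ≠ a) (hj : (x ^ (2 * j)) a = a)
    (hj' : (x ^ j) a ≠ a) : (x ^ i) a = (x ^ j) a := by
  obtain ⟨m, hm, hL⟩ := period_even x hx ha
  rw [zpow_fix, hL, Nat.cast_mul, Nat.cast_ofNat] at hi hj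
  rw [Ne, zpow_fix, hL, Nat.cast_mul, Nat.cast_ofNat] at hi' hj'
  obtain ⟨u, hu⟩ := hi
  obtain ⟨w, hw⟩ := hj
  have hiu : i = (m : ℤ) * u := by linarith
  have hjw : j = (m : ℤ) * w := by linarith
  have huo : ¬ (2 : ℤ) ∣ u := fun ⟨t, ht⟩ => hi' ⟨t, by rw [hiu, ht]; ring⟩
  have hwo : ¬ (2 : ℤ) ∣ w := fun ⟨t, ht⟩ => hj' ⟨t, by rw [hjw, ht]; ring⟩
  obtain ⟨t, ht⟩ : (2 : ℤ) ∣ u - w := by omega
  have : (x ^ (i - j)) a = a := by
    rw [zpow_fix, hL, Nat.cast_mul, Nat.cast_ofNat]
    exact ⟨t, by rw [hiu, hjw, ← mul_sub, ht]; ring⟩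
  calc (x ^ i) a = (x ^ j) ((x ^ (i - j)) a) := by rw [← Perm.mul_apply, ← zpow_add]; congr 2; ring
    _ = (x ^ j) a := by rw [this]

theorem period_commute {x z : Perm α} (hz : Commute z x) (a : α) : period x (z a) = period x a := by
  refine Nat.dvd_antisymm ?_ ?_
  · rw [← pow_fix]
    have := commute_zpow hz (period x a) a
    rw [zpow_natCast] at this
    rw [this, (pow_fix x a _).2 dvd_rfl]
  · rw [← pow_fix]
    refine z.injective ?_
    have := commute_zpow hz (period x (z a)) a
    rw [zpow_natCast] at this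
    rw [← this, (pow_fix x (z a) _).2 dvd_rfl]

/-- The pairing by a fixed point free involution commuting with `x` is forced. -/
theorem pairing {x z : Perm α} (hx : ∃ k : ℕ, orderOf x = 2 ^ k) (hs : Separated x)
    (hz : Commute z x) (hz2 : ∀ a, z (z a) = a) (hz0 : ∀ a, z a ≠ a) {a : α} (ha : x a ≠ a) :
    ∀ k : ℤ, (x ^ (2 * k)) a = a → (x ^ k) a ≠ a → (x ^ k) a = z a := by
  have hza : x (z a) ≠ z a := fun h => ha (z.injective (by
    rw [← h]; exact congrArg (fun f : Perm α => f a) hz.eq))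
  obtain ⟨i, hi⟩ := hs.2 a (z a) ha hza (period_commute hz a).symm
  intro k hk hk'
  rw [← hi]
  refine eq_antipode x hx ha hk hk' ?_ (hi.symm ▸ hz0 a)
  rw [zpow_two_mul, hi, commute_zpow hz, hi, hz2]

theorem pairing_eq {x z z' : Perm α} (hx : ∃ k : ℕ, orderOf x = 2 ^ k) (hs : Separated x)
    (hz : Commute z x) (hz2 : ∀ a, z (z a) = a) (hz0 : ∀ a, z a ≠ a)
    (hz' : Commute z' x) (hz2' : ∀ a, z' (z' a) = a) (hz0' : ∀ a, z' a ≠ a) : z = z' := by
  refine Equiv.ext fun a => ?_
  by_cases ha : x a = a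
  · have h1 : x (z a) = z a := by
      have := commute_zpow hz 1 a
      rw [zpow_one, ha] at this
      exact this
    have h2 : x (z' a) = z' a := by
      have := commute_zpow hz' 1 a
      rw [zpow_one, ha] at this
      exact this
    rcases hs.1 a (z a) (z' a) ha h1 h2 with h | h | h
    · exact absurd h.symm (hz0 a)
    · exact absurd h.symm (hz0' a)
    · exact h
  · have hza : x (z' a) ≠ z' a := fun h => ha (z'.injective (by
      rw [← h]; exact congrArg (fun f : Perm α => f a) hz'.eq))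
    obtain ⟨i, hi⟩ := hs.2 a (z' a) ha hza (period_commute hz' a).symm
    have := pairing hx hs hz hz2 hz0 ha i (by rw [zpow_two_mul, hi, commute_zpow hz', hi, hz2'])
      (hi.symm ▸ hz0' a)
    rw [← this, hi]

theorem mem_of_commute [Finite α] (P : Sylow 2 (Perm α)) {t : Perm α} (ht : t ^ 2 = 1)
    (hc : ∀ g ∈ (P : Subgroup (Perm α)), g * t = t * g) : t ∈ (P : Subgroup (Perm α)) := by
  haveI := Fact.mk Nat.prime_two
  have hT : IsPGroup 2 (Subgroup.zpowers t) := by
    rintro ⟨_, k, rfl⟩
    refine ⟨1, Subtype.ext ?_⟩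
    show (t ^ k) ^ (2 ^ 1) = 1
    rw [pow_one, ← zpow_natCast, ← zpow_mul, mul_comm, zpow_mul, zpow_natCast, ht, one_zpow]
  have hle : Subgroup.zpowers t ≤ Subgroup.normalizer ((P : Subgroup (Perm α)) : Set (Perm α)) := by
    rw [Subgroup.zpowers_le, Subgroup.mem_normalizer_iff]
    refine fun g => ⟨fun hg => by rw [← hc g hg, mul_inv_cancel_right]; exact hg, fun hg => ?_⟩
    have h1 := hc _ hg
    have h2 : t * g * t⁻¹ = g := by
      calc t * g * t⁻¹ = t⁻¹ * (t * g * t⁻¹ * t) := by rw [h1]; group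
        _ = g := by group
    rwa [h2] at hg
  exact P.is_maximal' (hT.to_sup_of_normal_right' P.isPGroup' hle) le_sup_right ▸
    Subgroup.mem_sup_left (Subgroup.mem_zpowers t)

theorem fixed_eq [Finite α] (P : Sylow 2 (Perm α)) {a b : α}
    (ha : ∀ g ∈ (P : Subgroup (Perm α)), g a = a) (hb : ∀ g ∈ (P : Subgroup (Perm α)), g b = b) :
    a = b := by
  classical
  by_contra hab
  have h := mem_of_commute P (t := swap a b) (by rw [sq, swap_mul_self]) fun g hg => by
    rw [mul_swap_eq_swap_mul, ha g hg, hb g hg]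
  exact hab (by have := ha _ h; rwa [swap_apply_left, eq_comm] at this)

/-- A Sylow `2`-subgroup without fixed points centralises a fixed point free involution. -/
theorem exists_involution [Finite α] (P : Sylow 2 (Perm α))
    (hfix : ∀ a : α, ∃ g ∈ (P : Subgroup (Perm α)), g a ≠ a) :
    ∃ z : Perm α, (∀ a, z (z a) = a) ∧ (∀ a, z a ≠ a) ∧
      ∀ g ∈ (P : Subgroup (Perm α)), Commute z g := by
  classical
  haveI := Fact.mk Nat.prime_two
  have key : ∀ O : orbitRel.Quotient (P : Subgroup (Perm α)) α, ∃ c : (P : Subgroup (Perm α)),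
      ∀ b : α, Quotient.mk _ b = O → c • b ≠ b ∧ c • c • b = b ∧
        ∀ g : (P : Subgroup (Perm α)), g • c • b = c • g • b := by
    intro O
    induction O using Quotient.inductionOn with
    | h a₀ =>
    let f := MulAction.toPermHom (P : Subgroup (Perm α)) (orbit (P : Subgroup (Perm α)) a₀)
    have hP : IsPGroup 2 f.range := P.isPGroup'.of_surjective f.rangeRestrict
      f.rangeRestrict_surjective
    haveI : Nontrivial f.range := by
      obtain ⟨g, hg, hga⟩ := hfix a₀
      refine ⟨⟨⟨f ⟨g, hg⟩, _, rfl⟩, 1, fun h => hga ?_⟩⟩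
      exact congrArg Subtype.val (congrArg (fun w : f.range => (w : Perm (orbit (P : Subgroup (Perm α)) a₀)) ⟨a₀, mem_orbit_self a₀⟩) h)
    haveI := hP.center_nontrivial
    have hd : 2 ∣ Nat.card (Subgroup.center f.range) := by
      obtain ⟨i, hi⟩ := IsPGroup.iff_card.1 (hP.to_subgroup (Subgroup.center f.range))
      have := Finite.one_lt_card (α := Subgroup.center f.range)
      rw [hi] at this ⊢
      exact dvd_pow_self 2 (by rintro rfl; simp at this)
    obtain ⟨ζ, hζ⟩ := exists_prime_orderOf_dvd_card' (G := Subgroup.center f.range) 2 hd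
    obtain ⟨c, hc⟩ := (ζ : f.range).2
    have hmem : ∀ b : α, Quotient.mk (orbitRel (P : Subgroup (Perm α)) α) b = Quotient.mk _ a₀ →
        b ∈ orbit (P : Subgroup (Perm α)) a₀ := fun b hb => orbitRel_apply.1 (Quotient.exact hb)
    have hcomm : ∀ (g : (P : Subgroup (Perm α))) (b : orbit (P : Subgroup (Perm α)) a₀),
        g • c • b = c • g • b := by
      intro g b
      have h := congrArg (fun w : f.range => (w : Perm _) b)
        (Subgroup.mem_center_iff.1 ζ.2 ⟨f g, g, rfl⟩)
      have h' : f g (((ζ : f.range) : Perm _) b) = ((ζ : f.range) : Perm _) (f g b) := h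
      rw [← hc] at h'
      exact h'
    have hcc : ∀ b : orbit (P : Subgroup (Perm α)) a₀, c • c • b = b := by
      intro b
      have h := congrArg (fun w : Subgroup.center f.range => ((w : f.range) : Perm _) b)
        (show ζ * ζ = 1 by rw [← sq]; exact orderOf_dvd_iff_pow_eq_one.1 (hζ.dvd))
      have h' : ((ζ : f.range) : Perm _) (((ζ : f.range) : Perm _) b) = b := h
      rw [← hc] at h'
      exact h'
    refine ⟨c, fun b hb => ⟨fun h => ?_, congrArg Subtype.val (hcc ⟨b, hmem b hb⟩),
      fun g => congrArg Subtype.val (hcomm g ⟨b, hmem b hb⟩)⟩⟩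
    have hall : ∀ b' : orbit (P : Subgroup (Perm α)) a₀, c • b' = b' := by
      intro b'
      obtain ⟨g, hg⟩ := exists_smul_eq (P : Subgroup (Perm α))
        (⟨b, hmem b hb⟩ : orbit (P : Subgroup (Perm α)) a₀) b'
      rw [← hg, ← hcomm, show c • (⟨b, hmem b hb⟩ : orbit (P : Subgroup (Perm α)) a₀) = ⟨b, hmem b hb⟩
        from Subtype.ext h]
    have hf1 : f c = 1 := Equiv.ext fun b' => hall b'
    have : ζ = 1 := Subtype.ext (Subtype.ext (hc.symm.trans hf1))
    rw [this, orderOf_one] at hζ
    exact absurd hζ (by norm_num)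
  choose c hc using key
  let z₀ : α → α := fun a => c (Quotient.mk _ a) • a
  have hmk : ∀ (g : (P : Subgroup (Perm α))) (a : α),
      Quotient.mk (orbitRel (P : Subgroup (Perm α)) α) (g • a) = Quotient.mk _ a := fun g a =>
    Quotient.sound (orbitRel_apply.2 (mem_orbit a g))
  have hinv : ∀ a, z₀ (z₀ a) = a := fun a => by
    show c (Quotient.mk _ (c _ • a)) • c _ • a = a
    rw [hmk]
    exact (hc _ a rfl).2.1
  refine ⟨Function.Involutive.toPerm z₀ hinv, hinv, fun a => (hc _ a rfl).1, fun g hg => ?_⟩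
  refine Equiv.ext fun a => ?_
  show z₀ ((⟨g, hg⟩ : (P : Subgroup (Perm α))) • a) =
    (⟨g, hg⟩ : (P : Subgroup (Perm α))) • z₀ a
  show c (Quotient.mk _ (_ • a)) • _ = _
  rw [hmk]
  exact ((hc _ a rfl).2.2 _).symm

theorem sup_le_sylow [Finite α] {x : Perm α}
    (huniq : ∀ P Q : Sylow 2 (Perm α), x ∈ (P : Subgroup (Perm α)) → x ∈ (Q : Subgroup (Perm α)) → P = Q)
    {A B : Subgroup (Perm α)} (hA : IsPGroup 2 A) (hB : IsPGroup 2 B) (hxA : x ∈ A) (hxB : x ∈ B) :
    IsPGroup 2 (A ⊔ B : Subgroup (Perm α)) := by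
  obtain ⟨P, hP⟩ := hA.exists_le_sylow
  obtain ⟨Q, hQ⟩ := hB.exists_le_sylow
  obtain rfl := huniq P Q (hP hxA) (hQ hxB)
  exact P.isPGroup'.to_le (sup_le hP hQ)

theorem descend [Finite α] {β : Type*} [Finite β] {C : Subgroup (Perm α)} (φ : C →* Perm β)
    (hker : IsPGroup 2 φ.ker) {x : Perm α} (hxC : x ∈ C)
    (huniq : ∀ P Q : Sylow 2 (Perm β), φ ⟨x, hxC⟩ ∈ (P : Subgroup (Perm β)) →
      φ ⟨x, hxC⟩ ∈ (Q : Subgroup (Perm β)) → P = Q)
    (P Q : Sylow 2 (Perm α)) (hxP : x ∈ (P : Subgroup (Perm α))) (hxQ : x ∈ (Q : Subgroup (Perm α)))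
    (hP : (P : Subgroup (Perm α)) ≤ C) (hQ : (Q : Subgroup (Perm α)) ≤ C) : P = Q := by
  haveI := Fact.mk Nat.prime_two
  have hmap : ∀ R : Sylow 2 (Perm α), IsPGroup 2 (((R : Subgroup (Perm α)).subgroupOf C).map φ) :=
    fun R => (R.isPGroup'.comap_of_injective C.subtype C.subtype_injective).map φ
  have hT := ((sup_le_sylow huniq (hmap P) (hmap Q) (Subgroup.mem_map_of_mem φ hxP)
    (Subgroup.mem_map_of_mem φ hxQ)).comap_of_ker_isPGroup φ hker).map C.subtype
  have hle : ∀ R : Sylow 2 (Perm α), (R : Subgroup (Perm α)) ≤ C →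
      ((R : Subgroup (Perm α)).subgroupOf C).map φ ≤ ((P : Subgroup (Perm α)).subgroupOf C).map φ ⊔
        ((Q : Subgroup (Perm α)).subgroupOf C).map φ →
      (R : Subgroup (Perm α)) ≤ ((((P : Subgroup (Perm α)).subgroupOf C).map φ ⊔
        ((Q : Subgroup (Perm α)).subgroupOf C).map φ).comap φ).map C.subtype := fun R hR h g hg =>
    ⟨⟨g, hR hg⟩, h (Subgroup.mem_map_of_mem φ (hg : (⟨g, hR hg⟩ : C) ∈ _)), rfl⟩
  exact Sylow.ext ((P.is_maximal' hT (hle P hP le_sup_left)).symm.trans
    (Q.is_maximal' hT (hle Q hQ le_sup_right)))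

universe u

theorem unique_of_separated : ∀ (n : ℕ) (α : Type u) [Finite α], Nat.card α = n →
    ∀ x : Perm α, (∃ k : ℕ, orderOf x = 2 ^ k) → Separated x →
      ∀ P Q : Sylow 2 (Perm α), x ∈ (P : Subgroup (Perm α)) → x ∈ (Q : Subgroup (Perm α)) → P = Q := by
  classical
  haveI := Fact.mk Nat.prime_two
  intro n
  induction n using Nat.strong_induction_on with
  | _ n ih =>
  intro α _ hn x hx hs P Q hxP hxQ
  have hordφ : ∀ {C : Subgroup (Perm α)} (hxC : x ∈ C) {β : Type u} (φ : C →* Perm β),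
      ∃ k : ℕ, orderOf (φ ⟨x, hxC⟩) = 2 ^ k := by
    intro C hxC β φ
    obtain ⟨k, hk⟩ := hx
    have h1 : orderOf (⟨x, hxC⟩ : C) = 2 ^ k := by rw [Subgroup.orderOf_mk, hk]
    obtain ⟨i, -, hi⟩ := (Nat.dvd_prime_pow Nat.prime_two).1 (h1 ▸ orderOf_map_dvd φ ⟨x, hxC⟩)
    exact ⟨i, hi⟩
  rcases Nat.even_or_odd n with heven | hodd
  · -- pairs
    have hnofix : ∀ (R : Sylow 2 (Perm α)) (a : α), ∃ g ∈ (R : Subgroup (Perm α)), g a ≠ a := by
      intro R a
      by_contra hcon
      push Not at hcon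
      have hmod := R.isPGroup'.card_modEq_card_fixedPoints α
      have h1 : Nat.card (fixedPoints (R : Subgroup (Perm α)) α) = 1 := by
        rw [Nat.card_eq_one_iff_unique]
        exact ⟨⟨fun b c => Subtype.ext (fixed_eq R (fun g hg => b.2 ⟨g, hg⟩) fun g hg => c.2 ⟨g, hg⟩)⟩,
          ⟨⟨a, fun g => hcon g g.2⟩⟩⟩
      rw [h1, hn, Nat.ModEq, Nat.even_iff.1 heven] at hmod
      omega
    obtain ⟨z, hz2, hz0, hzP⟩ := exists_involution P (hnofix P)
    obtain ⟨z', hz2', hz0', hzQ⟩ := exists_involution Q (hnofix Q)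
    obtain rfl := pairing_eq hx hs (hzP x hxP) hz2 hz0 (hzQ x hxQ) hz2' hz0'
    rcases isEmpty_or_nonempty α with hα | ⟨⟨a₀⟩⟩
    · exact Sylow.ext (Subgroup.ext fun g => by
        rw [Subsingleton.elim g 1]; exact ⟨fun _ => one_mem _, fun _ => one_mem _⟩)
    set C := Subgroup.centralizer ({z} : Set (Perm α))
    have hCz : ∀ g : C, ∀ a, (g : Perm α) (z a) = z ((g : Perm α) a) := fun g a =>
      congrArg (fun f : Perm α => f a) (Subgroup.mem_centralizer_singleton_iff.1 g.2)
    let S : Setoid α := ⟨fun a b => b = a ∨ b = z a,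
      fun a => Or.inl rfl, fun {a b} h => by
        rcases h with rfl | rfl
        · exact Or.inl rfl
        · exact Or.inr (hz2 a).symm,
      fun {a b c} h h' => by
        rcases h with rfl | rfl
        · exact h'
        · rcases h' with rfl | rfl
          · exact Or.inr rfl
          · exact Or.inl (hz2 a)⟩
    let φ : C →* Perm (Quotient S) :=
      { toFun := fun g => Quotient.congr (ra := S) (rb := S) (g : Perm α) fun a b => by
          show b = a ∨ b = z a ↔ (g : Perm α) b = (g : Perm α) a ∨ (g : Perm α) b = z ((g : Perm α) a)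
          rw [← hCz, EmbeddingLike.apply_eq_iff_eq, EmbeddingLike.apply_eq_iff_eq]
        map_one' := Equiv.ext fun q => Quotient.inductionOn q fun a => rfl
        map_mul' := fun g h => Equiv.ext fun q => Quotient.inductionOn q fun a => rfl }
    have hφ : ∀ (g : C) (a : α), φ g (Quotient.mk S a) = Quotient.mk S ((g : Perm α) a) :=
      fun g a => rfl
    have hker : IsPGroup 2 φ.ker := by
      intro g
      refine ⟨1, Subtype.ext (Subtype.ext (Equiv.ext fun a => ?_))⟩
      show (((g : C) : Perm α) ^ (2 ^ 1)) a = a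
      rw [pow_one, sq, Perm.mul_apply]
      have h : φ g (Quotient.mk S a) = Quotient.mk S a := by rw [MonoidHom.mem_ker.1 g.2]; rfl
      rw [hφ] at h
      rcases Quotient.exact h with e | e
      · rw [← e, ← e]
      · have e' : ((g : C) : Perm α) a = z a := ((congrArg z e).trans (hz2 _)).symm
        rw [e', hCz, e', hz2]
    have hxC : x ∈ C := Subgroup.mem_centralizer_singleton_iff.2 (hzP x hxP).eq.symm
    have hxk : ∀ (k : ℤ) (a : α), (φ ⟨x, hxC⟩ ^ k) (Quotient.mk S a) = Quotient.mk S ((x ^ k) a) := by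
      intro k a
      rw [← map_zpow, hφ, SubgroupClass.coe_zpow]
    have hhalf : ∀ a : α, x a ≠ a → ∀ k : ℤ,
        ((φ ⟨x, hxC⟩ ^ k) (Quotient.mk S a) = Quotient.mk S a ↔ (x ^ (2 * k)) a = a) := by
      intro a ha k
      rw [hxk]
      refine ⟨fun h => ?_, fun h => ?_⟩
      · rcases Quotient.exact h with e | e
        · rw [zpow_two_mul, ← e, ← e]
        · have e' : (x ^ k) a = z a := ((congrArg z e).trans (hz2 _)).symm
          rw [zpow_two_mul, e', commute_zpow (hzP x hxP), e', hz2]
      · by_cases hk : (x ^ k) a = a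
        · rw [hk]
        · rw [pairing hx hs (hzP x hxP) hz2 hz0 ha k h hk]
          exact Quotient.sound (Or.inr (hz2 a).symm)
    have hcls : ∀ {a b : α}, Quotient.mk S a ≠ Quotient.mk S b → b ≠ a ∧ b ≠ z a := fun h =>
      ⟨fun e => h (Quotient.sound (Or.inl e)), fun e => h (Quotient.sound (Or.inr e))⟩
    have hsep : Separated (φ ⟨x, hxC⟩) := by
      refine ⟨?_, ?_⟩
      · intro qa qb qc
        induction qa using Quotient.inductionOn with | h a =>
        induction qb using Quotient.inductionOn with | h b =>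
        induction qc using Quotient.inductionOn with | h c =>
        intro ha hb hc
        have hfx : ∀ a b : α, x a = a → x b = b → Quotient.mk S a = Quotient.mk S b := by
          intro a b ha hb
          have hza : x (z a) = z a := by
            rw [← Perm.mul_apply, ← (hzP x hxP).eq, Perm.mul_apply, ha]
          rcases hs.1 a (z a) b ha hza hb with e | e | e
          · exact absurd e.symm (hz0 a)
          · rw [e]
          · exact Quotient.sound (Or.inr e.symm)
        have htwo : ∀ a b : α, x a ≠ a → x b ≠ b →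
            φ ⟨x, hxC⟩ (Quotient.mk S a) = Quotient.mk S a →
            φ ⟨x, hxC⟩ (Quotient.mk S b) = Quotient.mk S b → Quotient.mk S a = Quotient.mk S b := by
          intro a b ha hb hqa hqb
          have hp : ∀ a : α, x a ≠ a → φ ⟨x, hxC⟩ (Quotient.mk S a) = Quotient.mk S a →
              period x a = 2 := by
            intro a ha hq
            have h2 := (hhalf a ha 1).1 (by rw [zpow_one]; exact hq)
            rw [zpow_fix] at h2
            obtain ⟨m, hm, hL⟩ := period_even x hx ha
            have h2' : period x a ∣ 2 := by exact_mod_cast h2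
            have := Nat.le_of_dvd two_pos h2'
            omega
          obtain ⟨i, hi⟩ := hs.2 a b ha hb (by rw [hp a ha hqa, hp b hb hqb])
          rw [← hi, ← hxk]
          have hfixq : Function.IsFixedPt (φ ⟨x, hxC⟩) (Quotient.mk S a) := hqa
          exact (hfixq.perm_zpow i).symm
        by_cases h1 : x a = a <;> by_cases h2 : x b = b <;> by_cases h3 : x c = c
        · exact Or.inl (hfx a b h1 h2)
        · exact Or.inl (hfx a b h1 h2)
        · exact Or.inr (Or.inl (hfx a c h1 h3))
        · exact Or.inr (Or.inr (htwo b c h2 h3 hb hc))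
        · exact Or.inr (Or.inr (hfx b c h2 h3))
        · exact Or.inr (Or.inl (htwo a c h1 h3 ha hc))
        · exact Or.inl (htwo a b h1 h2 ha hb)
        · exact Or.inl (htwo a b h1 h2 ha hb)
      · intro qa qb
        induction qa using Quotient.inductionOn with | h a =>
        induction qb using Quotient.inductionOn with | h b =>
        intro ha hb hper
        have hmv : ∀ a : α, φ ⟨x, hxC⟩ (Quotient.mk S a) ≠ Quotient.mk S a → x a ≠ a :=
          fun a h e => h (by rw [hφ]; exact congrArg _ e)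
        have hdbl : ∀ a : α, x a ≠ a →
            period x a = 2 * period (φ ⟨x, hxC⟩) (Quotient.mk S a) := by
          intro a ha
          obtain ⟨m, hm, hL⟩ := period_even x hx ha
          rw [hL]
          congr 1
          have hiff : ∀ k : ℕ, period (φ ⟨x, hxC⟩) (Quotient.mk S a) ∣ k ↔ m ∣ k := by
            intro k
            rw [← Int.natCast_dvd_natCast, ← zpow_fix, hhalf a ha, zpow_fix, hL,
              ← Nat.cast_ofNat (R := ℤ), ← Nat.cast_mul, Int.natCast_dvd_natCast]
            exact Nat.mul_dvd_mul_iff_left two_pos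
          exact Nat.dvd_antisymm ((hiff _).1 dvd_rfl) ((hiff m).2 dvd_rfl)
        obtain ⟨i, hi⟩ := hs.2 a b (hmv a ha) (hmv b hb)
          (by rw [hdbl a (hmv a ha), hdbl b (hmv b hb), hper])
        exact ⟨i, by rw [hxk, hi]⟩
    have hlt : Nat.card (Quotient S) < n := by
      haveI := Fintype.ofFinite α
      rw [← hn, Nat.card_eq_fintype_card, Nat.card_eq_fintype_card]
      exact Fintype.card_lt_of_surjective_not_injective _ Quotient.mk_surjective fun hinj =>
        hz0 a₀ (hinj (Quotient.sound (Or.inr rfl) : Quotient.mk S a₀ = Quotient.mk S (z a₀))).symm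
    exact descend φ hker hxC (ih _ hlt _ rfl _ (hordφ hxC φ) hsep) P Q hxP hxQ
      (fun g hg => Subgroup.mem_centralizer_singleton_iff.2 (hzP g hg).eq.symm)
      (fun g hg => Subgroup.mem_centralizer_singleton_iff.2 (hzQ g hg).eq.symm)
  · -- a common fixed point
    have hex : ∀ R : Sylow 2 (Perm α), ∃ a : α, ∀ g ∈ (R : Subgroup (Perm α)), g a = a := by
      intro R
      have hmod := R.isPGroup'.card_modEq_card_fixedPoints α
      rw [hn, Nat.ModEq, Nat.odd_iff.1 hodd] at hmod
      obtain ⟨⟨a, ha⟩⟩ := (Nat.card_pos_iff.1 (show 0 < Nat.card (fixedPoints (R : Subgroup (Perm α)) α) by omega)).1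
      exact ⟨a, fun g hg => ha ⟨g, hg⟩⟩
    obtain ⟨a, ha⟩ := hex P
    obtain ⟨a', ha'⟩ := hex Q
    have haa : a' = a := by
      by_contra hne
      have hX : IsPGroup 2 (Subgroup.zpowers x) :=
        P.isPGroup'.to_le (Subgroup.zpowers_le.2 hxP)
      have hmod := hX.card_modEq_card_fixedPoints α
      have h2 : fixedPoints (Subgroup.zpowers x) α = {a, a'} := by
        ext b
        refine ⟨fun hb => ?_, fun hb g => ?_⟩
        · rcases hs.1 a a' b (ha x hxP) (ha' x hxQ) (hb ⟨x, Subgroup.mem_zpowers x⟩) with e | e | e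
          · exact absurd e.symm hne
          · exact Or.inl e.symm
          · exact Or.inr e.symm
        · obtain ⟨g, k, rfl⟩ := g
          rcases hb with rfl | rfl
          · exact (show Function.IsFixedPt x b from ha x hxP).perm_zpow k
          · exact (show Function.IsFixedPt x _ from ha' x hxQ).perm_zpow k
      rw [h2, Nat.card_coe_set_eq, Set.ncard_pair (fun e => hne e.symm), hn, Nat.ModEq,
        Nat.odd_iff.1 hodd] at hmod
      omega
    rw [haa] at ha'
    set C := stabilizer (Perm α) a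
    let φ : C →* Perm {b : α // b ≠ a} :=
      { toFun := fun g => (g : Perm α).subtypePerm fun b => by
          have hga : (g : Perm α) a = a := g.2
          exact ⟨fun h e => h (by rw [e]; exact hga),
            fun h e => h ((g : Perm α).injective (e.trans hga.symm))⟩
        map_one' := Equiv.ext fun b => rfl
        map_mul' := fun g h => Equiv.ext fun b => rfl }
    have hker : IsPGroup 2 φ.ker := by
      intro g
      refine ⟨0, Subtype.ext (Subtype.ext (Equiv.ext fun b => ?_))⟩
      show (((g : C) : Perm α) ^ (2 ^ 0)) b = b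
      rw [pow_zero, pow_one]
      by_cases hb : b = a
      · rw [hb]; exact (g : C).2
      · exact congrArg Subtype.val (congrArg (fun f : Perm {b : α // b ≠ a} => f ⟨b, hb⟩)
          (MonoidHom.mem_ker.1 g.2))
    have hxC : x ∈ C := ha x hxP
    have hxk : ∀ (k : ℤ) (b : {b : α // b ≠ a}),
        (((φ ⟨x, hxC⟩) ^ k) b : α) = (x ^ k) (b : α) := by
      intro k b
      rw [← map_zpow]
      rfl
    have hsep : Separated (φ ⟨x, hxC⟩) := by
      refine ⟨fun b c d hb hc hd => ?_, fun b c hb hc hper => ?_⟩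
      · rcases hs.1 b c d (congrArg Subtype.val hb) (congrArg Subtype.val hc)
          (congrArg Subtype.val hd) with e | e | e
        · exact Or.inl (Subtype.ext e)
        · exact Or.inr (Or.inl (Subtype.ext e))
        · exact Or.inr (Or.inr (Subtype.ext e))
      · have hp : ∀ b : {b : α // b ≠ a}, period (φ ⟨x, hxC⟩) b = period x (b : α) := by
          intro b
          have hiff : ∀ k : ℕ, period (φ ⟨x, hxC⟩) b ∣ k ↔ period x (b : α) ∣ k := by
            intro k
            rw [← Int.natCast_dvd_natCast, ← zpow_fix, Subtype.ext_iff, hxk, zpow_fix,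
              Int.natCast_dvd_natCast]
          exact Nat.dvd_antisymm ((hiff _).2 dvd_rfl) ((hiff _).1 dvd_rfl)
        obtain ⟨i, hi⟩ := hs.2 (b : α) c (fun e => hb (Subtype.ext e)) (fun e => hc (Subtype.ext e))
          (by rw [← hp, ← hp, hper])
        exact ⟨i, Subtype.ext (by rw [hxk, hi])⟩
    have hlt : Nat.card {b : α // b ≠ a} < n := by
      haveI := Fintype.ofFinite α
      rw [← hn, Nat.card_eq_fintype_card, Nat.card_eq_fintype_card]
      exact Fintype.card_subtype_lt (x := a) (fun h => h rfl)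
    exact descend φ hker hxC (ih _ hlt _ rfl _ (hordφ hxC φ) hsep) P Q hxP hxQ ha ha'

/-- A transposition whose conjugates under `x` commute lies in a Sylow `2`-subgroup with `x`. -/
theorem swap_mem [Finite α] [DecidableEq α] {x : Perm α} (hx : ∃ k : ℕ, orderOf x = 2 ^ k)
    (P : Sylow 2 (Perm α)) (hP : ∀ Q : Sylow 2 (Perm α), x ∈ (Q : Subgroup (Perm α)) → Q = P)
    {a c : α} (h1 : ∀ k : ℤ, (x ^ k) a = c → (x ^ k) c = a)
    (h2 : ∀ k : ℤ, (x ^ k) a = a ↔ (x ^ k) c = c) : swap a c ∈ (P : Subgroup (Perm α)) := by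
  haveI := Fact.mk Nat.prime_two
  let t : ℤ → Perm α := fun i => swap ((x ^ i) a) ((x ^ i) c)
  have hconj : ∀ i j : ℤ, x ^ i * t j * (x ^ i)⁻¹ = t (i + j) := by
    intro i j
    show x ^ i * swap _ _ * (x ^ i)⁻¹ = swap _ _
    rw [mul_swap_eq_swap_mul, mul_inv_cancel_right, zpow_add]
    rfl
  have h4 : ∀ k : ℤ, (x ^ k) c = a → (x ^ k) a = c := by
    intro k hk
    have e1 : (x ^ (-k)) a = c := by rw [zpow_neg, inv_eq_iff_eq, hk]
    have e2 := h1 _ e1
    rw [zpow_neg, inv_eq_iff_eq] at e2
    exact e2.symm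
  have hcomm0 : ∀ k : ℤ, t 0 * t k = t k * t 0 := by
    intro k
    show swap ((x ^ (0 : ℤ)) a) ((x ^ (0 : ℤ)) c) * _ = _ * swap ((x ^ (0 : ℤ)) a) ((x ^ (0 : ℤ)) c)
    rw [zpow_zero]
    show swap a c * swap ((x ^ k) a) ((x ^ k) c) = swap ((x ^ k) a) ((x ^ k) c) * swap a c
    by_cases e1 : (x ^ k) a = a
    · rw [e1, (h2 k).1 e1]
    by_cases e2 : (x ^ k) a = c
    · rw [e2, h1 k e2, swap_comm c a]
    by_cases e3 : (x ^ k) c = a
    · exact absurd (h4 k e3) e2
    by_cases e4 : (x ^ k) c = c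
    · exact absurd ((h2 k).2 e4) e1
    rw [mul_swap_eq_swap_mul, swap_apply_of_ne_of_ne e1 e2, swap_apply_of_ne_of_ne e3 e4]
  have hcomm : ∀ i j : ℤ, t i * t j = t j * t i := by
    intro i j
    have h := congrArg (fun g => x ^ i * g * (x ^ i)⁻¹) (hcomm0 (j - i))
    simp only [conj_mul.symm, hconj, add_zero, add_sub_cancel] at h
    exact h
  let E := Subgroup.closure (Set.range t)
  letI : CommGroup E := Subgroup.closureCommGroupOfComm (by
    rintro _ ⟨i, rfl⟩ _ ⟨j, rfl⟩; exact hcomm i j)
  have hE : IsPGroup 2 E := by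
    intro g
    refine ⟨1, ?_⟩
    rw [pow_one]
    obtain ⟨g, hg⟩ := g
    induction hg using Subgroup.closure_induction with
    | mem g hg =>
      obtain ⟨i, rfl⟩ := hg
      exact Subtype.ext (by show t i ^ 2 = 1; rw [sq]; exact swap_mul_self _ _)
    | one => exact one_pow 2
    | mul g h hg hh ihg ihh =>
      show ((⟨g, hg⟩ : E) * ⟨h, hh⟩) ^ 2 = 1
      rw [mul_pow, ihg, ihh, one_mul]
    | inv g hg ihg =>
      show (⟨g, hg⟩ : E)⁻¹ ^ 2 = 1
      rw [inv_pow, ihg, inv_one]
  have hX : IsPGroup 2 (Subgroup.zpowers x) := by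
    obtain ⟨k, hk⟩ := hx
    exact IsPGroup.of_card (n := k) (by rw [Nat.card_zpowers, hk])
  have hle : Subgroup.zpowers x ≤ Subgroup.normalizer (E : Set (Perm α)) := by
    have hk : ∀ k : ℤ, ∀ g ∈ E, x ^ k * g * (x ^ k)⁻¹ ∈ E := by
      intro k g hg
      induction hg using Subgroup.closure_induction with
      | mem g hg =>
        obtain ⟨i, rfl⟩ := hg
        exact Subgroup.subset_closure ⟨k + i, (hconj k i).symm⟩
      | one => rw [mul_one, mul_inv_cancel]; exact one_mem E
      | mul g h _ _ ihg ihh =>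
        rw [show x ^ k * (g * h) * (x ^ k)⁻¹ = (x ^ k * g * (x ^ k)⁻¹) * (x ^ k * h * (x ^ k)⁻¹)
          by group]
        exact mul_mem ihg ihh
      | inv g _ ihg =>
        rw [show x ^ k * g⁻¹ * (x ^ k)⁻¹ = (x ^ k * g * (x ^ k)⁻¹)⁻¹ by group]
        exact inv_mem ihg
    rintro _ ⟨k, rfl⟩
    rw [Subgroup.mem_normalizer_iff]
    refine fun g => ⟨hk k g, fun hg => ?_⟩
    have := hk (-k) _ hg
    simpa [zpow_neg, mul_assoc] using this
  obtain ⟨Q, hQ⟩ := (hX.to_sup_of_normal_right' hE hle).exists_le_sylow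
  rw [← hP Q (hQ (Subgroup.mem_sup_left (Subgroup.mem_zpowers x)))]
  exact hQ (Subgroup.mem_sup_right (Subgroup.subset_closure ⟨0, by simp [t]⟩))

theorem separated_of_unique [Finite α] {x : Perm α} (hx : ∃ k : ℕ, orderOf x = 2 ^ k)
    (P : Sylow 2 (Perm α)) (hP : ∀ Q : Sylow 2 (Perm α), x ∈ (Q : Subgroup (Perm α)) → Q = P) :
    Separated x := by
  classical
  haveI := Fact.mk Nat.prime_two
  haveI := Fintype.ofFinite α
  have hno : ∀ a b c : α, a ≠ b → a ≠ c → b ≠ c → swap a b ∈ (P : Subgroup (Perm α)) →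
      swap a c ∈ (P : Subgroup (Perm α)) → False := by
    intro a b c hab hac hbc h h'
    obtain ⟨k, hk⟩ := P.isPGroup' ⟨_, mul_mem h h'⟩
    have h3 : orderOf (swap a b * swap a c) = 3 :=
      (isThreeCycle_swap_mul_swap_same hab hac hbc).orderOf
    have hd : 3 ∣ 2 ^ k := h3 ▸ orderOf_dvd_of_pow_eq_one (congrArg Subtype.val hk)
    exact absurd (Nat.prime_three.dvd_of_dvd_pow hd) (by norm_num)
  refine ⟨fun a b c ha hb hc => ?_, fun a b ha hb hper => ?_⟩
  · by_contra hcon
    push Not at hcon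
    obtain ⟨hab, hac, hbc⟩ := hcon
    have hfx : ∀ {d : α}, x d = d → ∀ k : ℤ, (x ^ k) d = d := fun h k =>
      (show Function.IsFixedPt x _ from h).perm_zpow k
    exact hno a b c hab hac hbc
      (swap_mem hx P hP (fun k h => absurd ((hfx ha k).symm.trans h) hab)
        fun k => iff_of_true (hfx ha k) (hfx hb k))
      (swap_mem hx P hP (fun k h => absurd ((hfx ha k).symm.trans h) hac)
        fun k => iff_of_true (hfx ha k) (hfx hc k))
  · by_contra hns
    obtain ⟨m, hm, hL⟩ := period_even x hx ha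
    set c := (x ^ (m : ℤ)) a with hc
    have hac : a ≠ c := fun e => by
      have := (zpow_fix x a m).1 e.symm
      rw [hL, Int.natCast_dvd_natCast] at this
      have := Nat.le_of_dvd hm this
      omega
    have hab : a ≠ b := fun e => hns (e ▸ SameCycle.refl x a)
    have hbc : b ≠ c := fun e => hns ⟨m, e.symm⟩
    refine hno a b c hab hac hbc (swap_mem hx P hP (fun k h => absurd ⟨k, h⟩ hns) fun k => ?_)
      (swap_mem hx P hP (fun k h => ?_) fun k => ?_)
    · rw [zpow_fix, zpow_fix, hper]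
    · rw [hc, ← Perm.mul_apply, ← zpow_add, add_comm, zpow_add, Perm.mul_apply, h, hc,
        ← Perm.mul_apply, ← zpow_add, zpow_fix, hL]
      exact ⟨1, by push_cast; ring⟩
    · have hp : period x c = period x a :=
        period_commute ((Commute.refl x).zpow_left (m : ℤ)) a
      rw [zpow_fix, zpow_fix, hp]

theorem period_eq_card [Fintype α] [DecidableEq α] (x : Perm α) {a : α} (ha : x a ≠ a) :
    period x a = (x.cycleOf a).support.card := by
  have hmem : a ∈ (x.cycleOf a).support := mem_support_cycleOf_iff.2 ⟨SameCycle.refl x a, mem_support.2 ha⟩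
  have hiff : ∀ k : ℕ, period x a ∣ k ↔ (x.cycleOf a).support.card ∣ k := fun k => by
    rw [← pow_fix, (isCycleOn_support_cycleOf x a).pow_apply_eq hmem]
  exact Nat.dvd_antisymm ((hiff _).2 dvd_rfl) ((hiff _).1 dvd_rfl)

theorem separated_iff [Fintype α] [DecidableEq α] (x : Perm α) :
    Separated x ↔ Fintype.card α ≤ x.support.card + 2 ∧ x.cycleType.Nodup := by
  have hfix : (Fintype.card α ≤ x.support.card + 2) ↔
      ∀ a b c : α, x a = a → x b = b → x c = c → a = b ∨ a = c ∨ b = c := by
    have h := Finset.card_compl x.support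
    have hle := Finset.card_le_univ x.support
    rw [show Fintype.card α ≤ x.support.card + 2 ↔ ¬ 2 < x.supportᶜ.card by omega,
      Finset.two_lt_card_iff]
    simp only [Finset.mem_compl, notMem_support]
    push Not
    constructor
    · intro h a b c ha hb hc
      by_cases e : a = b
      · exact Or.inl e
      by_cases e' : a = c
      · exact Or.inr (Or.inl e')
      exact Or.inr (Or.inr (h a b c ha hb hc e e'))
    · intro h a b c ha hb hc e e'
      exact ((h a b c ha hb hc).resolve_left e).resolve_left e'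
  have hcyc : x.cycleType.Nodup ↔
      ∀ a b : α, x a ≠ a → x b ≠ b → period x a = period x b → x.SameCycle a b := by
    rw [cycleType_def]
    constructor
    · intro h a b ha hb hper
      have := Multiset.inj_on_of_nodup_map h _
        (cycleOf_mem_cycleFactorsFinset_iff.2 (mem_support.2 ha)) _
        (cycleOf_mem_cycleFactorsFinset_iff.2 (mem_support.2 hb))
        (by rw [period_eq_card x ha, period_eq_card x hb] at hper; exact hper)
      have hb' : b ∈ (x.cycleOf a).support := by
        rw [this]; exact mem_support_cycleOf_iff.2 ⟨SameCycle.refl x b, mem_support.2 hb⟩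
      exact (mem_support_cycleOf_iff.1 hb').1
    · intro h
      refine Multiset.Nodup.map_on (fun σ hσ τ hτ e => ?_) x.cycleFactorsFinset.2
      obtain ⟨a, ha⟩ := (mem_cycleFactorsFinset_iff.1 hσ).1.nonempty_support
      obtain ⟨b, hb⟩ := (mem_cycleFactorsFinset_iff.1 hτ).1.nonempty_support
      have ha' : x a ≠ a := mem_support.1 (mem_cycleFactorsFinset_support_le hσ ha)
      have hb' : x b ≠ b := mem_support.1 (mem_cycleFactorsFinset_support_le hτ hb)
      rw [cycle_is_cycleOf ha hσ, cycle_is_cycleOf hb hτ] at e ⊢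
      have e' : (x.cycleOf a).support.card = (x.cycleOf b).support.card := e
      exact (h a b ha' hb' (by rw [period_eq_card x ha', period_eq_card x hb', e'])).cycleOf_eq
  rw [hfix, hcyc]
  rfl

theorem unique_sylow_iff [Fintype α] [DecidableEq α] (x : Perm α) (hx : ∃ k : ℕ, orderOf x = 2 ^ k) :
    (∃! P : Sylow 2 (Perm α), x ∈ P) ↔
      Fintype.card α ≤ x.support.card + 2 ∧ x.cycleType.Nodup := by
  haveI := Fact.mk Nat.prime_two
  rw [← separated_iff]
  refine ⟨fun ⟨P, hxP, hP⟩ => separated_of_unique hx P hP, fun hs => ?_⟩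
  obtain ⟨k, hk⟩ := hx
  obtain ⟨P, hP⟩ := (IsPGroup.of_card (n := k) (by rw [Nat.card_zpowers, hk]) :
    IsPGroup 2 (Subgroup.zpowers x)).exists_le_sylow
  exact ⟨P, hP (Subgroup.mem_zpowers x), fun Q hQ =>
    unique_of_separated _ _ rfl x ⟨k, hk⟩ hs Q P hQ (hP (Subgroup.mem_zpowers x))⟩

end CfsgLib.Perm.UniqueSylowTwo
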