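import Mathlib
import Cfsg.Agent.Lib.Perm.CharSimple
import Cfsg.Agent.Lib.HallGen.Counting

/-!
# Primitive groups with one class of derangements

* `pi_false`: a proper subgroup `M` of a power (at least two factors) of a non-abelian simple
  group cannot have all elements outside its conjugates equivalent under automorphisms.
* `isMulCommutative_minimal`: a minimal normal subgroup of a primitive group with one class of
  derangements, not almost simple, is abelian.
* `sharp_of_abelian`: then the group is sharply doubly transitive.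
-/

set_option autoImplicit false
set_option linter.all false

namespace CfsgLib.Perm.OneDerangementClass

open MulAction
open scoped Pointwise

section Pi

variable {T : Type*} [Group T] [Finite T] {m : ℕ}

theorem pi_false (hm : 2 ≤ m) (hT : IsSimpleGroup T) (hnc : ¬ IsMulCommutative T)
    (M : Subgroup (Fin m → T)) (hM : M ≠ ⊤)
    (hone : ∀ x y : Fin m → T, (∀ n, n⁻¹ * x * n ∉ M) → (∀ n, n⁻¹ * y * n ∉ M) →
      ∃ φ : MulAut (Fin m → T), φ x = y) : False := by
  classical
  haveI := hT
  have hZ : ∀ t : T, t ≠ 1 → ∃ w : T, ¬ Commute t w := by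
    intro t ht
    by_contra h
    push Not at h
    have htc : t ∈ Subgroup.center T := Subgroup.mem_center_iff.2 fun w => (h w).symm.eq
    rcases (Subgroup.center T).normal_of_characteristic.eq_bot_or_eq_top with hb | hb
    · exact ht (Subgroup.mem_bot.1 (hb ▸ htc))
    · exact hnc ⟨⟨fun u v => (Subgroup.mem_center_iff.1 (hb ▸ Subgroup.mem_top v) u)⟩⟩
  -- one coordinate and two coordinates are never equivalent
  have hsupp : ∀ (i j : Fin m) (t : T), i ≠ j → t ≠ 1 →
      (∀ n, n⁻¹ * Pi.mulSingle i t * n ∉ M) →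
      (∀ n, n⁻¹ * (Pi.mulSingle i t * Pi.mulSingle j t) * n ∉ M) → False := by
    intro i j t hij ht h1 h2
    obtain ⟨φ, hφ⟩ := hone _ _ h1 h2
    set x : Fin m → T := Pi.mulSingle i t with hx
    set y : Fin m → T := x * Pi.mulSingle j t with hy
    have hxi : x i = t := Pi.mulSingle_eq_same _ _
    have hxk : ∀ k, k ≠ i → x k = 1 := fun k hk => Pi.mulSingle_eq_of_ne hk _
    have hyi : y i = t := by simp [hy, hxi, hij]
    have hyj : y j = t := by simp [hy, hxk j hij.symm]
    have hsub : {f | Commute y f} ⊆ {f | Commute x f} := by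
      intro f hf
      have hf' : y i * f i = f i * y i := congrFun hf.eq i
      rw [hyi] at hf'
      show x * f = f * x
      funext k
      rcases eq_or_ne k i with rfl | hk
      · simpa [hxi] using hf'
      · simp [hxk k hk]
    have hne : {f | Commute y f} ≠ {f | Commute x f} := by
      intro he
      obtain ⟨w, hw⟩ := hZ t ht
      have hmem : Commute x (Pi.mulSingle j w) := by
        show x * _ = _ * x
        funext k
        rcases eq_or_ne k j with rfl | hk
        · simp [hxk k hij.symm]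
        · simp [hk]
      have hmem' : Pi.mulSingle j w ∈ {f | Commute y f} := he.symm ▸ hmem
      have hc : y j * (Pi.mulSingle j w : Fin m → T) j = (Pi.mulSingle j w : Fin m → T) j * y j :=
        congrFun (show Commute y _ from hmem').eq j
      rw [hyj, Pi.mulSingle_eq_same] at hc
      exact hw hc
    have hcard : {f | Commute y f}.ncard = {f | Commute x f}.ncard := by
      rw [← Set.ncard_image_of_injective {f | Commute x f} φ.injective]
      congr 1
      ext f
      simp only [Set.mem_image, Set.mem_setOf_eq]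
      constructor
      · intro hf
        refine ⟨φ.symm f, ?_, φ.apply_symm_apply f⟩
        have := hf.map φ.symm.toMonoidHom
        rw [← hφ] at this
        simpa using this
      · rintro ⟨g, hg, rfl⟩
        rw [← hφ]
        exact hg.map φ.toMonoidHom
    exact hne (Set.eq_of_subset_of_ncard_le hsub hcard.ge)
  have hconj : ∀ (i : Fin m) (s t : T) (f : Fin m → T), f i = s →
      f * Pi.mulSingle i t * f⁻¹ = Pi.mulSingle i (s * t * s⁻¹) := by
    intro i s t f hf
    funext k
    rcases eq_or_ne k i with rfl | hk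
    · simp [hf]
    · simp [hk]
  have hm0 : ∀ i : Fin m, ∃ j, j ≠ i := fun i =>
    haveI : Nontrivial (Fin m) := Fin.nontrivial_iff_two_le.2 hm
    exists_ne i
  -- the projections of `M` are onto
  have hproj : ∀ i : Fin m, M.map (Pi.evalMonoidHom (fun _ => T) i) = ⊤ := by
    intro i
    by_contra hne
    obtain ⟨t, ht⟩ := CfsgLib.HallGen.exists_not_mem_conj _ hne
    have hout : ∀ x : Fin m → T, x i = t → ∀ n, n⁻¹ * x * n ∉ M := by
      intro x hx n hn
      refine ht (n i) ?_
      rw [Subgroup.mem_pointwise_smul_iff_inv_smul_mem]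
      refine ⟨_, hn, ?_⟩
      show (n⁻¹ * x * n) i = _
      simp [hx, MulAut.smul_def]
    obtain ⟨j, hj⟩ := hm0 i
    have ht1 : t ≠ 1 := by
      rintro rfl
      exact hout 1 rfl 1 (by simp)
    exact hsupp i j t hj.symm ht1 (hout _ (by simp)) (hout _ (by simp [hj.symm]))
  let F : Fin m → Subgroup T := fun i => M.comap (MonoidHom.mulSingle (fun _ : Fin m => T) i)
  have hF : ∀ i, F i = ⊥ ∨ F i = ⊤ := by
    intro i
    refine Subgroup.Normal.eq_bot_or_eq_top ⟨fun t ht s => ?_⟩
    obtain ⟨f, hf, hfi⟩ : s ∈ M.map (Pi.evalMonoidHom (fun _ => T) i) := by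
      rw [hproj]; exact Subgroup.mem_top s
    show Pi.mulSingle i (s * t * s⁻¹) ∈ M
    rw [← hconj i s t f hfi]
    exact M.mul_mem (M.mul_mem hf ht) (M.inv_mem hf)
  obtain ⟨j, hj⟩ : ∃ j, F j = ⊥ := by
    by_contra h
    push Not at h
    refine hM (eq_top_iff.2 fun f _ => ?_)
    refine Subgroup.pi_mem_of_mulSingle_mem (H := M) f fun i => ?_
    exact (show f i ∈ F i from ((hF i).resolve_left (h i)).symm ▸ Subgroup.mem_top _)
  have hsingle : ∀ (i : Fin m), F i = ⊥ → ∀ t : T, t ≠ 1 → ∀ n, n⁻¹ * Pi.mulSingle i t * n ∉ M := by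
    intro i hi t ht n hn
    have h1 := hconj i ((n i)⁻¹) t n⁻¹ rfl
    rw [inv_inv, inv_inv] at h1
    rw [h1] at hn
    have h2 : (n i)⁻¹ * t * n i ∈ F i := hn
    rw [hi, Subgroup.mem_bot] at h2
    refine ht ?_
    calc t = n i * ((n i)⁻¹ * t * n i) * (n i)⁻¹ := by group
      _ = 1 := by rw [h2, mul_one, mul_inv_cancel]
  haveI : Nontrivial T := hT.toNontrivial
  obtain ⟨t, ht⟩ := exists_ne (1 : T)
  by_cases htop : ∃ i, F i = ⊤
  · obtain ⟨i, hi⟩ := htop
    have hij : j ≠ i := by
      rintro rfl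
      exact (bot_ne_top (α := Subgroup T)) (hj.symm.trans hi)
    refine hsupp j i t hij ht (hsingle j hj t ht) fun n hn => ?_
    have h1 : n⁻¹ * Pi.mulSingle i t * n ∈ M := by
      have h2 := hconj i ((n i)⁻¹) t n⁻¹ rfl
      rw [inv_inv, inv_inv] at h2
      rw [h2]
      exact (show _ ∈ F i from hi.symm ▸ Subgroup.mem_top ((n i)⁻¹ * t * n i))
    refine hsingle j hj t ht n ?_
    have : n⁻¹ * Pi.mulSingle j t * n =
        n⁻¹ * (Pi.mulSingle j t * Pi.mulSingle i t) * n * (n⁻¹ * Pi.mulSingle i t * n)⁻¹ := by group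
    rw [this]
    exact M.mul_mem hn (M.inv_mem h1)
  · push Not at htop
    have hord : ∀ u v : T, u ≠ 1 → v ≠ 1 → orderOf u = orderOf v := by
      intro u v hu hv
      obtain ⟨φ, hφ⟩ := hone _ _ (hsingle j hj u hu) (hsingle j hj v hv)
      have h1 : ∀ w : T, orderOf (Pi.mulSingle j w : Fin m → T) = orderOf w := fun w =>
        orderOf_injective (MonoidHom.mulSingle (fun _ : Fin m => T) j)
          (Pi.mulSingle_injective (M := fun _ : Fin m => T) j) w
      rw [← h1 u, ← h1 v, ← hφ, MulEquiv.orderOf_eq]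
    obtain ⟨p, hp, hpd⟩ := Nat.exists_prime_and_dvd (n := Nat.card T) Finite.one_lt_card.ne'
    haveI := Fact.mk hp
    obtain ⟨w, hw⟩ := exists_prime_orderOf_dvd_card' p hpd
    have hw1 : w ≠ 1 := by
      intro e
      rw [e, orderOf_one] at hw
      exact hp.ne_one hw.symm
    have hpT : IsPGroup p T := by
      intro u
      refine ⟨1, ?_⟩
      rw [pow_one]
      rcases eq_or_ne u 1 with rfl | hu
      · exact one_pow p
      · rw [← hw, hord w u hw1 hu, pow_orderOf_eq_one]
    obtain ⟨z, hz, hz1⟩ := (Subgroup.center T).nontrivial_iff_exists_ne_one.1 hpT.center_nontrivial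
    obtain ⟨u, hu⟩ := hZ z hz1
    exact hu (Subgroup.mem_center_iff.1 hz u).symm

end Pi

variable {G : Type*} [Group G] [Finite G] {Ω : Type*} [Fintype Ω] [MulAction G Ω]
  [FaithfulSMul G Ω]

theorem isPretransitive_of_normal (hprim : IsPreprimitive G Ω) (N : Subgroup G) [N.Normal]
    (hN : N ≠ ⊥) : IsPretransitive N Ω := by
  haveI := hprim
  refine IsQuasiPreprimitive.isPretransitive_of_normal (fun h => hN ((Subgroup.eq_bot_iff_forall N).2 fun n hn => ?_))
  refine eq_of_smul_eq_smul (α := Ω) fun y => ?_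
  have := h.symm ▸ Set.mem_univ y
  rw [one_smul]
  exact this ⟨n, hn⟩

theorem derangement_mem (hprim : IsPreprimitive G Ω) (hΩ : 2 ≤ Fintype.card Ω)
    (hconj : ∀ d e : G, (∀ y : Ω, d • y ≠ y) → (∀ y : Ω, e • y ≠ y) → IsConj d e)
    (N : Subgroup G) [N.Normal] (hN : N ≠ ⊥) {d : G} (hd : ∀ y : Ω, d • y ≠ y) : d ∈ N := by
  haveI := isPretransitive_of_normal hprim N hN
  obtain ⟨e, he⟩ := CfsgLib.HallGen.exists_derangement N Ω
    (by rw [Nat.card_eq_fintype_card]; omega)
  obtain ⟨g, hg⟩ := isConj_iff.1 (hconj _ d he hd)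
  rw [← hg]
  exact Subgroup.Normal.conj_mem inferInstance _ e.2 g

theorem isMulCommutative_minimal (hprim : IsPreprimitive G Ω) (hΩ : 2 ≤ Fintype.card Ω)
    (hnas : ¬ ∃ T : Subgroup G, T.Normal ∧ IsSimpleGroup T ∧ ¬ IsMulCommutative T ∧
      Subgroup.centralizer (T : Set G) = ⊥)
    (hconj : ∀ d e : G, (∀ y : Ω, d • y ≠ y) → (∀ y : Ω, e • y ≠ y) → IsConj d e)
    (N : Subgroup G) [hNn : N.Normal] (hN : N ≠ ⊥)
    (hmin : ∀ M : Subgroup G, M.Normal → M ≤ N → M = ⊥ ∨ M = N) : IsMulCommutative N := by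
  classical
  haveI := hprim
  haveI htr := isPretransitive_of_normal hprim N hN
  haveI : Nontrivial Ω := Fintype.one_lt_card_iff_nontrivial.1 (by omega)
  obtain ⟨a⟩ : Nonempty Ω := inferInstance
  by_cases hc : Subgroup.centralizer (N : Set G) = ⊥
  · by_contra hnc
    obtain ⟨T, iT, m, hT, hm, ⟨e⟩⟩ := CfsgLib.Perm.CharSimple.exists_iso_pi_of_minimal_normal N hN hmin
    letI := iT
    have hTnc : ¬ IsMulCommutative T := by
      intro h
      refine hnc ⟨⟨fun u v => e.injective ?_⟩⟩
      rw [map_mul, map_mul]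
      funext i
      exact h.is_comm.comm _ _
    have hm2 : 2 ≤ m := by
      by_contra h
      obtain rfl : m = 1 := by omega
      refine hnas ⟨N, hNn, ?_, hnc, hc⟩
      let e1 : N ≃* T := e.trans (MulEquiv.piUnique fun _ : Fin 1 => T)
      haveI : Nontrivial N := N.nontrivial_iff_ne_bot.mpr hN
      exact IsSimpleGroup.isSimpleGroup_of_surjective e1.symm.toMonoidHom e1.symm.surjective
    haveI : Nonempty (Fin m) := ⟨⟨0, by omega⟩⟩
    haveI : Finite (Fin m → T) := Finite.of_equiv N e.toEquiv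
    haveI : Finite T := Finite.of_injective _ (Pi.mulSingle_injective (M := fun _ : Fin m => T)
      (Classical.arbitrary (Fin m)))
    let M : Subgroup (Fin m → T) := (stabilizer N a).map e.toMonoidHom
    have hmem : ∀ n : N, e n ∈ M ↔ n • a = a := by
      intro n
      constructor
      · rintro ⟨k, hk, hkn⟩
        rw [← e.injective hkn]
        exact hk
      · exact fun h => ⟨n, h, rfl⟩
    refine pi_false hm2 hT hTnc M (fun h => ?_) fun x y hx hy => ?_
    · obtain ⟨b, hb⟩ := exists_ne a
      obtain ⟨n, hn⟩ := exists_smul_eq N a b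
      exact hb (hn.symm.trans ((hmem n).1 (h.symm ▸ Subgroup.mem_top _)))
    · have hder : ∀ x : Fin m → T, (∀ n, n⁻¹ * x * n ∉ M) → ∀ w : Ω, (e.symm x : G) • w ≠ w := by
        intro x hx w hw
        obtain ⟨k, rfl⟩ := exists_smul_eq N a w
        refine hx (e k) ?_
        rw [show (e k)⁻¹ * x * e k = e (k⁻¹ * e.symm x * k) by simp, hmem, mul_smul, mul_smul,
          inv_smul_eq_iff]
        exact hw
      obtain ⟨g, hg⟩ := isConj_iff.1 (hconj _ _ (hder x hx) (hder y hy))
      refine ⟨(e.symm.trans (MulAut.conjNormal g)).trans e, ?_⟩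
      show e (MulAut.conjNormal g (e.symm x)) = y
      rw [← e.apply_symm_apply y]
      congr 1
      exact Subtype.ext (by rw [MulAut.conjNormal_apply]; exact hg)
  · obtain ⟨d, hd⟩ := CfsgLib.HallGen.exists_derangement N Ω
      (by rw [Nat.card_eq_fintype_card]; omega)
    have hd1 : (d : G) ≠ 1 := fun h => hd a (by rw [Subgroup.smul_def, h, one_smul])
    have hdC : (d : G) ∈ Subgroup.centralizer (N : Set G) :=
      derangement_mem hprim hΩ hconj _ hc hd
    have h2 : N ⊓ Subgroup.centralizer (N : Set G) = N := by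
      refine (hmin _ inferInstance inf_le_left).resolve_left fun h => hd1 ?_
      exact Subgroup.mem_bot.1 (h ▸ Subgroup.mem_inf.2 ⟨d.2, hdC⟩)
    refine ⟨⟨fun u v => Subtype.ext ?_⟩⟩
    exact Subgroup.mem_centralizer_iff.1 (inf_eq_left.1 h2 v.2) u u.2

theorem sharp_of_abelian (hprim : IsPreprimitive G Ω) (hΩ : 2 ≤ Fintype.card Ω)
    (hconj : ∀ d e : G, (∀ y : Ω, d • y ≠ y) → (∀ y : Ω, e • y ≠ y) → IsConj d e)
    (N : Subgroup G) [hNn : N.Normal] (hN : N ≠ ⊥) (hab : IsMulCommutative N) :
    IsMultiplyPretransitive G Ω 2 ∧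
      ∀ g : G, g ≠ 1 → ∀ a b : Ω, a ≠ b → g • a = a → g • b ≠ b := by
  classical
  haveI htr := isPretransitive_of_normal hprim N hN
  have hfree : ∀ n ∈ N, ∀ y : Ω, n • y = y → n = 1 := by
    intro n hn y hy
    refine eq_of_smul_eq_smul (α := Ω) fun z => ?_
    obtain ⟨k, rfl⟩ := exists_smul_eq N y z
    rw [one_smul, Subgroup.smul_def, ← mul_smul]
    have : n * (k : G) = (k : G) * n := congrArg Subtype.val (hab.is_comm.comm ⟨n, hn⟩ k)
    rw [this, mul_smul, hy]
  have hder : ∀ n ∈ N, n ≠ 1 → ∀ y : Ω, n • y ≠ y := fun n hn h1 y hy => h1 (hfree n hn y hy)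
  refine ⟨is_two_pretransitive_iff.2 fun {a b c d} hab' hcd => ?_, ?_⟩
  · obtain ⟨k, hk⟩ := exists_smul_eq N a c
    obtain ⟨n1, hn1⟩ := exists_smul_eq N a b
    obtain ⟨n2, hn2⟩ := exists_smul_eq N a (k⁻¹ • d)
    have h1 : (n1 : G) ≠ 1 := fun h => hab' (by rw [← hn1, Subgroup.smul_def, h, one_smul])
    have h2 : (n2 : G) ≠ 1 := by
      intro h
      rw [Subgroup.smul_def, h, one_smul, eq_inv_smul_iff, hk] at hn2
      exact hcd hn2
    obtain ⟨g, hg⟩ := isConj_iff.1 (hconj _ _ (hder _ n1.2 h1) (hder _ n2.2 h2))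
    obtain ⟨k', hk'⟩ := exists_smul_eq N a (g • a)
    set h : G := (k' : G)⁻¹ * g with hh
    have hha : h • a = a := by rw [hh, mul_smul, ← hk', Subgroup.smul_def, inv_smul_smul]
    have hhn : h * n1 = n2 * h := by
      have hc : (n2 : G) * (k' : G) = k' * n2 := congrArg Subtype.val (hab.is_comm.comm n2 k')
      rw [hh, eq_comm, ← hg]
      rw [← hg] at hc
      calc g * (n1 : G) * g⁻¹ * ((k' : G)⁻¹ * g)
          = (k' : G)⁻¹ * ((k' : G) * (g * n1 * g⁻¹)) * (k' : G)⁻¹ * g := by group
        _ = (k' : G)⁻¹ * ((g * n1 * g⁻¹) * (k' : G)) * (k' : G)⁻¹ * g := by rw [← hc]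
        _ = _ := by group
    refine ⟨(k : G) * h, ?_, ?_⟩
    · rw [mul_smul, hha]; exact hk
    · rw [← hn1, Subgroup.smul_def, mul_smul, ← mul_smul h, hhn, mul_smul, hha,
        ← Subgroup.smul_def n2, hn2, ← Subgroup.smul_def, smul_inv_smul]
  · intro g0 hg0 a b hne ha hb
    have hg0N : g0 ∉ N := fun h => hg0 (hfree g0 h a ha)
    haveI : Fintype G := Fintype.ofFinite G
    obtain ⟨x0⟩ : Nonempty Ω := ⟨a⟩
    haveI : IsPretransitive G Ω := hprim.toIsPretransitive
    haveI : Subsingleton (Quotient (orbitRel G Ω)) := ⟨fun u v => by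
      induction u using Quotient.inductionOn with | _ u => ?_
      induction v using Quotient.inductionOn with | _ v => ?_
      exact Quotient.sound (exists_smul_eq G v u)⟩
    haveI : Unique (Quotient (orbitRel G Ω)) := uniqueOfSubsingleton ⟦x0⟧
    have hsum := sum_card_fixedBy_eq_card_orbits_mul_card_group G Ω
    rw [Fintype.card_unique, one_mul] at hsum
    have hN' : (Finset.univ.filter fun g : G => g ∈ N).card = Fintype.card Ω := by
      rw [← Fintype.card_subtype]
      refine Fintype.card_of_bijective (f := fun n : {g : G // g ∈ N} => (n : G) • x0) ⟨?_, ?_⟩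
      · intro u v huv
        have h1 := hfree _ (N.mul_mem (N.inv_mem v.2) u.2) x0
          (by rw [mul_smul, show (u : G) • x0 = (v : G) • x0 from huv, inv_smul_smul])
        exact Subtype.ext (inv_mul_eq_one.1 h1).symm
      · intro y
        obtain ⟨n, hn⟩ := exists_smul_eq N x0 y
        exact ⟨⟨n, n.2⟩, hn⟩
    let low : G → ℕ := fun g => if g ∈ N then (if g = 1 then Fintype.card Ω else 0) else 1
    have hlow : ∑ g : G, low g = Fintype.card G := by
      rw [← Finset.sum_filter_add_sum_filter_not Finset.univ (fun g : G => g ∈ N) low]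
      rw [Finset.sum_eq_single (1 : G)
        (fun g hg hg1 => by simp [low, (Finset.mem_filter.1 hg).2, hg1])
        (fun h => absurd (Finset.mem_filter.2 ⟨Finset.mem_univ _, N.one_mem⟩) h)]
      rw [Finset.sum_congr rfl (g := fun _ => 1)
        (fun g hg => by simp [low, (Finset.mem_filter.1 hg).2])]
      rw [show low 1 = Fintype.card Ω by simp [low], ← hN', Finset.sum_const, smul_eq_mul, mul_one,
        Finset.card_filter_add_card_filter_not, Finset.card_univ]
    have hfix : ∀ g : G, low g ≤ Fintype.card (fixedBy Ω g) := by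
      intro g
      by_cases hg : g ∈ N
      · by_cases hg1 : g = 1
        · subst hg1
          simp [low]
        · simp [low, hg, hg1]
      · simp only [low, if_neg hg]
        obtain ⟨y, hy⟩ : ∃ y : Ω, g • y = y := by
          by_contra h
          push Not at h
          exact hg (derangement_mem hprim hΩ hconj N hN h)
        exact Fintype.card_pos_iff.2 ⟨⟨y, hy⟩⟩
    have hlt : ∑ g : G, low g < ∑ g : G, Fintype.card (fixedBy Ω g) := by
      refine Finset.sum_lt_sum (fun g _ => hfix g) ⟨g0, Finset.mem_univ _, ?_⟩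
      simp only [low, if_neg hg0N]
      exact Fintype.one_lt_card_iff.2 ⟨⟨a, ha⟩, ⟨b, hb⟩, fun h => hne (congrArg Subtype.val h)⟩
    rw [hlow, hsum] at hlt
    exact lt_irrefl _ hlt

end CfsgLib.Perm.OneDerangementClass
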