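import Mathlib
import Cfsg.Agent.Lib.Classical.PSLTwoSimple
import Cfsg.Agent.Lib.Classical.SmallIsoSix
import Cfsg.Agent.Lib.Classical.SL2Sylow
import Cfsg.Agent.Lib.Classical.LinearOrder
import Cfsg.Agent.Lib.ClassSizes.AlternatingAut

/-! Facts about `SL(2,5)`: order, centre, perfectness, and the order of its automorphism group. -/

set_option autoImplicit false
set_option linter.all false

open scoped MatrixGroups

namespace CfsgLib.Perm.SLTwoFive

open Subgroup

local instance : Fact (Nat.Prime 5) := ⟨by norm_num⟩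

theorem card_eq : Nat.card SL(2, ZMod 5) = 120 := by
  rw [CfsgLib.Classical.Two.card_SL_two, ZMod.card]; rfl

theorem card_center : Nat.card (center SL(2, ZMod 5)) = 2 := by
  rw [CfsgLib.Classical.card_center_SL, ZMod.card, Fintype.card_fin]
  decide

theorem perfect : commutator SL(2, ZMod 5) = ⊤ :=
  CfsgLib.Classical.commutator_SL_two_eq_top (by rw [ZMod.card]; norm_num)

/-- Automorphisms of a perfect group are determined by their action on the central quotient. -/
theorem card_mulAut_dvd {N : Type*} [Group N] [Finite N] (hperf : commutator N = ⊤) :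
    Nat.card (MulAut N) ∣ Nat.card (MulAut (N ⧸ center N)) := by
  haveI : Finite (MulAut N) := Finite.of_injective _ DFunLike.coe_injective
  let Ψ : MulAut N →* MulAut (N ⧸ center N) :=
    { toFun := fun φ => QuotientGroup.congr (center N) (center N) φ (Subgroup.characteristic_iff_map_eq.1 inferInstance φ)
      map_one' := MulEquiv.ext fun x => by induction x using QuotientGroup.induction_on; rfl
      map_mul' := fun a b => MulEquiv.ext fun x => by induction x using QuotientGroup.induction_on; rfl }
  refine Subgroup.card_dvd_of_injective Ψ ((injective_iff_map_eq_one Ψ).2 fun φ hφ => MulEquiv.ext fun x => ?_)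
  have hc : ∀ y : N, φ y * y⁻¹ ∈ center N := fun y => by
    have h := DFunLike.congr_fun hφ (y : N ⧸ center N)
    change ((φ y : N) : N ⧸ center N) = (y : N ⧸ center N) at h
    rw [eq_comm, QuotientGroup.eq] at h
    have h2 := Subgroup.Normal.conj_mem inferInstance _ h y
    rwa [mul_inv_cancel_left] at h2
  let ζ : N →* center N :=
    { toFun := fun y => ⟨φ y * y⁻¹, hc y⟩
      map_one' := Subtype.ext (by simp)
      map_mul' := fun a b => Subtype.ext (show φ (a * b) * (a * b)⁻¹ = φ a * a⁻¹ * (φ b * b⁻¹) by
        calc φ (a * b) * (a * b)⁻¹ = φ a * (φ b * b⁻¹) * a⁻¹ := by rw [map_mul]; group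
          _ = φ a * (a⁻¹ * (φ b * b⁻¹)) := by rw [mul_assoc, mem_center_iff.1 (hc b) a⁻¹]
          _ = φ a * a⁻¹ * (φ b * b⁻¹) := by rw [mul_assoc]) }
  have hle : commutator N ≤ ζ.ker := by
    rw [_root_.commutator_def, Subgroup.commutator_le]
    intro a _ b _
    rw [MonoidHom.mem_ker, map_commutatorElement, commutatorElement_eq_one_iff_mul_comm]
    exact Subtype.ext ((mem_center_iff.1 (ζ a).2 (ζ b)).symm)
  rw [hperf] at hle
  exact mul_inv_eq_one.1 (congrArg Subtype.val (MonoidHom.mem_ker.1 (hle (mem_top x))))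

theorem mulAut_dvd : Nat.card (MulAut SL(2, ZMod 5)) ∣ 120 := by
  refine (card_mulAut_dvd perfect).trans (dvd_of_eq ?_)
  obtain ⟨e⟩ := CfsgLib.Classical.nonempty_psl_five_equiv_alt (F := ZMod 5) (ZMod.card 5)
  have h := Nat.card_congr (MulEquiv.ofBijective (MulAut.conjNormal : Equiv.Perm (Fin 5) →* MulAut (alternatingGroup (Fin 5)))
    (CfsgLib.ClassSizes.AlternatingAut.conjNormal_bijective (by decide) (by decide))).toEquiv
  rw [Nat.card_eq_fintype_card, Fintype.card_perm, Fintype.card_fin] at h
  exact (Nat.card_congr (MulAut.congr e).toEquiv).trans (h.symm.trans rfl)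

end CfsgLib.Perm.SLTwoFive
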