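import Cfsg.Agent.Lib.Char.CATI
import Cfsg.Agent.Lib.CharDegree.Basic
import Cfsg.Agent.Lib.CharDegree.Counting
import Cfsg.Agent.S0198
import Mathlib.Tactic

/-!
# Degrees attached to a self-centralizing subgroup with a small automiser

`exists_decomp` decomposes `ind (1 - r z)` for a self-centralizing subgroup `A`;
`exists_degree_of_index_two` is the degree equation with the involution counting formula
when the normaliser has the shape of a dihedral group.
-/

set_option autoImplicit false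

namespace CfsgLib.Perm.SelfCentDegree

open CfsgLib.CA CfsgLib.Char
open scoped ComplexConjugate Classical

variable {G : Type*} [Group G] [Fintype G] {A : Subgroup G}

local notation "NA" => Subgroup.normalizer (A : Set G)

/-- The trivial character is the only irreducible character of degree one of a perfect group. -/
theorem eq_trivChar_of_degree_one (hperf : commutator G = ⊤) (χ : Cfsg.IrrCharacter G)
    (h : (χ : G → ℂ) 1 = 1) : χ = trivChar G := by
  refine Subtype.ext (funext fun g => ?_)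
  rw [CfsgLib.CharDegree.le_ker_of_degree_one χ ((CfsgLib.CharDegree.charDegree_eq_one_iff χ).2 h)
    (by rw [hperf]; exact Subgroup.mem_top g), h]
  rfl

/-- The algebra behind the class multiplication formula. -/
theorem count_identity {N M c d v t y w : ℂ} (hc : c = 1 ∨ c = -1) (ht : t = 1 ∨ t = -1)
    (hd : d ≠ 0) (hy : y ≠ 0) (h1 : 1 + (t * y + c * d) = 0) (h2 : 1 + (t * w + c * v) = 0)
    (h : N * (1 * 1 * 1 / 1 + (w * w / y * t + v * v * c / d)) = M) :
    M * (c * d * (c * d + 1)) = N * (c * d - c * v) ^ 2 := by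
  have hyy : y = -t * (1 + c * d) := by
    rcases ht with rfl | rfl
    · linear_combination h1
    · linear_combination -h1
  have hww : w = -t * (1 + c * v) := by
    rcases ht with rfl | rfl
    · linear_combination h2
    · linear_combination -h2
  subst hyy hww
  have h3 : 1 + c * d ≠ 0 := fun e => hy (by rw [e, mul_zero])
  have e1 : -t * (1 + c * v) * (-t * (1 + c * v)) / (-t * (1 + c * d)) * t =
      -((1 + c * v) ^ 2 / (1 + c * d)) := by
    rcases ht with rfl | rfl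
    · simp only [neg_mul, one_mul, mul_one, mul_neg, neg_neg, div_neg]; ring
    · simp only [neg_neg, one_mul]; ring
  have hc2 : c * c = 1 := by rcases hc with rfl | rfl <;> norm_num
  have hX : c * d ≠ 0 := mul_ne_zero (by rcases hc with rfl | rfl <;> norm_num) hd
  have e2 : v * v * c / d = (c * v) ^ 2 / (c * d) := by
    rw [div_eq_div_iff hd hX]
    linear_combination (0 : ℂ) * hc2
  rw [← h, e1, e2]
  generalize c * v = V at *
  generalize c * d = X at *
  have hX1 : X + 1 ≠ 0 := by rwa [add_comm]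
  field_simp
  ring

variable (hA : SelfCent A)
include hA

theorem inner_comp {n : ℕ} {r : Fin n → Cfsg.IrrCharacter A} (hne : ∀ j, r j ≠ trivChar A)
    (horb : ∀ j k, j ≠ k → ∀ g : NA, (r j : A → ℂ) ∘ cj A g ≠ (r k : A → ℂ)) (j k : Fin n) :
    ∑ g : NA, Cfsg.classInner (r j : A → ℂ) ((r k : A → ℂ) ∘ cj A g) =
      if k = j then (Nat.card A : ℂ) else 0 := by
  have h : ∀ g : NA, Cfsg.classInner (r j : A → ℂ) ((r k : A → ℂ) ∘ cj A g) =
      if (r k : A → ℂ) ∘ cj A g = (r j : A → ℂ) then 1 else 0 := fun g => by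
    have := classInner_irr (r j) ⟨_, isIrr_comp_cj g (r k)⟩
    simp only [Subtype.ext_iff] at this
    rw [this]
    exact if_congr eq_comm rfl rfl
  simp only [h, Finset.sum_boole]
  split_ifs with hjk
  · subst hjk
    rw [card_fix hA (hne k)]
  · rw [Finset.filter_eq_empty_iff.mpr fun g _ => horb k j hjk g, Finset.card_empty, Nat.cast_zero]

omit hA in
theorem inner_triv_comp [Fintype A] (lam : Cfsg.IrrCharacter A)
    (h : lam ≠ trivChar A) (g : NA) :
    Cfsg.classInner (fun _ : A => (1 : ℂ)) ((lam : A → ℂ) ∘ cj A g) = 0 := by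
  refine classInner_irr_of_ne (χ := trivChar A) (ψ := ⟨_, isIrr_comp_cj g lam⟩) fun e => h ?_
  refine Subtype.ext (funext fun a => ?_)
  have := congrFun (congrArg Subtype.val e) ((cj A g).symm a)
  simpa using this.symm

omit hA [Fintype G] in
theorem inner_triv_self [Fintype A] :
    Cfsg.classInner (fun _ => (1 : ℂ)) (fun _ : A => (1 : ℂ)) = 1 :=
  classInner_irr_self (trivChar A)

omit hA [Fintype G] in
theorem inner_triv_right [Fintype A] (lam : Cfsg.IrrCharacter A) (h : lam ≠ trivChar A) :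
    Cfsg.classInner (lam : A → ℂ) (fun _ : A => (1 : ℂ)) = 0 :=
  classInner_irr_of_ne (ψ := trivChar A) h

omit hA in
theorem inner_cj_invariant [Fintype A] {h f : A → ℂ} (g : NA) (hh : h ∘ cj A g = h) :
    Cfsg.classInner h (f ∘ cj A g) = Cfsg.classInner h f := by
  conv_lhs => rw [← hh]
  simp only [Cfsg.classInner, Function.comp_apply]
  congr 1
  exact Equiv.sum_comp (cj A g).toEquiv fun a => h a * conj (f a)

omit hA in
theorem card_subgroupOf_normalizer (A : Subgroup G) :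
    Nat.card (Subgroup.normalizer (A : Set G)) =
      A.relIndex (Subgroup.normalizer (A : Set G)) * Nat.card A := by
  have h := Subgroup.index_mul_card (A.subgroupOf (Subgroup.normalizer (A : Set G)))
  rw [Nat.card_congr (Subgroup.subgroupOfEquivOfLe (Subgroup.le_normalizer (H := A))).toEquiv] at h
  exact h.symm

/-- The decomposition of `ind (1 - r z)`: integer multiplicities `c`, one sign `ε` and the
exceptional characters `μ`. -/
theorem exists_decomp [Fintype (Cfsg.IrrCharacter G)]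
    (hsize : 2 * A.relIndex NA + 1 ≤ Nat.card A) :
    ∃ (n : ℕ) (z : Fin n) (ε : ℤ) (μ : Fin n → Cfsg.IrrCharacter G) (c : Cfsg.IrrCharacter G → ℤ),
      2 ≤ n ∧ (ε = 1 ∨ ε = -1) ∧ n * A.relIndex NA + 1 = Nat.card A ∧ Function.Injective μ ∧
      c (trivChar G) = 1 ∧ ∑ χ, c χ * c χ = (A.relIndex NA : ℤ) + 1 ∧
      (∀ j, j ≠ z → c (μ j) - c (μ z) = ε) ∧
      (∀ j, (μ j : G → ℂ) 1 = (μ z : G → ℂ) 1) ∧
      (∀ χ, (∀ j, χ ≠ μ j) → (∀ a : A, a ≠ 1 → (χ : G → ℂ) a = (c χ : ℂ)) ∧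
        ∃ k : ℤ, (χ : G → ℂ) 1 = (c χ : ℂ) + (Nat.card A : ℂ) * k) ∧
      ∀ y : G, (∀ x : G, x⁻¹ * y * x ∈ A → x⁻¹ * y * x = 1) →
        ∑ χ, (c χ : ℂ) * (χ : G → ℂ) y = 0 ∧ ∀ j, (μ j : G → ℂ) y = (μ z : G → ℂ) y := by
  obtain ⟨n, r, hcard, hrne, horb, hall, -⟩ := exists_reps hA
  have := Fintype.ofFinite (Cfsg.IrrCharacter A)
  have hn : 2 ≤ n := by
    by_contra h
    have he : 0 < A.relIndex NA :=
      Nat.pos_of_ne_zero (Subgroup.index_ne_zero_of_finite (H := A.subgroupOf NA))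
    have : n * A.relIndex NA ≤ 1 * A.relIndex NA := Nat.mul_le_mul_right _ (by omega)
    omega
  let z : Fin n := ⟨0, by omega⟩
  have hA0 : (Nat.card A : ℂ) ≠ 0 := Nat.cast_ne_zero.mpr Nat.card_pos.ne'
  let τ : Fin n → G → ℂ := fun j => Cfsg.indFun A ((r j : A → ℂ) - (r z : A → ℂ))
  let ψ : G → ℂ := Cfsg.indFun A ((fun _ : A => (1 : ℂ)) - (r z : A → ℂ))
  have hz : ∀ j, ((r j : A → ℂ) - (r z : A → ℂ)) 1 = 0 := fun j => by
    rw [Pi.sub_apply, degree_one hA, degree_one hA, sub_self]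
  have hz0 : ((fun _ : A => (1 : ℂ)) - (r z : A → ℂ)) 1 = 0 := by
    rw [Pi.sub_apply, degree_one hA, sub_self]
  have hgram : ∀ i j, i ≠ z → j ≠ z →
      Cfsg.classInner (τ i) (τ j) = if i = j then 2 else 1 := by
    intro i j hi hj
    have h := classInner_indFun hA ((r i : A → ℂ) - (r z : A → ℂ)) (hz j)
    have hcomp : ∀ g : NA, ((r j : A → ℂ) - (r z : A → ℂ)) ∘ cj A g =
        (r j : A → ℂ) ∘ cj A g - (r z : A → ℂ) ∘ cj A g := fun g => rfl
    simp only [hcomp, classInner_sub_left, classInner_sub_right, Finset.sum_sub_distrib,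
      inner_comp hA hrne horb, if_neg hj, if_neg (Ne.symm hi), if_pos] at h
    refine mul_left_cancel₀ hA0 (h.trans ?_)
    by_cases hij : i = j
    · subst hij; simp; ring
    · simp [hij, Ne.symm hij]
  obtain ⟨εC, hεC, μ0, hμ0, hinj, hrel⟩ := Cfsg.Agent.S0198.result n z τ
    (by simp [τ, indFun_zero])
    (fun j => IsGen.indFun (IsGen.sub (IsGen.of_irr (r j).2) (IsGen.of_irr (r z).2)))
    (fun j => by simp only [τ]; rw [indFun_apply_one, hz j, mul_zero]) hgram
  obtain ⟨ε, hεe, hε⟩ : ∃ ε : ℤ, (ε : ℂ) = εC ∧ (ε = 1 ∨ ε = -1) := by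
    rcases hεC with rfl | rfl
    · exact ⟨1, by simp, Or.inl rfl⟩
    · exact ⟨-1, by simp, Or.inr rfl⟩
  have hεsq : ε * ε = 1 := by rcases hε with rfl | rfl <;> rfl
  have hεne : (ε : ℂ) ≠ 0 := by rcases hε with rfl | rfl <;> simp
  let μ : Fin n → Cfsg.IrrCharacter G := fun j => ⟨μ0 j, hμ0 j⟩
  have hrel' : ∀ j, τ j = (ε : ℂ) • ((μ j : G → ℂ) - (μ z : G → ℂ)) := fun j => by
    rw [hεe]; exact hrel j
  have hgenψ : Cfsg.IsGeneralizedCharacter G ψ :=
    IsGen.indFun (IsGen.sub (IsGen.of_isCharacter isCharacter_one) (IsGen.of_irr (r z).2))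
  choose c hc using fun χ : Cfsg.IrrCharacter G =>
    IsGen.exists_classInner_eq_intCast hgenψ (IsGen.of_irr χ.2)
  have hψsum : ψ = ∑ χ : Cfsg.IrrCharacter G, (c χ : ℂ) • (χ : G → ℂ) := by
    funext g
    rw [classFunction_apply_eq_sum (IsGen.isClassFunction hgenψ) g, Finset.sum_apply]
    exact Finset.sum_congr rfl fun χ _ => by rw [hc, Pi.smul_apply, smul_eq_mul]
  have hcomp : ∀ g : NA, ((fun _ : A => (1 : ℂ)) - (r z : A → ℂ)) ∘ cj A g =
      (fun _ : A => (1 : ℂ)) - (r z : A → ℂ) ∘ cj A g := fun g => rfl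
  -- norm
  have hnorm : Cfsg.classInner ψ ψ = (A.relIndex NA : ℂ) + 1 := by
    have h := classInner_indFun hA ((fun _ : A => (1 : ℂ)) - (r z : A → ℂ)) hz0
    simp only [hcomp, classInner_sub_left, classInner_sub_right, Finset.sum_sub_distrib,
      inner_comp hA hrne horb, if_pos, inner_triv_self,
      inner_triv_comp _ (hrne z), inner_triv_right _ (hrne z),
      Finset.sum_const, nsmul_eq_mul, smul_zero, mul_zero] at h
    rw [Finset.card_univ, ← Nat.card_eq_fintype_card, card_subgroupOf_normalizer] at h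
    refine mul_left_cancel₀ hA0 (h.trans ?_)
    push_cast
    ring
  have hct : c (trivChar G) = 1 := by
    have h : Cfsg.classInner ψ (trivChar G : G → ℂ) = 1 := by
      rw [frobenius_reciprocity A _ (IsIrr.isClassFunction (trivChar G).2), classInner_sub_left]
      simp only [trivChar_apply]
      rw [inner_triv_self, inner_triv_right _ (hrne z), sub_zero]
    exact_mod_cast (hc _).symm.trans h
  have hsumsq : ∑ χ, c χ * c χ = (A.relIndex NA : ℤ) + 1 := by
    have h := hnorm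
    rw [hψsum, IsGen.classInner_self] at h
    exact_mod_cast h
  have htau : ∀ j, j ≠ z → Cfsg.classInner ψ (τ j) = 1 := by
    intro j hj
    have h := classInner_indFun hA ((fun _ : A => (1 : ℂ)) - (r z : A → ℂ)) (hz j)
    have hcj : ∀ g : NA, ((r j : A → ℂ) - (r z : A → ℂ)) ∘ cj A g =
        (r j : A → ℂ) ∘ cj A g - (r z : A → ℂ) ∘ cj A g := fun g => rfl
    simp only [hcj, classInner_sub_left, classInner_sub_right, Finset.sum_sub_distrib,
      inner_comp hA hrne horb, inner_triv_comp _ (hrne _), if_pos,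
      if_neg hj, Finset.sum_const_zero] at h
    refine mul_left_cancel₀ hA0 (h.trans ?_)
    ring
  have hcμ : ∀ j, j ≠ z → c (μ j) - c (μ z) = ε := by
    intro j hj
    have h := htau j hj
    rw [hrel' j, classInner_smul_right, map_intCast, classInner_sub_right, hc, hc] at h
    have h' : ε * (c (μ j) - c (μ z)) = 1 := by exact_mod_cast h
    calc c (μ j) - c (μ z) = (ε * ε) * (c (μ j) - c (μ z)) := by rw [hεsq, one_mul]
      _ = ε := by rw [mul_assoc, h', mul_one]
  have hdeg : ∀ j, (μ j : G → ℂ) 1 = (μ z : G → ℂ) 1 := by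
    intro j
    have h : τ j 1 = 0 := by simp only [τ]; rw [indFun_apply_one, hz j, mul_zero]
    rw [hrel' j, Pi.smul_apply, Pi.sub_apply, smul_eq_mul, mul_eq_zero] at h
    exact sub_eq_zero.1 (h.resolve_left hεne)
  refine ⟨n, z, ε, μ, c, hn, hε, hcard, fun i j h => hinj (congrArg Subtype.val h), hct, hsumsq,
    hcμ, hdeg, fun χ hχ => ?_, fun y hy => ?_⟩
  · -- values outside the family
    set h : A → ℂ := fun x => (χ : G → ℂ) x with hh
    have hβ' : (c χ : ℂ) = Cfsg.classInner h (trivChar A : A → ℂ) -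
        Cfsg.classInner h (r z : A → ℂ) := by
      have h1 : conj (Cfsg.classInner ψ (χ : G → ℂ)) = (c χ : ℂ) := by rw [hc, map_intCast]
      rw [← h1, frobenius_reciprocity A _ (IsIrr.isClassFunction χ.2), classInner_conj_symm,
        classInner_sub_right]
      rfl
    have hres : ∀ g : NA, h ∘ cj A g = h := fun g => funext fun a => by
      show (χ : G → ℂ) (cj A g a : A) = _
      rw [coe_cj, IsIrr.isClassFunction χ.2]
    have horbit : ∀ lam : Cfsg.IrrCharacter A, lam ≠ trivChar A →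
        Cfsg.classInner h (lam : A → ℂ) = Cfsg.classInner h (r z : A → ℂ) := by
      intro lam hlam
      obtain ⟨j, g, hg⟩ := hall lam hlam
      rw [← hg, inner_cj_invariant g (hres g), ← sub_eq_zero, ← classInner_sub_right,
        ← classInner_conj_symm, ← frobenius_reciprocity A _ (IsIrr.isClassFunction χ.2)]
      show conj (Cfsg.classInner (τ j) (χ : G → ℂ)) = 0
      rw [hrel', classInner_smul_left, classInner_sub_left, classInner_irr, classInner_irr,
        if_neg (hχ j).symm, if_neg (hχ z).symm, sub_zero, mul_zero, map_zero]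
    have hcl : Cfsg.IsClassFunction A (h - (c χ : ℂ) • (trivChar A : A → ℂ)) := fun x y => by
      rw [comm hA y x, mul_inv_cancel_right]
    have key : ∀ lam : Cfsg.IrrCharacter A,
        Cfsg.classInner (h - (c χ : ℂ) • (trivChar A : A → ℂ)) (lam : A → ℂ) =
          Cfsg.classInner h (r z : A → ℂ) := by
      intro lam
      rw [classInner_sub_left, classInner_smul_left, classInner_irr]
      by_cases hlam : lam = trivChar A
      · rw [hlam, if_pos rfl, hβ']; ring
      · rw [if_neg (Ne.symm hlam), mul_zero, sub_zero, horbit lam hlam]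
    refine ⟨fun a ha => ?_, ?_⟩
    · have h0 := classFunction_apply_eq_sum hcl a
      simp only [key, ← Finset.mul_sum] at h0
      have hreg : ∑ lam : Cfsg.IrrCharacter A, (lam : A → ℂ) a = 0 := by
        have := sum_degree_mul_apply_of_ne_one ha
        simpa [degree_one hA] using this
      rw [hreg, mul_zero] at h0
      simpa [sub_eq_zero, hh] using h0
    · obtain ⟨k, hk⟩ := IsGen.exists_classInner_eq_intCast
        (IsGen.restrict A (IsGen.of_irr χ.2)) (IsGen.of_irr (r z).2)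
      refine ⟨k, ?_⟩
      have h0 := classFunction_apply_eq_sum hcl 1
      simp only [key, ← Finset.mul_sum] at h0
      have hreg : ∑ lam : Cfsg.IrrCharacter A, (lam : A → ℂ) 1 = (Nat.card A : ℂ) := by
        have := sum_sq_degree (G := A)
        simpa [degree_one hA] using this
      rw [hreg, show Cfsg.classInner h (r z : A → ℂ) = (k : ℂ) from hk, Pi.sub_apply, Pi.smul_apply,
        trivChar_apply, smul_eq_mul, mul_one] at h0
      have : (χ : G → ℂ) 1 = h 1 := by rw [hh]; rfl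
      rw [this]
      linear_combination h0
  · refine ⟨?_, fun j => ?_⟩
    · have h : ψ y = 0 := CfsgLib.CA.indFun_eq_zero hz0 hy
      rw [hψsum, Finset.sum_apply] at h
      simpa [smul_eq_mul] using h
    · have h : τ j y = 0 := CfsgLib.CA.indFun_eq_zero (hz j) hy
      rw [hrel' j, Pi.smul_apply, Pi.sub_apply, smul_eq_mul, mul_eq_zero] at h
      exact sub_eq_zero.1 (h.resolve_left hεne)

omit hA in
/-- A character value at an element of order at most two is an integer. -/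
theorem exists_int_of_sq_eq_one (χ : Cfsg.IrrCharacter G) {u : G} (hu : u * u = 1) :
    ∃ v : ℤ, (χ : G → ℂ) u = v := by
  obtain ⟨k, ρ, -, hρ⟩ := χ.2
  obtain ⟨e, he, -, hpow, -⟩ := exists_eigenvalues ρ u
  have h2 : orderOf u ∣ 2 := orderOf_dvd_of_pow_eq_one (by rw [pow_two, hu])
  have hsq : ∀ i, e i = 1 ∨ e i = -1 := fun i => by
    obtain ⟨d, hd⟩ := h2
    have : e i ^ 2 = 1 := by rw [hd, pow_mul, he, one_pow]
    exact sq_eq_one_iff.1 this
  refine ⟨∑ i, if e i = 1 then 1 else -1, ?_⟩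
  have h1 := hpow 1
  simp only [pow_one] at h1
  rw [← hρ, h1, Int.cast_sum]
  refine Finset.sum_congr rfl fun i _ => ?_
  rcases hsq i with h | h
  · simp [h]
  · rw [h, if_neg (by norm_num)]; simp

/-- Elements of the normaliser outside `A` are involutions inverting `A` when `|N : A| = 2`. -/
theorem sq_eq_one_and_inverts (hind : A.relIndex NA = 2) {v : G} (hv : v ∈ NA) (hv' : v ∉ A) :
    v * v = 1 ∧ ∀ a ∈ A, v * a * v⁻¹ = a⁻¹ := by
  have hvv : v * v ∈ A := Subgroup.mul_self_mem_of_index_two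
    (H := A.subgroupOf NA) hind (⟨v, hv⟩ : NA)
  have hfix : ∀ a : A, cj A ⟨v, hv⟩ a = a → a = 1 := fun a h => by
    by_contra ha
    exact hv' (mem_of_cj_eq hA ha h)
  refine ⟨?_, fun a ha => ?_⟩
  · exact congrArg Subtype.val (hfix ⟨v * v, hvv⟩ (Subtype.ext (by rw [coe_cj]; group)))
  · have h2 : cj A ⟨v, hv⟩ (cj A ⟨v, hv⟩ ⟨a, ha⟩) = ⟨a, ha⟩ := by
      refine Subtype.ext ?_
      have hc : (⟨v * v, hvv⟩ : A) * ⟨a, ha⟩ = ⟨a, ha⟩ * ⟨v * v, hvv⟩ := comm hA _ _
      have hc' : v * v * a = a * (v * v) := congrArg Subtype.val hc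
      show v * (v * a * v⁻¹) * v⁻¹ = a
      calc v * (v * a * v⁻¹) * v⁻¹ = (v * v * a) * (v * v)⁻¹ := by group
        _ = a := by rw [hc']; group
    have h3 := hfix (⟨a, ha⟩ * cj A ⟨v, hv⟩ ⟨a, ha⟩) (by
      rw [map_mul, h2]; exact comm hA _ _)
    exact eq_inv_of_mul_eq_one_right (congrArg Subtype.val h3 : a * (v * a * v⁻¹) = 1)

omit hA in
theorem card_conj_fiber (u v g₀ : G) (h : g₀ * u * g₀⁻¹ = v) :
    Nat.card {g : G // g * u * g⁻¹ = v} = Nat.card (Subgroup.centralizer ({u} : Set G)) := by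
  refine Nat.card_congr
    { toFun := fun g => ⟨g₀⁻¹ * g.1, Subgroup.mem_centralizer_singleton_iff.2 ?_⟩
      invFun := fun k => ⟨g₀ * k.1, ?_⟩
      left_inv := fun g => Subtype.ext (by simp)
      right_inv := fun k => Subtype.ext (by simp) }
  · have h' : g.1 * u * g.1⁻¹ = g₀ * u * g₀⁻¹ := g.2.trans h.symm
    calc g₀⁻¹ * g.1 * u = g₀⁻¹ * (g.1 * u * g.1⁻¹) * g.1 := by group
      _ = g₀⁻¹ * (g₀ * u * g₀⁻¹) * g.1 := by rw [h']
      _ = u * (g₀⁻¹ * g.1) := by group
  · have hk := Subgroup.mem_centralizer_singleton_iff.1 k.2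
    calc g₀ * k.1 * u * (g₀ * k.1)⁻¹ = g₀ * (k.1 * u * k.1⁻¹) * g₀⁻¹ := by group
      _ = v := by rw [hk]; rw [← h]; group

/-- The involutions `v, w` with `v * w` a given element of `A` are counted by the normaliser. -/
theorem card_solutions (hind : A.relIndex NA = 2) {u : G} (hu : u ∈ NA) (hu' : u ∉ A)
    {a : G} (ha : a ∈ A) (ha1 : a ≠ 1) :
    Nat.card {p : G × G // p.1 * u * p.1⁻¹ * (p.2 * u * p.2⁻¹ * a) = 1} =
      Nat.card A * Nat.card (Subgroup.centralizer ({u} : Set G)) ^ 2 := by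
  obtain ⟨hu2, huinv⟩ := sq_eq_one_and_inverts hA hind hu hu'
  -- the complement of `A` in its normaliser
  have hodd : ∀ b ∈ A, b * b = 1 → b = 1 := fun b hb hb2 => by
    by_contra hb1
    have h := huinv b hb
    rw [inv_eq_of_mul_eq_one_right hb2] at h
    exact hu' (mem_of_cj_eq hA (g := ⟨u, hu⟩) (a := ⟨b, hb⟩) (fun e => hb1 (congrArg Subtype.val e))
      (Subtype.ext h))
  have hsurj : Function.Surjective (fun b : A => b * b) :=
    Finite.injective_iff_surjective.1 fun b c h => by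
      have h1 : (b * c⁻¹) * (b * c⁻¹) = 1 := by
        rw [mul_mul_mul_comm_of_comm hA b c⁻¹]
        rw [show (b * b) * (c⁻¹ * c⁻¹) = (b * b) * (c * c)⁻¹ by group, show b * b = c * c from h,
          mul_inv_cancel]
      have h2 := hodd _ (b * c⁻¹).2 (congrArg Subtype.val h1)
      exact mul_inv_eq_one.1 (Subtype.ext h2)
  have hconj : ∀ v ∈ NA, v ∉ A → ∃ g, g * u * g⁻¹ = v := by
    intro v hv hv'
    have hmem : u⁻¹ * v ∈ A := by
      have := (Subgroup.mul_mem_iff_of_index_two (H := A.subgroupOf NA) hind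
        (a := (⟨u, hu⟩ : NA)⁻¹) (b := ⟨v, hv⟩)).2 ⟨fun h => absurd (inv_mem_iff.1 h) hu', fun h => absurd h hv'⟩
      exact this
    obtain ⟨b, hb⟩ := hsurj ⟨_, hmem⟩
    refine ⟨(b : G)⁻¹, ?_⟩
    have hb' : (b : G) * b = u⁻¹ * v := congrArg Subtype.val hb
    have h := huinv (b : G)⁻¹ (A.inv_mem b.2)
    rw [inv_inv] at h
    calc (b : G)⁻¹ * u * (b : G)⁻¹⁻¹ = u * (u⁻¹ * (b : G)⁻¹ * u) * b := by group
      _ = u * (b : G) * b := by
          have hu1 : u⁻¹ = u := inv_eq_of_mul_eq_one_right hu2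
          conv_lhs => rw [show u⁻¹ * (b : G)⁻¹ * u = u * (b : G)⁻¹ * u⁻¹ by rw [hu1], h]
      _ = v := by rw [mul_assoc, hb']; group
  have hpair : ∀ g h : G, g * u * g⁻¹ * (h * u * h⁻¹ * a) = 1 →
      (g * u * g⁻¹ ∈ NA ∧ g * u * g⁻¹ ∉ A) ∧ h * u * h⁻¹ = g * u * g⁻¹ * a⁻¹ := by
    intro g h e
    have hg2 : (g * u * g⁻¹) * (g * u * g⁻¹) = 1 := by
      calc _ = g * (u * u) * g⁻¹ := by group
        _ = 1 := by rw [hu2]; group
    have hh2 : (h * u * h⁻¹) * (h * u * h⁻¹) = 1 := by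
      calc _ = h * (u * u) * h⁻¹ := by group
        _ = 1 := by rw [hu2]; group
    generalize g * u * g⁻¹ = v at *
    generalize h * u * h⁻¹ = w at *
    have hw : w = v * a⁻¹ := by
      calc w = v⁻¹ * (v * (w * a)) * a⁻¹ := by group
        _ = v * a⁻¹ := by rw [e, inv_eq_of_mul_eq_one_right hg2, mul_one]
    have hva : v * a⁻¹ * v⁻¹ = a := by
      rw [hw] at hh2
      calc v * a⁻¹ * v⁻¹ = (v * a⁻¹ * (v * a⁻¹)) * a * (v * v)⁻¹ := by group
        _ = a := by rw [hh2, hg2]; group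
    have hvN : v ∈ NA := mem_normalizer_of_conj_mem hA (A.inv_mem ha) (by simpa using ha1)
      (by rw [hva]; exact ha)
    refine ⟨⟨hvN, fun hvA => ?_⟩, hw⟩
    have hcomm : v * a⁻¹ = a⁻¹ * v := congrArg Subtype.val (comm hA ⟨v, hvA⟩ ⟨_, A.inv_mem ha⟩)
    rw [hcomm, mul_assoc, mul_inv_cancel, mul_one] at hva
    exact ha1 (hodd a ha (by nth_rewrite 1 [← hva]; rw [inv_mul_cancel]))
  have hval : ∀ v : {v : G // v ∈ NA ∧ v ∉ A}, v.1 * a⁻¹ ∈ NA ∧ v.1 * a⁻¹ ∉ A := fun v =>
    ⟨mul_mem v.2.1 (Subgroup.le_normalizer (A.inv_mem ha)),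
      fun h => v.2.2 ((Subgroup.mul_mem_cancel_right A (A.inv_mem ha)).1 h)⟩
  let E : {p : G × G // p.1 * u * p.1⁻¹ * (p.2 * u * p.2⁻¹ * a) = 1} ≃
      Σ v : {v : G // v ∈ NA ∧ v ∉ A}, {g : G // g * u * g⁻¹ = v.1} × {h : G // h * u * h⁻¹ = v.1 * a⁻¹} :=
    { toFun := fun p => ⟨⟨_, (hpair _ _ p.2).1⟩, ⟨p.1.1, rfl⟩, ⟨p.1.2, (hpair _ _ p.2).2⟩⟩
      invFun := fun q => ⟨(q.2.1.1, q.2.2.1), by
        rw [q.2.1.2, q.2.2.2]
        have h2 := (sq_eq_one_and_inverts hA hind q.1.2.1 q.1.2.2).1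
        calc q.1.1 * (q.1.1 * a⁻¹ * a) = q.1.1 * q.1.1 := by group
          _ = 1 := h2⟩
      left_inv := fun p => rfl
      right_inv := by
        rintro ⟨⟨v, hv⟩, ⟨g, hg⟩, ⟨h, hh⟩⟩
        simp only at hg hh ⊢
        subst hg
        rfl }
  rw [Nat.card_congr E, Nat.card_sigma]
  have hfib : ∀ v : {v : G // v ∈ NA ∧ v ∉ A},
      Nat.card ({g : G // g * u * g⁻¹ = v.1} × {h : G // h * u * h⁻¹ = v.1 * a⁻¹}) =
        Nat.card (Subgroup.centralizer ({u} : Set G)) ^ 2 := by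
    intro v
    obtain ⟨g₀, hg₀⟩ := hconj v.1 v.2.1 v.2.2
    obtain ⟨h₀, hh₀⟩ := hconj _ (hval v).1 (hval v).2
    rw [Nat.card_prod, card_conj_fiber u _ g₀ hg₀, card_conj_fiber u _ h₀ hh₀, sq]
  rw [Finset.sum_congr rfl fun v _ => hfib v, Finset.sum_const, Finset.card_univ, smul_eq_mul,
    ← Nat.card_eq_fintype_card]
  congr 1
  refine Nat.card_congr
    { toFun := fun v => ⟨u⁻¹ * v.1, (Subgroup.mul_mem_iff_of_index_two (H := A.subgroupOf NA) hind
        (a := (⟨u, hu⟩ : NA)⁻¹) (b := ⟨v.1, v.2.1⟩)).2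
          ⟨fun h => absurd (inv_mem_iff.1 h) hu', fun h => absurd h v.2.2⟩⟩
      invFun := fun b => ⟨u * b.1, mul_mem hu (Subgroup.le_normalizer b.2),
        fun h => hu' ((Subgroup.mul_mem_cancel_right A b.2).1 h)⟩
      left_inv := fun v => Subtype.ext (by simp)
      right_inv := fun b => Subtype.ext (by simp) }
where
  mul_mul_mul_comm_of_comm {G : Type _} [Group G] {A : Subgroup G} (hA : SelfCent A) (b c : A) :
      b * c * (b * c) = b * b * (c * c) := by
    rw [mul_assoc, ← mul_assoc c, comm hA c b, mul_assoc, ← mul_assoc, ← mul_assoc]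

/-- Involutions multiplying to a non-identity element of `A` are conjugate to `u`. -/
theorem exists_conj_of_mem_solutions (hind : A.relIndex NA = 2) {u : G} (hu : u ∈ NA) (hu' : u ∉ A)
    {a : G} (ha : a ∈ A) (ha1 : a ≠ 1) {y g h : G} (hy : y * y = 1)
    (e : g * y * g⁻¹ * (h * y * h⁻¹ * a) = 1) : ∃ k, k * u * k⁻¹ = g * y * g⁻¹ := by
  obtain ⟨hu2, huinv⟩ := sq_eq_one_and_inverts hA hind hu hu'
  have hodd : ∀ b ∈ A, b * b = 1 → b = 1 := fun b hb hb2 => by
    by_contra hb1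
    have h := huinv b hb
    rw [inv_eq_of_mul_eq_one_right hb2] at h
    exact hu' (mem_of_cj_eq hA (g := ⟨u, hu⟩) (a := ⟨b, hb⟩) (fun e => hb1 (congrArg Subtype.val e))
      (Subtype.ext h))
  have hg2 : (g * y * g⁻¹) * (g * y * g⁻¹) = 1 := by
    calc _ = g * (y * y) * g⁻¹ := by group
      _ = 1 := by rw [hy]; group
  have hh2 : (h * y * h⁻¹) * (h * y * h⁻¹) = 1 := by
    calc _ = h * (y * y) * h⁻¹ := by group
      _ = 1 := by rw [hy]; group
  generalize g * y * g⁻¹ = v at *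
  generalize h * y * h⁻¹ = w at *
  have hw : w = v * a⁻¹ := by
    calc w = v⁻¹ * (v * (w * a)) * a⁻¹ := by group
      _ = v * a⁻¹ := by rw [e, inv_eq_of_mul_eq_one_right hg2, mul_one]
  have hva : v * a⁻¹ * v⁻¹ = a := by
    rw [hw] at hh2
    calc v * a⁻¹ * v⁻¹ = (v * a⁻¹ * (v * a⁻¹)) * a * (v * v)⁻¹ := by group
      _ = a := by rw [hh2, hg2]; group
  have hvN : v ∈ NA := mem_normalizer_of_conj_mem hA (A.inv_mem ha) (by simpa using ha1)
    (by rw [hva]; exact ha)
  have hv' : v ∉ A := fun hvA => by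
    have hcomm : v * a⁻¹ = a⁻¹ * v := congrArg Subtype.val (comm hA ⟨v, hvA⟩ ⟨_, A.inv_mem ha⟩)
    rw [hcomm, mul_assoc, mul_inv_cancel, mul_one] at hva
    exact ha1 (hodd a ha (by nth_rewrite 1 [← hva]; rw [inv_mul_cancel]))
  have hsurj : Function.Surjective (fun b : A => b * b) :=
    Finite.injective_iff_surjective.1 fun b c h => by
      have h1 : (b * c⁻¹) * (b * c⁻¹) = 1 := by
        have hbc : c⁻¹ * b = b * c⁻¹ := comm hA _ _
        calc (b * c⁻¹) * (b * c⁻¹) = b * (c⁻¹ * b) * c⁻¹ := by group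
          _ = (b * b) * (c * c)⁻¹ := by rw [hbc]; group
          _ = 1 := by rw [show b * b = c * c from h, mul_inv_cancel]
      exact mul_inv_eq_one.1 (Subtype.ext (hodd _ (b * c⁻¹).2 (congrArg Subtype.val h1)))
  have hmem : u⁻¹ * v ∈ A := (Subgroup.mul_mem_iff_of_index_two (H := A.subgroupOf NA) hind
    (a := (⟨u, hu⟩ : NA)⁻¹) (b := ⟨v, hvN⟩)).2
      ⟨fun h => absurd (inv_mem_iff.1 h) hu', fun h => absurd h hv'⟩
  obtain ⟨b, hb⟩ := hsurj ⟨_, hmem⟩
  refine ⟨(b : G)⁻¹, ?_⟩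
  have hb' : (b : G) * b = u⁻¹ * v := congrArg Subtype.val hb
  have hi := huinv (b : G)⁻¹ (A.inv_mem b.2)
  rw [inv_inv] at hi
  have hu1 : u⁻¹ = u := inv_eq_of_mul_eq_one_right hu2
  calc (b : G)⁻¹ * u * (b : G)⁻¹⁻¹ = u * (u⁻¹ * (b : G)⁻¹ * u) * b := by group
    _ = u * (u * (b : G)⁻¹ * u⁻¹) * b := by rw [hu1]
    _ = u * (b : G) * b := by rw [hi]
    _ = v := by rw [mul_assoc, hb']; group

set_option maxHeartbeats 1000000 in
/-- For a self-centralizing subgroup `A` of order at least five with `|N(A) : A| = 2` in a perfect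
group there is an integer `x ≡ 1 mod |A|`, with `x` and `x + 1` dividing the order up to sign, and
`|A| |C(u)|² x (x + 1) = |G| (x - v)²` for an involution `u` inverting `A`; `v` is up to sign the value at `u` of a character of degree `|x|`. -/
theorem exists_degree_of_index_two'' (hperf : commutator G = ⊤) (hind : A.relIndex NA = 2)
    (hsize : 5 ≤ Nat.card A) {u : G} (hu : u ∈ NA) (hu' : u ∉ A) :
    ∃ x v : ℤ, x ≠ 1 ∧ x ≠ -1 ∧ x.natAbs ∣ Nat.card G ∧ (x + 1).natAbs ∣ Nat.card G ∧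
      (Nat.card A : ℤ) ∣ x - 1 ∧
      (Nat.card A : ℤ) * (Nat.card (Subgroup.centralizer ({u} : Set G)) : ℤ) ^ 2 * (x * (x + 1)) =
        (Nat.card G : ℤ) * (x - v) ^ 2 ∧ v.natAbs ≤ x.natAbs ∧
      (∃ χ : Cfsg.IrrCharacter G, χ ≠ trivChar G ∧ (χ : G → ℂ) 1 = x.natAbs ∧
        ‖(χ : G → ℂ) u‖ = v.natAbs) ∧
      ∀ y : G, y * y = 1 → IsConj u y ∨ ∃ K : Subgroup G, K.Normal ∧ y ∈ K ∧ K ≠ ⊤ := by
  have := Fintype.ofFinite (Cfsg.IrrCharacter G)
  obtain ⟨n, z, ε, μ, c, hn, hε, hcard, hinj, hct, hsq, hcμ, hdeg, hout, hvan⟩ :=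
    exists_decomp hA (by omega)
  rw [hind] at hsq
  obtain ⟨hu2, huinv⟩ := sq_eq_one_and_inverts hA hind hu hu'
  have hconjA : ∀ {y : G}, y * y = 1 → ∀ x : G, x⁻¹ * y * x ∈ A → x⁻¹ * y * x = 1 := by
    intro y hy x hx
    by_contra hne
    · have hsq : (x⁻¹ * y * x) * (x⁻¹ * y * x) = 1 := by
        calc _ = x⁻¹ * (y * y) * x := by group
          _ = 1 := by rw [hy]; group
      have h := huinv _ hx
      rw [inv_eq_of_mul_eq_one_right hsq] at h
      exact hu' (mem_of_cj_eq hA (g := ⟨u, hu⟩) (a := ⟨_, hx⟩)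
        (fun e => hne (congrArg Subtype.val e)) (Subtype.ext h))
  choose d hd using fun χ : Cfsg.IrrCharacter G => IsIrr.exists_degree χ.2
  have hd1 : ∀ χ, ((d χ : ℂ)) = (χ : G → ℂ) 1 := fun χ => (hd χ).2.symm
  have hddvd : ∀ χ : Cfsg.IrrCharacter G, d χ ∣ Nat.card G := fun χ => by
    rw [← CfsgLib.CharDegree.charDegree_eq_of_apply_one (hd χ).2]
    exact CfsgLib.CharDegree.charDegree_dvd_card χ
  have hrange : ∀ j, μ j ≠ trivChar G := by
    intro j h
    obtain ⟨i, hi⟩ : ∃ i : Fin n, i ≠ j := by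
      by_cases hj : j = ⟨0, by omega⟩
      · exact ⟨⟨1, by omega⟩, fun e => by rw [hj] at e; simp at e⟩
      · exact ⟨⟨0, by omega⟩, Ne.symm hj⟩
    have h1 : (μ i : G → ℂ) 1 = 1 := by rw [hdeg i, ← hdeg j, h]; simp
    exact hi (hinj ((eq_trivChar_of_degree_one hperf _ h1).trans h.symm))
  -- split the sums
  set R : Finset (Cfsg.IrrCharacter G) := Finset.univ.image μ with hR
  have htR : trivChar G ∉ R := by simp [hR, hrange]
  set S : Finset (Cfsg.IrrCharacter G) := (Finset.univ.erase (trivChar G)) \ R with hS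
  have hsplit : ∀ {M : Type} [AddCommMonoid M] (f : Cfsg.IrrCharacter G → M),
      ∑ χ, f χ = f (trivChar G) + (∑ j, f (μ j) + ∑ χ ∈ S, f χ) := by
    intro M _ f
    rw [← Finset.add_sum_erase _ _ (Finset.mem_univ (trivChar G))]
    congr 1
    rw [← Finset.sum_sdiff (s₁ := R) (fun χ hχ => Finset.mem_erase.2
      ⟨fun e => htR (by rw [← e]; exact hχ), Finset.mem_univ _⟩), add_comm, hR,
      Finset.sum_image fun a _ b _ h => hinj h, hS]
  rw [hsplit, hct] at hsq
  set a := c (μ z) with ha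
  have hcj : ∀ j, j ≠ z → c (μ j) = a + ε := fun j hj => by linarith [hcμ j hj]
  have hsumsq : ∑ j, c (μ j) * c (μ j) = a * a + ((n : ℤ) - 1) * ((a + ε) * (a + ε)) := by
    rw [← Finset.add_sum_erase _ _ (Finset.mem_univ z),
      Finset.sum_congr rfl (g := fun _ => (a + ε) * (a + ε))
        (fun j hj => by rw [hcj j (Finset.ne_of_mem_erase hj)]),
      Finset.sum_const, Finset.card_erase_of_mem (Finset.mem_univ _), Finset.card_univ,
      Fintype.card_fin, nsmul_eq_mul, Nat.cast_sub (by omega), Nat.cast_one, ha]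
  have hsum : ∑ j, c (μ j) = a + ((n : ℤ) - 1) * (a + ε) := by
    rw [← Finset.add_sum_erase _ _ (Finset.mem_univ z),
      Finset.sum_congr rfl (g := fun _ => a + ε) (fun j hj => hcj j (Finset.ne_of_mem_erase hj)),
      Finset.sum_const, Finset.card_erase_of_mem (Finset.mem_univ _), Finset.card_univ,
      Fintype.card_fin, nsmul_eq_mul, Nat.cast_sub (by omega), Nat.cast_one, ha]
  -- the equation at an element not meeting `A`
  set t : ℤ := ∑ j, c (μ j) with ht
  have heq : ∀ y : G, y * y = 1 →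
      1 + ((t : ℂ) * (μ z : G → ℂ) y + ∑ χ ∈ S, (c χ : ℂ) * (χ : G → ℂ) y) = 0 := by
    intro y hy
    obtain ⟨h, hμy⟩ := hvan y (hconjA hy)
    rw [hsplit, hct, Finset.sum_congr rfl (g := fun j => (c (μ j) : ℂ) * (μ z : G → ℂ) y)
      (fun j _ => by rw [hμy j]), ← Finset.sum_mul] at h
    simpa [ht] using h
  have hS_nn : 0 ≤ ∑ χ ∈ S, c χ * c χ := Finset.sum_nonneg fun χ _ => mul_self_nonneg _
  have hn' : (2 : ℤ) ≤ n := by exact_mod_cast hn
  have hzero : ∑ χ ∈ S, c χ * c χ = 0 → ∀ χ ∈ S, c χ = 0 := fun h χ hχ =>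
    mul_self_eq_zero.1 ((Finset.sum_eq_zero_iff_of_nonneg fun χ _ => mul_self_nonneg _).1 h χ hχ)
  have hcase : ∑ χ ∈ S, c χ * c χ = 1 ∧ (t = 1 ∨ t = -1) := by
    rw [hsumsq] at hsq
    push_cast at hsq
    have hε2 : ε * ε = 1 := by rcases hε with rfl | rfl <;> rfl
    by_cases ha0 : a = 0
    · rw [ha0] at hsq hsum
      by_cases hn2 : n = 2
      · subst hn2
        refine ⟨by push_cast at hsq; linarith [hsq, hε2], ?_⟩
        rw [hsum]; push_cast; rcases hε with rfl | rfl <;> simp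
      · exfalso
        have h3 : (3 : ℤ) ≤ n := by exact_mod_cast (show 3 ≤ n by omega)
        have hn3 : (n : ℤ) = 3 := by nlinarith
        have hS0 : ∑ χ ∈ S, c χ * c χ = 0 := by rw [hn3] at hsq; linarith
        have h := heq 1 (one_mul 1)
        rw [Finset.sum_eq_zero (fun χ hχ => by rw [hzero hS0 χ hχ, Int.cast_zero, zero_mul]),
          add_zero, ← hd1] at h
        have h' : 1 + t * (d (μ z) : ℤ) = 0 := by exact_mod_cast h
        rw [hsum, hn3] at h'
        rcases hε with rfl | rfl <;> omega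
    · by_cases hae : a + ε = 0
      · have haa : a * a = 1 := by
          have : a = -ε := by linarith
          rw [this]; linarith [hε2]
        rw [hae] at hsq hsum
        refine ⟨by linarith, ?_⟩
        rw [hsum, show a = -ε by linarith]
        rcases hε with rfl | rfl <;> simp
      · exfalso
        have h1 : 1 ≤ a * a := by
          rcases lt_or_gt_of_ne ha0 with h | h <;> nlinarith
        have h2 : 1 ≤ (a + ε) * (a + ε) := by
          rcases lt_or_gt_of_ne hae with h | h <;> nlinarith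
        have h3 : ∑ χ ∈ S, c χ * c χ = 0 := by nlinarith
        have h4 : a * a = 1 := by nlinarith
        have h5 : (a + ε) * (a + ε) = 1 := by nlinarith
        have h6 : 2 * (a * ε) = -1 := by linear_combination h5 - h4 - hε2
        omega
  obtain ⟨hS1, htu⟩ := hcase
  -- the unique further constituent
  obtain ⟨χ₁, hχ₁, hne⟩ : ∃ χ ∈ S, c χ ≠ 0 := by
    by_contra h
    push Not at h
    rw [Finset.sum_eq_zero (fun χ hχ => by rw [h χ hχ, mul_zero])] at hS1
    exact zero_ne_one hS1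
  have hle : c χ₁ * c χ₁ ≤ 1 := hS1 ▸ Finset.single_le_sum (fun χ _ => mul_self_nonneg (c χ)) hχ₁
  have hsgn : c χ₁ = 1 ∨ c χ₁ = -1 := by
    rcases lt_or_gt_of_ne hne with h | h
    · right; nlinarith
    · left; nlinarith
  have hsg : c χ₁ * c χ₁ = 1 := by rcases hsgn with h | h <;> rw [h] <;> rfl
  have hother : ∀ χ ∈ S, χ ≠ χ₁ → c χ = 0 := by
    intro χ hχ hne'
    have h := Finset.sum_erase_add S (fun χ => c χ * c χ) hχ₁
    rw [hS1, hsg] at h
    exact mul_self_eq_zero.1 ((Finset.sum_eq_zero_iff_of_nonneg fun χ _ => mul_self_nonneg _).1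
      (by linarith) χ (Finset.mem_erase.2 ⟨hne', hχ⟩))
  have hχout : ∀ j, χ₁ ≠ μ j := fun j e => (Finset.mem_sdiff.1 hχ₁).2 (by
    rw [hR]; exact Finset.mem_image.2 ⟨j, Finset.mem_univ _, e.symm⟩)
  have hχt : χ₁ ≠ trivChar G := (Finset.mem_erase.1 (Finset.mem_sdiff.1 hχ₁).1).1
  have heq1 : ∀ y : G, y * y = 1 →
      1 + ((t : ℂ) * (μ z : G → ℂ) y + (c χ₁ : ℂ) * (χ₁ : G → ℂ) y) = 0 := by
    intro y hy
    have h := heq y hy
    rwa [Finset.sum_eq_single χ₁ (fun χ hχ hne' => by rw [hother χ hχ hne', Int.cast_zero, zero_mul])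
      (fun h => absurd hχ₁ h)] at h
  obtain ⟨v₀, hv₀⟩ := exists_int_of_sq_eq_one χ₁ hu2
  obtain ⟨w₀, hw₀⟩ := exists_int_of_sq_eq_one (μ z) hu2
  set x : ℤ := c χ₁ * d χ₁ with hx
  have hE1 : 1 + (t * (d (μ z) : ℤ) + x) = 0 := by
    have h := heq1 1 (one_mul 1)
    rw [← hd1, ← hd1] at h
    rw [hx]; exact_mod_cast h
  have hE2 : 1 + (t * w₀ + c χ₁ * v₀) = 0 := by
    have h := heq1 u hu2
    rw [hv₀, hw₀] at h
    exact_mod_cast h
  have hxabs : x.natAbs = d χ₁ := by
    rw [hx]; rcases hsgn with h | h <;> rw [h] <;> simp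
  have hx1abs : (x + 1).natAbs = d (μ z) := by
    rcases htu with h | h <;> rw [h] at hE1
    · rw [show x + 1 = -(d (μ z) : ℤ) by linarith]; simp
    · rw [show x + 1 = (d (μ z) : ℤ) by linarith]; simp
  have hdχ1 : d χ₁ ≠ 1 := fun h => hχt (eq_trivChar_of_degree_one hperf _ (by rw [← hd1, h]; simp))
  refine ⟨x, c χ₁ * v₀, fun h => hdχ1 (by rw [← hxabs, h]; rfl),
    fun h => hdχ1 (by rw [← hxabs, h]; rfl), hxabs ▸ hddvd χ₁, hx1abs ▸ hddvd (μ z), ?_, ?_⟩
  · obtain ⟨k, hk⟩ := (hout χ₁ hχout).2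
    rw [← hd1] at hk
    have hk' : (d χ₁ : ℤ) = c χ₁ + (Nat.card A : ℤ) * k := by exact_mod_cast hk
    exact ⟨c χ₁ * k, by rw [hx, hk']; linear_combination hsg⟩
  -- the class multiplication formula
  obtain ⟨w, hwA, hw1⟩ : ∃ w ∈ A, w ≠ 1 := A.ne_bot_iff_exists_ne_one.1 (by
    intro h; rw [h, Subgroup.card_bot] at hsize; omega) |>.elim fun w hw =>
      ⟨w, w.2, fun e => hw (Subtype.ext e)⟩
  have hvals : ∀ χ ∈ S, (χ : G → ℂ) w = (c χ : ℂ) := fun χ hχ =>
    (hout χ (fun j e => (Finset.mem_sdiff.1 hχ).2 (by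
      rw [hR]; exact Finset.mem_image.2 ⟨j, Finset.mem_univ _, e.symm⟩))).1 ⟨w, hwA⟩
      (fun e => hw1 (congrArg Subtype.val e))
  have hsumw : (∑ j, (μ j : G → ℂ) w) = (t : ℂ) := by
    have h := sum_degree_mul_apply_of_ne_one hw1
    rw [hsplit, Finset.sum_eq_single χ₁ (fun χ hχ hne' => by
      rw [hvals χ hχ, hother χ hχ hne', Int.cast_zero, mul_zero]) (fun h => absurd hχ₁ h),
      Finset.sum_congr rfl (g := fun j => (μ z : G → ℂ) 1 * (μ j : G → ℂ) w)
        (fun j _ => by rw [hdeg j]), ← Finset.mul_sum, hvals χ₁ hχ₁, trivChar_apply, trivChar_apply,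
      ← hd1, ← hd1, mul_one] at h
    have h' := congrArg (fun k : ℤ => (k : ℂ)) hE1
    have htt : (t : ℂ) * t = 1 := by rcases htu with h | h <;> simp [h]
    have hx' : (x : ℂ) = (c χ₁ : ℂ) * (d χ₁ : ℂ) := by rw [hx]; push_cast; ring
    simp only [Int.cast_add, Int.cast_one, Int.cast_mul, Int.cast_natCast, Int.cast_zero] at h'
    refine mul_left_cancel₀ (Nat.cast_ne_zero.2 (hd (μ z)).1.ne' : (d (μ z) : ℂ) ≠ 0) ?_
    linear_combination h - h' + hx'
  have hwC : (w : G) ∈ A := hwA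
  -- the formula for a pair of equal involutions
  have hform : ∀ (y : G) (a b : ℤ) (M : ℕ), y * y = 1 → (χ₁ : G → ℂ) y = a → (μ z : G → ℂ) y = b →
      Nat.card {p : G × G // p.1 * y * p.1⁻¹ * (p.2 * y * p.2⁻¹ * w) = 1} = M →
      (M : ℤ) * (x * (x + 1)) = (Nat.card G : ℤ) * (x - c χ₁ * a) ^ 2 := by
    intro y a b M hy hya hyb hM
    have hcnt := CfsgLib.CharDegree.sum_three (G := G) y y w
    rw [hM, hsplit, Finset.sum_eq_single χ₁ (fun χ hχ hne' => by
        rw [hvals χ hχ, hother χ hχ hne', Int.cast_zero, mul_zero, zero_div]) (fun h => absurd hχ₁ h),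
      Finset.sum_congr rfl (g := fun j => (μ z : G → ℂ) y * (μ z : G → ℂ) y / (μ z : G → ℂ) 1 *
        (μ j : G → ℂ) w) (fun j _ => by rw [hdeg j, (hvan y (hconjA hy)).2 j]; ring),
      ← Finset.mul_sum, hsumw, hvals χ₁ hχ₁, trivChar_apply, trivChar_apply, trivChar_apply,
      ← hd1, ← hd1, hya, hyb] at hcnt
    have hE2' : 1 + (t * b + c χ₁ * a) = 0 := by
      have h := heq1 y hy
      rw [hya, hyb] at h
      exact_mod_cast h
    have hc' : (c χ₁ : ℂ) = 1 ∨ (c χ₁ : ℂ) = -1 := by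
      rcases hsgn with h | h
      · left; rw [h, Int.cast_one]
      · right; rw [h, Int.cast_neg, Int.cast_one]
    have ht' : (t : ℂ) = 1 ∨ (t : ℂ) = -1 := by
      rcases htu with h | h
      · left; rw [h, Int.cast_one]
      · right; rw [h, Int.cast_neg, Int.cast_one]
    have key := count_identity hc' ht' (Nat.cast_ne_zero.2 (hd χ₁).1.ne' : (d χ₁ : ℂ) ≠ 0)
      (Nat.cast_ne_zero.2 (hd (μ z)).1.ne' : (d (μ z) : ℂ) ≠ 0)
      (w := (b : ℂ)) (v := (a : ℂ)) (by rw [hx] at hE1; exact_mod_cast hE1)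
      (by exact_mod_cast hE2') hcnt
    have key' : (((M : ℤ) * (x * (x + 1)) : ℤ) : ℂ) =
        (((Nat.card G : ℤ) * (x - c χ₁ * a) ^ 2 : ℤ) : ℂ) := by
      rw [hx]; push_cast; exact key
    exact_mod_cast key'
  refine ⟨?_, ?_, ⟨χ₁, hχt, by rw [hxabs]; exact (hd1 χ₁).symm, ?_⟩, fun y hy => ?_⟩
  · have h := hform u v₀ w₀ _ hu2 hv₀ hw₀ (card_solutions hA hind hu hu' hwA hw1)
    push_cast at h
    exact h
  · rw [Int.natAbs_mul, hxabs, show (c χ₁).natAbs = 1 by rcases hsgn with h | h <;> rw [h] <;> rfl,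
      one_mul]
    obtain ⟨k, ρ, -, hρ⟩ := χ₁.2
    have h1 := norm_character_le ρ u
    rw [hρ, hv₀] at h1
    have h2 : (d χ₁ : ℂ) = (Module.finrank ℂ (Fin k → ℂ) : ℂ) := by
      rw [hd1, ← hρ, Representation.char_one]
    rw [show Module.finrank ℂ (Fin k → ℂ) = d χ₁ by exact_mod_cast h2.symm, Complex.norm_intCast,
      ← Int.cast_abs, ← Int.cast_natCast (R := ℝ), Int.cast_le, Int.abs_eq_natAbs] at h1
    exact_mod_cast h1
  · rw [hv₀, Complex.norm_intCast, Int.natAbs_mul, show (c χ₁).natAbs = 1 by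
      rcases hsgn with h | h <;> rw [h] <;> rfl, one_mul, ← Int.cast_abs, Int.abs_eq_natAbs,
      Int.cast_natCast]
  · by_cases hcy : IsConj u y
    · exact Or.inl hcy
    refine Or.inr ?_
    obtain ⟨a, ha⟩ := exists_int_of_sq_eq_one χ₁ hy
    obtain ⟨b, hb⟩ := exists_int_of_sq_eq_one (μ z) hy
    have h0 : Nat.card {p : G × G // p.1 * y * p.1⁻¹ * (p.2 * y * p.2⁻¹ * w) = 1} = 0 := by
      rw [Nat.card_eq_zero]
      refine Or.inl ⟨fun ⟨⟨g, h⟩, e⟩ => hcy ?_⟩
      obtain ⟨k, hk⟩ := exists_conj_of_mem_solutions hA hind hu hu' hwA hw1 hy e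
      exact isConj_iff.2 ⟨g⁻¹ * k, by
        calc g⁻¹ * k * u * (g⁻¹ * k)⁻¹ = g⁻¹ * (k * u * k⁻¹) * g := by group
          _ = y := by rw [hk]; group⟩
    have h := hform y a b 0 hy ha hb h0
    rw [Nat.cast_zero, zero_mul, eq_comm, mul_eq_zero, pow_eq_zero_iff two_ne_zero, sub_eq_zero] at h
    have hva : (a : ℤ) = d χ₁ := by
      rcases h with h | h
      · exact absurd h (by exact_mod_cast Nat.card_pos.ne')
      · rw [hx] at h
        exact (mul_left_cancel₀ (by rcases hsgn with e | e <;> rw [e] <;> decide) h).symm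
    refine ⟨CfsgLib.CharDegree.kerSubgroup χ₁, CfsgLib.CharDegree.kerSubgroup_normal χ₁, ?_, ?_⟩
    · rw [CfsgLib.CharDegree.mem_kerSubgroup, ha, ← hd1, hva, Int.cast_natCast]
    · intro htop
      have hall1 : ∀ g : G, (χ₁ : G → ℂ) g = (χ₁ : G → ℂ) 1 := fun g =>
        CfsgLib.CharDegree.mem_kerSubgroup.1 (htop ▸ Subgroup.mem_top g)
      have hsum := classInner_irr_of_ne (χ := χ₁) (ψ := trivChar G) hχt
      simp only [Cfsg.classInner, trivChar_apply, map_one, mul_one, hall1, Finset.sum_const,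
        Finset.card_univ, nsmul_eq_mul] at hsum
      rw [← hd1, mul_eq_zero, mul_eq_zero, inv_eq_zero] at hsum
      rcases hsum with e | e | e
      · exact absurd e (Nat.cast_ne_zero.2 Nat.card_pos.ne')
      · exact absurd e (Nat.cast_ne_zero.2 Fintype.card_pos.ne')
      · exact absurd e (Nat.cast_ne_zero.2 (hd χ₁).1.ne')

/-- For a self-centralizing subgroup `A` of order at least five with `|N(A) : A| = 2` in a perfect
group there is an integer `x ≡ 1 mod |A|`, with `x` and `x + 1` dividing the order up to sign, and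
`|A| |C(u)|² x (x + 1) = |G| (x - v)²` for an involution `u` inverting `A`. -/
theorem exists_degree_of_index_two' (hperf : commutator G = ⊤) (hind : A.relIndex NA = 2)
    (hsize : 5 ≤ Nat.card A) {u : G} (hu : u ∈ NA) (hu' : u ∉ A) :
    ∃ x v : ℤ, x ≠ 1 ∧ x ≠ -1 ∧ x.natAbs ∣ Nat.card G ∧ (x + 1).natAbs ∣ Nat.card G ∧
      (Nat.card A : ℤ) ∣ x - 1 ∧
      (Nat.card A : ℤ) * (Nat.card (Subgroup.centralizer ({u} : Set G)) : ℤ) ^ 2 * (x * (x + 1)) =
        (Nat.card G : ℤ) * (x - v) ^ 2 ∧ v.natAbs ≤ x.natAbs ∧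
      ∀ y : G, y * y = 1 → IsConj u y ∨ ∃ K : Subgroup G, K.Normal ∧ y ∈ K ∧ K ≠ ⊤ := by
  obtain ⟨x, v, h1, h2, h3, h4, h5, h6, h7, -, h8⟩ :=
    exists_degree_of_index_two'' hA hperf hind hsize hu hu'
  exact ⟨x, v, h1, h2, h3, h4, h5, h6, h7, h8⟩

/-- The degree equation without the statements about other involutions. -/
theorem exists_degree_of_index_two (hperf : commutator G = ⊤) (hind : A.relIndex NA = 2)
    (hsize : 5 ≤ Nat.card A) {u : G} (hu : u ∈ NA) (hu' : u ∉ A) :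
    ∃ x v : ℤ, x ≠ 1 ∧ x ≠ -1 ∧ x.natAbs ∣ Nat.card G ∧ (x + 1).natAbs ∣ Nat.card G ∧
      (Nat.card A : ℤ) ∣ x - 1 ∧
      (Nat.card A : ℤ) * (Nat.card (Subgroup.centralizer ({u} : Set G)) : ℤ) ^ 2 * (x * (x + 1)) =
        (Nat.card G : ℤ) * (x - v) ^ 2 := by
  obtain ⟨x, v, h1, h2, h3, h4, h5, h6, -, -⟩ := exists_degree_of_index_two' hA hperf hind hsize hu hu'
  exact ⟨x, v, h1, h2, h3, h4, h5, h6⟩

end CfsgLib.Perm.SelfCentDegree
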