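import Cfsg.Agent.Lib.Perm.HallClass

/-!
Existence and conjugacy of the Hall subgroups of symmetric and alternating groups, and the
degenerate sets of primes.
-/

set_option autoImplicit false

namespace CfsgLib.Perm.HallClass

open Equiv MulAction Cfsg
open scoped Pointwise

universe u

variable {π : Set ℕ} {α : Type u} [Fintype α] [DecidableEq α] {G H K : Subgroup (Perm α)}

theorem five_le {n : ℕ} (h2 : Two π n) (hns : NotAll π n) : 5 ≤ n := by
  obtain ⟨r, s, hr, hs, hrs, hrπ, hsπ, hrn, hsn⟩ := h2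
  obtain ⟨t, ht, htn, htπ⟩ := hns
  have hne : ∀ {x y : ℕ}, x ∈ π → y ∉ π → x ≠ y := fun hx hy h => hy (h ▸ hx)
  have := hne hrπ htπ
  have := hne hsπ htπ
  have h4 : ∀ p : ℕ, p.Prime → p ≠ 4 := fun p hp h => by rw [h] at hp; norm_num at hp
  have := h4 r hr
  have := h4 s hs
  have := h4 t ht
  have := hr.two_le
  have := hs.two_le
  have := ht.two_le
  omega

theorem cls_five {n : ℕ} (h2 : Two π n) (hc : Cls π n) : 5 ≤ n := by
  obtain ⟨r, s, hr, hs, hrs, hrπ, hsπ, hrn, hsn⟩ := h2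
  rcases hc with ⟨hp, hπn⟩ | ⟨h, -⟩
  · have := (hπn r hr hrn).1 hrπ
    have := (hπn s hs hsn).1 hsπ
    have : n ≠ 4 := fun h => by rw [h] at hp; norm_num at hp
    have := hr.two_le
    have := hs.two_le
    omega
  · omega

theorem exists_alt_apply (hn : 3 ≤ Fintype.card α) (x y : α) :
    ∃ g ∈ alternatingGroup α, g x = y := by
  rcases eq_or_ne x y with rfl | hxy
  · exact ⟨1, one_mem _, rfl⟩
  obtain ⟨z, hz⟩ : ∃ z, z ∉ ({x, y} : Finset α) := by
    by_contra! h
    have h1 := Finset.card_le_card (s := Finset.univ) (t := {x, y}) fun a _ => h a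
    have h2 : ({x, y} : Finset α).card ≤ 2 := Finset.card_le_two
    rw [Finset.card_univ] at h1
    omega
  simp only [Finset.mem_insert, Finset.mem_singleton, not_or] at hz
  refine ⟨swap x z * swap x y, Perm.mem_alternatingGroup.2 ?_, ?_⟩
  · simp [Perm.sign_swap hxy, Perm.sign_swap (Ne.symm hz.1)]
  · rw [Perm.mul_apply, swap_apply_left, swap_apply_of_ne_of_ne hxy.symm (Ne.symm hz.2)]

theorem stab_point_relIndex (hG : Good G) (hn : 3 ≤ Fintype.card α) (x : α) :
    (stabilizer (Perm α) x).relIndex G = Fintype.card α := by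
  rw [stab_relIndex, show orbit G x = Set.univ from Set.eq_univ_of_forall fun y => by
    obtain ⟨g, hg, hgx⟩ := exists_alt_apply hn x y
    exact ⟨⟨g, hG.alt_le hg⟩, hgx⟩, Set.ncard_univ, Nat.card_eq_fintype_card]

theorem stab_pair_relIndex (hG : Good G) (hn : Fintype.card α = 8) {Δ : Finset α} (hΔ : Δ.card = 4) :
    (stabilizer (Perm α) ({Δ, Δᶜ} : Finset (Finset α))).relIndex G = 35 := by
  set W := stabilizer (Perm α) ({Δ, Δᶜ} : Finset (Finset α))
  set X := stabilizer (Perm α) Δ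
  have hcompl : ∀ (g : Perm α) (s : Finset α), g • sᶜ = (g • s)ᶜ := fun g s => by
    rw [Finset.compl_eq_univ_sdiff, Finset.compl_eq_univ_sdiff, Finset.smul_finset_sdiff,
      Finset.smul_finset_univ]
  have hXW : X ≤ W := fun g hg => by
    have hg' : g • Δ = Δ := hg
    show g • ({Δ, Δᶜ} : Finset (Finset α)) = {Δ, Δᶜ}
    rw [Finset.smul_finset_insert, Finset.smul_finset_singleton, hcompl, hg']
  have h70 : X.relIndex G = 70 := by
    rw [stab_set_relIndex hG (by omega), hn, hΔ]; rfl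
  have hne : Δ ≠ Δᶜ := fun h => by
    obtain ⟨x, hx⟩ := Finset.card_pos.1 (show 0 < Δ.card by omega)
    exact Finset.mem_compl.1 (h ▸ hx) hx
  have h2 : X.relIndex (W ⊓ G) = 2 := by
    rw [stab_relIndex, show orbit (↥(W ⊓ G)) Δ = (({Δ, Δᶜ} : Finset (Finset α)) : Set (Finset α)) from ?_,
      Set.ncard_coe_finset, Finset.card_pair hne]
    ext P
    constructor
    · rintro ⟨g, rfl⟩
      have h : (g : Perm α) • Δ ∈ (g : Perm α) • ({Δ, Δᶜ} : Finset (Finset α)) :=
        Finset.smul_mem_smul_finset (by simp)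
      rwa [(g.2.1 : (g : Perm α) • ({Δ, Δᶜ} : Finset (Finset α)) = {Δ, Δᶜ})] at h
    · intro hP
      rw [Finset.mem_coe, Finset.mem_insert, Finset.mem_singleton] at hP
      rcases hP with rfl | rfl
      · exact ⟨1, one_smul _ _⟩
      · obtain ⟨g, hg, hgΔ⟩ := exists_alt_smul (s := Δ) (t := Δᶜ)
          (by rw [Finset.card_compl]; omega) (by omega)
        refine ⟨⟨g, ?_, hG.alt_le hg⟩, hgΔ⟩
        show g • ({Δ, Δᶜ} : Finset (Finset α)) = {Δ, Δᶜ}
        rw [Finset.smul_finset_insert, Finset.smul_finset_singleton, hcompl, hgΔ, compl_compl,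
          Finset.pair_comm]
  have h := Subgroup.relIndex_mul_relIndex (X ⊓ G) (W ⊓ G) G (inf_le_inf_right G hXW) inf_le_right
  have e : (X ⊓ G).relIndex (W ⊓ G) = X.relIndex (W ⊓ G) := by
    rw [← Subgroup.inf_relIndex_right X (W ⊓ G), ← Subgroup.inf_relIndex_right (X ⊓ G) (W ⊓ G)]
    congr 1
    ext g
    simp only [Subgroup.mem_inf]
    tauto
  rw [Subgroup.inf_relIndex_right, Subgroup.inf_relIndex_right, e, h2, h70] at h
  omega

theorem card_stab_mul {β : Type*} [MulAction (Perm α) β] (z : β) :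
    Nat.card (stabilizer (Perm α) z) * (stabilizer (Perm α) z).relIndex ⊤ =
      (Fintype.card α).factorial := by
  rw [Subgroup.relIndex_top_right, Subgroup.card_mul_index, Nat.card_perm,
    Nat.card_eq_fintype_card]

theorem pi_of_twoThree {n : ℕ} (h : TwoThree π n) (hn : 3 ≤ n) {p i j : ℕ} (hp : p.Prime)
    (hpd : p ∣ 2 ^ i * 3 ^ j) : p ∈ π := by
  rcases hp.dvd_mul.1 hpd with h' | h'
  · obtain rfl := (Nat.prime_dvd_prime_iff_eq hp Nat.prime_two).1 (hp.dvd_of_dvd_pow h')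
    exact (h 2 hp (by omega)).2 (Or.inl rfl)
  · obtain rfl := (Nat.prime_dvd_prime_iff_eq hp Nat.prime_three).1 (hp.dvd_of_dvd_pow h')
    exact (h 3 hp (by omega)).2 (Or.inr rfl)

/-- The standard subgroups are Hall. -/
theorem Shape.isHall (h : Shape π G H) (hG : Good G) (hn : 5 ≤ Fintype.card α) :
    IsPiHallOf π H G := by
  rcases h with ⟨⟨hp, hπn⟩, x, rfl⟩ | ⟨⟨hn7, h23⟩, Δ, hΔ, rfl⟩ | ⟨⟨hn8, h23⟩, Δ, hΔ, rfl⟩
  · refine ⟨inf_le_right, fun r hr hrd => ?_, fun r hr hrπ hrd => ?_⟩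
    · have h1 := card_stab_mul (α := α) x
      rw [stab_point_relIndex (Or.inl rfl) (by omega)] at h1
      obtain ⟨m, hm⟩ : ∃ m, Fintype.card α = m + 1 := ⟨Fintype.card α - 1, by omega⟩
      rw [hm, Nat.factorial_succ, mul_comm (m + 1)] at h1
      have h2 := Nat.eq_of_mul_eq_mul_right (by omega) h1
      have h3 := hr.dvd_factorial.1 (h2 ▸ hrd.trans (Subgroup.card_dvd_of_le inf_le_left))
      exact (hπn r hr (by omega)).2 (by omega)
    · rw [Subgroup.inf_relIndex_right, stab_point_relIndex hG (by omega)] at hrd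
      obtain rfl := (Nat.prime_dvd_prime_iff_eq hr hp).1 hrd
      exact absurd ((hπn _ hr le_rfl).1 hrπ) (lt_irrefl _)
  · refine ⟨inf_le_right, fun r hr hrd => ?_, fun r hr hrπ hrd => ?_⟩
    · have h1 := card_stab_mul (α := α) Δ
      rw [stab_set_relIndex (Or.inl rfl) (by omega), hn7, hΔ, show Nat.factorial 7 = 5040 by rfl,
        show Nat.choose 7 4 = 35 by rfl] at h1
      have hW : Nat.card (stabilizer (Perm α) Δ) = 2 ^ 4 * 3 ^ 2 := by omega
      exact pi_of_twoThree h23 (by omega) hr (hW ▸ hrd.trans (Subgroup.card_dvd_of_le inf_le_left))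
    · rw [Subgroup.inf_relIndex_right, stab_set_relIndex hG (by omega), hn7, hΔ] at hrd
      have hr35 : r ∣ 5 * 7 := hrd
      have hr57 : r = 5 ∨ r = 7 := by
        rcases hr.dvd_mul.1 hr35 with h | h
        · exact Or.inl ((Nat.prime_dvd_prime_iff_eq hr (by norm_num)).1 h)
        · exact Or.inr ((Nat.prime_dvd_prime_iff_eq hr (by norm_num)).1 h)
      have := (h23 r hr (by omega)).1 hrπ
      omega
  · refine ⟨inf_le_right, fun r hr hrd => ?_, fun r hr hrπ hrd => ?_⟩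
    · have h1 := card_stab_mul (α := α) ({Δ, Δᶜ} : Finset (Finset α))
      rw [stab_pair_relIndex (Or.inl rfl) hn8 hΔ, hn8, show Nat.factorial 8 = 40320 by rfl] at h1
      have hW : Nat.card (stabilizer (Perm α) ({Δ, Δᶜ} : Finset (Finset α))) = 2 ^ 7 * 3 ^ 2 := by
        omega
      exact pi_of_twoThree h23 (by omega) hr (hW ▸ hrd.trans (Subgroup.card_dvd_of_le inf_le_left))
    · rw [Subgroup.inf_relIndex_right, stab_pair_relIndex hG hn8 hΔ] at hrd
      have hr35 : r ∣ 5 * 7 := hrd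
      have hr57 : r = 5 ∨ r = 7 := by
        rcases hr.dvd_mul.1 hr35 with h | h
        · exact Or.inl ((Nat.prime_dvd_prime_iff_eq hr (by norm_num)).1 h)
        · exact Or.inr ((Nat.prime_dvd_prime_iff_eq hr (by norm_num)).1 h)
      have := (h23 r hr (by omega)).1 hrπ
      omega

theorem exists_shape (hc : Cls π (Fintype.card α)) (G : Subgroup (Perm α)) :
    ∃ H, Shape π G H := by
  rcases hc with hp | ⟨hn, h23⟩
  · obtain ⟨x⟩ : Nonempty α := Fintype.card_pos_iff.1 hp.1.pos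
    exact ⟨_, Or.inl ⟨hp, x, rfl⟩⟩
  · obtain ⟨Δ, -, hΔ⟩ := Finset.exists_subset_card_eq
      (show 4 ≤ (Finset.univ : Finset α).card by rw [Finset.card_univ]; omega)
    rcases hn with hn | hn
    · exact ⟨_, Or.inr (Or.inl ⟨⟨hn, h23⟩, Δ, hΔ, rfl⟩)⟩
    · exact ⟨_, Or.inr (Or.inr ⟨⟨hn, h23⟩, Δ, hΔ, rfl⟩)⟩

theorem conj_stab {β : Type*} [MulAction (Perm α) β] {z : β} {g : Perm α} (hg : g ∈ G) :
    stabilizer (Perm α) (g • z) ⊓ G =
      (stabilizer (Perm α) z ⊓ G).map (MulAut.conj g).toMonoidHom := by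
  ext x
  rw [Subgroup.mem_map_equiv, Subgroup.mem_inf, Subgroup.mem_inf, MulAut.conj_symm_apply,
    mem_stabilizer_iff, mem_stabilizer_iff, mul_smul, mul_smul, inv_smul_eq_iff,
    Subgroup.mul_mem_cancel_right G hg, Subgroup.mul_mem_cancel_left G (G.inv_mem hg)]

/-- The standard subgroups of one group are conjugate. -/
theorem Shape.conj (h : Shape π G H) (h' : Shape π G K) (hG : Good G) (hn : 5 ≤ Fintype.card α) :
    ∃ g ∈ G, K = H.map (MulAut.conj g).toMonoidHom := by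
  have h7 : Fintype.card α = 7 → ¬(Fintype.card α = 8) := by omega
  have hclash : PrimeCase π (Fintype.card α) → TwoThree π (Fintype.card α) →
      (Fintype.card α = 7 ∨ Fintype.card α = 8) → False := by
    rintro ⟨hp, hπn⟩ h23 (hn | hn)
    · have := (h23 5 (by norm_num) (by omega)).1 ((hπn 5 (by norm_num) (by omega)).2 (by omega))
      omega
    · rw [hn] at hp; norm_num at hp
  have hcompl : ∀ (g : Perm α) (s : Finset α), g • sᶜ = (g • s)ᶜ := fun g s => by
    rw [Finset.compl_eq_univ_sdiff, Finset.compl_eq_univ_sdiff, Finset.smul_finset_sdiff,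
      Finset.smul_finset_univ]
  rcases h with ⟨hp, x, rfl⟩ | ⟨⟨hn7, h23⟩, Δ, hΔ, rfl⟩ | ⟨⟨hn8, h23⟩, Δ, hΔ, rfl⟩ <;>
    rcases h' with ⟨hp', x', rfl⟩ | ⟨⟨hn7', h23'⟩, Δ', hΔ', rfl⟩ | ⟨⟨hn8', h23'⟩, Δ', hΔ', rfl⟩
  · obtain ⟨g, hg, hgx⟩ := exists_alt_apply (by omega) x x'
    exact ⟨g, hG.alt_le hg, by rw [← conj_stab (hG.alt_le hg), ← hgx]; rfl⟩
  · exact (hclash hp h23' (Or.inl hn7')).elim
  · exact (hclash hp h23' (Or.inr hn8')).elim
  · exact (hclash hp' h23 (Or.inl hn7)).elim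
  · obtain ⟨g, hg, rfl⟩ := exists_alt_smul (hΔ.trans hΔ'.symm) (by omega)
    exact ⟨g, hG.alt_le hg, conj_stab (hG.alt_le hg)⟩
  · exact (h7 hn7 hn8').elim
  · exact (hclash hp' h23 (Or.inr hn8)).elim
  · exact (h7 hn7' hn8).elim
  · obtain ⟨g, hg, rfl⟩ := exists_alt_smul (hΔ.trans hΔ'.symm) (by omega)
    refine ⟨g, hG.alt_le hg, ?_⟩
    rw [← conj_stab (hG.alt_le hg), Finset.smul_finset_insert, Finset.smul_finset_singleton, hcompl]

theorem Shape.exists_lift (h : Shape π (alternatingGroup α) H) :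
    ∃ H₀, Shape π (⊤ : Subgroup (Perm α)) H₀ ∧ H = H₀ ⊓ alternatingGroup α := by
  rcases h with ⟨h, x, rfl⟩ | ⟨h, Δ, hΔ, rfl⟩ | ⟨h, Δ, hΔ, rfl⟩
  · exact ⟨_, Or.inl ⟨h, x, rfl⟩, by rw [inf_top_eq]⟩
  · exact ⟨_, Or.inr (Or.inl ⟨h, Δ, hΔ, rfl⟩), by rw [inf_top_eq]⟩
  · exact ⟨_, Or.inr (Or.inr ⟨h, Δ, hΔ, rfl⟩), by rw [inf_top_eq]⟩

/-! ### Degenerate sets of primes -/

section Single

variable {X : Type*} [Group X] [Finite X]

theorem single_prime
    (h1 : ∀ r s : ℕ, r.Prime → s.Prime → r ∈ π → s ∈ π → r ∣ Nat.card X → s ∣ Nat.card X → r = s) :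
    ∃ p : ℕ, p.Prime ∧ ∀ K : Subgroup X, IsPiSubgroup π K ↔ IsPGroup p K := by
  by_cases hex : ∃ p, p.Prime ∧ p ∈ π ∧ p ∣ Nat.card X
  · obtain ⟨p, hp, hpπ, hpX⟩ := hex
    have := Fact.mk hp
    refine ⟨p, hp, fun K => ⟨fun hK => ?_, fun hK r hr hrK => ?_⟩⟩
    · exact IsPGroup.of_card (Nat.eq_prime_pow_of_unique_prime_dvd Nat.card_pos.ne' fun {d} hd hdK =>
        h1 d p hd hp (hK d hd hdK) hpπ (hdK.trans K.card_subgroup_dvd_card) hpX)
    · obtain ⟨k, hk⟩ := IsPGroup.iff_card.1 hK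
      exact (Nat.prime_dvd_prime_iff_eq hr hp).1 (hr.dvd_of_dvd_pow (hk ▸ hrK)) ▸ hpπ
  · push Not at hex
    obtain ⟨p, hpX, hp⟩ := Nat.exists_infinite_primes (Nat.card X + 1)
    have := Fact.mk hp
    have hbot : ∀ K : Subgroup X, Nat.card K = 1 ↔ IsPGroup p K := fun K => by
      refine ⟨fun h => IsPGroup.of_card (n := 0) (by rw [h, pow_zero]), fun hK => ?_⟩
      obtain ⟨k, hk⟩ := IsPGroup.iff_card.1 hK
      rcases Nat.eq_zero_or_pos k with rfl | hk0
      · simpa using hk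
      have h := Nat.le_of_dvd Nat.card_pos ((dvd_pow_self p hk0.ne').trans (hk ▸ K.card_subgroup_dvd_card))
      omega
    refine ⟨p, hp, fun K => ⟨fun hK => (hbot K).1 ?_, fun hK r hr hrK => ?_⟩⟩
    · by_contra hne
      obtain ⟨r, hr, hrK⟩ := Nat.exists_prime_and_dvd hne
      exact hex r hr (hK r hr hrK) (hrK.trans K.card_subgroup_dvd_card)
    · rw [(hbot K).2 hK] at hrK
      exact absurd hrK hr.not_dvd_one

theorem dPi_of_single
    (h1 : ∀ r s : ℕ, r.Prime → s.Prime → r ∈ π → s ∈ π → r ∣ Nat.card X → s ∣ Nat.card X → r = s) :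
    IsDPiGroup π X := by
  obtain ⟨p, hp, hiff⟩ := single_prime h1
  have := Fact.mk hp
  intro A B hA hB
  have key : ∀ {A : Subgroup X}, Maximal (IsPiSubgroup π) A → ∃ P : Sylow p X, (P : Subgroup X) = A :=
    fun {A} hA => by
      obtain ⟨P, hP⟩ := ((hiff A).1 hA.1).exists_le_sylow
      exact ⟨P, le_antisymm (hA.2 ((hiff _).2 P.isPGroup') hP) hP⟩
  obtain ⟨P, rfl⟩ := key hA
  obtain ⟨Q, rfl⟩ := key hB
  obtain ⟨g, rfl⟩ := MulAction.exists_smul_eq X P Q
  exact ⟨g, rfl⟩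

theorem cPi_of_single
    (h1 : ∀ r s : ℕ, r.Prime → s.Prime → r ∈ π → s ∈ π → r ∣ Nat.card X → s ∣ Nat.card X → r = s) :
    IsCPiGroup π X := by
  obtain ⟨p, hp, hiff⟩ := single_prime h1
  have := Fact.mk hp
  have hpart : ∀ r, r.Prime → r ∈ π → r ∣ Nat.card X → r = p := fun r hr hrπ hrX => by
    have := Fact.mk hr
    obtain ⟨x, hx⟩ := exists_prime_orderOf_dvd_card' r hrX
    have hpg : IsPGroup p (Subgroup.zpowers x) := (hiff _).1 fun s hs hsd => by
      rw [Nat.card_zpowers, hx] at hsd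
      exact (Nat.prime_dvd_prime_iff_eq hs hr).1 hsd ▸ hrπ
    obtain ⟨k, hk⟩ := IsPGroup.iff_card.1 hpg
    rw [Nat.card_zpowers, hx] at hk
    exact (Nat.prime_dvd_prime_iff_eq hr hp).1 (hr.dvd_of_dvd_pow (n := k) (by rw [← hk]))
  refine ⟨⟨(default : Sylow p X), (hiff _).2 (default : Sylow p X).isPGroup', fun r hr hrπ hrd => ?_⟩,
    fun A B hA hB => ?_⟩
  · obtain rfl := hpart r hr hrπ (hrd.trans (Subgroup.index_dvd_card _))
    exact (default : Sylow r X).not_dvd_index hrd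
  have key : ∀ {A : Subgroup X}, IsPiHall π A → ∃ P : Sylow p X, (P : Subgroup X) = A := fun {A} hA => by
    obtain ⟨P, hP⟩ := ((hiff A).1 hA.1).exists_le_sylow
    refine ⟨P, le_antisymm (Subgroup.relIndex_eq_one.1 ?_) hP⟩
    by_contra hne
    obtain ⟨r, hr, hrd⟩ := Nat.exists_prime_and_dvd hne
    exact hA.2 r hr ((hiff _).2 P.isPGroup' r hr (hrd.trans (Subgroup.relIndex_dvd_card _ _)))
      (hrd.trans (Subgroup.relIndex_dvd_index_of_le hP))
  obtain ⟨P, rfl⟩ := key hA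
  obtain ⟨Q, rfl⟩ := key hB
  obtain ⟨g, rfl⟩ := MulAction.exists_smul_eq X P Q
  exact ⟨g, rfl⟩

theorem eq_top_of_all (hall : ∀ r : ℕ, r.Prime → r ∣ Nat.card X → r ∈ π) {A : Subgroup X}
    (hA : IsPiHall π A) : A = ⊤ := by
  refine Subgroup.index_eq_one.1 ?_
  by_contra hne
  obtain ⟨r, hr, hrd⟩ := Nat.exists_prime_and_dvd hne
  exact hA.2 r hr (hall r hr (hrd.trans A.index_dvd_card)) hrd

theorem cPi_of_all (hall : ∀ r : ℕ, r.Prime → r ∣ Nat.card X → r ∈ π) : IsCPiGroup π X := by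
  refine ⟨⟨⊤, fun r hr hrd => hall r hr (hrd.trans (Subgroup.card_subgroup_dvd_card _)),
    fun r hr _ hrd => ?_⟩, fun A B hA hB => ⟨1, ?_⟩⟩
  · rw [Subgroup.index_top] at hrd
    exact hr.not_dvd_one hrd
  · rw [eq_top_of_all hall hA, eq_top_of_all hall hB]
    refine (Subgroup.map_top_of_surjective _ ?_).symm
    exact (MulAut.conj (1 : X)).surjective

end Single

/-! ### The subgroups of the two groups -/

theorem isPiHallOf_map {M : Subgroup G} :
    IsPiHallOf π (M.map G.subtype) G ↔ IsPiHall π M := by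
  have h1 : Nat.card (M.map G.subtype) = Nat.card M := Subgroup.card_subtype G M
  have h2 : (M.map G.subtype).relIndex G = M.index := by
    show ((M.map G.subtype).subgroupOf G).index = M.index
    rw [Subgroup.subgroupOf, Subgroup.comap_map_eq_self_of_injective (Subgroup.subtype_injective G)]
  unfold IsPiHallOf IsPiHall
  rw [h1, h2]
  exact ⟨fun h => h.2, fun h => ⟨Subgroup.map_subtype_le M, h⟩⟩

theorem isPiHall_iff_top : IsPiHall π H ↔ IsPiHallOf π H (⊤ : Subgroup (Perm α)) := by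
  unfold IsPiHallOf IsPiHall
  rw [Subgroup.relIndex_top_right]
  exact ⟨fun h => ⟨le_top, h⟩, fun h => h.2⟩

theorem at_most_one (h : ¬Two π (Fintype.card α)) {X : Subgroup (Perm α)} :
    ∀ r s : ℕ, r.Prime → s.Prime → r ∈ π → s ∈ π → r ∣ Nat.card X → s ∣ Nat.card X → r = s := by
  intro r s hr hs hrπ hsπ hrX hsX
  by_contra hne
  exact h ⟨r, s, hr, hs, hne, hrπ, hsπ, prime_le_of_dvd hr hrX, prime_le_of_dvd hs hsX⟩

theorem all_mem (h : ¬NotAll π (Fintype.card α)) {X : Subgroup (Perm α)} :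
    ∀ r : ℕ, r.Prime → r ∣ Nat.card X → r ∈ π := fun r hr hrX => by
  by_contra hne
  exact h ⟨r, hr, prime_le_of_dvd hr hrX, hne⟩

theorem cls_iff_ePi (hG : Good G) (h2 : Two π (Fintype.card α)) (hns : NotAll π (Fintype.card α)) :
    IsEPiGroup π G ↔ Cls π (Fintype.card α) := by
  constructor
  · rintro ⟨M, hM⟩
    exact (shape_of_hall hG h2 hns (isPiHallOf_map.2 hM)).cls
  · intro hc
    obtain ⟨H, hH⟩ := exists_shape hc G
    have hHall := hH.isHall hG (cls_five h2 hc)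
    refine ⟨H.subgroupOf G, isPiHallOf_map.1 ?_⟩
    rwa [Subgroup.map_subgroupOf_eq_of_le hHall.1]

theorem cPi_of_ePi (hG : Good G) (hE : IsEPiGroup π G) : IsCPiGroup π G := by
  by_cases h2 : Two π (Fintype.card α)
  swap
  · exact cPi_of_single (at_most_one h2)
  by_cases hns : NotAll π (Fintype.card α)
  swap
  · exact cPi_of_all (all_mem hns)
  refine ⟨hE, fun A B hA hB => ?_⟩
  obtain ⟨g, hg, he⟩ := Shape.conj (shape_of_hall hG h2 hns (isPiHallOf_map.2 hA))
    (shape_of_hall hG h2 hns (isPiHallOf_map.2 hB)) hG (five_le h2 hns)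
  refine ⟨⟨g, hg⟩, Subgroup.map_injective (Subgroup.subtype_injective G) ?_⟩
  rw [he, Subgroup.map_map, Subgroup.map_map]
  rfl

theorem perm_ePi_iff : IsEPiGroup π (Perm α) ↔ IsEPiGroup π (⊤ : Subgroup (Perm α)) := by
  constructor
  · rintro ⟨H, hH⟩
    refine ⟨H.subgroupOf ⊤, isPiHallOf_map.1 ?_⟩
    rw [Subgroup.map_subgroupOf_eq_of_le le_top]
    exact isPiHall_iff_top.1 hH
  · rintro ⟨M, hM⟩
    exact ⟨_, isPiHall_iff_top.2 (isPiHallOf_map.2 hM)⟩

theorem perm_cPi_of_ePi (hE : IsEPiGroup π (Perm α)) : IsCPiGroup π (Perm α) := by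
  refine ⟨hE, fun A B hA hB => ?_⟩
  have hconv : ∀ {A : Subgroup (Perm α)}, IsPiHall π A →
      IsPiHall π (A.subgroupOf (⊤ : Subgroup (Perm α))) := fun {A} hA => isPiHallOf_map.1 (by
    rw [Subgroup.map_subgroupOf_eq_of_le le_top]; exact isPiHall_iff_top.1 hA)
  obtain ⟨g, hg⟩ := (cPi_of_ePi (Or.inl rfl) (perm_ePi_iff.1 hE)).2 _ _ (hconv hA) (hconv hB)
  refine ⟨g, ?_⟩
  have h := congrArg (Subgroup.map (⊤ : Subgroup (Perm α)).subtype) hg
  rw [Subgroup.map_subgroupOf_eq_of_le le_top, Subgroup.map_map] at h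
  rw [h]
  ext x
  constructor
  · rintro ⟨y, hy, rfl⟩
    exact ⟨y, hy, rfl⟩
  · rintro ⟨y, hy, rfl⟩
    exact ⟨⟨y, Subgroup.mem_top y⟩, hy, rfl⟩

theorem ePi_iff_alt : IsEPiGroup π (Perm α) ↔ IsEPiGroup π (alternatingGroup α) := by
  rw [perm_ePi_iff]
  by_cases h2 : Two π (Fintype.card α)
  swap
  · exact iff_of_true (cPi_of_single (at_most_one h2)).1 (cPi_of_single (at_most_one h2)).1
  by_cases hns : NotAll π (Fintype.card α)
  swap
  · exact iff_of_true (cPi_of_all (all_mem hns)).1 (cPi_of_all (all_mem hns)).1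
  rw [cls_iff_ePi (Or.inl rfl) h2 hns, cls_iff_ePi (Or.inr rfl) h2 hns]

theorem hall_alt_iff (M : Subgroup (alternatingGroup α)) :
    IsPiHall π M ↔ ∃ M₀ : Subgroup (Perm α),
      IsPiHall π M₀ ∧ M = M₀.subgroupOf (alternatingGroup α) := by
  constructor
  · intro hM
    have hM' := isPiHallOf_map.2 hM
    suffices h : ∃ M₀ : Subgroup (Perm α), IsPiHall π M₀ ∧
        M.map (alternatingGroup α).subtype = M₀ ⊓ alternatingGroup α by
      obtain ⟨M₀, h₀, he⟩ := h
      refine ⟨M₀, h₀, Subgroup.map_injective (Subgroup.subtype_injective _) ?_⟩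
      rw [Subgroup.subgroupOf_map_subtype, he]
    by_cases h2 : Two π (Fintype.card α)
    swap
    · have h1 : ∀ r s : ℕ, r.Prime → s.Prime → r ∈ π → s ∈ π → r ∣ Nat.card (Perm α) →
          s ∣ Nat.card (Perm α) → r = s := fun r s hr hs hrπ hsπ hrX hsX =>
        at_most_one h2 (X := ⊤) r s hr hs hrπ hsπ (by rwa [Subgroup.card_top])
          (by rwa [Subgroup.card_top])
      obtain ⟨p, hp, hiff⟩ := single_prime (X := Perm α) h1
      have := Fact.mk hp
      obtain ⟨P, hP⟩ := ((hiff _).1 hM'.2.1).exists_le_sylow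
      refine ⟨P, ⟨(hiff _).2 P.isPGroup', fun r hr hrπ hrd => ?_⟩,
        eq_of_le hM' hP fun r hr hrd =>
          (hiff _).2 P.isPGroup' r hr (hrd.trans (Subgroup.card_dvd_of_le inf_le_left))⟩
      have hrX := hrd.trans (Subgroup.index_dvd_card _)
      have := Fact.mk hr
      obtain ⟨R⟩ : Nonempty (Sylow r (Perm α)) := inferInstance
      have hRp : IsPGroup p (R : Subgroup (Perm α)) := (hiff _).1 fun s hs hsd => by
        obtain ⟨k, hk⟩ := IsPGroup.iff_card.1 R.isPGroup'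
        exact (Nat.prime_dvd_prime_iff_eq hs hr).1 (hs.dvd_of_dvd_pow (hk ▸ hsd)) ▸ hrπ
      obtain ⟨k, hk⟩ := IsPGroup.iff_card.1 hRp
      obtain rfl := (Nat.prime_dvd_prime_iff_eq hr hp).1
        (hr.dvd_of_dvd_pow (hk ▸ R.dvd_card_of_dvd_card hrX))
      exact P.not_dvd_index hrd
    by_cases hns : NotAll π (Fintype.card α)
    swap
    · refine ⟨⊤, ⟨fun r hr hrd => all_mem hns r hr hrd, fun r hr _ hrd => ?_⟩,
        eq_of_le hM' le_top fun r hr hrd => all_mem hns r hr hrd⟩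
      rw [Subgroup.index_top] at hrd
      exact hr.not_dvd_one hrd
    obtain ⟨H₀, hH₀, he⟩ := (shape_of_hall (Or.inr rfl) h2 hns hM').exists_lift
    exact ⟨H₀, isPiHall_iff_top.2 (hH₀.isHall (Or.inl rfl) (five_le h2 hns)), he⟩
  · rintro ⟨M₀, h₀, rfl⟩
    refine isPiHallOf_map.1 ?_
    rw [Subgroup.subgroupOf_map_subtype]
    exact hall_inf_alt (Or.inl rfl) (isPiHall_iff_top.1 h₀)

/-! ### The Sylow analogue -/

/-- The even permutations of six letters commuting with a fixed product of three transpositions. -/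
def sixGroup : Subgroup (Perm (Fin 6)) :=
  Subgroup.centralizer {swap 0 1 * swap 2 3 * swap 4 5} ⊓ alternatingGroup (Fin 6)

theorem mem_sixGroup {g : Perm (Fin 6)} : g ∈ sixGroup ↔
    g * (swap 0 1 * swap 2 3 * swap 4 5) = swap 0 1 * swap 2 3 * swap 4 5 * g ∧ Perm.sign g = 1 := by
  rw [sixGroup, Subgroup.mem_inf, Subgroup.mem_centralizer_iff, Perm.mem_alternatingGroup]
  simp only [Set.mem_singleton_iff, forall_eq]
  exact and_congr_left' eq_comm

theorem card_sixGroup : Nat.card sixGroup = 24 := by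
  rw [Nat.card_congr (Equiv.subtypeEquivRight fun g => mem_sixGroup (g := g)),
    Nat.card_eq_fintype_card]
  decide +kernel

theorem six_moves : ∀ T : Finset (Fin 6), 2 ≤ T.card → T.card ≤ 4 →
    ∃ g : Perm (Fin 6), (g * (swap 0 1 * swap 2 3 * swap 4 5) =
      swap 0 1 * swap 2 3 * swap 4 5 * g ∧ Perm.sign g = 1) ∧
      T.image g ≠ T ∧ T.image g ≠ Tᶜ := by
  decide +kernel

theorem dPi_imp (hn : 5 ≤ Fintype.card α) (hD : IsDPiGroup π (alternatingGroup α))
    (h2 : Two π (Fintype.card α)) (hns : NotAll π (Fintype.card α)) : False := by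
  set A := alternatingGroup α
  have hbot : IsPiSubgroup π (⊥ : Subgroup A) := fun r hr hrd => by
    rw [Subgroup.card_bot] at hrd
    exact absurd hrd hr.not_dvd_one
  obtain ⟨M, -, hM⟩ := Finite.exists_le_maximal (p := IsPiSubgroup π) hbot
  have hcon : ∀ K : Subgroup A, IsPiSubgroup π K → ∃ g : A, K ≤ M.map (MulAut.conj g).toMonoidHom := by
    intro K hK
    obtain ⟨K', hKK', hK'⟩ := Finite.exists_le_maximal (p := IsPiSubgroup π) hK
    obtain ⟨g, hg⟩ := hD M K' hM hK'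
    exact ⟨g, hg ▸ hKK'⟩
  have hMH : IsPiHall π M := by
    refine ⟨hM.1, fun r hr hrπ hrd => ?_⟩
    have := Fact.mk hr
    obtain ⟨R⟩ : Nonempty (Sylow r A) := inferInstance
    obtain ⟨g, hg⟩ := hcon R fun s hs hsd => by
      obtain ⟨k, hk⟩ := IsPGroup.iff_card.1 R.isPGroup'
      exact (Nat.prime_dvd_prime_iff_eq hs hr).1 (hs.dvd_of_dvd_pow (hk ▸ hsd)) ▸ hrπ
    refine R.not_dvd_index (hrd.trans ?_)
    have h := Subgroup.index_dvd_of_le hg
    exact (Subgroup.index_map_equiv M (MulAut.conj g)) ▸ h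
  have hshape := shape_of_hall (Or.inr rfl) h2 hns (isPiHallOf_map.2 hMH)
  -- every π-subgroup lies in a standard one
  have key : ∀ K : Subgroup (Perm α), K ≤ A → (∀ r : ℕ, r.Prime → r ∣ Nat.card K → r ∈ π) →
      ∃ H, Shape π A H ∧ K ≤ H := by
    intro K hKA hK
    obtain ⟨g, hg⟩ := hcon (K.subgroupOf A) fun r hr hrd => hK r hr (by
      rwa [Nat.card_congr (Subgroup.subgroupOfEquivOfLe hKA).toEquiv] at hrd)
    refine ⟨(M.map A.subtype).map (MulAut.conj (g : Perm α)).toMonoidHom, ?_, ?_⟩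
    · refine shape_of_hall (Or.inr rfl) h2 hns ?_
      have hH : IsPiHall π (M.map (MulAut.conj g).toMonoidHom) := by
        refine ⟨fun r hr hrd => hMH.1 r hr ?_, fun r hr hrπ hrd => hMH.2 r hr hrπ ?_⟩
        · rwa [Subgroup.card_map_of_injective (MulAut.conj g).injective] at hrd
        · exact (Subgroup.index_map_equiv M (MulAut.conj g)) ▸ hrd
      convert isPiHallOf_map.2 hH using 1
      rw [Subgroup.map_map, Subgroup.map_map]
      rfl
    · intro x hx
      obtain ⟨y, hy, hyx⟩ := hg (show (⟨x, hKA hx⟩ : A) ∈ K.subgroupOf A from hx)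
      exact ⟨y, ⟨y, hy, rfl⟩, congrArg Subtype.val hyx⟩
  rcases hshape with ⟨hp, -⟩ | ⟨⟨hn7, h23⟩, -⟩ | ⟨⟨hn8, h23⟩, -⟩
  · obtain ⟨Δ, -, hΔ⟩ := Finset.exists_subset_card_eq
      (show 3 ≤ (Finset.univ : Finset α).card by rw [Finset.card_univ]; omega)
    obtain ⟨H, hH, hle⟩ := key (stabilizer (Perm α) Δ ⊓ A) inf_le_right fun r hr hrd => by
      have h1 := card_stab_mul (α := α) Δ
      rw [stab_set_relIndex (Or.inl rfl) (by omega), hΔ] at h1
      rw [← Nat.choose_mul_factorial_mul_factorial (show 3 ≤ Fintype.card α by omega),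
        mul_comm (Nat.card _), mul_assoc] at h1
      have h2 := Nat.eq_of_mul_eq_mul_left (Nat.choose_pos (by omega)) h1
      have h3 := h2 ▸ hrd.trans (Subgroup.card_dvd_of_le inf_le_left)
      refine (hp.2 r hr ?_).2 ?_ <;>
        rcases hr.dvd_mul.1 h3 with h | h <;> have := hr.dvd_factorial.1 h <;> omega
    have hodd : Fintype.card α % 2 = 1 := hp.1.eq_two_or_odd.resolve_left (by omega)
    rcases hH with ⟨-, x, rfl⟩ | ⟨⟨hn7, h23⟩, -⟩ | ⟨⟨hn8, -⟩, -⟩
    rotate_left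
    · have := (h23 5 (by norm_num) (by omega)).1 ((hp.2 5 (by norm_num) (by omega)).2 (by omega))
      omega
    · omega
    have hfix : ∀ g ∈ A, g • Δ = Δ → g x = x := fun g hg hgΔ => (hle ⟨hgΔ, hg⟩).1
    have hswap : ∀ u v : α, u ∈ Δ → v ∈ Δ → ∀ z ∈ Δ, swap u v z ∈ Δ := fun u v hu hv z hz => by
      rw [swap_apply_def]; split_ifs <;> assumption
    by_cases hx : x ∈ Δ
    · obtain ⟨u, v, w, huv, huw, hvw, rfl⟩ := Finset.card_eq_three.1 hΔ
      have hmove : ∀ z ∈ ({u, v, w} : Finset α), (swap u v * swap u w) z ≠ z := by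
        intro z hz
        simp only [Finset.mem_insert, Finset.mem_singleton] at hz
        rcases hz with rfl | rfl | rfl <;> simp [swap_apply_def] <;> grind
      refine hmove x hx (hfix _ (Perm.mem_alternatingGroup.2
        (by simp [Perm.sign_swap huv, Perm.sign_swap huw])) ?_)
      refine Finset.eq_of_subset_of_card_le (fun y hy => ?_) (by rw [Finset.card_smul_finset])
      obtain ⟨z, hz, rfl⟩ := Finset.mem_smul_finset.1 hy
      exact hswap u v (by simp) (by simp) _ (hswap u w (by simp) (by simp) z hz)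
    · obtain ⟨y, hy, hyx⟩ : ∃ y ∈ Δᶜ, y ≠ x := Finset.exists_mem_ne
        (by rw [Finset.card_compl, hΔ]; omega) x
      rw [Finset.mem_compl] at hy
      obtain ⟨u, v, hu, hv, huv⟩ := Finset.one_lt_card_iff.1 (show 1 < Δ.card by omega)
      refine hyx ?_
      have := hfix (swap u v * swap x y) (Perm.mem_alternatingGroup.2
        (by simp [Perm.sign_swap huv, Perm.sign_swap hyx.symm])) ?_
      · rwa [Perm.mul_apply, swap_apply_left, swap_apply_of_ne_of_ne (fun h => hy (by rw [h]; exact hu))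
          (fun h => hy (by rw [h]; exact hv))] at this
      refine Finset.eq_of_subset_of_card_le (fun z hz => ?_) (by rw [Finset.card_smul_finset])
      obtain ⟨w, hw, rfl⟩ := Finset.mem_smul_finset.1 hz
      rw [Perm.smul_def, Perm.mul_apply, show swap x y w = w from swap_apply_of_ne_of_ne
        (fun h => hx (by rw [← h]; exact hw)) (fun h => hy (by rw [← h]; exact hw))]
      exact hswap u v hu hv w hw
  all_goals
    obtain ⟨ι⟩ : Nonempty (Fin 6 ↪ α) :=
      Function.Embedding.nonempty_of_card_le (by rw [Fintype.card_fin]; omega)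
    obtain ⟨H, hH, hle⟩ := key (sixGroup.map (Perm.viaEmbeddingHom ι))
      (by
        rintro _ ⟨g, hg, rfl⟩
        rw [Perm.mem_alternatingGroup, Perm.viaEmbeddingHom_apply, Perm.viaEmbedding,
          Perm.sign_extendDomain]
        exact (mem_sixGroup.1 hg).2)
      fun r hr hrd => pi_of_twoThree (i := 3) (j := 1) h23 (by omega) hr (by
        rwa [Subgroup.card_map_of_injective (Perm.viaEmbeddingHom_injective ι), card_sixGroup] at hrd)
    have hS : ∃ Δ : Finset α, Δ.card = 4 ∧ ∀ g ∈ H, g • Δ = Δ ∨ g • Δ = Δᶜ := by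
      rcases hH with ⟨hpc, -⟩ | ⟨-, Δ, hΔ, rfl⟩ | ⟨-, Δ, hΔ, rfl⟩
      · rcases hpc with ⟨hpr, hπn⟩
        exfalso
        by_cases h8 : Fintype.card α = 8
        · rw [h8] at hpr; norm_num at hpr
        · have := (h23 5 (by norm_num) (by omega)).1 ((hπn 5 (by norm_num) (by omega)).2 (by omega))
          omega
      · exact ⟨Δ, hΔ, fun g hg => Or.inl hg.1⟩
      · refine ⟨Δ, hΔ, fun g hg => ?_⟩
        have h : g • Δ ∈ g • ({Δ, Δᶜ} : Finset (Finset α)) := Finset.smul_mem_smul_finset (by simp)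
        rw [(hg.1 : g • ({Δ, Δᶜ} : Finset (Finset α)) = {Δ, Δᶜ})] at h
        simpa using h
    obtain ⟨Δ, hΔ, hS⟩ := hS
    set T := Finset.univ.filter fun i => ι i ∈ Δ with hT
    have hmemT : ∀ i, i ∈ T ↔ ι i ∈ Δ := fun i => by simp [hT]
    have hT4 : T.card ≤ 4 := by
      rw [← Finset.card_map ι, ← hΔ]
      exact Finset.card_le_card fun z hz => by
        obtain ⟨i, hi, rfl⟩ := Finset.mem_map.1 hz
        exact (hmemT i).1 hi
    have hT2 : 2 ≤ T.card := by
      have h1 : Δ ⊆ T.map ι ∪ (Finset.univ.map ι)ᶜ := fun z hz => by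
        by_cases hzr : z ∈ Finset.univ.map ι
        · obtain ⟨i, -, rfl⟩ := Finset.mem_map.1 hzr
          exact Finset.mem_union_left _ (Finset.mem_map_of_mem ι ((hmemT i).2 hz))
        · exact Finset.mem_union_right _ (Finset.mem_compl.2 hzr)
      have h2 := (Finset.card_le_card h1).trans (Finset.card_union_le _ _)
      rw [Finset.card_map, Finset.card_compl, Finset.card_map, Finset.card_univ,
        Fintype.card_fin, hΔ] at h2
      omega
    obtain ⟨g, hg, hg1, hg2⟩ := six_moves T hT2 hT4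
    have hgH := hle (Subgroup.mem_map_of_mem (Perm.viaEmbeddingHom ι) (mem_sixGroup.2 hg))
    have hval : ∀ i, ι (g i) ∈ Perm.viaEmbeddingHom ι g • Δ ↔ i ∈ T := fun i => by
      rw [hmemT]
      show ι (g i) ∈ Perm.viaEmbeddingHom ι g • Δ ↔ _
      rw [← Perm.viaEmbedding_apply g ι i, ← Perm.viaEmbeddingHom_apply, ← Perm.smul_def,
        Finset.smul_mem_smul_finset_iff]
    rcases hS _ hgH with h | h
    · refine hg1 (Finset.eq_of_subset_of_card_le (fun j hj => ?_)
        (by rw [Finset.card_image_of_injective _ g.injective]))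
      obtain ⟨i, hi, rfl⟩ := Finset.mem_image.1 hj
      exact (hmemT _).2 (h ▸ (hval i).2 hi)
    · refine hg2 (Finset.ext fun j => ?_)
      rw [Finset.mem_compl, hmemT, ← Finset.mem_compl, ← h]
      obtain ⟨i, rfl⟩ := g.surjective j
      rw [g.injective.mem_finset_image]
      exact (hval i).symm

theorem dPi_alt_iff (hn : 5 ≤ Fintype.card α) :
    IsDPiGroup π (alternatingGroup α) ↔
      ((∀ r s : ℕ, r.Prime → s.Prime → r ∈ π → s ∈ π → r ∣ Nat.card (alternatingGroup α) →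
          s ∣ Nat.card (alternatingGroup α) → r = s) ∨
        ∀ r : ℕ, r.Prime → r ∣ Nat.card (alternatingGroup α) → r ∈ π) := by
  constructor
  · intro hD
    by_contra hcon
    push Not at hcon
    obtain ⟨⟨r, s, hr, hs, hrπ, hsπ, hrX, hsX, hrs⟩, t, ht, htX, htπ⟩ := hcon
    exact dPi_imp hn hD ⟨r, s, hr, hs, hrs, hrπ, hsπ, prime_le_of_dvd hr hrX, prime_le_of_dvd hs hsX⟩
      ⟨t, ht, prime_le_of_dvd ht htX, htπ⟩
  · rintro (h1 | hall)
    · exact dPi_of_single h1
    · intro M K hM hK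
      have htop : ∀ {M : Subgroup (alternatingGroup α)}, Maximal (IsPiSubgroup π) M → M = ⊤ :=
        fun {M} hM => top_le_iff.1 (hM.2 (fun r hr hrd => hall r hr
          (hrd.trans (Subgroup.card_subgroup_dvd_card _))) le_top)
      refine ⟨1, ?_⟩
      rw [htop hM, htop hK]
      exact (Subgroup.map_top_of_surjective _ (MulAut.conj (1 : alternatingGroup α)).surjective).symm

end CfsgLib.Perm.HallClass
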