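import Mathlib

/-!
# Orbit decomposition bounds for subgroups of symmetric groups

* `OrbitBound.exists_split`: split off one orbit;
* `OrbitBound.card_le_g3`: an abelian subgroup of `Perm α` has order at most `g3 |α|`;
* `OrbitBound.Ach`: abelian subgroups realizing products of regular blocks.
-/

set_option autoImplicit false
set_option linter.style.haveILetI false

namespace CfsgLib.OrbitBound

open Equiv Subgroup
open scoped Classical

universe u

/-- The largest product of a partition of `n`. -/
def g3 : ℕ → ℕ
  | 0 => 1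
  | 1 => 1
  | 2 => 2
  | 3 => 3
  | 4 => 4
  | n + 5 => 3 * g3 (n + 2)

theorem g3_step (n : ℕ) : 3 * g3 n ≤ g3 (n + 3) := by
  match n with
  | 0 => decide
  | 1 => decide
  | m + 2 => rw [show m + 2 + 3 = m + 5 by omega, g3]

theorem one_le_g3 (n : ℕ) : 1 ≤ g3 n := by
  induction n using Nat.strong_induction_on with
  | _ n ih =>
    match n with
    | 0 => decide
    | 1 => decide
    | 2 => decide
    | 3 => decide
    | 4 => decide
    | m + 5 => rw [g3]; have := ih (m + 2) (by omega); omega

theorem le_g3 (n : ℕ) : n ≤ g3 n := by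
  induction n using Nat.strong_induction_on with
  | _ n ih =>
    match n with
    | 0 => decide
    | 1 => decide
    | 2 => decide
    | 3 => decide
    | 4 => decide
    | m + 5 => rw [g3]; have := ih (m + 2) (by omega); omega

theorem g3_mul (a b : ℕ) : g3 a * g3 b ≤ g3 (a + b) := by
  induction hn : a + b using Nat.strong_induction_on generalizing a b with
  | _ n ih =>
    subst hn
    rcases lt_or_ge a 5 with ha | ha
    · rcases lt_or_ge b 5 with hb | hb
      · interval_cases a <;> interval_cases b <;> decide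
      · obtain ⟨b, rfl⟩ : ∃ c, b = c + 5 := ⟨b - 5, by omega⟩
        have h1 := ih (a + (b + 2)) (by omega) a (b + 2) rfl
        have h2 := g3_step (a + (b + 2))
        calc g3 a * g3 (b + 5) = 3 * (g3 a * g3 (b + 2)) := by rw [g3]; ring
          _ ≤ 3 * g3 (a + (b + 2)) := Nat.mul_le_mul_left _ h1
          _ ≤ g3 (a + (b + 2) + 3) := h2
          _ = g3 (a + (b + 5)) := by rw [Nat.add_assoc]
    · obtain ⟨a, rfl⟩ : ∃ c, a = c + 5 := ⟨a - 5, by omega⟩
      have h1 := ih (a + 2 + b) (by omega) (a + 2) b rfl
      have h2 := g3_step (a + 2 + b)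
      calc g3 (a + 5) * g3 b = 3 * (g3 (a + 2) * g3 b) := by rw [g3]; ring
        _ ≤ 3 * g3 (a + 2 + b) := Nat.mul_le_mul_left _ h1
        _ ≤ g3 (a + 2 + b + 3) := h2
        _ = g3 (a + 5 + b) := by congr 1; omega

theorem g3_mono : Monotone g3 := monotone_nat_of_le_succ fun n => by
  calc g3 n = g3 n * g3 1 := by rw [show g3 1 = 1 from rfl, mul_one]
    _ ≤ g3 (n + 1) := g3_mul n 1

theorem g3_three_mul (k : ℕ) : g3 (3 * k) = 3 ^ k := by
  induction k with
  | zero => rfl
  | succ k ih =>
    match k with
    | 0 => rfl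
    | m + 1 =>
      rw [show 3 * (m + 1 + 1) = (3 * m + 1) + 5 by omega, g3,
        show 3 * m + 1 + 2 = 3 * (m + 1) by omega, ih, ← pow_succ']

theorem g3_three_mul_four (k : ℕ) : g3 (3 * k + 4) = 4 * 3 ^ k := by
  induction k with
  | zero => rfl
  | succ k ih =>
    rw [show 3 * (k + 1) + 4 = (3 * k + 2) + 5 by omega, g3,
      show 3 * k + 2 + 2 = 3 * k + 4 by omega, ih, pow_succ]
    ring

theorem g3_three_mul_two (k : ℕ) : g3 (3 * k + 2) = 2 * 3 ^ k := by
  induction k with
  | zero => rfl
  | succ k ih =>
    rw [show 3 * (k + 1) + 2 = (3 * k) + 5 by omega, g3, ih, pow_succ]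
    ring

/-! ### Splitting off an orbit -/

variable {α : Type u}

theorem mem_orbit_iff_apply_mem (A : Subgroup (Perm α)) (x : α) (a : A) (y : α) :
    (a : Perm α) y ∈ MulAction.orbit A x ↔ y ∈ MulAction.orbit A x := by
  constructor
  · intro h
    have := (MulAction.mem_orbit_of_mem_orbit (m := a⁻¹) h)
    rwa [show a⁻¹ • (a : Perm α) y = y from inv_smul_smul a y] at this
  · exact fun h => MulAction.mem_orbit_of_mem_orbit (m := a) h

/-- Restriction to the orbit of `x`. -/
noncomputable def toOrbit (A : Subgroup (Perm α)) (x : α) :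
    A →* Perm {y // y ∈ MulAction.orbit A x} where
  toFun a := (a : Perm α).subtypePerm (mem_orbit_iff_apply_mem A x a)
  map_one' := by ext; rfl
  map_mul' a b := by ext; rfl

/-- Restriction to the complement of the orbit of `x`. -/
noncomputable def toRest (A : Subgroup (Perm α)) (x : α) :
    A →* Perm {y // y ∉ MulAction.orbit A x} where
  toFun a := (a : Perm α).subtypePerm fun y => not_congr (mem_orbit_iff_apply_mem A x a y)
  map_one' := by ext; rfl
  map_mul' a b := by ext; rfl

@[simp] theorem toOrbit_apply (A : Subgroup (Perm α)) (x : α) (a : A)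
    (y : {y // y ∈ MulAction.orbit A x}) : ((toOrbit A x a) y : α) = (a : Perm α) y := rfl

@[simp] theorem toRest_apply (A : Subgroup (Perm α)) (x : α) (a : A)
    (y : {y // y ∉ MulAction.orbit A x}) : ((toRest A x a) y : α) = (a : Perm α) y := rfl

theorem split_injective (A : Subgroup (Perm α)) (x : α) :
    Function.Injective ((toOrbit A x).rangeRestrict.prod (toRest A x).rangeRestrict) := by
  intro a b h
  simp only [MonoidHom.prod_apply, Prod.mk.injEq] at h
  refine Subtype.ext (Equiv.ext fun y => ?_)
  by_cases hy : y ∈ MulAction.orbit A x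
  · exact congrArg Subtype.val (Equiv.congr_fun (congrArg Subtype.val h.1) ⟨y, hy⟩)
  · exact congrArg Subtype.val (Equiv.congr_fun (congrArg Subtype.val h.2) ⟨y, hy⟩)

theorem toOrbit_transitive (A : Subgroup (Perm α)) (x : α) :
    ∀ y z : {y // y ∈ MulAction.orbit A x}, ∃ a ∈ (toOrbit A x).range, a y = z := by
  rintro ⟨y, hy⟩ ⟨z, hz⟩
  obtain ⟨a, rfl⟩ := hy
  obtain ⟨b, rfl⟩ := hz
  refine ⟨toOrbit A x (b * a⁻¹), ⟨_, rfl⟩, Subtype.ext ?_⟩
  show ((b * a⁻¹ : A) : Perm α) (a • x) = b • x
  rw [show ((b * a⁻¹ : A) : Perm α) (a • x) = (b * a⁻¹) • (a • x) from rfl, smul_smul,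
    inv_mul_cancel_right]

theorem card_orbit_pos [Finite α] (A : Subgroup (Perm α)) (x : α) :
    0 < Nat.card {y // y ∈ MulAction.orbit A x} := by
  haveI : Nonempty {y // y ∈ MulAction.orbit A x} := ⟨⟨x, MulAction.mem_orbit_self x⟩⟩
  exact Nat.card_pos

theorem card_orbit_add [Finite α] (A : Subgroup (Perm α)) (x : α) :
    Nat.card {y // y ∈ MulAction.orbit A x} + Nat.card {y // y ∉ MulAction.orbit A x} = Nat.card α := by
  rw [← Nat.card_sum, Nat.card_congr (Equiv.sumCompl (· ∈ MulAction.orbit A x))]

theorem card_le_split [Finite α] (A : Subgroup (Perm α)) (x : α) :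
    Nat.card A ≤ Nat.card (toOrbit A x).range * Nat.card (toRest A x).range := by
  rw [← Nat.card_prod]
  exact Nat.card_le_card_of_injective _ (split_injective A x)

theorem sign_split [Fintype α] (A : Subgroup (Perm α)) (x : α) (a : A) :
    Perm.sign (a : Perm α) = Perm.sign (toOrbit A x a) * Perm.sign (toRest A x a) := by
  rw [← Perm.sign_subtypeCongr (toOrbit A x a) (toRest A x a)]
  congr 1
  ext y
  by_cases hy : y ∈ MulAction.orbit A x
  · simp [Equiv.Perm.subtypeCongr.apply, hy]
  · simp [Equiv.Perm.subtypeCongr.apply, hy]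

theorem isMulCommutative_range {A : Subgroup (Perm α)} [IsMulCommutative A] {β : Type*}
    (f : A →* Perm β) : IsMulCommutative f.range := by
  refine ⟨⟨?_⟩⟩
  rintro ⟨_, a, rfl⟩ ⟨_, b, rfl⟩
  exact Subtype.ext (by rw [Subgroup.coe_mul, Subgroup.coe_mul, ← map_mul, ← map_mul, mul_comm' a b])

/-- An abelian transitive group is regular. -/
theorem card_of_transitive [Finite α] [Nonempty α] (A : Subgroup (Perm α)) [IsMulCommutative A]
    (h : ∀ y z : α, ∃ a ∈ A, a y = z) : Nat.card A = Nat.card α := by
  obtain ⟨x⟩ := ‹Nonempty α›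
  refine Nat.card_congr (Equiv.ofBijective (fun a : A => (a : Perm α) x) ⟨fun a b hab => ?_, fun z => ?_⟩)
  · refine Subtype.ext (Equiv.ext fun y => ?_)
    obtain ⟨c, hc, rfl⟩ := h x y
    have e : ∀ d : A, (d : Perm α) (c x) = c ((d : Perm α) x) := fun d => by
      have := congrArg (fun t : A => (t : Perm α) x) (mul_comm' d ⟨c, hc⟩)
      simpa using this
    rw [e a, e b]
    exact congrArg c hab
  · obtain ⟨c, hc, rfl⟩ := h x z
    exact ⟨⟨c, hc⟩, rfl⟩

theorem card_range_toOrbit [Finite α] (A : Subgroup (Perm α)) [IsMulCommutative A] (x : α) :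
    Nat.card (toOrbit A x).range = Nat.card {y // y ∈ MulAction.orbit A x} := by
  haveI : Nonempty {y // y ∈ MulAction.orbit A x} := ⟨⟨x, MulAction.mem_orbit_self x⟩⟩
  haveI := isMulCommutative_range (toOrbit A x)
  exact card_of_transitive _ (toOrbit_transitive A x)

/-- An abelian subgroup of `Perm α` has order at most `g3 |α|`. -/
theorem card_le_g3 [Finite α] (A : Subgroup (Perm α)) [IsMulCommutative A] :
    Nat.card A ≤ g3 (Nat.card α) := by
  induction hn : Nat.card α using Nat.strong_induction_on generalizing α with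
  | _ n ih =>
    subst hn
    rcases isEmpty_or_nonempty α with hα | hα
    · haveI : Subsingleton (Perm α) := ⟨fun a b => Equiv.ext fun y => isEmptyElim y⟩
      rw [Nat.card_of_subsingleton (1 : A)]
      exact one_le_g3 _
    obtain ⟨x⟩ := hα
    have h1 := card_le_split A x
    haveI := isMulCommutative_range (toRest A x)
    have h3 := card_orbit_add A x
    have h4 := card_orbit_pos A x
    have h2 := ih _ (by omega) (toRest A x).range rfl
    rw [card_range_toOrbit A x] at h1
    calc Nat.card A ≤ _ := h1
      _ ≤ g3 (Nat.card {y // y ∈ MulAction.orbit A x}) * g3 (Nat.card {y // y ∉ MulAction.orbit A x}) :=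
        Nat.mul_le_mul (le_g3 _) h2
      _ ≤ _ := (g3_mul _ _).trans (le_of_eq (by rw [h3]))

theorem g3_three_mul_one (k : ℕ) : 3 * g3 (3 * k + 1) ≤ 4 * 3 ^ k := by
  cases k with
  | zero => decide
  | succ k => rw [show 3 * (k + 1) + 1 = 3 * k + 4 by omega, g3_three_mul_four, pow_succ]; omega

/-- An abelian subgroup of degree `3k+2` of order above `16·3^(k-2)` has an odd element. -/
theorem exists_odd [Fintype α] (k : ℕ) (hα : Fintype.card α = 3 * k + 2) (A : Subgroup (Perm α))
    [IsMulCommutative A] (hA : 16 * 3 ^ k < 9 * Nat.card A) : ∃ a ∈ A, Perm.sign a = -1 := by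
  induction k using Nat.strong_induction_on generalizing α with
  | _ k ih =>
    haveI : Nonempty α := Fintype.card_pos_iff.mp (by omega)
    obtain ⟨x⟩ := ‹Nonempty α›
    have h1 := card_le_split A x
    haveI := isMulCommutative_range (toRest A x)
    haveI := isMulCommutative_range (toOrbit A x)
    set m := Nat.card {y // y ∈ MulAction.orbit A x} with hm
    set r := Nat.card {y // y ∉ MulAction.orbit A x} with hr
    have hmr : m + r = 3 * k + 2 := by
      rw [hm, hr, card_orbit_add, Nat.card_eq_fintype_card, hα]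
    have hpos : 0 < m := card_orbit_pos A x
    have h2 : Nat.card (toRest A x).range ≤ g3 r := card_le_g3 _
    rw [card_range_toOrbit A x, ← hm] at h1
    have hone := g3_three_mul_one k
    have hp1 : 1 ≤ 3 ^ k := Nat.one_le_pow _ _ (by norm_num)
    rcases lt_or_ge m 6 with hm6 | hm6
    · interval_cases hmv : m
      · exfalso
        rw [show r = 3 * k + 1 by omega] at h2
        omega
      · -- an orbit of size two, with everything present
        rw [show r = 3 * k by omega, g3_three_mul] at h2
        set φ := (toOrbit A x).rangeRestrict.prod (toRest A x).rangeRestrict with hφ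
        have hinj := split_injective A x
        have htop : φ.range = ⊤ := by
          rw [← Subgroup.index_eq_one]
          have e := φ.range.card_mul_index
          rw [Nat.card_prod, card_range_toOrbit A x, ← hm,
            ← Nat.card_congr (MonoidHom.ofInjective (f := φ) hinj).toEquiv] at e
          rcases Nat.lt_or_ge φ.range.index 2 with h | h
          · have := Subgroup.index_ne_zero_of_finite (H := φ.range); omega
          · exfalso
            have h5 : Nat.card A * 2 ≤ 2 * 3 ^ k :=
              calc Nat.card A * 2 ≤ Nat.card A * φ.range.index := Nat.mul_le_mul_left _ h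
                _ = 2 * Nat.card (toRest A x).range := e
                _ ≤ 2 * 3 ^ k := Nat.mul_le_mul_left _ h2
            omega
        have hne : ((toOrbit A x).range : Subgroup _) ≠ ⊥ := by
          intro h
          have e := card_range_toOrbit A x
          rw [h, Subgroup.card_bot, ← hm] at e
          omega
        obtain ⟨s, hs, hs1⟩ := (Subgroup.ne_bot_iff_exists_ne_one.mp hne |> fun ⟨s, hs⟩ =>
          (⟨s.1, s.2, fun h => hs (Subtype.ext h)⟩ : ∃ s ∈ (toOrbit A x).range, s ≠ 1))
        obtain ⟨a, ha⟩ := htop.ge (Subgroup.mem_top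
          ((⟨s, hs⟩, 1) : (toOrbit A x).range × (toRest A x).range))
        refine ⟨a, a.2, ?_⟩
        have ha1 : toOrbit A x a = s := congrArg Subtype.val (congrArg Prod.fst ha)
        have ha2 : toRest A x a = 1 := congrArg Subtype.val (congrArg Prod.snd ha)
        rw [sign_split A x a, ha1, ha2, map_one, mul_one]
        have hcard : Fintype.card {y // y ∈ MulAction.orbit A x} = 2 := by
          rw [← Nat.card_eq_fintype_card, ← hm]
        refine (Perm.IsSwap.sign_eq (Perm.card_support_eq_two.mp (le_antisymm ?_ ?_)))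
        · exact (Finset.card_le_univ _).trans hcard.le
        · exact Perm.two_le_card_support_of_ne_one hs1
      · -- an orbit of size three
        rcases k with _ | k
        · omega
        obtain ⟨a, ⟨b, rfl⟩, hb⟩ := ih k (by omega)
          (α := {y // y ∉ MulAction.orbit A x}) (by rw [← Nat.card_eq_fintype_card, ← hr]; omega)
          (toRest A x).range (by rw [pow_succ] at hA; omega)
        refine ⟨b, b.2, ?_⟩
        rw [sign_split A x b, show Perm.sign (toRest A x b) = -1 by convert hb]
        have hcard : Fintype.card {y // y ∈ MulAction.orbit A x} = 3 := by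
          rw [← Nat.card_eq_fintype_card, ← hm]
        have h3 : (toOrbit A x b) ^ 3 = 1 := by
          have e : (⟨toOrbit A x b, b, rfl⟩ : (toOrbit A x).range) ^ 3 = 1 := by
            conv_lhs => rw [show (3 : ℕ) = Nat.card (toOrbit A x).range by
              rw [card_range_toOrbit A x, ← hm]]
            exact pow_card_eq_one'
          exact congrArg Subtype.val e
        have h5 : Perm.sign (toOrbit A x b) = 1 := by
          have := congrArg Perm.sign h3
          rw [map_pow, map_one] at this
          rcases Int.units_eq_one_or (Perm.sign (toOrbit A x b)) with h | h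
          · exact h
          · rw [h] at this; exact absurd this (by decide)
        rw [h5, one_mul]
      · exfalso
        rcases k with _ | k
        · omega
        have h4 := g3_three_mul_one k
        rw [show r = 3 * k + 1 by omega] at h2
        rw [pow_succ] at hA
        omega
      · exfalso
        rcases k with _ | k
        · omega
        rw [show r = 3 * k by omega, g3_three_mul] at h2
        rw [pow_succ] at hA
        omega
    · exfalso
      rcases k with _ | k
      · omega
      rw [pow_succ] at hA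
      have h5 : m ≤ 2 * g3 (m - 3) := by have := le_g3 (m - 3); omega
      have h6 : m * g3 r ≤ 2 * g3 (3 * k + 2) :=
        calc m * g3 r ≤ 2 * g3 (m - 3) * g3 r := Nat.mul_le_mul_right _ h5
          _ = 2 * (g3 (m - 3) * g3 r) := by ring
          _ ≤ 2 * g3 (m - 3 + r) := Nat.mul_le_mul_left _ (g3_mul _ _)
          _ = 2 * g3 (3 * k + 2) := by rw [show m - 3 + r = 3 * k + 2 by omega]
      have h7 : g3 (3 * k + 2) = 2 * 3 ^ k := g3_three_mul_two k
      have h8 : m * Nat.card (toRest A x).range ≤ m * g3 r := Nat.mul_le_mul_left _ h2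
      omega

/-! ### Constructions -/

/-- There is an abelian subgroup of order `c` in degree `n`, inside the kernel of `sign` if `ev`. -/
def Ach (ev : Bool) (n c : ℕ) : Prop :=
  ∃ A : Subgroup (Perm (Fin n)), IsMulCommutative A ∧ Nat.card A = c ∧
    (ev = true → ∀ a ∈ A, Perm.sign a = 1)

theorem Ach.add {ev : Bool} {a b x y : ℕ} (h1 : Ach ev a x) (h2 : Ach ev b y) :
    Ach ev (a + b) (x * y) := by
  obtain ⟨A, hA, hAc, hAs⟩ := h1
  obtain ⟨B, hB, hBc, hBs⟩ := h2
  let e : Perm (Fin a ⊕ Fin b) ≃* Perm (Fin (a + b)) := finSumFinEquiv.permCongrHom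
  let f : A × B →* Perm (Fin (a + b)) :=
    e.toMonoidHom.comp ((Perm.sumCongrHom (Fin a) (Fin b)).comp (A.subtype.prodMap B.subtype))
  have hf : Function.Injective f := by
    refine e.injective.comp (Perm.sumCongrHom_injective.comp ?_)
    exact A.subtype_injective.prodMap B.subtype_injective
  refine ⟨f.range, ⟨⟨?_⟩⟩, ?_, ?_⟩
  · rintro ⟨_, u, rfl⟩ ⟨_, v, rfl⟩
    exact Subtype.ext (by
      rw [Subgroup.coe_mul, Subgroup.coe_mul, ← map_mul, ← map_mul,
        show u * v = v * u from Prod.ext (mul_comm' u.1 v.1) (mul_comm' u.2 v.2)])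
  · rw [← Nat.card_congr (MonoidHom.ofInjective (f := f) hf).toEquiv, Nat.card_prod, hAc, hBc]
  · rintro hev _ ⟨u, rfl⟩
    show Perm.sign (finSumFinEquiv.permCongr (Equiv.sumCongr (u.1 : Perm (Fin a)) (u.2 : Perm (Fin b)))) = 1
    rw [Perm.sign_permCongr, Perm.sign_sumCongr, hAs hev _ u.1.2, hBs hev _ u.2.2, one_mul]

theorem ach_zero {ev : Bool} : Ach ev 0 1 :=
  ⟨⊥, inferInstance, Subgroup.card_bot, fun _ a ha => by rw [Subgroup.mem_bot.mp ha, map_one]⟩

theorem ach_two : Ach false 2 2 :=
  ⟨Subgroup.zpowers (Equiv.swap 0 1), inferInstance, by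
    rw [Nat.card_zpowers, orderOf_eq_prime (p := 2) (by decide) (by decide)], fun h => by simp at h⟩

theorem ach_three {ev : Bool} : Ach ev 3 3 := by
  refine ⟨Subgroup.zpowers (finRotate 3), inferInstance, ?_, fun _ => ?_⟩
  · rw [Nat.card_zpowers, orderOf_eq_prime (p := 3) (by decide) (by decide)]
  · rintro _ ⟨n, rfl⟩
    simp [map_zpow, show Perm.sign (finRotate 3) = 1 by decide]

theorem ach_four {ev : Bool} : Ach ev 4 4 := by
  let a : Perm (Fin 4) := Equiv.swap 0 1 * Equiv.swap 2 3
  let b : Perm (Fin 4) := Equiv.swap 0 2 * Equiv.swap 1 3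
  refine ⟨{ carrier := {1, a, b, a * b}
            one_mem' := by simp
            mul_mem' := ?_
            inv_mem' := ?_ }, ?_, ?_, ?_⟩
  · intro x y hx hy
    simp only [Set.mem_insert_iff, Set.mem_singleton_iff] at hx hy ⊢
    rcases hx with rfl | rfl | rfl | rfl <;> rcases hy with rfl | rfl | rfl | rfl <;> decide
  · intro x hx
    simp only [Set.mem_insert_iff, Set.mem_singleton_iff] at hx ⊢
    rcases hx with rfl | rfl | rfl | rfl <;> decide
  · refine ⟨⟨?_⟩⟩
    rintro ⟨x, hx⟩ ⟨y, hy⟩
    simp only [Subgroup.mem_mk, Set.mem_insert_iff, Set.mem_singleton_iff] at hx hy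
    apply Subtype.ext
    show x * y = y * x
    rcases hx with rfl | rfl | rfl | rfl <;> rcases hy with rfl | rfl | rfl | rfl <;> decide
  · show Nat.card ({1, a, b, a * b} : Set (Perm (Fin 4))) = 4
    rw [Nat.card_eq_fintype_card]
    decide
  · intro _ x hx
    simp only [Subgroup.mem_mk, Set.mem_insert_iff, Set.mem_singleton_iff] at hx
    rcases hx with rfl | rfl | rfl | rfl <;> decide

theorem ach_three_mul {ev : Bool} : ∀ k, Ach ev (3 * k) (3 ^ k)
  | 0 => ach_zero
  | k + 1 => by
    rw [show 3 * (k + 1) = 3 * k + 3 by omega, pow_succ]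
    exact (ach_three_mul k).add ach_three

theorem card_alternating_le {n : ℕ} (A : Subgroup (alternatingGroup (Fin n))) [IsMulCommutative A] :
    IsMulCommutative (A.map (alternatingGroup (Fin n)).subtype) ∧
      Nat.card A = Nat.card (A.map (alternatingGroup (Fin n)).subtype) :=
  ⟨inferInstance, (Subgroup.card_map_of_injective (Subgroup.subtype_injective _)).symm⟩

theorem Ach.alternating {n c : ℕ} (h : Ach true n c) :
    ∃ A : Subgroup (alternatingGroup (Fin n)), IsMulCommutative A ∧ Nat.card A = c := by
  obtain ⟨A, hA, hc, hs⟩ := h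
  have hle : A ≤ alternatingGroup (Fin n) := fun a ha => Perm.mem_alternatingGroup.mpr (hs rfl a ha)
  refine ⟨A.subgroupOf (alternatingGroup (Fin n)), ?_, ?_⟩
  · exact Subgroup.subgroupOf_isMulCommutative _ _
  · rw [Nat.card_congr (Subgroup.subgroupOfEquivOfLe hle).toEquiv, hc]

end CfsgLib.OrbitBound
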