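import Cfsg.Agent.Lib.Perm.AbelianAltArith
import Cfsg.Agent.Lib.Perm.OrbitBound
import Cfsg.Agent.Lib.Perm.SylowNormalizer
import Cfsg.Agent.Lib.Perm.HallShapes

/-!
Largest abelian subgroups of alternating groups: each is the full even group of an orbit partition,
and two of them are conjugate.
-/

set_option autoImplicit false

namespace CfsgLib.Perm.AbelianAlt

open Equiv

universe u v

section Local

variable {β : Type u} [Fintype β] [DecidableEq β]

/-- Membership in the regular abelian even group on three or four letters. -/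
def LocalOK (g : Perm β) : Prop :=
  Perm.sign g = 1 ∧ (Fintype.card β = 3 ∨ (Fintype.card β = 4 ∧ g * g = 1) ∨ g = 1)

theorem localOK_permCongr {γ : Type v} [Fintype γ] [DecidableEq γ] (e : β ≃ γ) (g : Perm β) :
    LocalOK (e.permCongr g) ↔ LocalOK g := by
  unfold LocalOK
  rw [Perm.sign_permCongr, Fintype.card_congr e]
  have h : ∀ a : Perm β, e.permCongr a = 1 ↔ a = 1 := fun a =>
    ⟨fun h => e.permCongrHom.injective (h.trans (map_one e.permCongrHom).symm),
      fun h => h ▸ map_one e.permCongrHom⟩
  rw [h, show e.permCongr g * e.permCongr g = e.permCongr (g * g) from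
    (map_mul e.permCongrHom g g).symm, h]

theorem fin_three : ∀ a b : Perm (Fin 3), Perm.sign a = 1 → Perm.sign b = 1 → a * b = b * a := by
  decide +kernel

theorem fin_four : ∀ a b : Perm (Fin 4), Perm.sign a = 1 → a * a = 1 → Perm.sign b = 1 → b * b = 1 →
    a * b = b * a ∧ (a * b) * (a * b) = 1 := by
  decide +kernel

theorem localOK_mul {a b : Perm β} (ha : LocalOK a) (hb : LocalOK b) :
    LocalOK (a * b) ∧ a * b = b * a := by
  have hs : Perm.sign (a * b) = 1 := by rw [map_mul, ha.1, hb.1, one_mul]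
  by_cases h3 : Fintype.card β = 3
  · refine ⟨⟨hs, Or.inl h3⟩, ?_⟩
    let e := Fintype.equivFinOfCardEq h3
    apply e.permCongrHom.injective
    rw [map_mul, map_mul]
    exact fin_three _ _ ((Perm.sign_permCongr e a).trans ha.1) ((Perm.sign_permCongr e b).trans hb.1)
  by_cases h4 : Fintype.card β = 4
  · have sq : ∀ g : Perm β, LocalOK g → g * g = 1 := fun g hg => by
      rcases hg.2 with h | h | h
      · exact absurd h h3
      · exact h.2
      · rw [h, one_mul]
    let e := Fintype.equivFinOfCardEq h4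
    obtain ⟨h1, h2⟩ := fin_four (e.permCongrHom a) (e.permCongrHom b)
      ((Perm.sign_permCongr e a).trans ha.1) (by rw [← map_mul, sq a ha, map_one])
      ((Perm.sign_permCongr e b).trans hb.1) (by rw [← map_mul, sq b hb, map_one])
    refine ⟨⟨hs, Or.inr (Or.inl ⟨h4, e.permCongrHom.injective ?_⟩)⟩, e.permCongrHom.injective ?_⟩
    · rw [map_mul, map_mul, map_one]; exact h2
    · rw [map_mul, map_mul]; exact h1
  have one : ∀ g : Perm β, LocalOK g → g = 1 := fun g hg => by
    rcases hg.2 with h | h | h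
    · exact absurd h h3
    · exact absurd h.1 h4
    · exact h
  obtain rfl := one a ha
  obtain rfl := one b hb
  exact ⟨by rwa [one_mul], rfl⟩

variable (β) in
/-- The regular abelian even group on three or four letters. -/
def localGroup : Subgroup (Perm β) where
  carrier := {g | LocalOK g}
  one_mem' := ⟨map_one _, Or.inr (Or.inr rfl)⟩
  mul_mem' ha hb := (localOK_mul ha hb).1
  inv_mem' {g} hg := by
    refine ⟨by rw [map_inv, hg.1, inv_one], ?_⟩
    rcases hg.2 with h | h | h
    · exact Or.inl h
    · exact Or.inr (Or.inl ⟨h.1, by rw [← mul_inv_rev, h.2, inv_one]⟩)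
    · exact Or.inr (Or.inr (by rw [h, inv_one]))

theorem card_localGroup :
    Nat.card (localGroup β) =
      if Fintype.card β = 3 then 3 else if Fintype.card β = 4 then 4 else 1 := by
  have key : ∀ {n : ℕ} (e : β ≃ Fin n), Nat.card (localGroup β) =
      Nat.card {g : Perm (Fin n) // LocalOK g} := fun e =>
    Nat.card_congr (Equiv.subtypeEquiv e.permCongr fun g => (localOK_permCongr e g).symm)
  split_ifs with h3 h4
  · rw [key (Fintype.equivFinOfCardEq h3),
      Nat.card_congr (Equiv.subtypeEquivRight (p := fun g : Perm (Fin 3) => LocalOK g)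
        (q := fun g => Perm.sign g = 1) fun g =>
          ⟨fun h => h.1, fun h => ⟨h, Or.inl (Fintype.card_fin 3)⟩⟩),
      Nat.card_eq_fintype_card]
    decide +kernel
  · rw [key (Fintype.equivFinOfCardEq h4),
      Nat.card_congr (Equiv.subtypeEquivRight (p := fun g : Perm (Fin 4) => LocalOK g)
        (q := fun g => Perm.sign g = 1 ∧ g * g = 1) fun g => ⟨fun h => ⟨h.1, by
          rcases h.2 with h | h | h
          · simp at h
          · exact h.2
          · rw [h, one_mul]⟩, fun h => ⟨h.1, Or.inr (Or.inl ⟨Fintype.card_fin 4, h.2⟩)⟩⟩),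
      Nat.card_eq_fintype_card]
    decide +kernel
  · have hbot : localGroup β = ⊥ := (Subgroup.eq_bot_iff_forall _).2 fun g hg => by
      rcases hg.2 with h | h | h
      · exact absurd h h3
      · exact absurd h.1 h4
      · exact h
    rw [hbot, Subgroup.card_bot]

end Local

section Glue

variable {α : Type u} [Fintype α] [DecidableEq α] {ι : Type v} [Fintype ι] [DecidableEq ι]
  (c : α → ι)

/-- A fibre. -/
abbrev Fib (i : ι) : Type u := {x // c x = i}

/-- Assemble permutations of the fibres. -/
def glue : ((i : ι) → Perm (Fib c i)) →* Perm α :=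
  (Equiv.sigmaFiberEquiv c).permCongrHom.toMonoidHom.comp (Perm.sigmaCongrRightHom fun i => Fib c i)

theorem glue_apply (f : (i : ι) → Perm (Fib c i)) (x : α) :
    glue c f x = (f (c x) ⟨x, rfl⟩ : α) := rfl

theorem glue_fibre (f : (i : ι) → Perm (Fib c i)) (x : α) : c (glue c f x) = c x :=
  (f (c x) ⟨x, rfl⟩).2

theorem glue_apply_fib (f : (i : ι) → Perm (Fib c i)) {i : ι} (y : Fib c i) :
    glue c f y = (f i y : α) := by
  obtain ⟨y, rfl⟩ := y
  rfl

theorem glue_injective : Function.Injective (glue c) := fun f g h => funext fun i =>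
  Equiv.ext fun y => Subtype.ext (by rw [← glue_apply_fib, ← glue_apply_fib, h])

theorem sign_glue (f : (i : ι) → Perm (Fib c i)) :
    Perm.sign (glue c f) = ∏ i, Perm.sign (f i) := by
  let P : ((i : ι) → Perm (Fib c i)) →* ℤˣ :=
    { toFun := fun f => ∏ i, Perm.sign (f i)
      map_one' := by simp
      map_mul' := fun a b => by simp [Finset.prod_mul_distrib] }
  have h : f ∈ (Perm.sign.comp (glue c)).eqLocus P := by
    refine Subgroup.pi_mem_of_mulSingle_mem f fun i => ?_
    show Perm.sign (glue c (Pi.mulSingle i (f i))) =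
      ∏ j, Perm.sign ((Pi.mulSingle i (f i) : (j : ι) → Perm (Fib c j)) j)
    rw [Finset.prod_eq_single i (fun j _ hj => by simp [Pi.mulSingle_eq_of_ne hj])
        (fun h => absurd (Finset.mem_univ i) h), Pi.mulSingle_eq_same,
      show glue c (Pi.mulSingle i (f i)) = Perm.ofSubtype (f i) from ?_, Perm.sign_ofSubtype]
    ext x
    by_cases hx : c x = i
    · rw [Perm.ofSubtype_apply_of_mem (p := fun y => c y = i) _ hx]
      have h := glue_apply_fib c (Pi.mulSingle i (f i)) (⟨x, hx⟩ : Fib c i)
      rw [Pi.mulSingle_eq_same] at h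
      exact h
    · rw [Perm.ofSubtype_apply_of_not_mem (p := fun y => c y = i) _ hx, glue_apply,
        Pi.mulSingle_eq_of_ne hx]
      rfl
  exact h

/-- The standard even abelian group of a partition. -/
def std : Subgroup (Perm α) :=
  (Subgroup.pi Set.univ fun i => localGroup (Fib c i)).map (glue c)

theorem mem_std {g : Perm α} :
    g ∈ std c ↔ ∃ h : ∀ x, c (g x) = c x, ∀ i, LocalOK (g.subtypePerm (p := fun x => c x = i)
      (fun x => by rw [h x])) := by
  constructor
  · rintro ⟨f, hf, rfl⟩
    refine ⟨glue_fibre c f, fun i => ?_⟩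
    rw [show (glue c f).subtypePerm (p := fun x => c x = i) _ = f i from
      Equiv.ext fun y => Subtype.ext (glue_apply_fib c f y)]
    exact hf i (Set.mem_univ i)
  · rintro ⟨h, hi⟩
    exact ⟨fun i => g.subtypePerm (fun x => by rw [h x]), fun i _ => hi i,
      Equiv.ext fun x => rfl⟩

theorem std_le_alt : std c ≤ alternatingGroup α := by
  rintro _ ⟨f, hf, rfl⟩
  rw [Perm.mem_alternatingGroup, sign_glue]
  exact Finset.prod_eq_one fun i _ => (hf i (Set.mem_univ i)).1

theorem std_comm : IsMulCommutative (std c) := by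
  refine ⟨⟨?_⟩⟩
  rintro ⟨_, f, hf, rfl⟩ ⟨_, g, hg, rfl⟩
  refine Subtype.ext ?_
  show glue c f * glue c g = glue c g * glue c f
  rw [← map_mul, ← map_mul]
  exact congrArg _ (funext fun i => (localOK_mul (hf i (Set.mem_univ i)) (hg i (Set.mem_univ i))).2)

theorem card_std (h : ∀ i, Fintype.card (Fib c i) = 3 ∨ Fintype.card (Fib c i) = 4) :
    Nat.card (std c) = ∏ i, Fintype.card (Fib c i) := by
  rw [std, Subgroup.card_map_of_injective (glue_injective c)]
  let e : ↥(Subgroup.pi Set.univ fun i => localGroup (Fib c i)) ≃ ((i : ι) → localGroup (Fib c i)) :=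
    { toFun := fun f i => ⟨f.1 i, f.2 i (Set.mem_univ i)⟩
      invFun := fun f => ⟨fun i => (f i).1, fun i _ => (f i).2⟩
      left_inv := fun f => rfl
      right_inv := fun f => rfl }
  rw [Nat.card_congr e, Nat.card_pi]
  refine Finset.prod_congr rfl fun i _ => ?_
  rw [card_localGroup]
  rcases h i with h | h <;> rw [h] <;> simp

end Glue

variable {α : Type u} [Fintype α] [DecidableEq α]

/-- Existence of large even abelian subgroups. -/
theorem exists_large (hn : 3 ≤ Fintype.card α) :
    ∃ C : Subgroup (Perm α), C ≤ alternatingGroup α ∧ IsMulCommutative C ∧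
      best (Fintype.card α) ≤ Nat.card C := by
  by_cases h5 : Fintype.card α = 5
  · obtain ⟨σ, hσA, hσc, hσs⟩ :=
      HallClass.exists_cycle (α := α) (p := 5) (by norm_num) (by decide) (le_of_eq h5.symm)
    refine ⟨Subgroup.zpowers σ, Subgroup.zpowers_le.2 hσA, inferInstance, ?_⟩
    rw [Nat.card_zpowers, hσc.orderOf, hσs, h5]
    decide
  set l := (target (Fintype.card α)).toList with hl
  have hsum : ∑ i : Fin l.length, l[i.1] = Fintype.card α := by
    rw [Fin.sum_univ_getElem, hl, Multiset.sum_toList, sum_target]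
  let e : α ≃ Σ i : Fin l.length, Fin l[i.1] := Fintype.equivOfCardEq (by simp [hsum])
  let c : α → Fin l.length := fun x => (e x).1
  have hfib : ∀ i, Fintype.card (Fib c i) = l[i.1] := fun i => by
    rw [Fintype.card_congr ((e.subtypeEquiv (q := fun s => s.1 = i) (fun x => Iff.rfl)).trans
      (Equiv.sigmaSubtype i)), Fintype.card_fin]
  refine ⟨std c, std_le_alt c, std_comm c, le_of_eq ?_⟩
  rw [card_std c fun i => ?_]
  · rw [Finset.prod_congr rfl fun i _ => hfib i, Fin.prod_univ_getElem, hl, Multiset.prod_toList, best]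
  · rw [hfib]
    exact mem_target_big hn h5 (Multiset.mem_toList.1 (List.getElem_mem i.2))

/-- The orbit sizes of a largest abelian even subgroup, and the subgroup itself. -/
theorem structure_of_max (hn : 3 ≤ Fintype.card α) (A : Subgroup (Perm α)) [IsMulCommutative A]
    (hA : A ≤ alternatingGroup α) (hmax : best (Fintype.card α) ≤ Nat.card A) :
    Nat.card A = best (Fintype.card α) ∧
    (Fintype.card α ≠ 5 → ∃ (ι : Type u) (_ : Fintype ι) (_ : DecidableEq ι) (c : α → ι),
      A = std c ∧
      (Finset.univ.val.map fun i => Fintype.card (Fib c i)) = target (Fintype.card α)) := by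
  classical
  let ι := MulAction.orbitRel.Quotient A α
  have : Fintype ι := Fintype.ofFinite ι
  let c : α → ι := Quotient.mk''
  have hc : ∀ (a : A) (x : α), c ((a : Perm α) x) = c x := fun a x =>
    Quotient.sound' ⟨a, rfl⟩
  let res : A →* ((i : ι) → Perm (Fib c i)) :=
    { toFun := fun a i => (a : Perm α).subtypePerm (fun x => by rw [hc a x])
      map_one' := funext fun i => Equiv.ext fun y => Subtype.ext rfl
      map_mul' := fun a b => funext fun i => Equiv.ext fun y => Subtype.ext rfl }
  have hglue : ∀ a : A, glue c (res a) = (a : Perm α) := fun a => Equiv.ext fun x => rfl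
  have hinj : Function.Injective res := fun a b h => Subtype.ext (by rw [← hglue a, h, hglue b])
  let R : (i : ι) → Subgroup (Perm (Fib c i)) := fun i =>
    ((Pi.evalMonoidHom (fun i => Perm (Fib c i)) i).comp res).range
  have hne : ∀ i, Nonempty (Fib c i) := fun i => by
    obtain ⟨x, rfl⟩ := Quotient.mk''_surjective i
    exact ⟨⟨x, rfl⟩⟩
  have htr : ∀ i, ∀ y z : Fib c i, ∃ r ∈ R i, r y = z := by
    rintro i ⟨y, hy⟩ ⟨z, hz⟩
    obtain ⟨a, ha⟩ := Quotient.exact' (hz.trans hy.symm)
    exact ⟨_, ⟨a, rfl⟩, Subtype.ext ha⟩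
  have hcomm : ∀ i, IsMulCommutative (R i) := fun i => CfsgLib.OrbitBound.isMulCommutative_range _
  have hcard : ∀ i, Nat.card (R i) = Fintype.card (Fib c i) := fun i => by
    have := hne i
    have := hcomm i
    rw [CfsgLib.OrbitBound.card_of_transitive _ (htr i), Nat.card_eq_fintype_card]
  have hfree : ∀ i, ∀ r ∈ R i, ∀ y, r y = y → r = 1 := by
    intro i r hr y hy
    refine Equiv.ext fun z => ?_
    obtain ⟨s, hs, rfl⟩ := htr i y z
    have := hcomm i
    have h := congrArg (fun t : R i => (t : Perm (Fib c i)) y) (mul_comm' (⟨r, hr⟩ : R i) ⟨s, hs⟩)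
    simp only [Subgroup.coe_mul, Perm.mul_apply] at h
    rw [h, hy]
    rfl
  set m : Multiset ℕ := Finset.univ.val.map fun i => Fintype.card (Fib c i) with hm
  have hmsum : m.sum = Fintype.card α := by
    rw [hm, ← Fintype.card_congr (Equiv.sigmaFiberEquiv c), Fintype.card_sigma]
    rfl
  have hmprod : m.prod = ∏ i, Fintype.card (Fib c i) := rfl
  have hmpos : ∀ x ∈ m, 0 < x := fun x hx => by
    rw [hm, Multiset.mem_map] at hx
    obtain ⟨i, -, rfl⟩ := hx
    have := hne i
    exact Fintype.card_pos
  set Q := Subgroup.pi Set.univ R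
  have hQ : Nat.card Q = m.prod := by
    let e : Q ≃ ((i : ι) → R i) :=
      { toFun := fun f i => ⟨f.1 i, f.2 i (Set.mem_univ i)⟩
        invFun := fun f => ⟨fun i => (f i).1, fun i _ => (f i).2⟩
        left_inv := fun f => rfl
        right_inv := fun f => rfl }
    rw [Nat.card_congr e, Nat.card_pi, hmprod]
    exact Finset.prod_congr rfl fun i _ => hcard i
  have hrange : res.range ≤ Q := by
    rintro _ ⟨a, rfl⟩ i -
    exact ⟨a, rfl⟩
  have hAcard : Nat.card A = Nat.card res.range :=
    Nat.card_congr (MonoidHom.ofInjective hinj).toEquiv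
  have hle : Nat.card A ≤ m.prod := by
    rw [hAcard, ← hQ]
    exact Nat.le_of_dvd Nat.card_pos (Subgroup.card_dvd_of_le hrange)
  have heven : ∀ i, ∀ r ∈ R i, Perm.sign r = 1 := by
    intro i r hr
    rcases Int.units_eq_one_or (Perm.sign r) with h | h
    · exact h
    exfalso
    have hnot : Pi.mulSingle i r ∉ res.range := by
      rintro ⟨a, ha⟩
      have h1 := Perm.mem_alternatingGroup.1 (hA a.2)
      rw [← hglue a, ha, sign_glue, Finset.prod_eq_single i
        (fun j _ hj => by simp [Pi.mulSingle_eq_of_ne hj]) (fun h => absurd (Finset.mem_univ i) h),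
        Pi.mulSingle_eq_same, h] at h1
      exact absurd h1 (by decide)
    have hmemQ : Pi.mulSingle i r ∈ Q := fun j _ => by
      rcases eq_or_ne j i with rfl | hj
      · rw [Pi.mulSingle_eq_same]; exact hr
      · rw [Pi.mulSingle_eq_of_ne hj]; exact (R j).one_mem
    obtain ⟨k, hk⟩ := Subgroup.card_dvd_of_le hrange
    have hk2 : 2 ≤ k := by
      by_contra hlt
      have : res.range = Q := Subgroup.eq_of_le_of_card_ge hrange (by rw [hk]; nlinarith)
      exact hnot (this ▸ hmemQ)
    have hb := bound_double hmpos (by rw [hmsum]; exact hn)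
    rw [hmsum, ← hQ, hk, ← hAcard] at hb
    nlinarith
  have hno2 : ∀ x ∈ m, 0 < x ∧ x ≠ 2 := fun x hx => by
    refine ⟨hmpos x hx, ?_⟩
    rintro rfl
    rw [hm, Multiset.mem_map] at hx
    obtain ⟨i, -, hi⟩ := hx
    have : Nontrivial (R i) :=
      Finite.one_lt_card_iff_nontrivial.1 (by rw [hcard i, hi]; norm_num)
    obtain ⟨r, hr1⟩ := exists_ne (1 : R i)
    have hsupp : (r : Perm (Fib c i)).support.card = 2 :=
      le_antisymm ((Finset.card_le_univ _).trans hi.le)
        (Perm.two_le_card_support_of_ne_one fun h => hr1 (Subtype.ext h))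
    have := (Perm.card_support_eq_two.1 hsupp).sign_eq
    rw [heven i r r.2] at this
    exact absurd this (by decide)
  obtain ⟨hb1, hb2⟩ := bound_no_two hno2
  rw [hmsum] at hb1 hb2
  refine ⟨by omega, fun h5 => ⟨ι, inferInstance, inferInstance, c, ?_, hb2 (by omega)⟩⟩
  have hsizes : ∀ i, Fintype.card (Fib c i) = 3 ∨ Fintype.card (Fib c i) = 4 := fun i => by
    have h : Fintype.card (Fib c i) ∈ m := Multiset.mem_map_of_mem _ (Finset.mem_univ i)
    rw [hb2 (by omega)] at h
    exact mem_target_big hn h5 h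
  have hAle : A ≤ std c := by
    intro a ha
    refine (mem_std c).2 ⟨hc ⟨a, ha⟩, fun i => ?_⟩
    have hr : res ⟨a, ha⟩ i ∈ R i := ⟨⟨a, ha⟩, rfl⟩
    show LocalOK (res ⟨a, ha⟩ i)
    refine ⟨heven i _ hr, ?_⟩
    rcases hsizes i with h3 | h4
    · exact Or.inl h3
    refine Or.inr (Or.inl ⟨h4, ?_⟩)
    generalize res ⟨a, ha⟩ i = r at hr
    have key : ∀ g : Perm (Fin 4), Perm.sign g = 1 → (g = 1 ∨ ∀ x, g x ≠ x) → g * g = 1 := by
      decide +kernel
    let e := Fintype.equivFinOfCardEq h4
    apply e.permCongrHom.injective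
    rw [map_mul, map_one]
    refine key _ ((Perm.sign_permCongr e r).trans (heven i r hr)) ?_
    by_cases h1 : r = 1
    · exact Or.inl (by rw [h1, map_one])
    · refine Or.inr fun x hx => h1 (hfree i r hr (e.symm x) ?_)
      have := congrArg e.symm hx
      simpa [Equiv.permCongrHom, Equiv.permCongr_apply] using this
  refine Subgroup.eq_of_le_of_card_ge hAle (le_of_eq ?_)
  rw [card_std c hsizes, ← hmprod]
  omega

/-- Partitions with the same sizes give conjugate groups, by an even permutation. -/
theorem std_conj {ι κ : Type u} [Fintype ι] [DecidableEq ι] [Fintype κ] [DecidableEq κ]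
    (c : α → ι) (d : α → κ) {i₀ : ι} (hi₀ : 2 ≤ Fintype.card (Fib c i₀))
    (hsz : ∀ i, Fintype.card (Fib c i) = 3 ∨ Fintype.card (Fib c i) = 4)
    (h : (Finset.univ.val.map fun i => Fintype.card (Fib c i)) =
      Finset.univ.val.map fun j => Fintype.card (Fib d j)) :
    ∃ g ∈ alternatingGroup α, std d = (std c).map (MulAut.conj g).toMonoidHom := by
  classical
  have hcnt : ∀ m : ℕ, Nonempty ({i // Fintype.card (Fib c i) = m} ≃ {j // Fintype.card (Fib d j) = m}) :=
    fun m => by
      refine ⟨Fintype.equivOfCardEq ?_⟩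
      have := congrArg (Multiset.count m) h
      rw [Multiset.count_map, Multiset.count_map] at this
      rw [Fintype.card_subtype, Fintype.card_subtype, Finset.card_def, Finset.card_def,
        Finset.filter_val, Finset.filter_val]
      simpa [eq_comm] using this
  let σ : ι ≃ κ := Equiv.ofFiberEquiv fun m => (hcnt m).some
  have hσ : ∀ i, Fintype.card (Fib d (σ i)) = Fintype.card (Fib c i) :=
    fun i => Equiv.ofFiberEquiv_map (f := fun i => Fintype.card (Fib c i))
      (g := fun j => Fintype.card (Fib d j)) _ i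
  have hfib : ∀ j, Nonempty ({x // σ (c x) = j} ≃ {x // d x = j}) := fun j => by
    refine ⟨Fintype.equivOfCardEq ?_⟩
    have := hσ (σ.symm j)
    rw [σ.apply_symm_apply] at this
    rw [this]
    exact Fintype.card_congr (Equiv.subtypeEquivRight fun x => σ.eq_symm_apply.symm)
  let g₁ : Perm α := Equiv.ofFiberEquiv fun j => (hfib j).some
  have hg₁ : ∀ x, d (g₁ x) = σ (c x) := fun x => Equiv.ofFiberEquiv_map _ x
  obtain ⟨g, hgA, hg⟩ : ∃ g ∈ alternatingGroup α, ∀ x, d (g x) = σ (c x) := by
    rcases Int.units_eq_one_or (Perm.sign g₁) with hs | hs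
    · exact ⟨g₁, Perm.mem_alternatingGroup.2 hs, hg₁⟩
    obtain ⟨⟨u, hu⟩, ⟨v, hv⟩, huv⟩ := Fintype.one_lt_card_iff.1 (show 1 < Fintype.card (Fib c i₀) by omega)
    have huv' : u ≠ v := fun h => huv (Subtype.ext h)
    refine ⟨g₁ * swap u v, Perm.mem_alternatingGroup.2 (by simp [hs, Perm.sign_swap huv']), fun x => ?_⟩
    rw [Perm.mul_apply, hg₁, swap_apply_def]
    split_ifs with h1 h2
    · rw [h1, hu, hv]
    · rw [h2, hu, hv]
    · rfl
  refine ⟨g, hgA, ?_⟩
  have hdsz : ∀ j, Fintype.card (Fib d j) = 3 ∨ Fintype.card (Fib d j) = 4 := fun j => by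
    obtain ⟨i, rfl⟩ := σ.surjective j
    rw [hσ i]; exact hsz i
  refine (Subgroup.eq_of_le_of_card_ge (fun y hy => ?_) (le_of_eq ?_)).symm
  · obtain ⟨x, hx, rfl⟩ := hy
    obtain ⟨hfix, hok⟩ := (mem_std c).1 hx
    refine (mem_std d).2 ⟨fun z => ?_, fun j => ?_⟩
    · obtain ⟨w, rfl⟩ := g.surjective z
      show d (g (x (g⁻¹ (g w)))) = d (g w)
      rw [Perm.inv_def, Equiv.symm_apply_apply, hg, hg, hfix]
    · obtain ⟨i, rfl⟩ := σ.surjective j
      let e : Fib c i ≃ Fib d (σ i) := g.subtypeEquiv fun z => by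
        rw [hg]; exact σ.apply_eq_iff_eq.symm
      have he := (localOK_permCongr e _).2 (hok i)
      convert he using 1
      refine Equiv.ext fun z => Subtype.ext ?_
      show g (x (g⁻¹ (z : α))) = g (x (g.symm (z : α)))
      rfl
  · rw [Subgroup.card_map_of_injective (MulAut.conj g).injective, card_std c hsz, card_std d hdsz]
    exact (Fintype.prod_equiv σ _ _ fun i => (hσ i).symm).symm

/-- Largest even abelian subgroups are conjugate by even permutations. -/
theorem exists_conj (A B : Subgroup (Perm α)) [IsMulCommutative A] [IsMulCommutative B]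
    (hA : A ≤ alternatingGroup α) (hB : B ≤ alternatingGroup α)
    (hAmax : ∀ C : Subgroup (Perm α), C ≤ alternatingGroup α → IsMulCommutative C →
      Nat.card C ≤ Nat.card A)
    (hBmax : ∀ C : Subgroup (Perm α), C ≤ alternatingGroup α → IsMulCommutative C →
      Nat.card C ≤ Nat.card B) :
    ∃ g ∈ alternatingGroup α, B = A.map (MulAut.conj g).toMonoidHom := by
  by_cases hn : Fintype.card α < 3
  · have hbot : alternatingGroup α = ⊥ :=
      alternatingGroup.eq_bot_of_card_le_two (by rw [Nat.card_eq_fintype_card]; omega)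
    rw [hbot, le_bot_iff] at hA hB
    exact ⟨1, one_mem _, by rw [hA, hB, Subgroup.map_bot]⟩
  push Not at hn
  obtain ⟨C, hC, hCc, hCcard⟩ := exists_large hn
  obtain ⟨hAc, hAs⟩ := structure_of_max hn A hA (hCcard.trans (hAmax C hC hCc))
  obtain ⟨hBc, hBs⟩ := structure_of_max hn B hB (hCcard.trans (hBmax C hC hCc))
  by_cases h5 : Fintype.card α = 5
  · have : Fact (Nat.Prime 5) := ⟨by norm_num⟩
    rw [h5, show best 5 = 5 by decide] at hAc hBc
    have hcardA : Nat.card (alternatingGroup α) = 60 := by
      have := HallClass.card_alt_two (α := α) (by omega)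
      rw [h5, show Nat.factorial 5 = 120 by rfl] at this
      omega
    have hf : Nat.factorization 60 5 = 1 := by
      rw [show (60 : ℕ) = 5 * 12 from rfl, Nat.factorization_mul (by norm_num) (by norm_num),
        Finsupp.add_apply, Nat.Prime.factorization_self (by norm_num),
        Nat.factorization_eq_zero_of_not_dvd (by decide)]
    let P : Sylow 5 (alternatingGroup α) := Sylow.ofCard (A.subgroupOf _) (by
      rw [Nat.card_congr (Subgroup.subgroupOfEquivOfLe hA).toEquiv, hAc, hcardA, hf, pow_one])
    let Q : Sylow 5 (alternatingGroup α) := Sylow.ofCard (B.subgroupOf _) (by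
      rw [Nat.card_congr (Subgroup.subgroupOfEquivOfLe hB).toEquiv, hBc, hcardA, hf, pow_one])
    obtain ⟨g, hg⟩ := MulAction.exists_smul_eq (alternatingGroup α) P Q
    refine ⟨g, g.2, ?_⟩
    have h : (A.subgroupOf (alternatingGroup α)).map (MulAut.conj g).toMonoidHom =
        B.subgroupOf (alternatingGroup α) := congrArg Sylow.toSubgroup hg
    have h' := congrArg (Subgroup.map (alternatingGroup α).subtype) h
    rw [Subgroup.map_map, Subgroup.map_subgroupOf_eq_of_le hB] at h'
    rw [← h']
    conv_rhs => rw [← Subgroup.map_subgroupOf_eq_of_le hA, Subgroup.map_map]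
    rfl
  obtain ⟨ι, _, _, c, rfl, hc⟩ := hAs h5
  obtain ⟨κ, _, _, d, rfl, hd⟩ := hBs h5
  have hsz : ∀ i, Fintype.card (Fib c i) = 3 ∨ Fintype.card (Fib c i) = 4 := fun i =>
    mem_target_big hn h5 (hc ▸ Multiset.mem_map_of_mem _ (Finset.mem_univ i))
  obtain ⟨x⟩ : Nonempty α := Fintype.card_pos_iff.1 (by omega)
  exact std_conj c d (i₀ := c x) (by rcases hsz (c x) with h | h <;> omega) hsz (hc.trans hd.symm)

end CfsgLib.Perm.AbelianAlt
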