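import Mathlib

/-!
Partitions maximizing the product of the parts, parts congruent to two modulo four being handicapped:
the arithmetic of the largest abelian subgroups of alternating groups.
-/

set_option autoImplicit false

namespace CfsgLib.Perm.AbelianAlt

open Multiset

/-- The orbit sizes of a largest abelian subgroup of the alternating group of degree `n`. -/
def target (n : ℕ) : Multiset ℕ :=
  if n % 3 = 0 then replicate (n / 3) 3
  else if n % 3 = 1 then (if n = 1 then {1} else 4 ::ₘ replicate ((n - 4) / 3) 3)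
  else if n = 2 then {1, 1} else if n = 5 then {5} else 4 ::ₘ 4 ::ₘ replicate ((n - 8) / 3) 3

theorem target_three (k : ℕ) : target (3 * k) = replicate k 3 := by
  rw [target, if_pos (by omega), show 3 * k / 3 = k by omega]

theorem target_four (k : ℕ) : target (3 * k + 4) = 4 ::ₘ replicate k 3 := by
  rw [target, if_neg (by omega), if_pos (by omega), if_neg (by omega),
    show (3 * k + 4 - 4) / 3 = k by omega]

theorem target_eight (k : ℕ) : target (3 * k + 8) = 4 ::ₘ 4 ::ₘ replicate k 3 := by
  rw [target, if_neg (by omega), if_neg (by omega), if_neg (by omega), if_neg (by omega),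
    show (3 * k + 8 - 8) / 3 = k by omega]

theorem target_cases (n : ℕ) : n = 1 ∨ n = 2 ∨ n = 5 ∨ (∃ k, n = 3 * k) ∨ (∃ k, n = 3 * k + 4) ∨
    (∃ k, n = 3 * k + 8) := by
  rcases (show n % 3 = 0 ∨ n % 3 = 1 ∨ n % 3 = 2 by omega) with h | h | h
  · exact Or.inr (Or.inr (Or.inr (Or.inl ⟨n / 3, by omega⟩)))
  · by_cases h1 : n = 1
    · exact Or.inl h1
    · exact Or.inr (Or.inr (Or.inr (Or.inr (Or.inl ⟨(n - 4) / 3, by omega⟩))))
  · by_cases h2 : n = 2
    · exact Or.inr (Or.inl h2)
    by_cases h5 : n = 5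
    · exact Or.inr (Or.inr (Or.inl h5))
    · exact Or.inr (Or.inr (Or.inr (Or.inr (Or.inr ⟨(n - 8) / 3, by omega⟩))))

theorem sum_target (n : ℕ) : (target n).sum = n := by
  rcases target_cases n with rfl | rfl | rfl | ⟨k, rfl⟩ | ⟨k, rfl⟩ | ⟨k, rfl⟩
  · rfl
  · rfl
  · rfl
  · rw [target_three, sum_replicate, smul_eq_mul, mul_comm]
  · rw [target_four, sum_cons, sum_replicate, smul_eq_mul]; ring
  · rw [target_eight, sum_cons, sum_cons, sum_replicate, smul_eq_mul]; ring

theorem mem_target {n m : ℕ} (h : m ∈ target n) : m = 1 ∨ m = 3 ∨ m = 4 ∨ m = 5 := by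
  rcases target_cases n with rfl | rfl | rfl | ⟨k, rfl⟩ | ⟨k, rfl⟩ | ⟨k, rfl⟩
  · simp [target] at h; omega
  · simp [target] at h; omega
  · simp [target] at h; omega
  · rw [target_three] at h; have := eq_of_mem_replicate h; omega
  · rw [target_four, mem_cons] at h
    rcases h with h | h
    · omega
    · have := eq_of_mem_replicate h; omega
  · rw [target_eight, mem_cons, mem_cons] at h
    rcases h with h | h | h
    · omega
    · omega
    · have := eq_of_mem_replicate h; omega

theorem mem_target_big {n m : ℕ} (hn : 3 ≤ n) (h5 : n ≠ 5) (h : m ∈ target n) : m = 3 ∨ m = 4 := by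
  rcases target_cases n with rfl | rfl | rfl | ⟨k, rfl⟩ | ⟨k, rfl⟩ | ⟨k, rfl⟩
  · omega
  · omega
  · omega
  · rw [target_three] at h; have := eq_of_mem_replicate h; omega
  · rw [target_four, mem_cons] at h
    rcases h with h | h
    · omega
    · have := eq_of_mem_replicate h; omega
  · rw [target_eight, mem_cons, mem_cons] at h
    rcases h with h | h | h
    · omega
    · omega
    · have := eq_of_mem_replicate h; omega

/-- The largest order. -/
def best (n : ℕ) : ℕ := (target n).prod

theorem best_three (k : ℕ) : best (3 * k) = 3 ^ k := by rw [best, target_three, prod_replicate]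
theorem best_four (k : ℕ) : best (3 * k + 4) = 4 * 3 ^ k := by
  rw [best, target_four, prod_cons, prod_replicate]
theorem best_eight (k : ℕ) : best (3 * k + 8) = 16 * 3 ^ k := by
  rw [best, target_eight, prod_cons, prod_cons, prod_replicate]; ring

theorem le_best {m : ℕ} (hm : m ≠ 2) : m ≤ best m ∧ (6 ≤ m → m < best m) := by
  have key : ∀ k : ℕ, 2 * k + 1 ≤ 3 ^ k := fun k => by
    induction k with
    | zero => simp
    | succ k ih => rw [pow_succ]; omega
  rcases target_cases m with rfl | rfl | rfl | ⟨k, rfl⟩ | ⟨k, rfl⟩ | ⟨k, rfl⟩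
  · decide
  · exact absurd rfl hm
  · decide
  · rw [best_three]
    rcases k with _ | k
    · simp
    · have := key k; rw [pow_succ]; omega
  · rw [best_four]; have := key k; omega
  · rw [best_eight]; have := key k; omega

/-- A multiset with parts in `1, 3, 4, 5`. -/
def small (a b c e : ℕ) : Multiset ℕ := replicate a 1 + replicate b 3 + replicate c 4 + replicate e 5

theorem sum_small (a b c e : ℕ) : (small a b c e).sum = a + 3 * b + 4 * c + 5 * e := by
  simp [small, sum_replicate]; ring

theorem prod_small (a b c e : ℕ) : (small a b c e).prod = 3 ^ b * 4 ^ c * 5 ^ e := by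
  simp [small, prod_replicate]

set_option maxHeartbeats 1000000 in
theorem small_bound : ∀ (N a b c e : ℕ), 10 * a + 3 * e + c = N →
    (small a b c e).prod ≤ best (a + 3 * b + 4 * c + 5 * e) ∧
    ((small a b c e).prod = best (a + 3 * b + 4 * c + 5 * e) →
      small a b c e = target (a + 3 * b + 4 * c + 5 * e)) := by
  intro N
  induction N using Nat.strong_induction_on with
  | _ N ih =>
    intro a b c e hN
    have step : ∀ a' b' c' e', 10 * a' + 3 * e' + c' < N →
        a' + 3 * b' + 4 * c' + 5 * e' = a + 3 * b + 4 * c + 5 * e →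
        (small a b c e).prod < (small a' b' c' e').prod →
        (small a b c e).prod ≤ best (a + 3 * b + 4 * c + 5 * e) ∧
        ((small a b c e).prod = best (a + 3 * b + 4 * c + 5 * e) →
          small a b c e = target (a + 3 * b + 4 * c + 5 * e)) := by
      intro a' b' c' e' hμ hsum hlt
      have h := (ih _ hμ a' b' c' e' rfl).1
      rw [hsum] at h
      exact ⟨by omega, fun he => by omega⟩
    have hpos : ∀ x y z : ℕ, 0 < 3 ^ x * 4 ^ y * 5 ^ z := fun x y z => by positivity
    have hmul : ∀ (u v x y z : ℕ), u < v → 3 ^ x * 4 ^ y * 5 ^ z * u < 3 ^ x * 4 ^ y * 5 ^ z * v :=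
      fun u v x y z h => Nat.mul_lt_mul_of_pos_left h (hpos x y z)
    by_cases he2 : 2 ≤ e
    · obtain ⟨e, rfl⟩ : ∃ w, e = w + 2 := ⟨e - 2, by omega⟩
      refine step a (b + 2) (c + 1) e (by omega) (by omega) ?_
      rw [prod_small, prod_small]
      convert hmul 25 36 b c e (by norm_num) using 1 <;> ring
    by_cases hec : 1 ≤ e ∧ 1 ≤ c
    · obtain ⟨c, rfl⟩ : ∃ w, c = w + 1 := ⟨c - 1, by omega⟩
      obtain rfl : e = 1 := by omega
      refine step a (b + 3) c 0 (by omega) (by omega) ?_
      rw [prod_small, prod_small]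
      convert hmul 20 27 b c 0 (by norm_num) using 1 <;> ring
    by_cases hea : 1 ≤ e ∧ 1 ≤ a
    · obtain ⟨a, rfl⟩ : ∃ w, a = w + 1 := ⟨a - 1, by omega⟩
      obtain rfl : e = 1 := by omega
      refine step a (b + 2) c 0 (by omega) (by omega) ?_
      rw [prod_small, prod_small]
      convert hmul 5 9 b c 0 (by norm_num) using 1 <;> ring
    by_cases heb : 1 ≤ e ∧ 1 ≤ b
    · obtain ⟨b, rfl⟩ : ∃ w, b = w + 1 := ⟨b - 1, by omega⟩
      obtain rfl : e = 1 := by omega
      refine step a b (c + 2) 0 (by omega) (by omega) ?_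
      rw [prod_small, prod_small]
      convert hmul 15 16 b c 0 (by norm_num) using 1 <;> ring
    by_cases hc3 : 3 ≤ c
    · obtain ⟨c, rfl⟩ : ∃ w, c = w + 3 := ⟨c - 3, by omega⟩
      refine step a (b + 4) c e (by omega) (by omega) ?_
      rw [prod_small, prod_small]
      convert hmul 64 81 b c e (by norm_num) using 1 <;> ring
    by_cases hca : 1 ≤ c ∧ 1 ≤ a
    · obtain ⟨c, rfl⟩ : ∃ w, c = w + 1 := ⟨c - 1, by omega⟩
      obtain ⟨a, rfl⟩ : ∃ w, a = w + 1 := ⟨a - 1, by omega⟩
      refine step a b c (e + 1) (by omega) (by omega) ?_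
      rw [prod_small, prod_small]
      convert hmul 4 5 b c e (by norm_num) using 1 <;> ring
    by_cases ha3 : 3 ≤ a
    · obtain ⟨a, rfl⟩ : ∃ w, a = w + 3 := ⟨a - 3, by omega⟩
      refine step a (b + 1) c e (by omega) (by omega) ?_
      rw [prod_small, prod_small]
      convert hmul 1 3 b c e (by norm_num) using 1 <;> ring
    by_cases hab : 1 ≤ a ∧ 1 ≤ b
    · obtain ⟨a, rfl⟩ : ∃ w, a = w + 1 := ⟨a - 1, by omega⟩
      obtain ⟨b, rfl⟩ : ∃ w, b = w + 1 := ⟨b - 1, by omega⟩
      refine step a b (c + 1) e (by omega) (by omega) ?_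
      rw [prod_small, prod_small]
      convert hmul 3 4 b c e (by norm_num) using 1 <;> ring
    have heq : small a b c e = target (a + 3 * b + 4 * c + 5 * e) := by
      rcases (show (a = 0 ∧ c = 0 ∧ e = 0) ∨ (a = 0 ∧ c = 1 ∧ e = 0) ∨ (a = 0 ∧ c = 2 ∧ e = 0) ∨
        (a = 0 ∧ b = 0 ∧ c = 0 ∧ e = 1) ∨ (a = 1 ∧ b = 0 ∧ c = 0 ∧ e = 0) ∨
        (a = 2 ∧ b = 0 ∧ c = 0 ∧ e = 0) by omega) with
        ⟨rfl, rfl, rfl⟩ | ⟨rfl, rfl, rfl⟩ | ⟨rfl, rfl, rfl⟩ | ⟨rfl, rfl, rfl, rfl⟩ |
          ⟨rfl, rfl, rfl, rfl⟩ | ⟨rfl, rfl, rfl, rfl⟩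
      · rw [show 0 + 3 * b + 4 * 0 + 5 * 0 = 3 * b by ring, target_three]; simp [small]
      · rw [show 0 + 3 * b + 4 * 1 + 5 * 0 = 3 * b + 4 by ring, target_four]
        ext m
        simp only [small, count_add, count_cons, count_replicate]
        split_ifs <;> omega
      · rw [show 0 + 3 * b + 4 * 2 + 5 * 0 = 3 * b + 8 by ring, target_eight]
        ext m
        simp only [small, count_add, count_cons, count_replicate]
        split_ifs <;> omega
      · decide
      · decide
      · decide
    exact ⟨le_of_eq (by rw [best, heq]), fun _ => heq⟩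

theorem small_of_forall {s : Multiset ℕ} (h : ∀ m ∈ s, m = 1 ∨ m = 3 ∨ m = 4 ∨ m = 5) :
    ∃ a b c e, s = small a b c e := by
  refine ⟨s.count 1, s.count 3, s.count 4, s.count 5, ext.2 fun m => ?_⟩
  simp only [small, count_add, count_replicate]
  by_cases hm : m ∈ s
  · rcases h m hm with rfl | rfl | rfl | rfl <;> simp
  · rw [count_eq_zero_of_notMem hm]
    split_ifs with h1 h3 h4 h5 <;> subst_vars <;>
      simp [count_eq_zero_of_notMem hm] at * <;> omega

theorem prod_le_map (s : Multiset ℕ) (h : ∀ m ∈ s, 0 < m ∧ m ≠ 2) :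
    s.prod ≤ (s.map best).prod ∧ ((∃ m ∈ s, 6 ≤ m) → s.prod < (s.map best).prod) := by
  induction s using Multiset.induction_on with
  | empty => simp
  | cons x s ih =>
    obtain ⟨ih1, ih2⟩ := ih fun m hm => h m (mem_cons_of_mem hm)
    obtain ⟨hx0, hx2⟩ := h x (mem_cons_self x s)
    have hs0 : 0 < s.prod := Nat.pos_of_ne_zero fun h0 => by
      have := (h 0 (mem_cons_of_mem (prod_eq_zero_iff.1 h0))).1
      omega
    obtain ⟨hb1, hb2⟩ := le_best hx2
    rw [map_cons, prod_cons, prod_cons]
    refine ⟨Nat.mul_le_mul hb1 ih1, ?_⟩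
    rintro ⟨m, hm, hm6⟩
    rcases mem_cons.1 hm with rfl | hm
    · exact Nat.mul_lt_mul_of_lt_of_le (hb2 hm6) ih1 (by omega)
    · exact Nat.mul_lt_mul_of_le_of_lt hb1 (ih2 ⟨m, hm, hm6⟩) (by omega)

theorem bound_no_two {s : Multiset ℕ} (h : ∀ m ∈ s, 0 < m ∧ m ≠ 2) :
    s.prod ≤ best s.sum ∧ (s.prod = best s.sum → s = target s.sum) := by
  by_cases hbig : ∃ m ∈ s, 6 ≤ m
  · obtain ⟨a, b, c, e, ht⟩ := small_of_forall (s := s.bind target) fun m hm => by
      obtain ⟨i, -, hi⟩ := mem_bind.1 hm
      exact mem_target hi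
    have hsum : (s.bind target).sum = s.sum := by
      rw [sum_bind]
      simp [sum_target]
    have hprod : (s.bind target).prod = (s.map best).prod := by rw [prod_bind]; rfl
    have h1 := (small_bound _ a b c e rfl).1
    rw [← sum_small, ← ht, hsum, hprod] at h1
    have := (prod_le_map s h).2 hbig
    exact ⟨by omega, fun he => by omega⟩
  · push Not at hbig
    obtain ⟨a, b, c, e, rfl⟩ := small_of_forall (s := s) fun m hm => by
      obtain ⟨h0, h2⟩ := h m hm
      have := hbig m hm
      omega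
    rw [sum_small]
    exact small_bound _ a b c e rfl

theorem best_sub_two_lt {n : ℕ} (hn : 3 ≤ n) : best (n - 2) < best n := by
  have h : ∀ m ∈ target (n - 2) + {1, 1}, 0 < m ∧ m ≠ 2 := fun m hm => by
    rcases mem_add.1 hm with hm | hm
    · have := mem_target hm; omega
    · simp at hm; omega
  obtain ⟨h1, h2⟩ := bound_no_two h
  have hp : (target (n - 2) + {1, 1}).prod = best (n - 2) := by simp [best]
  have hs : (target (n - 2) + {1, 1}).sum = n := by simp [sum_target]; omega
  rw [hp, hs] at h1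
  rw [hp, hs] at h2
  refine lt_of_le_of_ne h1 fun he => ?_
  have hmem : 1 ∈ target n := by rw [← h2 he]; simp
  rcases eq_or_ne n 5 with rfl | h5
  · exact absurd hmem (by decide)
  · have := mem_target_big hn h5 hmem
    omega

theorem bound_double {s : Multiset ℕ} (h : ∀ m ∈ s, 0 < m) (hn : 3 ≤ s.sum) :
    s.prod < 2 * best s.sum := by
  set k := s.count 2
  set s' := s.filter (fun m => m ≠ 2) with hs'
  have hsplit : s = replicate k 2 + s' := by
    conv_lhs => rw [← filter_add_not (fun m => m = 2) s, filter_eq']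
  have hs'' : ∀ m ∈ replicate (k / 2) 4 + s', 0 < m ∧ m ≠ 2 := fun m hm => by
    rcases mem_add.1 hm with hm | hm
    · have := eq_of_mem_replicate hm; omega
    · rw [hs', mem_filter] at hm
      exact ⟨h m hm.1, hm.2⟩
  have hb := (bound_no_two hs'').1
  have hsum : s.sum = 2 * k + s'.sum := by
    conv_lhs => rw [hsplit]
    simp [sum_replicate]; ring
  have hprod : s.prod = 2 ^ (k % 2) * (replicate (k / 2) 4 + s').prod := by
    conv_lhs => rw [hsplit]
    simp only [prod_add, prod_replicate]
    rw [← mul_assoc, show (4 : ℕ) = 2 ^ 2 from rfl, ← pow_mul, ← pow_add, Nat.mod_add_div]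
  have hsum' : (replicate (k / 2) 4 + s').sum + 2 * (k % 2) = s.sum := by
    simp [sum_replicate]; omega
  rcases Nat.mod_two_eq_zero_or_one k with hk | hk <;> rw [hk] at hprod hsum'
  · have he : (replicate (k / 2) 4 + s' : Multiset ℕ).sum = s.sum := by omega
    rw [he] at hb
    have : 0 < best s.sum := lt_of_lt_of_le (Nat.pos_of_ne_zero fun h0 => by
      have := (hs'' 0 (prod_eq_zero_iff.1 h0)).1; omega) hb
    rw [pow_zero, one_mul] at hprod
    omega
  · have he : (replicate (k / 2) 4 + s' : Multiset ℕ).sum = s.sum - 2 := by omega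
    rw [he] at hb
    have := best_sub_two_lt hn
    rw [pow_one] at hprod
    omega

end CfsgLib.Perm.AbelianAlt
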