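import Cfsg.Agent.Lib.Char.Indicator
import Cfsg.Agent.Lib.Char.Perm
import Mathlib.Tactic

/-!
# The alternating square of a character, and sums for the alternating square of a permutation action
-/

set_option autoImplicit false

namespace CfsgLib.Perm.AltSquarePerm

open scoped TensorProduct
open CfsgLib.Char MulAction

variable {G : Type*} [Group G] [Fintype G]

/-- The alternating square of a character is a character. -/
theorem isCharacter_altSquare {χ : G → ℂ} (hχ : Cfsg.IsCharacter G χ) :
    Cfsg.IsCharacter G (fun g => (χ g * χ g - χ (g * g)) / 2) := by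
  obtain ⟨n, ρ, rfl⟩ := hχ
  set T : Representation ℂ G ((Fin n → ℂ) ⊗[ℂ] (Fin n → ℂ)) := ρ.tprod ρ with hT
  set τ : Module.End ℂ ((Fin n → ℂ) ⊗[ℂ] (Fin n → ℂ)) := tswap (Fin n → ℂ) with hτ
  have hcomm : ∀ g, τ * T g = T g * τ := fun g =>
    TensorProduct.ext' fun x y => by simp [hτ, hT, tswap]
  have hττ : ∀ u, τ (τ u) = u := fun u => by
    show (TensorProduct.comm ℂ _ _) ((TensorProduct.comm ℂ _ _) u) = u
    induction u using TensorProduct.induction_on with
    | zero => simp
    | tmul x y => simp
    | add x y hx hy => simp [map_add, hx, hy]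
  set F : Module.End ℂ ((Fin n → ℂ) ⊗[ℂ] (Fin n → ℂ)) := (2 : ℂ)⁻¹ • (LinearMap.id - τ) with hF
  have hFapp : ∀ u, F u = (2 : ℂ)⁻¹ • (u - τ u) := fun u => rfl
  have hFF : ∀ u, F (F u) = F u := fun u => by
    simp only [hFapp, map_smul, map_sub, hττ]
    module
  have hFT : ∀ g u, F (T g u) = T g (F u) := fun g u => by
    simp only [hFapp, map_smul, map_sub, show τ (T g u) = T g (τ u) from LinearMap.congr_fun (hcomm g) u]
  let W := LinearMap.range F
  have hmem : ∀ g, ∀ w ∈ W, T g w ∈ W := by
    rintro g w ⟨u, rfl⟩
    exact ⟨T g u, hFT g u⟩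
  have hfix : ∀ w ∈ W, F w = w := by
    rintro w ⟨u, rfl⟩
    exact hFF u
  let R : Representation ℂ G W :=
    { toFun := fun g => (T g).restrict (hmem g)
      map_one' := LinearMap.ext fun w => Subtype.ext (by simp [LinearMap.restrict_apply])
      map_mul' := fun g h => LinearMap.ext fun w => Subtype.ext (by simp [LinearMap.restrict_apply]) }
  let π : ((Fin n → ℂ) ⊗[ℂ] (Fin n → ℂ)) →ₗ[ℂ] W := F.codRestrict W fun u => ⟨u, rfl⟩
  have hR : Representation.character (k := ℂ) (G := G) (V := ↥W) R =
      fun g => (ρ.character g * ρ.character g - ρ.character (g * g)) / 2 := by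
    funext g
    have h1 : T g * F = W.subtype ∘ₗ (R g ∘ₗ π) := LinearMap.ext fun u => rfl
    have h2 : (R g ∘ₗ π) ∘ₗ W.subtype = R g := LinearMap.ext fun w => by
      show R g (π w.1) = R g w
      congr 1
      exact Subtype.ext (hfix _ w.2)
    haveI : Module.Free ℂ ↥W := Module.Free.of_divisionRing ℂ W
    have h5 := LinearMap.trace_comp_comm' (M := (Fin n → ℂ) ⊗[ℂ] (Fin n → ℂ)) (N := ↥W) (R g ∘ₗ π) W.subtype
    rw [h2, ← h1] at h5
    have h3 : LinearMap.trace ℂ _ (T g * τ) = ρ.character (g * g) := trace_tprod_tswap ρ g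
    have h4 : LinearMap.trace ℂ _ (T g) = ρ.character g * ρ.character g :=
      congrFun (Representation.char_tensor ρ ρ) g
    rw [Representation.character, ← h5,
      show T g * F = (2 : ℂ)⁻¹ • (T g - T g * τ) from LinearMap.ext fun u => by
        show T g (F u) = _
        rw [hFapp, map_smul, map_sub]; rfl,
      map_smul]
    erw [map_sub (LinearMap.trace ℂ ((Fin n → ℂ) ⊗[ℂ] (Fin n → ℂ))) (T g) (T g * τ), h3, h4]
    rw [smul_eq_mul]
    ring
  rw [← hR]
  exact isCharacter_rep (V := ↥W) R

variable {X : Type*} [Fintype X] [MulAction G X]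

omit [Fintype G] in
theorem permChar_eq [DecidableEq X] (g : G) :
    permChar G X g = ∑ x : X, if g • x = x then (1 : ℂ) else 0 := by
  rw [permChar, Nat.card_eq_fintype_card, Finset.sum_boole, Fintype.card_subtype]
  rfl

/-- If every pair can be interchanged, the squares fix as many points in total as the pairs. -/
theorem sum_permChar_sq (hswap : ∀ x y : X, ∃ s : G, s • x = y ∧ s • y = x) :
    ∑ g : G, permChar G X (g * g) = ∑ g : G, permChar G X g * permChar G X g := by
  classical
  have hL : ∀ g : G, permChar G X (g * g) =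
      ∑ x : X, ∑ y : X, if g • x = y ∧ g • y = x then (1 : ℂ) else 0 := by
    intro g
    rw [permChar_eq]
    refine Finset.sum_congr rfl fun x _ => ?_
    rw [Finset.sum_eq_single (g • x) (fun y _ hy => if_neg fun h => hy h.1.symm) (by simp)]
    simp [mul_smul]
  have hR : ∀ g : G, permChar G X g * permChar G X g =
      ∑ x : X, ∑ y : X, if g • x = x ∧ g • y = y then (1 : ℂ) else 0 := by
    intro g
    simp only [permChar_eq, Finset.sum_mul_sum, ite_and, mul_ite, mul_one, mul_zero, ite_mul, one_mul,
      zero_mul]
    refine Finset.sum_congr rfl fun x _ => Finset.sum_congr rfl fun y _ => ?_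
    split_ifs <;> rfl
  simp only [hL, hR]
  rw [Finset.sum_comm, Finset.sum_comm (γ := G)]
  refine Finset.sum_congr rfl fun x _ => ?_
  rw [Finset.sum_comm, Finset.sum_comm (γ := G)]
  refine Finset.sum_congr rfl fun y _ => ?_
  obtain ⟨s, hsx, hsy⟩ := hswap x y
  refine (Fintype.sum_equiv (Equiv.mulLeft s) _ _ fun g => ?_).symm
  simp only [Equiv.coe_mulLeft, mul_smul]
  congr 1
  refine propext ⟨fun h => by rw [h.1, h.2]; exact ⟨hsx, hsy⟩, fun h => ?_⟩
  exact ⟨MulAction.injective s (h.1.trans hsx.symm), MulAction.injective s (h.2.trans hsy.symm)⟩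

/-- If every pair can be interchanged fixing any third point, the mixed sum falls short of the
triple sum by the ordered pairs. -/
theorem sum_permChar_mul_sq
    (hswap : ∀ z x y : X, z ≠ x → z ≠ y → ∃ s : G, s • z = z ∧ s • x = y ∧ s • y = x) :
    ∑ g : G, permChar G X g * permChar G X (g * g) + 2 * ∑ g : G, permChar G X g * permChar G X g =
      ∑ g : G, permChar G X g * permChar G X g * permChar G X g + 2 * ∑ g : G, permChar G X g := by
  classical
  let fx : G → X → ℂ := fun g x => if g • x = x then 1 else 0
  let sw : G → X → X → ℂ := fun g x y => if g • x = y ∧ g • y = x then 1 else 0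
  have hf : ∀ g, permChar G X g = ∑ x : X, fx g x := fun g => permChar_eq g
  have hsq : ∀ g : G, permChar G X (g * g) = ∑ x : X, ∑ y : X, sw g x y := by
    intro g
    rw [permChar_eq]
    refine Finset.sum_congr rfl fun x _ => ?_
    rw [Finset.sum_eq_single (g • x) (fun y _ hy => if_neg fun h => hy h.1.symm) (by simp)]
    simp [sw, mul_smul]
  have hkey : ∀ z x y : X, ∑ g : G, fx g z * fx g x * fx g y =
      ∑ g : G, fx g z * sw g x y + (if z = x ∧ z ≠ y then ∑ g : G, fx g z * fx g y else 0) +
        (if z = y ∧ z ≠ x then ∑ g : G, fx g z * fx g x else 0) := by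
    intro z x y
    by_cases hzx : z = x
    · subst hzx
      by_cases hzy : z = y
      · subst hzy
        simp only [ne_eq, not_true_eq_false, and_false, if_false, add_zero]
        refine Finset.sum_congr rfl fun g _ => ?_
        simp only [fx, sw]
        split_ifs <;> simp_all
      · rw [if_pos ⟨rfl, hzy⟩, if_neg (fun h => h.2 rfl), add_zero,
          Finset.sum_eq_zero (f := fun g => fx g z * sw g z y), zero_add]
        · refine Finset.sum_congr rfl fun g _ => ?_
          simp only [fx]; split_ifs <;> simp
        · intro g _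
          simp only [fx, sw]
          split_ifs with h1 h2
          · exact absurd (h1.symm.trans h2.1) hzy
          all_goals simp
    · by_cases hzy : z = y
      · subst hzy
        rw [if_neg (fun h => hzx h.1), if_pos ⟨rfl, hzx⟩, add_zero,
          Finset.sum_eq_zero (f := fun g => fx g z * sw g x z), zero_add]
        · refine Finset.sum_congr rfl fun g _ => ?_
          simp only [fx]; split_ifs <;> simp
        · intro g _
          simp only [fx, sw]
          split_ifs with h1 h2
          · exact absurd (h1.symm.trans h2.2) hzx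
          all_goals simp
      · rw [if_neg (fun h => hzx h.1), if_neg (fun h => hzy h.1), add_zero, add_zero]
        obtain ⟨s, hsz, hsx, hsy⟩ := hswap z x y hzx hzy
        refine Fintype.sum_equiv (Equiv.mulLeft s) _ _ fun g => ?_
        have h1 : (s * g) • z = z ↔ g • z = z := by
          rw [mul_smul]
          exact ⟨fun h => MulAction.injective s (h.trans hsz.symm), fun h => by rw [h, hsz]⟩
        have h2 : (s * g) • x = y ↔ g • x = x := by
          rw [mul_smul]
          exact ⟨fun h => MulAction.injective s (h.trans hsx.symm), fun h => by rw [h, hsx]⟩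
        have h3 : (s * g) • y = x ↔ g • y = y := by
          rw [mul_smul]
          exact ⟨fun h => MulAction.injective s (h.trans hsy.symm), fun h => by rw [h, hsy]⟩
        simp only [fx, sw, Equiv.coe_mulLeft, h1, h2, h3]
        split_ifs <;> simp_all
  have hsum := congrArg (fun F : X → X → X → ℂ => ∑ z, ∑ x, ∑ y, F z x y)
    (funext fun z => funext fun x => funext fun y => hkey z x y)
  simp only [Finset.sum_add_distrib] at hsum
  -- the two exceptional parts
  have hdiag : ∑ z : X, ∑ g : G, fx g z * fx g z = ∑ g : G, permChar G X g := by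
    rw [Finset.sum_comm]
    refine Finset.sum_congr rfl fun g _ => ?_
    rw [hf]
    refine Finset.sum_congr rfl fun x _ => ?_
    simp only [fx]; split_ifs <;> simp
  have hoff : ∑ z : X, ∑ y : X, (if z ≠ y then ∑ g : G, fx g z * fx g y else 0) =
      ∑ g : G, permChar G X g * permChar G X g - ∑ g : G, permChar G X g := by
    rw [eq_sub_iff_add_eq, ← hdiag, ← Finset.sum_add_distrib]
    simp only [hf, Finset.sum_mul_sum]
    rw [Finset.sum_comm (γ := G)]
    refine Finset.sum_congr rfl fun z _ => ?_
    rw [Finset.sum_comm (γ := G), ← Finset.add_sum_erase _ _ (Finset.mem_univ z), if_neg (not_not.2 rfl),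
      zero_add, ← Finset.sum_erase_add _ _ (Finset.mem_univ z)]
    congr 1
    exact Finset.sum_congr rfl fun y hy => if_pos (Finset.ne_of_mem_erase hy).symm
  have hA : ∑ z : X, ∑ x : X, ∑ y : X, (if z = x ∧ z ≠ y then ∑ g : G, fx g z * fx g y else 0) =
      ∑ g : G, permChar G X g * permChar G X g - ∑ g : G, permChar G X g := by
    rw [← hoff]
    refine Finset.sum_congr rfl fun z _ => ?_
    rw [Finset.sum_eq_single z (fun x _ hx => Finset.sum_eq_zero fun y _ => if_neg fun h => hx h.1.symm)
      (by simp)]
    exact Finset.sum_congr rfl fun y _ => by simp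
  have hB : ∑ z : X, ∑ x : X, ∑ y : X, (if z = y ∧ z ≠ x then ∑ g : G, fx g z * fx g x else 0) =
      ∑ g : G, permChar G X g * permChar G X g - ∑ g : G, permChar G X g := by
    rw [← hoff]
    refine Finset.sum_congr rfl fun z _ => Finset.sum_congr rfl fun x _ => ?_
    rw [Finset.sum_eq_single z (fun y _ hy => if_neg fun h => hy h.1.symm) (by simp)]
    simp
  have hC : ∑ z : X, ∑ x : X, ∑ y : X, ∑ g : G, fx g z * fx g x * fx g y =
      ∑ g : G, permChar G X g * permChar G X g * permChar G X g := by
    have h3 : ∀ g : G, permChar G X g * permChar G X g * permChar G X g =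
        ∑ z : X, ∑ x : X, ∑ y : X, fx g z * fx g x * fx g y := fun g => by
      rw [hf, Finset.sum_mul_sum, Finset.sum_mul]
      refine Finset.sum_congr rfl fun z _ => ?_
      rw [Finset.sum_mul]
      exact Finset.sum_congr rfl fun x _ => Finset.mul_sum _ _ _
    simp only [h3]
    rw [Finset.sum_comm (γ := G)]
    refine Finset.sum_congr rfl fun z _ => ?_
    rw [Finset.sum_comm (γ := G)]
    refine Finset.sum_congr rfl fun x _ => ?_
    rw [Finset.sum_comm (γ := G)]
  have hD : ∑ z : X, ∑ x : X, ∑ y : X, ∑ g : G, fx g z * sw g x y =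
      ∑ g : G, permChar G X g * permChar G X (g * g) := by
    have h3 : ∀ g : G, permChar G X g * permChar G X (g * g) =
        ∑ z : X, ∑ x : X, ∑ y : X, fx g z * sw g x y := fun g => by
      rw [hf, hsq, Finset.sum_mul]
      refine Finset.sum_congr rfl fun z _ => ?_
      rw [Finset.mul_sum]
      exact Finset.sum_congr rfl fun x _ => Finset.mul_sum _ _ _
    simp only [h3]
    rw [Finset.sum_comm (γ := G)]
    refine Finset.sum_congr rfl fun z _ => ?_
    rw [Finset.sum_comm (γ := G)]
    refine Finset.sum_congr rfl fun x _ => ?_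
    rw [Finset.sum_comm (γ := G)]
  rw [hC, hD, hA, hB] at hsum
  linear_combination -hsum

end CfsgLib.Perm.AltSquarePerm
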