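import Mathlib
import Cfsg.Agent.Lib.Perm.FourTransAux

/-! Tools for finding a `(k + 1)`-set carrying the alternating group in a `k`-transitive group. -/

set_option autoImplicit false

open Equiv

namespace CfsgLib.Perm

variable {α : Type*} [Fintype α] [DecidableEq α]

/-- The elements of `G` fixing a finite set pointwise. -/
def fixIn (G : Subgroup (Equiv.Perm α)) (S : Finset α) : Subgroup (Equiv.Perm α) :=
  G ⊓ fixingSubgroup (Equiv.Perm α) (S : Set α)

theorem mem_fixIn {G : Subgroup (Equiv.Perm α)} {S : Finset α} {g : Equiv.Perm α} :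
    g ∈ fixIn G S ↔ g ∈ G ∧ ∀ x ∈ S, g x = x := by
  simp [fixIn, mem_fixingSubgroup_iff]

/-- Pointwise stabilisers of sets of equal size at most `k` are conjugate in a `k`-transitive group. -/
theorem fixIn_conj {G : Subgroup (Equiv.Perm α)} {g : Equiv.Perm α} (hg : g ∈ G) {S S' : Finset α}
    (h : S.image g = S') : Nat.card (fixIn G S) = Nat.card (fixIn G S') := by
  refine Nat.card_congr ((MulAut.conj g).toEquiv.subtypeEquiv fun u => ?_)
  show u ∈ fixIn G S ↔ g * u * g⁻¹ ∈ fixIn G S'
  rw [mem_fixIn, mem_fixIn, ← h]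
  constructor
  · rintro ⟨hu, hux⟩
    refine ⟨G.mul_mem (G.mul_mem hg hu) (G.inv_mem hg), fun y hy => ?_⟩
    obtain ⟨x, hx, rfl⟩ := Finset.mem_image.1 hy
    rw [Equiv.Perm.mul_apply, Equiv.Perm.mul_apply, Equiv.Perm.inv_def, Equiv.symm_apply_apply, hux x hx]
  · rintro ⟨hu, hux⟩
    refine ⟨?_, fun x hx => ?_⟩
    · have := G.mul_mem (G.mul_mem (G.inv_mem hg) hu) hg
      rwa [show g⁻¹ * (g * u * g⁻¹) * g = u by group] at this
    · have h1 := hux (g x) (Finset.mem_image_of_mem g hx)
      rw [Equiv.Perm.mul_apply, Equiv.Perm.mul_apply, Equiv.Perm.inv_def, Equiv.symm_apply_apply] at h1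
      exact g.injective h1

omit [Fintype α] [DecidableEq α] in
/-- Gleason's lemma: if for each point of an invariant set some element of `p`-power order fixes only
that point, then the group is transitive on the set. -/
theorem gleason_trans [Finite α] (p : ℕ) [Fact p.Prime] (H : Subgroup (Equiv.Perm α)) (T : Finset α)
    (hT : ∀ h ∈ H, ∀ x ∈ T, h x ∈ T)
    (hfix : ∀ x ∈ T, ∃ h ∈ H, ∃ i : ℕ, h ^ p ^ i = 1 ∧ h x = x ∧ ∀ y ∈ T, h y = y → y = x) :
    ∀ x ∈ T, ∀ y ∈ T, ∃ h ∈ H, h x = y := by
  classical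
  intro x hx y hy
  let O : Finset α := T.filter fun c => ∃ h ∈ H, h x = c
  have key : ∀ c ∈ T, O.card % p = if c ∈ O then 1 % p else 0 := by
    intro c hc
    obtain ⟨h, hh, i, hi, hhc, huniq⟩ := hfix c hc
    have hO : ∀ d ∈ O, h d ∈ O := fun d hd => by
      obtain ⟨hd1, g, hg, rfl⟩ := Finset.mem_filter.1 hd
      exact Finset.mem_filter.2 ⟨hT h hh _ hd1, h * g, H.mul_mem hh hg, rfl⟩
    let σ : Equiv.Perm O := Equiv.ofBijective (fun d : O => (⟨h d, hO d d.2⟩ : O))
      (Finite.injective_iff_bijective.1 fun a b e => Subtype.ext (h.injective (congrArg Subtype.val e)))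
    have hσn : ∀ (m : ℕ) (d : O), ((σ ^ m) d : α) = (h ^ m) (d : α) := by
      intro m
      induction m with
      | zero => simp
      | succ m ih =>
        intro d
        rw [pow_succ', pow_succ', Equiv.Perm.mul_apply, Equiv.Perm.mul_apply, ← ih d]
        rfl
    have hσ : σ ^ p ^ i = 1 := Equiv.ext fun d => Subtype.ext (by rw [hσn, hi]; rfl)
    have h1 := Equiv.Perm.card_compl_support_modEq hσ
    have h2 : σ.supportᶜ.card = if c ∈ O then 1 else 0 := by
      split
      · next hcO =>
        rw [Finset.card_eq_one]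
        refine ⟨⟨c, hcO⟩, ?_⟩
        ext d
        simp only [Finset.mem_compl, Equiv.Perm.mem_support, not_not, Finset.mem_singleton]
        refine ⟨fun e => Subtype.ext (huniq d (Finset.mem_filter.1 d.2).1 (congrArg Subtype.val e)), ?_⟩
        rintro rfl
        exact Subtype.ext hhc
      · next hcO =>
        rw [Finset.card_eq_zero, Finset.eq_empty_iff_forall_notMem]
        intro d hd
        simp only [Finset.mem_compl, Equiv.Perm.mem_support, not_not] at hd
        exact hcO (huniq d (Finset.mem_filter.1 d.2).1 (congrArg Subtype.val hd) ▸ d.2)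
    rw [h2, Fintype.card_coe] at h1
    have h3 : (if c ∈ O then 1 else 0) % p = O.card % p := h1
    rw [← h3]
    split <;> simp
  have hxO : x ∈ O := Finset.mem_filter.2 ⟨hx, 1, H.one_mem, rfl⟩
  have h1 := key x hx
  have h2 := key y hy
  rw [if_pos hxO, Nat.one_mod_eq_one.2 (Fact.out : p.Prime).ne_one] at h1
  by_cases hyO : y ∈ O
  · exact (Finset.mem_filter.1 hyO).2
  · rw [if_neg hyO] at h2
    omega

/-- A subgroup of index less than the degree contains the alternating group. -/
theorem alternating_le_of_index_lt {G : Subgroup (Equiv.Perm α)} (h5 : 5 ≤ Fintype.card α)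
    (hG : G.index < Fintype.card α) : alternatingGroup α ≤ G := by
  rcases eq_or_ne G.normalCore ⊥ with h | h
  · exfalso
    have hinj : Function.Injective (MulAction.toPermHom (Equiv.Perm α) (Equiv.Perm α ⧸ G)) := by
      rw [← MonoidHom.ker_eq_bot_iff, ← Subgroup.normalCore_eq_ker, h]
    have h1 := Nat.card_le_card_of_injective _ hinj
    rw [Nat.card_perm, Nat.card_perm, Nat.card_eq_fintype_card (α := α), ← Subgroup.index_eq_card] at h1
    exact absurd h1 (not_le.2 ((Nat.factorial_lt (Nat.pos_of_ne_zero Subgroup.index_ne_zero_of_finite)).2 hG))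
  · exact (Equiv.Perm.alternatingGroup_le_of_normal (by rwa [Nat.card_eq_fintype_card])
      ((Subgroup.nontrivial_iff_ne_bot _).2 h)).trans G.normalCore_le

/-- A `k`-transitive group of degree at most `k + 3` with `k ≥ 4` contains the alternating group. -/
theorem alternating_le_of_near {G : Subgroup (Equiv.Perm α)} {k : ℕ}
    (hG : MulAction.IsMultiplyPretransitive G α k) (hk : 4 ≤ k) (hkn : k < Fintype.card α)
    (hn : Fintype.card α ≤ k + 3) : alternatingGroup α ≤ G := by
  by_cases h2 : Fintype.card α ≤ k + 2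
  · haveI := hG
    refine IsMultiplyPretransitive.alternatingGroup_le α G ?_
    exact MulAction.isMultiplyPretransitive_of_le (n := k) (by rw [Nat.card_eq_fintype_card]; omega)
      (by rw [Nat.card_eq_fintype_card]; omega)
  have hn3 : Fintype.card α = k + 3 := by omega
  refine alternating_le_of_index_lt (by omega) ?_
  obtain ⟨s, -, hs⟩ := Finset.exists_subset_card_eq (s := (Finset.univ : Finset α)) (n := k)
    (by rw [Finset.card_univ]; omega)
  have h1 := hG.index_of_fixingSubgroup_mul (s := (s : Set α)) (by rw [Set.ncard_coe_finset, hs])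
  rw [Nat.card_eq_fintype_card, hn3, Nat.add_sub_cancel_left] at h1
  have h3 := Nat.le_of_dvd Nat.card_pos (Subgroup.index_dvd_card (fixingSubgroup G (s : Set α)))
  have h4 : Nat.card G * G.index = (k + 3).factorial := by
    rw [Subgroup.card_mul_index, Nat.card_perm, Nat.card_eq_fintype_card, hn3]
  have h5 : G.index * Nat.card G ≤ Nat.card G * Nat.factorial 3 := by
    rw [mul_comm, h4, ← h1]
    exact Nat.mul_le_mul_right _ h3
  rw [mul_comm (Nat.card G)] at h5
  have h6 := Nat.le_of_mul_le_mul_right h5 Nat.card_pos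
  have h7 : Nat.factorial 3 = 6 := rfl
  omega

/-- `G` interchanges `a` and `b`, fixing the rest of `S`. -/
def SwapLift (G : Subgroup (Equiv.Perm α)) (S : Finset α) (a b : α) : Prop :=
  ∃ g ∈ G, ∀ x ∈ S, g x = Equiv.swap a b x

/-- If all transpositions of a set lift, all its permutations do. -/
theorem lift_of_swaps {G : Subgroup (Equiv.Perm α)} {Δ : Finset α}
    (h : ∀ a ∈ Δ, ∀ b ∈ Δ, a ≠ b → SwapLift G Δ a b) (σ : Equiv.Perm ↥Δ) :
    ∃ g ∈ G, ∀ x : ↥Δ, g (x : α) = σ x := by
  induction σ using Equiv.Perm.swap_induction_on with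
  | one => exact ⟨1, G.one_mem, fun x => rfl⟩
  | swap_mul f a b hab ih =>
    obtain ⟨g, hg, hgx⟩ := ih
    obtain ⟨t, ht, htx⟩ := h a a.2 b b.2 fun e => hab (Subtype.ext e)
    refine ⟨t * g, G.mul_mem ht hg, fun x => ?_⟩
    rw [Equiv.Perm.mul_apply, hgx, htx _ (f x).2, Equiv.Perm.mul_apply,
      Equiv.swap_apply_def, Equiv.swap_apply_def]
    simp only [Subtype.coe_inj]
    split_ifs <;> rfl

/-- A group of even order normalised by an involution contains an involution commuting with it. -/
theorem exists_commuting_involution {M : Type*} [Group M] [Finite M] (K : Subgroup M) {j : M}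
    (hj : j * j = 1) (hjK : ∀ x ∈ K, j * x * j⁻¹ ∈ K) (heven : Even (Nat.card K)) :
    ∃ x ∈ K, x * x = 1 ∧ x ≠ 1 ∧ Commute j x := by
  classical
  haveI := Fintype.ofFinite K
  let ι : Equiv.Perm K := Equiv.inv K
  have h1 := involution_fix_parity (g := ι) (Equiv.ext fun x => inv_inv x)
  rw [← Nat.card_eq_fintype_card (α := K), Nat.even_iff.1 heven] at h1
  let T := {x : K // x * x = 1 ∧ x ≠ 1}
  haveI := Fintype.ofFinite T
  have h2 : Fintype.card T + 1 = (fixFinset ι).card := by
    rw [← Finset.card_erase_add_one (a := 1) (s := fixFinset ι) (by simp [ι]), Fintype.card_of_subtype]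
    intro x
    simp only [Finset.mem_erase, mem_fixFinset, ι, Equiv.inv_apply, inv_eq_iff_mul_eq_one, and_comm]
  have hjj : ∀ x : M, j * (j * x * j⁻¹) * j⁻¹ = x := fun x => by
    rw [show j * (j * x * j⁻¹) * j⁻¹ = (j * j) * x * (j * j)⁻¹ by group, hj]; simp
  let c : T → T := fun x => ⟨⟨j * (x.1 : M) * j⁻¹, hjK _ x.1.2⟩, Subtype.ext (by
      show j * (x.1 : M) * j⁻¹ * (j * (x.1 : M) * j⁻¹) = 1
      rw [show j * (x.1 : M) * j⁻¹ * (j * (x.1 : M) * j⁻¹) = j * ((x.1 * x.1 : K) : M) * j⁻¹ by
        push_cast; group, x.2.1]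
      simp), fun h => x.2.2 (Subtype.ext (conj_eq_one_iff.1 (congrArg Subtype.val h)))⟩
  have hc : Function.Involutive c := fun x => Subtype.ext (Subtype.ext (hjj _))
  have h3 := involution_fix_parity (g := (Function.Involutive.toPerm c hc : Equiv.Perm T)) (Equiv.ext hc)
  obtain ⟨x, hx⟩ := Finset.card_pos.1 (show 0 < (fixFinset (Function.Involutive.toPerm c hc : Equiv.Perm T)).card by omega)
  refine ⟨(x.1 : M), x.1.2, ?_, fun h => x.2.2 (Subtype.ext h), ?_⟩
  · exact congrArg Subtype.val x.2.1
  · have h4 : j * (x.1 : M) * j⁻¹ = (x.1 : M) :=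
      congrArg (fun t : T => ((t.1 : K) : M)) (mem_fixFinset.1 hx)
    exact mul_inv_eq_iff_eq_mul.1 h4

end CfsgLib.Perm
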