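import Cfsg.Agent.Lib.Perm.SuborbitKernel
import Cfsg.Agent.Lib.Perm.AltSubsetAux

/-!
Two subgroups whose intersection induces at least an alternating group on both sides: the two
kernels are disjoint and the stabilizer is a subdirect product of two symmetric groups.
-/

set_option autoImplicit false
set_option linter.style.haveILetI false

open Cfsg
open CfsgLib.ThompsonWielandt
open scoped commutatorElement

namespace CfsgLib.AltSuborbit

section AlternatingFacts

variable {α : Type*} [Fintype α] [DecidableEq α]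

theorem commute_alternating_eq_one (h4 : 4 ≤ Fintype.card α) {σ : Equiv.Perm α}
    (h : ∀ c ∈ alternatingGroup α, Commute σ c) : σ = 1 := by
  classical
  ext x
  rw [Equiv.Perm.one_apply]
  by_contra hx
  obtain ⟨z, w, hzw, hzx, hzy, hwx, hwy⟩ :
      ∃ z w, z ≠ w ∧ z ≠ x ∧ z ≠ σ x ∧ w ≠ x ∧ w ≠ σ x := by
    set s : Finset α := Finset.univ \ {x, σ x}
    have hs : 2 ≤ s.card := by
      have h1 := Finset.le_card_sdiff ({x, σ x} : Finset α) Finset.univ
      have h2 : ({x, σ x} : Finset α).card ≤ 2 := Finset.card_le_two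
      rw [Finset.card_univ] at h1
      change _ ≤ s.card at h1
      omega
    obtain ⟨z, hz, w, hw, hne⟩ := Finset.one_lt_card.1 hs
    simp only [s, Finset.mem_sdiff, Finset.mem_univ, Finset.mem_insert, Finset.mem_singleton,
      true_and, not_or] at hz hw
    exact ⟨z, w, hne, hz.1, hz.2, hw.1, hw.2⟩
  have hc : Equiv.swap x z * Equiv.swap z w ∈ alternatingGroup α := by
    rw [Equiv.Perm.mem_alternatingGroup, map_mul, Equiv.Perm.sign_swap hzx.symm,
      Equiv.Perm.sign_swap hzw]
    rfl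
  have h1 := congrArg (fun π : Equiv.Perm α => π x) (h _ hc).eq
  simp only [Equiv.Perm.mul_apply] at h1
  rw [Equiv.swap_apply_of_ne_of_ne hzx.symm hwx.symm, Equiv.swap_apply_left,
    Equiv.swap_apply_of_ne_of_ne (Ne.symm hzy) (Ne.symm hwy),
    Equiv.swap_apply_of_ne_of_ne hx (Ne.symm hzy)] at h1
  exact hzx (σ.injective h1)

theorem alternating_not_solvable (h5 : 5 ≤ Fintype.card α) :
    ¬ Group.IsSolvable (alternatingGroup α) := by
  intro hs
  haveI := alternatingGroup.isSimpleGroup (α := α) (by rwa [Nat.card_eq_fintype_card])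
  haveI := hs
  have hcomm := IsSimpleGroup.comm_iff_isSolvable.2 hs
  haveI : Nontrivial (alternatingGroup α) :=
    alternatingGroup.nontrivial_of_three_le_card (by rw [Nat.card_eq_fintype_card]; omega)
  obtain ⟨σ, hσ⟩ := exists_ne (1 : alternatingGroup α)
  exact hσ (Subtype.ext (commute_alternating_eq_one (by omega) fun c hc =>
    congrArg Subtype.val (hcomm σ ⟨c, hc⟩)))

/-- A subgroup normalized by the alternating group is trivial or contains it. -/
theorem eq_bot_or_alternating_le (h5 : 5 ≤ Fintype.card α) {N : Subgroup (Equiv.Perm α)}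
    (h : alternatingGroup α ≤ Subgroup.normalizer (N : Set (Equiv.Perm α))) :
    N = ⊥ ∨ alternatingGroup α ≤ N := by
  haveI := alternatingGroup.isSimpleGroup (α := α) (by rwa [Nat.card_eq_fintype_card])
  haveI hn : (N.subgroupOf (alternatingGroup α)).Normal := ⟨fun x hx g =>
    (Subgroup.mem_normalizer_iff.1 (h g.2) (x : Equiv.Perm α)).1 hx⟩
  rcases hn.eq_bot_or_eq_top with hb | ht
  · left
    rw [eq_bot_iff]
    intro σ hσ
    rw [Subgroup.mem_bot]
    refine commute_alternating_eq_one (by omega) fun c hc => ?_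
    have h1 : σ * c * σ⁻¹ * c⁻¹ ∈ N ⊓ alternatingGroup α := by
      refine ⟨?_, ?_⟩
      · rw [mul_assoc, mul_assoc]
        refine N.mul_mem hσ ?_
        rw [← mul_assoc]
        exact (Subgroup.mem_normalizer_iff.1 (h hc) _).1 (N.inv_mem hσ)
      · exact Subgroup.mul_mem _ ((inferInstance : (alternatingGroup α).Normal).conj_mem c hc σ)
          (Subgroup.inv_mem _ hc)
    have h2 : (⟨_, h1.2⟩ : alternatingGroup α) ∈ N.subgroupOf (alternatingGroup α) := h1.1
    rw [hb, Subgroup.mem_bot] at h2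
    have h3 : σ * c * σ⁻¹ * c⁻¹ = 1 := congrArg Subtype.val h2
    rw [mul_inv_eq_one, mul_inv_eq_iff_eq_mul] at h3
    exact h3
  · exact Or.inr (Subgroup.subgroupOf_eq_top.1 ht)

theorem eq_bot_of_isSolvable (h5 : 5 ≤ Fintype.card α) {N : Subgroup (Equiv.Perm α)}
    (h : alternatingGroup α ≤ Subgroup.normalizer (N : Set (Equiv.Perm α)))
    (hs : Group.IsSolvable N) : N = ⊥ :=
  (eq_bot_or_alternating_le h5 h).resolve_right fun hle => alternating_not_solvable h5 <| by
    haveI := hs
    exact Group.isSolvable_of_isSolvable_injective (f := Subgroup.inclusion hle)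
      (Subgroup.inclusion_injective hle)

theorem card_alternating (h2 : 2 ≤ Fintype.card α) :
    2 * Nat.card (alternatingGroup α) = Nat.factorial (Fintype.card α) := by
  haveI : Nontrivial α := Fintype.one_lt_card_iff_nontrivial.1 (by omega)
  rw [two_mul_nat_card_alternatingGroup, Nat.card_perm, Nat.card_eq_fintype_card]

theorem factorial_pred_lt {d : ℕ} (hd : 3 ≤ d) :
    2 * Nat.factorial (d - 1) < Nat.factorial d := by
  obtain ⟨e, rfl⟩ : ∃ e, d = e + 1 := ⟨d - 1, by omega⟩
  rw [Nat.add_sub_cancel, Nat.factorial_succ]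
  exact Nat.mul_lt_mul_of_pos_right (by omega) (Nat.factorial_pos e)

/-- A subgroup meeting the alternating group in index less than the degree contains it. -/
theorem alternating_le_of_relIndex_lt (h5 : 5 ≤ Fintype.card α) (M : Subgroup (Equiv.Perm α))
    (h : M.relIndex (alternatingGroup α) < Fintype.card α) : alternatingGroup α ≤ M := by
  haveI := alternatingGroup.isSimpleGroup (α := α) (by rwa [Nat.card_eq_fintype_card])
  set M₀ := M.subgroupOf (alternatingGroup α)
  rcases (inferInstance : M₀.normalCore.Normal).eq_bot_or_eq_top with hb | ht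
  · exfalso
    have hinj : Function.Injective
        (MulAction.toPermHom (alternatingGroup α) (alternatingGroup α ⧸ M₀)) := by
      rw [← MonoidHom.ker_eq_bot_iff, ← Subgroup.normalCore_eq_ker, hb]
    have h1 := Nat.card_le_card_of_injective _ hinj
    rw [Nat.card_perm, ← Subgroup.index_eq_card] at h1
    change Nat.card (alternatingGroup α) ≤ (M.relIndex (alternatingGroup α)).factorial at h1
    have h2 : (M.relIndex (alternatingGroup α)).factorial ≤ Nat.factorial (Fintype.card α - 1) :=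
      Nat.factorial_le (by omega)
    have h3 := factorial_pred_lt (d := Fintype.card α) (by omega)
    have h4 := card_alternating (α := α) (by omega)
    omega
  · exact Subgroup.subgroupOf_eq_top.1 (top_le_iff.1 (ht ▸ M₀.normalCore_le))

/-- A group embedded in a product of symmetric groups of smaller degree has no section containing
the alternating group. -/
theorem not_alternating_le_map {K : Type*} [Group K] [Finite K] {ι : Type*} [Finite ι]
    {Y : ι → Type*} [∀ i, Finite (Y i)] (h5 : 5 ≤ Fintype.card α)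
    (hY : ∀ i, Nat.card (Y i) ≤ Fintype.card α - 1) (H : Subgroup K)
    (φ : H →* ∀ i, Equiv.Perm (Y i)) (hφ : Function.Injective φ) (ψ : K →* Equiv.Perm α) :
    ¬ alternatingGroup α ≤ H.map ψ := by
  classical
  haveI := Fintype.ofFinite ι
  set ψ' := ψ.comp H.subtype
  suffices hs : ∀ s : Finset ι, ∀ W : Subgroup H, (∀ w ∈ W, ∀ i ∉ s, φ w i = 1) →
      ¬ alternatingGroup α ≤ W.map ψ' by
    intro hle
    refine hs Finset.univ ⊤ (fun w _ i hi => absurd (Finset.mem_univ i) hi) ?_
    rwa [← Subgroup.map_map, ← MonoidHom.range_eq_map, Subgroup.range_subtype]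
  intro s
  induction s using Finset.induction with
  | empty =>
    intro W hW hle
    haveI : Nontrivial (alternatingGroup α) :=
      alternatingGroup.nontrivial_of_three_le_card (by rw [Nat.card_eq_fintype_card]; omega)
    obtain ⟨σ, hσ⟩ := exists_ne (1 : alternatingGroup α)
    obtain ⟨w, hw, hwσ⟩ := hle σ.2
    have : w = 1 := hφ (by rw [map_one]; exact funext fun i => hW w hw i (Finset.notMem_empty i))
    rw [this, map_one] at hwσ
    exact hσ (Subtype.ext hwσ.symm)
  | insert i s his ih =>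
    intro W hW hle
    obtain ⟨π, hπ⟩ : ∃ π : W →* Equiv.Perm (Y i), ∀ w : W, π w = φ (w : H) i :=
      ⟨((Pi.evalMonoidHom (fun j => Equiv.Perm (Y j)) i).comp φ).comp W.subtype, fun _ => rfl⟩
    set W' := π.ker.map W.subtype
    have hW' : ∀ w ∈ W', ∀ j ∉ s, φ w j = 1 := by
      rintro _ ⟨w, hw, rfl⟩ j hj
      by_cases hji : j = i
      · subst hji; exact (hπ w).symm.trans hw
      · exact hW w w.2 j (by simp [hji, hj])
    have hn : alternatingGroup α ≤ Subgroup.normalizer (W'.map ψ' : Set (Equiv.Perm α)) := by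
      intro σ hσ
      obtain ⟨w, hw, rfl⟩ := hle hσ
      refine mem_normalizer_of_conj ?_
      rintro _ ⟨_, ⟨v, hv, rfl⟩, rfl⟩
      refine ⟨w * (v : H) * w⁻¹, Subgroup.mem_map.2 ⟨⟨w, hw⟩ * v * ⟨w, hw⟩⁻¹,
        (MonoidHom.normal_ker π).conj_mem v hv _, by simp⟩, by simp⟩
    rcases eq_bot_or_alternating_le h5 hn with hb | hA
    · -- the image is a quotient of a subgroup of `Perm (Y i)`
      have hker : π.ker ≤ (ψ'.comp W.subtype).ker := fun v hv => by
        have : ψ' (v : H) ∈ W'.map ψ' := ⟨v, ⟨v, hv, rfl⟩, rfl⟩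
        rw [hb, Subgroup.mem_bot] at this
        exact this
      have h1 : Nat.card (W.map ψ') ∣ π.ker.index := by
        have : W.map ψ' = (ψ'.comp W.subtype).range := by
          rw [← MonoidHom.map_range ψ' W.subtype, Subgroup.range_subtype]
        rw [this, ← Subgroup.index_ker]
        exact Subgroup.index_dvd_of_le hker
      rw [Subgroup.index_ker] at h1
      have h2 : Nat.card (W.map ψ') ≤ Nat.card (Equiv.Perm (Y i)) :=
        (Nat.le_of_dvd Nat.card_pos h1).trans (Subgroup.card_le_card_group _)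
      have h3 := Subgroup.card_le_of_le hle
      rw [Nat.card_perm] at h2
      have h4 : (Nat.card (Y i)).factorial ≤ Nat.factorial (Fintype.card α - 1) :=
        Nat.factorial_le (hY i)
      have h5' := factorial_pred_lt (d := Fintype.card α) (by omega)
      have h6 := card_alternating (α := α) (by omega)
      omega
    · exact ih W' hW' hA

end AlternatingFacts

variable {G : Type*} [Group G] [Finite G]

/-- The layer of a subgroup, in the ambient group. -/
def layerOf (C : Subgroup G) : Subgroup G := (layer C).map C.subtype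

theorem le_normalizer_layerOf {C : Subgroup G} :
    Subgroup.normalizer (C : Set G) ≤ Subgroup.normalizer (layerOf C : Set G) := by
  intro g hg
  let e : C ≃* C :=
    { toFun := fun z => ⟨g * z * g⁻¹, (Subgroup.mem_normalizer_iff.1 hg _).1 z.2⟩
      invFun := fun z => ⟨g⁻¹ * z * g, by
        simpa using (Subgroup.mem_normalizer_iff.1 ((Subgroup.normalizer _).inv_mem hg) _).1 z.2⟩
      left_inv := fun z => Subtype.ext (by simp [mul_assoc])
      right_inv := fun z => Subtype.ext (by simp [mul_assoc])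
      map_mul' := fun z w => Subtype.ext (by simp [mul_assoc]) }
  refine mem_normalizer_of_conj ?_
  rintro _ ⟨y, hy, rfl⟩
  refine ⟨e y, ?_, rfl⟩
  rw [← CfsgLib.Components.layer_map_equiv e]
  exact ⟨y, hy, rfl⟩

theorem centralizer_le_normalizer_centralizer {X Y : Subgroup G}
    (h : Y ≤ Subgroup.normalizer (X : Set G)) :
    Y ≤ Subgroup.normalizer (Subgroup.centralizer (X : Set G) : Set G) := fun k hk =>
  mem_normalizer_of_conj fun c hc => Subgroup.mem_centralizer_iff.2 fun z hz => by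
    have hz' : k⁻¹ * z * k⁻¹⁻¹ ∈ X :=
      (Subgroup.mem_normalizer_iff.1 ((Subgroup.normalizer _).inv_mem (h hk)) z).1 hz
    have := Subgroup.mem_centralizer_iff.1 hc _ hz'
    calc z * (k * c * k⁻¹) = k * ((k⁻¹ * z * k⁻¹⁻¹) * c) * k⁻¹ := by group
      _ = k * (c * (k⁻¹ * z * k⁻¹⁻¹)) * k⁻¹ := by rw [this]
      _ = (k * c * k⁻¹) * z := by group

theorem inf_le_normalizer {X Y Z : Subgroup G} (hX : Z ≤ Subgroup.normalizer (X : Set G))
    (hY : Z ≤ Subgroup.normalizer (Y : Set G)) :
    Z ≤ Subgroup.normalizer ((X ⊓ Y : Subgroup G) : Set G) := fun k hk =>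
  mem_normalizer_of_conj fun t ht =>
    ⟨(Subgroup.mem_normalizer_iff.1 (hX hk) t).1 ht.1,
      (Subgroup.mem_normalizer_iff.1 (hY hk) t).1 ht.2⟩

variable {A B K H Q : Subgroup G} {n : ℕ}

/-- One side of the configuration: the kernel `H ≤ K` with its action. -/
structure Side (K H : Subgroup G) (ρ : K →* Equiv.Perm (Fin n)) : Prop where
  le : H ≤ K
  norm : K ≤ Subgroup.normalizer (H : Set G)
  ker : ∀ k : K, ρ k = 1 ↔ (k : G) ∈ H
  alt : alternatingGroup (Fin n) ≤ ρ.range

theorem image_cases {ρ : K →* Equiv.Perm (Fin n)} (h5 : 5 ≤ n)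
    (halt : alternatingGroup (Fin n) ≤ ρ.range) {X : Subgroup G} (hX : X ≤ K)
    (hn : K ≤ Subgroup.normalizer (X : Set G)) :
    (X.subgroupOf K).map ρ = ⊥ ∨ alternatingGroup (Fin n) ≤ (X.subgroupOf K).map ρ := by
  refine eq_bot_or_alternating_le (by rwa [Fintype.card_fin]) fun σ hσ => ?_
  obtain ⟨k, rfl⟩ := halt hσ
  refine mem_normalizer_of_conj ?_
  rintro _ ⟨y, hy, rfl⟩
  refine ⟨k * y * k⁻¹, (Subgroup.mem_normalizer_iff.1 (hn k.2) (y : G)).1 hy, ?_⟩
  simp only [map_mul, map_inv]

/-- If `C_Q(H ∩ Q) = 1` then `Q` has its layer inside `H`. -/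
theorem layerOf_le_of_centralizer {X : Subgroup G} (hH : X ≤ H) (hQ : X ≤ Q)
    (hXH : H ≤ Subgroup.normalizer (X : Set G)) (hXQ : Q ≤ Subgroup.normalizer (X : Set G))
    (hT : Q ⊓ Subgroup.centralizer (X : Set G) = ⊥) : layerOf Q ≤ layerOf H := by
  rw [layerOf, Subgroup.map_le_iff_le_comap, CfsgLib.Components.layer_le_iff]
  intro L hL
  rw [← Subgroup.map_le_iff_le_comap]
  set L₁ := L.map Q.subtype with hL₁
  have hL₁Q : L₁ ≤ Q := Subgroup.map_subtype_le L
  have hcomp : IsComponentOf L₁ Q := ⟨hL₁Q, by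
    rwa [show L₁.subgroupOf Q = L from
      Subgroup.comap_map_eq_self_of_injective Q.subtype_injective _]⟩
  haveI : (X.subgroupOf Q).Normal := (Subgroup.normal_subgroupOf_iff_le_normalizer hQ).2 hXQ
  haveI hXn : (X.subgroupOf H).Normal := (Subgroup.normal_subgroupOf_iff_le_normalizer hH).2 hXH
  have hLX : L₁ ≤ X := by
    rcases CfsgLib.Components.component_le_or_commutes hL
      (Subgroup.Normal.isSubnormal (inferInstance : (X.subgroupOf Q).Normal)) with h | h
    · rintro _ ⟨y, hy, rfl⟩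
      exact h hy
    · exfalso
      have h' := congrArg (Subgroup.map Q.subtype) h
      rw [Subgroup.map_commutator, CfsgLib.Components.map_subtype_subgroupOf hQ,
        Subgroup.map_bot, Subgroup.commutator_eq_bot_iff_le_centralizer] at h'
      have hb : L₁ ≤ Q ⊓ Subgroup.centralizer (X : Set G) := le_inf hL₁Q h'
      rw [hT, le_bot_iff, hL₁, Subgroup.map_eq_bot_iff_of_injective _ Q.subtype_injective] at hb
      exact CfsgLib.Components.IsComponent.ne_bot hL hb
  have hLH : L₁ ≤ H := hLX.trans hH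
  have h1 : IsComponentOf L₁ X := isComponentOf_of_le hLX hQ hcomp
  have h2 : Cfsg.IsComponent (L₁.subgroupOf H) := by
    refine CfsgLib.Components.isComponent_of_subgroupOf
      (Subgroup.Normal.isSubnormal hXn) (fun x hx => hLX hx) ?_
    have h3 := CfsgLib.Components.isComponent_map_equiv (Subgroup.subgroupOfEquivOfLe hH).symm h1.2
    convert h3 using 1
    ext ⟨⟨x, hxH⟩, hxX⟩
    constructor
    · intro hx
      exact ⟨⟨x, hLX hx⟩, hx, rfl⟩
    · rintro ⟨⟨y, hy⟩, hyL, hyx⟩
      have : y = x := congrArg (fun z : X.subgroupOf H => ((z : H) : G)) hyx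
      subst this
      exact hyL
  have h4 := Subgroup.map_mono (f := H.subtype) (CfsgLib.Components.le_layer h2)
  rwa [CfsgLib.Components.map_subtype_subgroupOf hLH] at h4

/-- The hypotheses shared by both sides. -/
structure Pair (A B K H Q : Subgroup G) : Prop where
  hK : K = A ⊓ B
  hH : H = coreIn A B
  hQ : Q = coreIn B A
  normA : NormClosed A
  notBA : ¬ B ≤ A
  maxK : ∀ N : Subgroup G, K ≤ N → N ≤ A → N = K ∨ N = A
  ab : ∀ N : Subgroup G, N ≤ K → K ≤ Subgroup.normalizer (N : Set G) →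
    Group.IsSolvable N → N = ⊥
  iso : Nonempty (H ≃* Q)
  neBot : H ≠ ⊥

theorem Pair.centralizer_ne_bot (h : Pair A B K H Q) {D : Subgroup G} (hD : D = H ⊓ Q)
    (hKQ : K ≤ Subgroup.normalizer (Q : Set G)) :
    Q ⊓ Subgroup.centralizer (D : Set G) ≠ ⊥ := by
  intro hT
  have hHK : H ≤ K := h.hH ▸ h.hK ▸ le_inf coreIn_le_left coreIn_le_right
  have hQK : Q ≤ K := h.hQ ▸ h.hK ▸ le_inf coreIn_le_right coreIn_le_left
  have hKH : K ≤ Subgroup.normalizer (H : Set G) :=
    h.hH ▸ h.hK ▸ inf_le_left.trans le_normalizer_coreIn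
  have hKD : K ≤ Subgroup.normalizer (D : Set G) := hD ▸ inf_le_normalizer hKH hKQ
  have hle : layerOf Q ≤ layerOf H := layerOf_le_of_centralizer (hD ▸ inf_le_left)
    (hD ▸ inf_le_right) (hHK.trans hKD) (hQK.trans hKD) hT
  obtain ⟨e⟩ := h.iso
  have hcard : Nat.card (layerOf H) = Nat.card (layerOf Q) := by
    rw [layerOf, layerOf, Subgroup.card_map_of_injective H.subtype_injective,
      Subgroup.card_map_of_injective Q.subtype_injective, ← CfsgLib.Components.layer_map_equiv e]
    exact (Subgroup.card_map_of_injective e.injective).symm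
  have heq : layerOf Q = layerOf H := Subgroup.eq_of_le_of_card_ge hle hcard.le
  have hA : A ≤ Subgroup.normalizer (layerOf H : Set G) :=
    (h.hH ▸ le_normalizer_coreIn : A ≤ Subgroup.normalizer (H : Set G)).trans le_normalizer_layerOf
  have hB : B ≤ Subgroup.normalizer (layerOf H : Set G) :=
    heq ▸ (h.hQ ▸ le_normalizer_coreIn : B ≤ Subgroup.normalizer (Q : Set G)).trans
      le_normalizer_layerOf
  have hbot : layerOf H = ⊥ := by
    by_contra hne
    exact h.notBA (hB.trans (h.normA _ ((Subgroup.map_subtype_le _).trans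
      (h.hH ▸ coreIn_le_left)) hA hne))
  rw [layerOf, Subgroup.map_eq_bot_iff_of_injective _ H.subtype_injective] at hbot
  haveI : Nontrivial H := H.nontrivial_iff_ne_bot.2 h.neBot
  apply CfsgLib.Components.gFitting_ne_bot (G := H)
  rw [CfsgLib.Components.gFitting_eq_fitting_iff.2 hbot]
  refine (Subgroup.map_eq_bot_iff_of_injective _ H.subtype_injective).1 ?_
  refine h.ab _ ((Subgroup.map_subtype_le _).trans hHK) (fun k hk => ?_) ?_
  · have hkH := hKH hk
    let e' : H ≃* H :=
      { toFun := fun z => ⟨k * z * k⁻¹, (Subgroup.mem_normalizer_iff.1 hkH _).1 z.2⟩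
        invFun := fun z => ⟨k⁻¹ * z * k, by
          simpa using (Subgroup.mem_normalizer_iff.1
            ((Subgroup.normalizer _).inv_mem hkH) _).1 z.2⟩
        left_inv := fun z => Subtype.ext (by simp [mul_assoc])
        right_inv := fun z => Subtype.ext (by simp [mul_assoc])
        map_mul' := fun z w => Subtype.ext (by simp [mul_assoc]) }
    refine mem_normalizer_of_conj ?_
    rintro _ ⟨y, hy, rfl⟩
    refine ⟨e' y, ?_, rfl⟩
    rw [CfsgLib.Core.fittingSubgroup_eq_iSup_pCore] at hy ⊢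
    have hmap : (⨆ q : Nat.Primes, pCore (q : ℕ) H).map e'.toMonoidHom =
        ⨆ q : Nat.Primes, pCore (q : ℕ) H := by
      rw [Subgroup.map_iSup]
      exact iSup_congr fun q => CfsgLib.Core.map_equiv_pCore e'
    exact hmap.le ⟨y, hy, rfl⟩
  · haveI := CfsgLib.Components.fitting_isNilpotent (G := H)
    haveI : Group.IsSolvable (fittingSubgroup H) := IsNilpotent.to_isSolvable
    exact Group.isSolvable_of_surjective
      (f := ((fittingSubgroup H).equivMapOfInjective _ H.subtype_injective).toMonoidHom)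
      (MulEquiv.surjective _)

/-- `A` normalizes `H ∩ Q`. -/
theorem Pair.le_normalizer_inf (h : Pair A B K H Q) (h' : Pair B A K Q H) (h5 : 5 ≤ n)
    {ρ : K →* Equiv.Perm (Fin n)} (hρ : Side K Q ρ) :
    A ≤ Subgroup.normalizer ((H ⊓ Q : Subgroup G) : Set G) := by
  set D := H ⊓ Q with hD
  have hHK : H ≤ K := h.hH ▸ h.hK ▸ le_inf coreIn_le_left coreIn_le_right
  have hAH : A ≤ Subgroup.normalizer (H : Set G) := h.hH ▸ le_normalizer_coreIn
  have hKA : K ≤ A := h.hK ▸ inf_le_left
  have hKH : K ≤ Subgroup.normalizer (H : Set G) := hKA.trans hAH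
  have hKD : K ≤ Subgroup.normalizer (D : Set G) := inf_le_normalizer hKH hρ.norm
  have hKC := centralizer_le_normalizer_centralizer hKD
  set S := H ⊓ Subgroup.centralizer (D : Set G) with hS
  set T := Q ⊓ Subgroup.centralizer (D : Set G) with hT
  have hKS : K ≤ Subgroup.normalizer (S : Set G) := inf_le_normalizer hKH hKC
  have hSK : S ≤ K := inf_le_left.trans hHK
  have hDK : D ≤ K := inf_le_left.trans hHK
  have hZ : D ⊓ Subgroup.centralizer (D : Set G) = ⊥ :=
    h.ab _ (inf_le_left.trans hDK) (inf_le_normalizer hKD hKC) (Group.isSolvable_of_comm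
      fun a b => Subtype.ext (Subgroup.mem_centralizer_iff.1 b.2.2 a a.2.1))
  have hSne : S ≠ ⊥ := h'.centralizer_ne_bot (by rw [inf_comm]) hKH
  have hTne : T ≠ ⊥ := h.centralizer_ne_bot hD hρ.norm
  -- `ρ` is injective on `S`
  have hinj : ∀ s : K, (s : G) ∈ S → ρ s = 1 → (s : G) = 1 := fun s hs he =>
    Subgroup.mem_bot.1 (hZ ▸ ⟨⟨hs.1, (hρ.ker s).1 he⟩, hs.2⟩)
  have hSalt : alternatingGroup (Fin n) ≤ (S.subgroupOf K).map ρ := by
    refine (image_cases h5 hρ.alt hSK hKS).resolve_left fun hb => hSne ?_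
    rw [eq_bot_iff]
    intro s hs
    have : ρ ⟨s, hSK hs⟩ ∈ (S.subgroupOf K).map ρ := ⟨⟨s, hSK hs⟩, hs, rfl⟩
    rw [hb, Subgroup.mem_bot] at this
    rw [Subgroup.mem_bot]
    exact hinj ⟨s, hSK hs⟩ hs this
  set S' := ⁅S, S⁆ with hS'
  have hS'S : S' ≤ S := Subgroup.commutator_le_self S
  have hS'K : S' ≤ K := hS'S.trans hSK
  have hmapS' : (S'.subgroupOf K).map ρ =
      ⁅(S.subgroupOf K).map ρ, (S.subgroupOf K).map ρ⁆ := by
    rw [← Subgroup.map_commutator]
    congr 1
    refine Subgroup.map_injective K.subtype_injective ?_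
    rw [Subgroup.map_commutator, CfsgLib.Components.map_subtype_subgroupOf hS'K,
      CfsgLib.Components.map_subtype_subgroupOf hSK]
  have hS'le : (S'.subgroupOf K).map ρ ≤ alternatingGroup (Fin n) := by
    rw [hmapS', Subgroup.commutator_le]
    intro a _ b _
    rw [Equiv.Perm.mem_alternatingGroup, map_commutatorElement,
      commutatorElement_eq_one_iff_mul_comm]
    exact mul_comm _ _
  have hS'alt : alternatingGroup (Fin n) ≤ (S'.subgroupOf K).map ρ := by
    have hn : alternatingGroup (Fin n) ≤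
        Subgroup.normalizer ((S'.subgroupOf K).map ρ : Set (Equiv.Perm (Fin n))) := by
      intro σ hσ
      obtain ⟨s, hs, rfl⟩ := hSalt hσ
      refine mem_normalizer_of_conj ?_
      rintro _ ⟨y, hy, rfl⟩
      refine ⟨s * y * s⁻¹, ?_, by simp only [map_mul, map_inv]⟩
      show (s : G) * y * (s : G)⁻¹ ∈ S'
      have hsn : (s : G) ∈ Subgroup.normalizer (S' : Set G) :=
        mem_normalizer_of_conj fun z hz => by
          have hle : S' ≤ S'.comap (MulAut.conj (s : G)).toMonoidHom := by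
            rw [hS', Subgroup.commutator_le]
            intro a ha b hb
            rw [Subgroup.mem_comap, map_commutatorElement]
            exact Subgroup.commutator_mem_commutator
              ((Subgroup.mem_normalizer_iff.1 (hKS s.2) a).1 ha)
              ((Subgroup.mem_normalizer_iff.1 (hKS s.2) b).1 hb)
          exact hle hz
      exact (Subgroup.mem_normalizer_iff.1 hsn _).1 hy
    refine (eq_bot_or_alternating_le (by rwa [Fintype.card_fin]) hn).resolve_left fun hb => ?_
    have hab : Group.IsSolvable ((S.subgroupOf K).map ρ) := Group.isSolvable_of_comm fun a b =>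
      Subtype.ext (commutatorElement_eq_one_iff_mul_comm.1 (Subgroup.mem_bot.1 (hb ▸ hmapS'.ge
        (Subgroup.commutator_mem_commutator a.2 b.2))))
    haveI := hab
    exact alternating_not_solvable (α := Fin n) (by rwa [Fintype.card_fin])
      (Group.isSolvable_of_isSolvable_injective (f := Subgroup.inclusion hSalt)
        (Subgroup.inclusion_injective hSalt))
  have hKS' : K ≤ Subgroup.normalizer (S' : Set G) := fun k hk =>
    mem_normalizer_of_conj fun z hz => by
      have hle : S' ≤ S'.comap (MulAut.conj k).toMonoidHom := by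
        rw [hS', Subgroup.commutator_le]
        intro a ha b hb
        rw [Subgroup.mem_comap, map_commutatorElement]
        exact Subgroup.commutator_mem_commutator
          ((Subgroup.mem_normalizer_iff.1 (hKS hk) a).1 ha)
          ((Subgroup.mem_normalizer_iff.1 (hKS hk) b).1 hb)
      exact hle hz
  have hS'card : Nat.card S' = Nat.card (alternatingGroup (Fin n)) := by
    rw [← le_antisymm hS'le hS'alt, ← Nat.card_congr (Subgroup.subgroupOfEquivOfLe hS'K).toEquiv]
    exact Nat.card_congr (Equiv.ofBijective (fun s => ⟨ρ (s : K), ⟨(s : K), s.2, rfl⟩⟩)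
      ⟨fun a b hab => Subtype.ext (Subtype.ext (mul_inv_eq_one.1 (hinj ((a : K) * (b : K)⁻¹)
        (hS'S (S'.mul_mem a.2 (S'.inv_mem b.2)))
        (by rw [map_mul, map_inv, mul_inv_eq_one]; exact congrArg Subtype.val hab)))),
        fun ⟨σ, s, hs, he⟩ => ⟨⟨s, hs⟩, Subtype.ext he⟩⟩)
  -- a conjugate of `S'` lies in `D` or equals `S'`
  have hconj : ∀ k ∈ A, S'.map (MulAut.conj k).toMonoidHom ≤ D ∨
      k ∈ Subgroup.normalizer (S' : Set G) := by
    intro k hk
    set Y := S'.map (MulAut.conj k).toMonoidHom with hY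
    have hYH : Y ≤ H := by
      rintro _ ⟨s, hs, rfl⟩
      exact (Subgroup.mem_normalizer_iff.1 (hAH hk) s).1 (hS'S hs).1
    have hYn : H ≤ Subgroup.normalizer (Y : Set G) := by
      intro z hz
      refine mem_normalizer_of_conj ?_
      rintro _ ⟨s, hs, rfl⟩
      have hz' : k⁻¹ * z * k⁻¹⁻¹ ∈ H :=
        (Subgroup.mem_normalizer_iff.1 (hAH (A.inv_mem hk)) z).1 hz
      exact ⟨_, (Subgroup.mem_normalizer_iff.1 (hKS' (hHK hz')) s).1 hs, by simp [mul_assoc]⟩
    by_cases hYD : Y ≤ D
    · exact Or.inl hYD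
    right
    set X := S' ⊓ Y
    have hXK : X ≤ K := inf_le_left.trans hS'K
    have himg : ∀ W : Subgroup G, W ≤ K → H ≤ Subgroup.normalizer (W : Set G) →
        (W.subgroupOf K).map ρ = ⊥ ∨ alternatingGroup (Fin n) ≤ (W.subgroupOf K).map ρ := by
      intro W hW hHn
      refine eq_bot_or_alternating_le (by rwa [Fintype.card_fin]) fun σ hσ => ?_
      obtain ⟨s, hs, rfl⟩ := hSalt hσ
      refine mem_normalizer_of_conj ?_
      rintro _ ⟨y, hy, rfl⟩
      exact ⟨s * y * s⁻¹, (Subgroup.mem_normalizer_iff.1 (hHn hs.1) _).1 hy,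
        by simp only [map_mul, map_inv]⟩
    have hYalt : alternatingGroup (Fin n) ≤ (Y.subgroupOf K).map ρ := by
      refine (himg Y (hYH.trans hHK) hYn).resolve_left fun hb => hYD fun y hy => ⟨hYH hy, ?_⟩
      refine (hρ.ker ⟨y, hHK (hYH hy)⟩).1 ?_
      have : ρ ⟨y, hHK (hYH hy)⟩ ∈ (Y.subgroupOf K).map ρ := ⟨⟨y, hHK (hYH hy)⟩, hy, rfl⟩
      rwa [hb, Subgroup.mem_bot] at this
    have hXalt : alternatingGroup (Fin n) ≤ (X.subgroupOf K).map ρ := by
      refine (himg X hXK (inf_le_normalizer (hHK.trans hKS') hYn)).resolve_left fun hb => ?_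
      -- then `S'` and `Y` commute modulo the kernel
      have hcomm : ∀ a ∈ alternatingGroup (Fin n), ∀ b ∈ alternatingGroup (Fin n),
          Commute a b := by
        intro a ha b hb'
        obtain ⟨s, hs, rfl⟩ := hS'alt ha
        obtain ⟨y, hy, rfl⟩ := hYalt hb'
        have hm : ((⁅s, y⁆ : K) : G) ∈ X := by
          refine ⟨?_, ?_⟩
          · show (s : G) * y * (s : G)⁻¹ * (y : G)⁻¹ ∈ S'
            rw [mul_assoc, mul_assoc]
            refine S'.mul_mem hs ?_
            rw [← mul_assoc]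
            exact (Subgroup.mem_normalizer_iff.1 (hKS' y.2) _).1 (S'.inv_mem hs)
          · show (s : G) * y * (s : G)⁻¹ * (y : G)⁻¹ ∈ Y
            exact Y.mul_mem ((Subgroup.mem_normalizer_iff.1 (hYn (hS'S hs).1) _).1 hy)
              (Y.inv_mem hy)
        have : ρ ⁅s, y⁆ ∈ (X.subgroupOf K).map ρ := ⟨_, hm, rfl⟩
        rw [hb, Subgroup.mem_bot, map_commutatorElement,
          commutatorElement_eq_one_iff_mul_comm] at this
        exact this
      exact alternating_not_solvable (α := Fin n) (by rwa [Fintype.card_fin])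
        (Group.isSolvable_of_comm fun a b => Subtype.ext (hcomm _ a.2 _ b.2).eq)
    have h1 : Nat.card (alternatingGroup (Fin n)) ≤ Nat.card X := by
      refine (Subgroup.card_le_of_le hXalt).trans ?_
      refine (Nat.le_of_dvd Nat.card_pos (Subgroup.card_map_dvd _ _)).trans ?_
      exact (Nat.card_congr (Subgroup.subgroupOfEquivOfLe hXK).toEquiv).le
    have h2 : X = S' := Subgroup.eq_of_le_of_card_ge inf_le_left (hS'card ▸ h1)
    have h3 : S' = Y := Subgroup.eq_of_le_of_card_ge (h2 ▸ inf_le_right)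
      (Nat.card_congr (S'.equivMapOfInjective _ (MulAut.conj k).injective).toEquiv).ge
    exact mem_normalizer_of_conj fun z hz => h3.ge ⟨z, hz, rfl⟩
  have hAS' : A ≤ Subgroup.normalizer (S' : Set G) := by
    rcases h.maxK (A ⊓ Subgroup.normalizer (S' : Set G)) (le_inf hKA hKS') inf_le_left with
      hN | hN
    · exfalso
      apply hTne
      rw [eq_bot_iff, ← hZ]
      intro t ht
      refine ⟨⟨?_, ht.1⟩, ht.2⟩
      rw [h.hH]
      have htK : t ∈ K := hρ.le ht.1
      refine ⟨hKA htK, fun k hk => ?_⟩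
      by_cases hkK : k ∈ K
      · exact (h.hK.le (K.mul_mem (K.mul_mem hkK htK) (K.inv_mem hkK))).2
      · rcases hconj k⁻¹ (A.inv_mem hk) with hD' | hD'
        · have hmem : k * t * k⁻¹ ∈ A ⊓ Subgroup.normalizer (S' : Set G) := by
            refine ⟨A.mul_mem (A.mul_mem hk (hKA htK)) (A.inv_mem hk),
              mem_normalizer_of_conj fun z hz => ?_⟩
            have hz' : k⁻¹ * z * k⁻¹⁻¹ ∈ D := hD' ⟨z, hz, rfl⟩
            have := Subgroup.mem_centralizer_iff.1 ht.2 _ hz'
            have e : k * t * k⁻¹ * z * (k * t * k⁻¹)⁻¹ =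
                k * (t * (k⁻¹ * z * k⁻¹⁻¹)) * t⁻¹ * k⁻¹ := by group
            rw [e, ← this]
            simpa [mul_assoc] using hz
          rw [hN, h.hK] at hmem
          exact hmem.2
        · exfalso
          exact hkK (hN ▸ ⟨hk, by simpa using (Subgroup.normalizer _).inv_mem hD'⟩)
    · exact hN ▸ inf_le_right
  have hDeq : D = H ⊓ Subgroup.centralizer (S' : Set G) := by
    refine le_antisymm (le_inf inf_le_left fun z hz =>
      Subgroup.mem_centralizer_iff.2 fun s hs =>
        (Subgroup.mem_centralizer_iff.1 (hS'S hs).2 z hz).symm) fun z hz => ⟨hz.1, ?_⟩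
    refine (hρ.ker ⟨z, hHK hz.1⟩).1
      (commute_alternating_eq_one (by rw [Fintype.card_fin]; omega) fun c hc => ?_)
    obtain ⟨s, hs, rfl⟩ := hS'alt hc
    exact Commute.map (Subtype.ext (Subgroup.mem_centralizer_iff.1 hz.2 _ hs).symm :
      Commute (⟨z, hHK hz.1⟩ : K) s) ρ
  rw [hDeq]
  exact inf_le_normalizer hAH (centralizer_le_normalizer_centralizer hAS')

theorem Pair.inf_eq_bot (h : Pair A B K H Q) (h' : Pair B A K Q H) (h5 : 5 ≤ n)
    {ρ ρ' : K →* Equiv.Perm (Fin n)} (hρ : Side K H ρ) (hρ' : Side K Q ρ') : H ⊓ Q = ⊥ := by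
  by_contra hne
  have hB := h'.le_normalizer_inf h h5 hρ
  rw [inf_comm] at hB
  exact h.notBA (hB.trans (h.normA _ ((inf_le_left.trans (h.hH ▸ coreIn_le_left)))
    (h.le_normalizer_inf h' h5 hρ') hne))

/-- The embedding of `A` into a product of two symmetric groups. -/
theorem Pair.exists_embedding (h : Pair A B K H Q) (h5 : 5 ≤ n) {d : ℕ} (hd : d = n + 1)
    {ρ' : K →* Equiv.Perm (Fin n)} (hρ' : Side K Q ρ') (hQne : Q ≠ ⊥) (hHQ : H ⊓ Q = ⊥)
    (f : A →* Equiv.Perm (Fin d)) (pt : Fin d) (hf : alternatingGroup (Fin d) ≤ f.range)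
    (hstab : ∀ z : A, f z pt = pt ↔ (z : G) ∈ B) (hker : f.ker.map A.subtype = H) :
    ∃ F : A →* Equiv.Perm (Fin d) × Equiv.Perm (Fin n), Function.Injective F ∧
      (∀ σ ∈ alternatingGroup (Fin d), (σ, 1) ∈ F.range) ∧
      (∀ τ ∈ alternatingGroup (Fin n), (1, τ) ∈ F.range) ∧
      (∀ p ∈ F.range, p.1 ∈ f.range ∧ p.2 ∈ ρ'.range) ∧ ∀ σ ∈ f.range, ∃ τ, (σ, τ) ∈ F.range := by
  classical
  have hKA : K ≤ A := h.hK ▸ inf_le_left
  have hKB : K ≤ B := h.hK ▸ inf_le_right
  have hHK : H ≤ K := h.hH ▸ h.hK ▸ le_inf coreIn_le_left coreIn_le_right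
  have hQK : Q ≤ K := hρ'.le
  have hAH : A ≤ Subgroup.normalizer (H : Set G) := h.hH ▸ le_normalizer_coreIn
  set L := A ⊓ Subgroup.centralizer (H : Set G) with hL
  have hAL : A ≤ Subgroup.normalizer (L : Set G) :=
    inf_le_normalizer Subgroup.le_normalizer (centralizer_le_normalizer_centralizer hAH)
  have hQL : Q ≤ L := le_inf (hQK.trans hKA) fun q hq =>
    Subgroup.mem_centralizer_iff.2 fun z hz => by
      have h1 : z * q * z⁻¹ * q⁻¹ ∈ H ⊓ Q := by
        refine ⟨?_, Q.mul_mem ((Subgroup.mem_normalizer_iff.1 (hρ'.norm (hHK hz)) q).1 hq)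
          (Q.inv_mem hq)⟩
        rw [mul_assoc, mul_assoc]
        refine H.mul_mem hz ?_
        rw [← mul_assoc]
        exact (Subgroup.mem_normalizer_iff.1 (hAH (hKA (hQK hq))) _).1 (H.inv_mem hz)
      rw [hHQ, Subgroup.mem_bot, mul_inv_eq_one, mul_inv_eq_iff_eq_mul] at h1
      exact h1
  have hLalt : alternatingGroup (Fin d) ≤ (L.subgroupOf A).map f := by
    have hn : alternatingGroup (Fin d) ≤
        Subgroup.normalizer ((L.subgroupOf A).map f : Set (Equiv.Perm (Fin d))) := by
      intro σ hσ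
      obtain ⟨k, rfl⟩ := hf hσ
      refine mem_normalizer_of_conj ?_
      rintro _ ⟨y, hy, rfl⟩
      exact ⟨k * y * k⁻¹, (Subgroup.mem_normalizer_iff.1 (hAL k.2) _).1 hy,
        by simp only [map_mul, map_inv]⟩
    refine (eq_bot_or_alternating_le (by rw [Fintype.card_fin]; omega) hn).resolve_left
      fun hb => hQne ?_
    rw [eq_bot_iff, ← hHQ]
    intro q hq
    refine ⟨?_, hq⟩
    rw [← hker]
    refine ⟨⟨q, hKA (hQK hq)⟩, ?_, rfl⟩
    have : f ⟨q, hKA (hQK hq)⟩ ∈ (L.subgroupOf A).map f := ⟨_, hQL hq, rfl⟩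
    rwa [hb, Subgroup.mem_bot] at this
  have hLK : ∀ z (hz : z ∈ K), z ∈ L → z ∈ Q := by
    intro z hz hzL
    refine (hρ'.ker ⟨z, hz⟩).1
      (commute_alternating_eq_one (by rw [Fintype.card_fin]; omega) fun c hc => ?_)
    have hHalt : alternatingGroup (Fin n) ≤ (H.subgroupOf K).map ρ' := by
      refine (image_cases h5 hρ'.alt hHK (hKA.trans hAH)).resolve_left fun hb => h.neBot ?_
      rw [eq_bot_iff, ← hHQ]
      intro y hy
      refine ⟨hy, (hρ'.ker ⟨y, hHK hy⟩).1 ?_⟩
      have : ρ' ⟨y, hHK hy⟩ ∈ (H.subgroupOf K).map ρ' := ⟨_, hy, rfl⟩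
      rwa [hb, Subgroup.mem_bot] at this
    obtain ⟨s, hs, rfl⟩ := hHalt hc
    exact Commute.map (Subtype.ext (Subgroup.mem_centralizer_iff.1 hzL.2 _ hs).symm :
      Commute (⟨z, hz⟩ : K) s) ρ'
  -- `A = L K`
  have hdec : ∀ z : A, ∃ k : K, (z : G) * (k : G)⁻¹ ∈ L := by
    intro z
    obtain ⟨σ, hσ, hσpt⟩ : ∃ σ ∈ alternatingGroup (Fin d), σ pt = f z pt := by
      by_cases he : f z pt = pt
      · exact ⟨1, Subgroup.one_mem _, by rw [he]; rfl⟩
      · obtain ⟨u, v, huv, hu, hv⟩ : ∃ u v : Fin d, u ≠ v ∧ (u ≠ pt ∧ u ≠ f z pt) ∧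
            (v ≠ pt ∧ v ≠ f z pt) := by
          have hs : 2 ≤ (Finset.univ \ ({pt, f z pt} : Finset (Fin d))).card := by
            have h1 := Finset.le_card_sdiff ({pt, f z pt} : Finset (Fin d)) Finset.univ
            have h2 : ({pt, f z pt} : Finset (Fin d)).card ≤ 2 := Finset.card_le_two
            rw [Finset.card_univ, Fintype.card_fin] at h1
            omega
          obtain ⟨u, hu, v, hv, hne⟩ := Finset.one_lt_card.1 hs
          simp only [Finset.mem_sdiff, Finset.mem_univ, Finset.mem_insert, Finset.mem_singleton,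
            true_and, not_or] at hu hv
          exact ⟨u, v, hne, hu, hv⟩
        refine ⟨Equiv.swap pt (f z pt) * Equiv.swap u v, ?_, ?_⟩
        · rw [Equiv.Perm.mem_alternatingGroup, map_mul, Equiv.Perm.sign_swap (Ne.symm he),
            Equiv.Perm.sign_swap huv]
          rfl
        · rw [Equiv.Perm.mul_apply, Equiv.swap_apply_of_ne_of_ne hu.1.symm hv.1.symm,
            Equiv.swap_apply_left]
    obtain ⟨l, hl, rfl⟩ := hLalt hσ
    have hk : f (l⁻¹ * z) pt = pt := by
      rw [map_mul, map_inv, Equiv.Perm.mul_apply, ← hσpt, Equiv.Perm.inv_def,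
        Equiv.symm_apply_apply]
    refine ⟨⟨_, h.hK.ge ⟨(l⁻¹ * z).2, (hstab _).1 hk⟩⟩, ?_⟩
    show (z : G) * ((l : G)⁻¹ * z)⁻¹ ∈ L
    rw [mul_inv_rev, inv_inv, ← mul_assoc, mul_inv_cancel, one_mul]
    exact hl
  choose kf hkf using hdec
  have hkey : ∀ (z : A) (k : K), (z : G) * (k : G)⁻¹ ∈ L → ρ' (kf z) = ρ' k := by
    intro z k hk
    have hm : ((kf z * k⁻¹ : K) : G) ∈ L := by
      have := L.mul_mem (L.inv_mem (hkf z)) hk
      simpa [mul_assoc] using this
    have := (hρ'.ker (kf z * k⁻¹)).2 (hLK _ (kf z * k⁻¹).2 hm)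
    rwa [map_mul, map_inv, mul_inv_eq_one] at this
  let R : A →* Equiv.Perm (Fin n) :=
    { toFun := fun z => ρ' (kf z)
      map_one' := (hkey 1 1 (by simp)).trans (map_one ρ')
      map_mul' := fun z w => by
        rw [← map_mul]
        refine hkey (z * w) (kf z * kf w) ?_
        show (z : G) * w * ((kf z : G) * (kf w : G))⁻¹ ∈ L
        have h1 := (Subgroup.mem_normalizer_iff.1 (hAL (hKA (kf z).2)) _).1 (hkf w)
        have := L.mul_mem (hkf z) h1
        convert this using 1
        group }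
  refine ⟨f.prod R, ?_, ?_, ?_, ?_, ?_⟩
  · rw [injective_iff_map_eq_one]
    intro z hz
    have h1 : f z = 1 := congrArg Prod.fst hz
    have h2 : R z = 1 := congrArg Prod.snd hz
    have hzH : (z : G) ∈ H := hker ▸ ⟨z, h1, rfl⟩
    have h3 : ρ' ⟨z, hHK hzH⟩ = 1 := by
      rw [← hkey z ⟨z, hHK hzH⟩ (by simp)]; exact h2
    exact Subtype.ext (Subgroup.mem_bot.1 (hHQ ▸ ⟨hzH, (hρ'.ker _).1 h3⟩))
  · intro σ hσ
    obtain ⟨l, hl, rfl⟩ := hLalt hσ
    exact ⟨l, Prod.ext rfl ((hkey l 1 (by simp only [OneMemClass.coe_one, inv_one, mul_one]; exact hl)).trans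
      (map_one ρ'))⟩
  · intro τ hτ
    have hHalt : alternatingGroup (Fin n) ≤ (H.subgroupOf K).map ρ' := by
      refine (image_cases h5 hρ'.alt hHK (hKA.trans hAH)).resolve_left fun hb => h.neBot ?_
      rw [eq_bot_iff, ← hHQ]
      intro y hy
      refine ⟨hy, (hρ'.ker ⟨y, hHK hy⟩).1 ?_⟩
      have : ρ' ⟨y, hHK hy⟩ ∈ (H.subgroupOf K).map ρ' := ⟨_, hy, rfl⟩
      rwa [hb, Subgroup.mem_bot] at this
    obtain ⟨s, hs, rfl⟩ := hHalt hτ
    have hsH : (s : G) ∈ f.ker.map A.subtype := hker.symm ▸ hs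
    obtain ⟨z, hz, hzs⟩ := hsH
    have hzs' : (z : G) = s := hzs
    refine ⟨z, Prod.ext hz (hkey z s ?_)⟩
    rw [hzs', mul_inv_cancel]
    exact L.one_mem
  · rintro _ ⟨z, rfl⟩
    exact ⟨⟨z, rfl⟩, ⟨kf z, rfl⟩⟩
  · rintro _ ⟨z, rfl⟩
    exact ⟨R z, ⟨z, rfl⟩⟩

end CfsgLib.AltSuborbit
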