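import Cfsg.Agent.Lib.Perm.AltSuborbit

/-!
The two-point action on a suborbit and the embedding of its kernel when `twKernel` is trivial.
-/

set_option autoImplicit false
set_option linter.style.haveILetI false

open Cfsg MulAction
open CfsgLib.ThompsonWielandt

namespace CfsgLib.AltSuborbit

variable {G : Type*} [Group G] [Finite G] {Ω : Type*} [MulAction G Ω] [Finite Ω]

theorem card_orbit_ne {a b : Ω} :
    Nat.card {y : Ω // y ∈ orbit (stabilizer G a) b ∧ y ≠ b} =
      Nat.card (orbit (stabilizer G a) b) - 1 := by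
  rw [Nat.card_coe_set_eq, ← Set.ncard_sdiff_singleton_of_mem (mem_orbit_self b),
    ← Nat.card_coe_set_eq]
  rfl

/-- A subgroup fixing `a` and `b` acts on the rest of the suborbit with kernel `coreIn`. -/
theorem exists_pointHom (a b : Ω) {n : ℕ}
    (hn : Nat.card (orbit (stabilizer G a) b) = n + 1) (K : Subgroup G)
    (hK : K ≤ stabilizer G a ⊓ stabilizer G b) :
    ∃ ρ : K →* Equiv.Perm (Fin n),
      ∀ k : K, ρ k = 1 ↔ (k : G) ∈ coreIn (stabilizer G a) (stabilizer G b) := by
  classical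
  have hinv : ∀ k : K, ∀ y : Ω, ((k : G) • y ∈ orbit (stabilizer G a) b ∧ (k : G) • y ≠ b) ↔
      (y ∈ orbit (stabilizer G a) b ∧ y ≠ b) := by
    intro k y
    have hb : (k : G) • b = b := (hK k.2).2
    refine and_congr ⟨fun hy => ?_, fun hy => ?_⟩ (not_congr ?_)
    · simpa using SuborbitKernel.smul_mem_orbit_of ((stabilizer G a).inv_mem (hK k.2).1) hy
    · exact SuborbitKernel.smul_mem_orbit_of (hK k.2).1 hy
    · conv_lhs => rw [← hb, smul_left_cancel_iff]
  let e : {y : Ω // y ∈ orbit (stabilizer G a) b ∧ y ≠ b} ≃ Fin n :=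
    Finite.equivFinOfCardEq (by rw [card_orbit_ne, hn, Nat.add_sub_cancel])
  let ρ₀ : K →* Equiv.Perm {y : Ω // y ∈ orbit (stabilizer G a) b ∧ y ≠ b} :=
    { toFun := fun k => (MulAction.toPerm (k : G)).subtypePerm (hinv k)
      map_one' := by ext y; simp
      map_mul' := fun k l => by ext y; exact mul_smul (k : G) (l : G) (y : Ω) }
  refine ⟨e.permCongrHom.toMonoidHom.comp ρ₀, fun k => ?_⟩
  rw [MonoidHom.comp_apply, MulEquiv.coe_toMonoidHom, MulEquiv.map_eq_one_iff]
  constructor
  · intro h1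
    refine ⟨(hK k.2).1, fun l hl => mem_stabilizer_iff.2 ?_⟩
    by_cases hlb : l⁻¹ • b = b
    · rw [mul_smul, mul_smul, hlb, show (k : G) • b = b from (hK k.2).2,
        ← inv_smul_eq_iff.1 hlb]
    · have h2 : (k : G) • l⁻¹ • b = l⁻¹ • b := congrArg Subtype.val
        (congrArg (fun σ => σ ⟨l⁻¹ • b, ⟨⟨l⁻¹, (stabilizer G a).inv_mem hl⟩, rfl⟩, hlb⟩) h1)
      rw [mul_smul, mul_smul, h2, smul_inv_smul]
  · intro hk
    ext ⟨y, ⟨⟨l, hl⟩, hly⟩, hy⟩
    show (k : G) • y = y
    have h1 := mem_stabilizer_iff.1 (hk.2 l⁻¹ ((stabilizer G a).inv_mem hl))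
    rw [mul_smul, mul_smul, inv_inv, inv_smul_eq_iff] at h1
    have hly' : l • b = y := hly
    rw [← hly']
    exact h1

/-- When `twKernel` is trivial the kernel on the suborbit has no section as large as `Alt d`. -/
theorem not_alternating_le_core [IsPretransitive G Ω] (a b : Ω) {d : ℕ} (h5 : 5 ≤ d)
    (hd : Nat.card (orbit (stabilizer G a) b) = d)
    (htw : SuborbitKernel.twKernel G a b = ⊥) (K : Subgroup G)
    (ψ : K →* Equiv.Perm (Fin d)) :
    ¬ alternatingGroup (Fin d) ≤
      ((coreIn (stabilizer G a) (stabilizer G b)).subgroupOf K).map ψ := by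
  classical
  set A := stabilizer G a
  set H := (coreIn A (stabilizer G b)).subgroupOf K
  have hfix : ∀ (h : H) (x : orbit A b), ((h : K) : G) • (x : Ω) = x := by
    rintro h ⟨x, ⟨l, hl⟩, hlx⟩
    have h1 := mem_stabilizer_iff.1 (h.2.2 l⁻¹ (A.inv_mem hl))
    rw [inv_inv, mul_smul, mul_smul, inv_smul_eq_iff] at h1
    have hlx' : l • b = x := hlx
    show ((h : K) : G) • x = x
    rw [← hlx']
    exact h1
  have hinv : ∀ (h : H) (x : orbit A b) (y : Ω),
      (((h : K) : G) • y ∈ orbit (stabilizer G (x : Ω)) a ∧ ((h : K) : G) • y ≠ a) ↔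
        (y ∈ orbit (stabilizer G (x : Ω)) a ∧ y ≠ a) := by
    intro h x y
    have ha : ((h : K) : G) • a = a := h.2.1
    have hm : ((h : K) : G) ∈ stabilizer G (x : Ω) := hfix h x
    refine and_congr ⟨fun hy => ?_, fun hy => ?_⟩ (not_congr ?_)
    · simpa using SuborbitKernel.smul_mem_orbit_of ((stabilizer G (x : Ω)).inv_mem hm) hy
    · exact SuborbitKernel.smul_mem_orbit_of hm hy
    · conv_lhs => rw [← ha, smul_left_cancel_iff]
  let φ : H →* ∀ x : orbit A b,
      Equiv.Perm {y : Ω // y ∈ orbit (stabilizer G (x : Ω)) a ∧ y ≠ a} :=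
    { toFun := fun h x => (MulAction.toPerm ((h : K) : G)).subtypePerm (hinv h x)
      map_one' := by funext x; ext y; simp
      map_mul' := fun h k => by
        funext x; ext y
        exact mul_smul ((h : K) : G) ((k : K) : G) (y : Ω) }
  refine not_alternating_le_map (by rwa [Fintype.card_fin]) (fun x => ?_) H φ ?_ ψ
  · rw [Fintype.card_fin]
    obtain ⟨⟨k, hk⟩, hkx⟩ := x.2
    have hk' : k • a = a := hk
    have hc : Nat.card (orbit (stabilizer G (x : Ω)) a) = d := by
      rw [← hkx]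
      change Nat.card (orbit (stabilizer G (k • b)) a) = d
      conv_lhs => rw [← hk']
      rw [SuborbitKernel.card_orbit_smul, SuborbitKernel.card_orbit_symm, hd]
    rw [card_orbit_ne, hc]
  · rw [injective_iff_map_eq_one]
    intro h hh
    have hm : ((h : K) : G) ∈ SuborbitKernel.twKernel G a b := by
      refine ⟨h.2.1, fun x hx => ⟨hfix h ⟨x, hx⟩, fun y hy => ?_⟩⟩
      by_cases hya : y = a
      · rw [hya]; exact h.2.1
      · exact congrArg Subtype.val
          (congrArg (fun σ => σ (⟨y, hy, hya⟩ :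
            {y : Ω // y ∈ orbit (stabilizer G x) a ∧ y ≠ a})) (congrFun hh ⟨x, hx⟩))
    rw [htw, Subgroup.mem_bot] at hm
    exact Subtype.ext (Subtype.ext hm)

end CfsgLib.AltSuborbit
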