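import Mathlib
import Cfsg.Agent.Lib.Perm.AltSubsetAux
import Cfsg.Agent.Lib.Perm.FourTrans

/-! A `k`-transitive group, `k ≥ 4`, has a `(k + 1)`-set on which it induces all even permutations. -/

set_option autoImplicit false

open Equiv

universe u

namespace CfsgLib.Perm

variable {α : Type*} [Fintype α] [DecidableEq α]

set_option maxHeartbeats 1000000 in
/-- An involution fixing exactly `k` points, no involution fixing more. -/
theorem sym_subset_exact {G : Subgroup (Equiv.Perm α)} {k : ℕ}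
    (hG : MulAction.IsMultiplyPretransitive G α k) (hk : 2 ≤ k) (hkn : k < Fintype.card α)
    (hB : InvFixLE G k) {j : Equiv.Perm α} (hj : j ∈ G) (hj2 : j * j = 1) (hj1 : j ≠ 1)
    (hjk : (fixFinset j).card = k) (Δ : Finset α) (hΔ : Δ.card = k + 1) :
    ∀ σ : Equiv.Perm ↥Δ, ∃ g ∈ G, ∀ x : ↥Δ, g (x : α) = σ x := by
  classical
  refine lift_of_swaps fun a ha b hb hab => ?_
  obtain ⟨c, hc⟩ : (Δ \ {a, b}).Nonempty := Finset.card_pos.1 (by
    have h1 := Finset.le_card_sdiff ({a, b} : Finset α) Δ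
    have h2 : ({a, b} : Finset α).card ≤ 2 := Finset.card_le_two
    omega)
  simp only [Finset.mem_sdiff, Finset.mem_insert, Finset.mem_singleton, not_or] at hc
  obtain ⟨hcΔ, hca, hcb⟩ := hc
  -- an involution with fixed set `Δ - c`
  set S := Δ.erase c with hS
  have hScard : S.card = k := by rw [hS, Finset.card_erase_of_mem hcΔ, hΔ, Nat.add_sub_cancel]
  let e := Finset.equivOfCardEq (hjk.trans hScard.symm)
  obtain ⟨g, hg, hgf⟩ := ktrans_exists_finset hG hkn.le (fixFinset j) hjk.le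
    (fun x => if h : x ∈ fixFinset j then (e ⟨x, h⟩ : α) else x) (fun x hx y hy h => by
      simp only [dif_pos (Finset.mem_coe.1 hx), dif_pos (Finset.mem_coe.1 hy)] at h
      exact congrArg Subtype.val (e.injective (Subtype.ext h)))
  set i := g * j * g⁻¹ with hi
  have hiG : i ∈ G := G.mul_mem (G.mul_mem hg hj) (G.inv_mem hg)
  have hi2 : i * i = 1 := by
    rw [hi, show g * j * g⁻¹ * (g * j * g⁻¹) = g * (j * j) * g⁻¹ by group, hj2, mul_one, mul_inv_cancel]
  have hii : ∀ x, i (i x) = x := fun x => by rw [← Equiv.Perm.mul_apply, hi2, Equiv.Perm.one_apply]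
  have hi1 : i ≠ 1 := fun h => hj1 (conj_eq_one_iff.1 h)
  have hSfix : fixFinset i = S := by
    refine (Finset.eq_of_subset_of_card_le (fun x hx => ?_) (by rw [hScard]; exact hB i hiG hi2 hi1)).symm
    obtain ⟨⟨y, hy⟩, hxy⟩ := e.surjective ⟨x, hx⟩
    have h1 : g y = x := (hgf y hy).trans (by rw [dif_pos hy, hxy])
    rw [mem_fixFinset, ← h1, hi, Equiv.Perm.mul_apply, Equiv.Perm.mul_apply, Equiv.Perm.inv_def,
      Equiv.symm_apply_apply, mem_fixFinset.1 hy]
  have hcS : c ∉ S := by simp [hS]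
  have hic : i c ≠ c := fun h => hcS (hSfix ▸ mem_fixFinset.2 h)
  have hicS : i c ∉ S := fun h => by
    have h1 := mem_fixFinset.1 (hSfix.symm ▸ h : i c ∈ fixFinset i)
    rw [hii] at h1
    exact hic h1.symm
  have haS : a ∈ S := Finset.mem_erase.2 ⟨Ne.symm hca, ha⟩
  have hbS : b ∈ S := Finset.mem_erase.2 ⟨Ne.symm hcb, hb⟩
  -- the stabiliser of the remaining points and of a transposition of `i`
  set Θ := insert c (insert (i c) ((S.erase a).erase b)) with hΘ
  have hΘcard : Θ.card = k := by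
    rw [hΘ, Finset.card_insert_of_notMem, Finset.card_insert_of_notMem,
      Finset.card_erase_of_mem (Finset.mem_erase.2 ⟨Ne.symm hab, hbS⟩), Finset.card_erase_of_mem haS, hScard]
    · omega
    · exact fun h => hicS (Finset.mem_of_mem_erase (Finset.mem_of_mem_erase h))
    · simp only [Finset.mem_insert, not_or]
      exact ⟨hic.symm, fun h => hcS (Finset.mem_of_mem_erase (Finset.mem_of_mem_erase h))⟩
  have hiΘ : ∀ x ∈ Θ, i x ∈ Θ := fun x hx => by
    simp only [hΘ, Finset.mem_insert] at hx ⊢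
    rcases hx with rfl | rfl | hx
    · exact Or.inr (Or.inl rfl)
    · exact Or.inl (hii c)
    · refine Or.inr (Or.inr ?_)
      rw [mem_fixFinset.1 (hSfix.symm ▸ Finset.mem_of_mem_erase (Finset.mem_of_mem_erase hx) : x ∈ fixFinset i)]
      exact hx
  have heven : Even (Nat.card (fixIn G Θ)) := by
    let e' := Finset.equivOfCardEq (hScard.trans hΘcard.symm)
    obtain ⟨g', hg', hg'f⟩ := ktrans_exists_finset hG hkn.le S hScard.le
      (fun x => if h : x ∈ S then (e' ⟨x, h⟩ : α) else x) (fun x hx y hy h => by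
        simp only [dif_pos (Finset.mem_coe.1 hx), dif_pos (Finset.mem_coe.1 hy)] at h
        exact congrArg Subtype.val (e'.injective (Subtype.ext h)))
    have himg : S.image g' = Θ := by
      refine Finset.eq_of_subset_of_card_le (fun y hy => ?_) ?_
      · obtain ⟨x, hx, rfl⟩ := Finset.mem_image.1 hy
        rw [hg'f x hx, dif_pos hx]
        exact (e' ⟨x, hx⟩).2
      · rw [Finset.card_image_of_injective _ g'.injective, hScard, hΘcard]
    rw [← fixIn_conj hg' himg, even_iff_two_dvd]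
    have hmem : i ∈ fixIn G S := mem_fixIn.2 ⟨hiG, fun x hx => mem_fixFinset.1 (hSfix.symm ▸ hx)⟩
    have h := orderOf_dvd_natCard (⟨i, hmem⟩ : fixIn G S)
    rwa [← orderOf_submonoid, orderOf_eq_prime (show i ^ 2 = 1 by rw [pow_two]; exact hi2) hi1] at h
  obtain ⟨t, ht, ht2, ht1, htc⟩ := exists_commuting_involution (fixIn G Θ) hi2 (fun x hx => by
    rw [mem_fixIn] at hx ⊢
    refine ⟨G.mul_mem (G.mul_mem hiG hx.1) (G.inv_mem hiG), fun y hy => ?_⟩
    rw [Equiv.Perm.mul_apply, Equiv.Perm.mul_apply, inv_eq_of_mul_eq_one_right hi2, hx.2 _ (hiΘ y hy), hii])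
    heven
  obtain ⟨htG, htΘ⟩ := mem_fixIn.1 ht
  have htfix : fixFinset t = Θ :=
    (Finset.eq_of_subset_of_card_le (fun x hx => mem_fixFinset.2 (htΘ x hx))
      (by rw [hΘcard]; exact hB t htG ht2 ht1)).symm
  have htS : ∀ x ∈ S, t x ∈ S := fun x hx => by
    rw [← hSfix, mem_fixFinset] at hx ⊢
    have h : i (t x) = t (i x) := DFunLike.congr_fun htc.eq x
    rwa [hx] at h
  have hnΘ : ∀ x ∈ S, (x = a ∨ x = b) → x ∉ Θ := fun x hx hxab h => by
    simp only [hΘ, Finset.mem_insert, Finset.mem_erase] at h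
    rcases h with rfl | rfl | ⟨h1, h2, -⟩
    · exact hcS hx
    · exact hicS hx
    · rcases hxab with rfl | rfl
      · exact h2 rfl
      · exact h1 rfl
  have hswap : ∀ x y, x ∈ S → y ∈ S → (x = a ∧ y = b ∨ x = b ∧ y = a) → t x = y := by
    intro x y hx hy hxy
    have htx : t x ≠ x := fun h => hnΘ x hx (hxy.imp And.left And.left) (htfix ▸ mem_fixFinset.2 h)
    by_contra hne
    have h1 : t x ∈ Θ := by
      simp only [hΘ, Finset.mem_insert, Finset.mem_erase]
      refine Or.inr (Or.inr ⟨?_, ?_, htS x hx⟩) <;> rcases hxy with ⟨rfl, rfl⟩ | ⟨rfl, rfl⟩ <;>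
        first
          | exact hne
          | exact htx
    have h2 := htΘ _ h1
    rw [← Equiv.Perm.mul_apply, ht2, Equiv.Perm.one_apply] at h2
    exact htx h2.symm
  refine ⟨t, htG, fun x hx => ?_⟩
  by_cases hxa : x = a
  · subst hxa; rw [Equiv.swap_apply_left]; exact hswap _ _ haS hbS (Or.inl ⟨rfl, rfl⟩)
  by_cases hxb : x = b
  · subst hxb; rw [Equiv.swap_apply_right]; exact hswap _ _ hbS haS (Or.inr ⟨rfl, rfl⟩)
  rw [Equiv.swap_apply_of_ne_of_ne hxa hxb]
  refine htΘ x ?_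
  simp only [hΘ, Finset.mem_insert, Finset.mem_erase, hS]
  by_cases hxc : x = c
  · exact Or.inl hxc
  · exact Or.inr (Or.inr ⟨hxb, hxa, hxc, hx⟩)

set_option maxHeartbeats 1000000 in
/-- With involutions fixing fewer than `k` points and degree at least `k + 4`, the degree differs from
`k` by an odd number. -/
theorem degree_parity {G : Subgroup (Equiv.Perm α)} {k : ℕ}
    (hG : MulAction.IsMultiplyPretransitive G α k) (hk : 4 ≤ k) (hn : k + 4 ≤ Fintype.card α)
    (hB : InvFixLE G (k - 1)) : Fintype.card α % 2 = (k + 1) % 2 := by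
  classical
  obtain ⟨Θ, -, hΘ⟩ := Finset.exists_subset_card_eq (s := (Finset.univ : Finset α)) (n := k - 4)
    (by rw [Finset.card_univ]; omega)
  let β := {x : α // x ∉ Θ}
  have hβcard : Fintype.card β = Fintype.card α - (k - 4) := by
    rw [Fintype.card_subtype_compl, Fintype.card_coe, hΘ]
  let H := fixIn G Θ
  have hHfwd : ∀ g ∈ H, ∀ x, x ∉ Θ → g x ∉ Θ := fun g hg x hx h => by
    have h1 := (mem_fixIn.1 hg).2 _ h
    exact hx (g.injective h1 ▸ h)
  have hHiff : ∀ g : H, ∀ x, (g : Equiv.Perm α) x ∉ Θ ↔ x ∉ Θ := fun g x =>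
    ⟨fun h hx => h (by rw [(mem_fixIn.1 g.2).2 x hx]; exact hx), hHfwd g g.2 x⟩
  let r : H →* Equiv.Perm β :=
    { toFun := fun g => Equiv.Perm.subtypePerm (g : Equiv.Perm α) (hHiff g)
      map_one' := by ext x; rfl
      map_mul' := fun g h => by ext x; rfl }
  have h4 : MulAction.IsMultiplyPretransitive r.range β 4 := by
    refine ⟨fun x y => ?_⟩
    let ymap : α → α := fun c => if c ∈ Θ then c else
      Function.extend (fun i => (x i : α)) (fun i => (y i : α)) id c
    have hxinj : Function.Injective fun i => (x i : α) := Subtype.val_injective.comp x.injective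
    have hymap : ∀ i, ymap (x i) = y i := fun i => by
      simp only [ymap, if_neg (x i).2]
      exact hxinj.extend_apply _ _ i
    obtain ⟨g, hg, hgf⟩ := ktrans_exists_finset hG (by omega)
      (Θ ∪ Finset.univ.image fun i => (x i : α))
      (by
        have h1 := Finset.card_union_le Θ (Finset.univ.image fun i => (x i : α))
        have h2 : (Finset.univ.image fun i => (x i : α)).card ≤ (Finset.univ : Finset (Fin 4)).card :=
          Finset.card_image_le
        rw [Finset.card_univ, Fintype.card_fin] at h2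
        omega)
      ymap (by
        intro a ha b hb h
        simp only [Finset.coe_union, Set.mem_union, Finset.mem_coe, Finset.mem_image, Finset.mem_univ,
          true_and] at ha hb
        have hΘy : ∀ c ∈ Θ, ymap c = c := fun c hc => if_pos hc
        rcases ha with ha | ⟨i, rfl⟩ <;> rcases hb with hb | ⟨j, rfl⟩
        · rwa [hΘy a ha, hΘy b hb] at h
        · rw [hΘy a ha, hymap] at h
          exact absurd (h ▸ ha) (y j).2
        · rw [hymap, hΘy b hb] at h
          exact absurd (h ▸ hb) (y i).2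
        · rw [hymap, hymap] at h
          rw [y.injective (Subtype.ext h)])
    have hgH : g ∈ H := mem_fixIn.2 ⟨hg, fun c hc => by
      rw [hgf c (Finset.mem_union_left _ hc)]; exact if_pos hc⟩
    refine ⟨⟨r ⟨g, hgH⟩, ⟨_, rfl⟩⟩, Function.Embedding.ext fun i => Subtype.ext ?_⟩
    show g (x i : α) = y i
    rw [hgf _ (Finset.mem_union_right _ (Finset.mem_image_of_mem _ (Finset.mem_univ i))), hymap]
  have hB' : InvFixLE r.range 3 := by
    rintro _ ⟨⟨g, hgH⟩, rfl⟩ h2 h1
    obtain ⟨hg, hgΘ⟩ := mem_fixIn.1 hgH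
    have hg2 : g * g = 1 := Equiv.ext fun c => by
      by_cases hc : c ∈ Θ
      · rw [Equiv.Perm.mul_apply, hgΘ c hc, hgΘ c hc, Equiv.Perm.one_apply]
      · exact congrArg Subtype.val (DFunLike.congr_fun h2 (⟨c, hc⟩ : β))
    have hg1 : g ≠ 1 := fun h => h1 (Equiv.ext fun c => Subtype.ext (DFunLike.congr_fun h (c : α)))
    have h3 : Θ ∪ (fixFinset (r ⟨g, hgH⟩)).image Subtype.val ⊆ fixFinset g := by
      intro c hc
      rw [mem_fixFinset]
      rcases Finset.mem_union.1 hc with hc | hc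
      · exact hgΘ c hc
      · obtain ⟨d, hd, rfl⟩ := Finset.mem_image.1 hc
        exact congrArg Subtype.val (mem_fixFinset.1 hd)
    have h5 := (Finset.card_le_card h3).trans (hB g hg hg2 hg1)
    rw [Finset.card_union_of_disjoint (Finset.disjoint_left.2 fun c hc hc' => by
      obtain ⟨d, -, rfl⟩ := Finset.mem_image.1 hc'
      exact d.2 hc), Finset.card_image_of_injective _ Subtype.val_injective, hΘ] at h5
    omega
  obtain ⟨p⟩ : Nonempty (Fin 4 ↪ β) := Function.Embedding.nonempty_of_card_le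
    (by rw [Fintype.card_fin]; omega)
  have h := Nat.odd_iff.1 (four_trans_inv h4 hB' (by omega) p).1
  omega

set_option maxHeartbeats 1000000 in
/-- With involutions fixing fewer than `k` points, the point fixed by the lift of a transposition is
fixed by lifts of all transpositions. -/
theorem special_point {G : Subgroup (Equiv.Perm α)} {k : ℕ}
    (hG : MulAction.IsMultiplyPretransitive G α k) (hk : 4 ≤ k) (hn : k + 4 ≤ Fintype.card α)
    (hB : InvFixLE G (k - 1)) (S : Finset α) (hS : S.card = k) {a b : α} (ha : a ∈ S) (hb : b ∈ S)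
    (hab : a ≠ b) {s : Equiv.Perm α} (hs : s ∈ G) (hs2 : s * s = 1)
    (hsS : ∀ x ∈ S, s x = Equiv.swap a b x) {c : α} (hc : c ∉ S) (hsc : s c = c) :
    ∀ a' ∈ S, ∀ b' ∈ S, a' ≠ b' → ∃ g ∈ G, g c = c ∧ ∀ x ∈ S, g x = Equiv.swap a' b' x := by
  classical
  have hkn : k ≤ Fintype.card α := by omega
  have hswapS : ∀ u ∈ S, ∀ v ∈ S, ∀ x ∈ S, Equiv.swap u v x ∈ S := fun u hu v hv x hx => by
    rw [Equiv.swap_apply_def]; split_ifs <;> assumption
  -- the fixed point outside is unique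
  have huniq : ∀ (u v : α) (t : Equiv.Perm α), u ∈ S → v ∈ S → u ≠ v → t ∈ G → t * t = 1 →
      (∀ x ∈ S, t x = Equiv.swap u v x) → ∀ d e, d ∉ S → e ∉ S → t d = d → t e = e → d = e := by
    intro u v t hu hv huv ht ht2 htS d e hd he htd hte
    by_contra hne
    have ht1 : t ≠ 1 := fun h => huv (by
      have := htS u hu; rw [h, Equiv.swap_apply_left] at this; exact this)
    have hsub : insert d (insert e ((S.erase u).erase v)) ⊆ fixFinset t := by
      intro x hx
      simp only [Finset.mem_insert, Finset.mem_erase] at hx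
      rw [mem_fixFinset]
      rcases hx with rfl | rfl | ⟨h1, h2, h3⟩
      exacts [htd, hte, by rw [htS x h3, Equiv.swap_apply_of_ne_of_ne h2 h1]]
    have h5 := (Finset.card_le_card hsub).trans (hB t ht ht2 ht1)
    rw [Finset.card_insert_of_notMem, Finset.card_insert_of_notMem,
      Finset.card_erase_of_mem (Finset.mem_erase.2 ⟨Ne.symm huv, hv⟩), Finset.card_erase_of_mem hu, hS] at h5
    · omega
    · exact fun h => he (Finset.mem_of_mem_erase (Finset.mem_of_mem_erase h))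
    · simp only [Finset.mem_insert, not_or]
      exact ⟨hne, fun h => hd (Finset.mem_of_mem_erase (Finset.mem_of_mem_erase h))⟩
  by_cases hk4 : k = 4
  · subst hk4
    let e := S.equivFinOfCardEq hS
    let p : Fin 4 ↪ α := e.symm.toEmbedding.trans (Function.Embedding.subtype _)
    have hpm : ∀ i, p i ∈ S := fun i => (e.symm i).2
    have hps : ∀ x ∈ S, ∃ i, p i = x := fun x hx => ⟨e ⟨x, hx⟩, by simp [p]⟩
    obtain ⟨-, a₀, ha₀, hlift⟩ := four_trans_inv hG (show InvFixLE G 3 from hB) (by omega) p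
    have hlift' : ∀ u ∈ S, ∀ v ∈ S, ∃ g ∈ G, g a₀ = a₀ ∧ ∀ x ∈ S, g x = Equiv.swap u v x := by
      intro u hu v hv
      obtain ⟨i, rfl⟩ := hps u hu
      obtain ⟨j, rfl⟩ := hps v hv
      obtain ⟨g, hg, hgp, hga⟩ := hlift (Equiv.swap i j)
      refine ⟨g, hg, hga, fun x hx => ?_⟩
      obtain ⟨l, rfl⟩ := hps x hx
      rw [hgp, p.injective.swap_apply]
    obtain ⟨g₀, hg₀, hg₀a, hg₀S⟩ := hlift' a ha b hb
    obtain ⟨m, -, hmS, hm2⟩ := hB.exists_pow_involution (s := S) (by omega) (hswapS a ha b hb)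
      (fun x _ => Equiv.swap_apply_self a b x) hg₀ hg₀S
    obtain ⟨κ, hκ, hκS, hκe, -⟩ := hB.conj_of_agree (G.pow_mem hg₀ m) hs hm2 hs2 (s := S) (by omega)
      (fun x hx => by rw [hmS x hx, hsS x hx])
    have hκi : ∀ x ∈ S, κ⁻¹ x = x := fun x hx => by rw [Equiv.Perm.inv_eq_iff_eq, hκS x hx]
    have ha₀S : a₀ ∉ S := fun h => by
      obtain ⟨i, hi⟩ := hps _ h
      exact ha₀ i hi
    have hκa : κ a₀ ∉ S := fun h => by
      have h1 := hκi _ h
      rw [Equiv.Perm.inv_def, Equiv.symm_apply_apply] at h1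
      exact ha₀S (h1 ▸ h)
    have hcκ : c = κ a₀ := huniq a b s ha hb hab hs hs2 hsS c (κ a₀) hc hκa hsc (by
      rw [← hκe, Equiv.Perm.mul_apply, Equiv.Perm.mul_apply, Equiv.Perm.inv_def, Equiv.symm_apply_apply,
        Equiv.Perm.pow_apply_eq_self_of_apply_eq_self hg₀a])
    intro a' ha' b' hb' _
    obtain ⟨g, hg, hga, hgS⟩ := hlift' a' ha' b' hb'
    refine ⟨κ * g * κ⁻¹, G.mul_mem (G.mul_mem hκ hg) (G.inv_mem hκ), ?_, fun x hx => ?_⟩
    · rw [hcκ, Equiv.Perm.mul_apply, Equiv.Perm.mul_apply, Equiv.Perm.inv_def, Equiv.symm_apply_apply, hga]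
    · rw [Equiv.Perm.mul_apply, Equiv.Perm.mul_apply, hκi x hx, hgS x hx,
        hκS _ (hswapS a' ha' b' hb' x hx)]
  -- `k ≥ 5`
  have hstep : ∀ u v u' v' : α, u ∈ S → v ∈ S → u' ∈ S → v' ∈ S → u ≠ v → u' ≠ v' →
      u' ≠ u → u' ≠ v → v' ≠ u → v' ≠ v →
      (∃ t ∈ G, t * t = 1 ∧ t c = c ∧ ∀ x ∈ S, t x = Equiv.swap u v x) →
      ∃ t ∈ G, t * t = 1 ∧ t c = c ∧ ∀ x ∈ S, t x = Equiv.swap u' v' x := by
    rintro u v u' v' hu hv hu' hv' huv huv' n1 n2 n3 n4 ⟨t, ht, ht2, htc, htS⟩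
    obtain ⟨w, hw, hw2, hwt, hwS⟩ := hB.exists_involution_lift hG hkn ht ht2 (s := S) (by omega) hS.le
      (fun x hx => by rw [htS x hx]; exact hswapS u hu v hv x hx) (hswapS u' hu' v' hv')
      (fun x hx => by
        rw [htS x hx, htS _ (hswapS u' hu' v' hv' x hx)]
        simp only [Equiv.swap_apply_def]
        split_ifs <;> simp_all)
      (fun x _ => Equiv.swap_apply_self u' v' x)
    refine ⟨w, hw, hw2, ?_, hwS⟩
    have hwcS : w c ∉ S := fun h => by
      have h1 := hwS _ h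
      rw [← Equiv.Perm.mul_apply, hw2, Equiv.Perm.one_apply] at h1
      exact hc (h1 ▸ hswapS u' hu' v' hv' _ h)
    refine (huniq u v t hu hv huv ht ht2 htS c (w c) hc hwcS htc ?_).symm
    have h2 := DFunLike.congr_fun hwt.eq c
    rw [Equiv.Perm.mul_apply, Equiv.Perm.mul_apply, htc] at h2
    exact h2.symm
  intro a' ha' b' hb' hab'
  obtain ⟨t, ht, -, htc, htS⟩ : ∃ t ∈ G, t * t = 1 ∧ t c = c ∧ ∀ x ∈ S, t x = Equiv.swap a' b' x := by
    by_cases hsame : (a' = a ∧ b' = b) ∨ (a' = b ∧ b' = a)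
    · refine ⟨s, hs, hs2, hsc, fun x hx => ?_⟩
      rcases hsame with ⟨rfl, rfl⟩ | ⟨rfl, rfl⟩
      · exact hsS x hx
      · rw [hsS x hx, Equiv.swap_comm]
    by_cases hdis : a' ≠ a ∧ a' ≠ b ∧ b' ≠ a ∧ b' ≠ b
    · exact hstep a b a' b' ha hb ha' hb' hab hab' hdis.1 hdis.2.1 hdis.2.2.1 hdis.2.2.2
        ⟨s, hs, hs2, hsc, hsS⟩
    have h3 : (({a, b} : Finset α) ∪ {a', b'}).card ≤ 3 := by
      have h1 := Finset.card_union_add_card_inter ({a, b} : Finset α) {a', b'}
      rw [Finset.card_pair hab, Finset.card_pair hab'] at h1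
      have h2 : 0 < (({a, b} : Finset α) ∩ {a', b'}).card := by
        rw [Finset.card_pos]
        simp only [not_and_or, not_not] at hdis
        rcases hdis with h | h | h | h
        · exact ⟨a', by simp [h]⟩
        · exact ⟨a', by simp [h]⟩
        · exact ⟨b', by simp [h]⟩
        · exact ⟨b', by simp [h]⟩
      omega
    obtain ⟨u, hu, v, hv, huv⟩ := Finset.one_lt_card.1
      (show 1 < (S \ (({a, b} : Finset α) ∪ {a', b'})).card by
        have := Finset.le_card_sdiff (({a, b} : Finset α) ∪ {a', b'}) S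
        omega)
    simp only [Finset.mem_sdiff, Finset.mem_union, Finset.mem_insert, Finset.mem_singleton, not_or] at hu hv
    obtain ⟨hu, ⟨hua, hub⟩, hua', hub'⟩ := hu
    obtain ⟨hv, ⟨hva, hvb⟩, hva', hvb'⟩ := hv
    exact hstep u v a' b' hu hv ha' hb' huv hab' (Ne.symm hua') (Ne.symm hva') (Ne.symm hub') (Ne.symm hvb')
      (hstep a b u v ha hb hu hv hab huv hua hub hva hvb ⟨s, hs, hs2, hsc, hsS⟩)
  exact ⟨t, ht, htc, htS⟩

set_option maxHeartbeats 1000000 in
/-- With involutions fixing fewer than `k` points, some `(k + 1)`-set carries the symmetric group. -/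
theorem sym_subset_small {G : Subgroup (Equiv.Perm α)} {k : ℕ}
    (hG : MulAction.IsMultiplyPretransitive G α k) (hk : 4 ≤ k) (hn : k + 4 ≤ Fintype.card α)
    (hB : InvFixLE G (k - 1)) :
    ∃ Δ : Finset α, Δ.card = k + 1 ∧ ∀ σ : Equiv.Perm ↥Δ, ∃ g ∈ G, ∀ x : ↥Δ, g (x : α) = σ x := by
  classical
  have hkn : k ≤ Fintype.card α := by omega
  have hpar := degree_parity hG hk hn hB
  obtain ⟨S, -, hS⟩ := Finset.exists_subset_card_eq (s := (Finset.univ : Finset α)) (n := k)
    (by rw [Finset.card_univ]; omega)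
  obtain ⟨a, ha, b, hb, hab⟩ := Finset.one_lt_card.1 (show 1 < S.card by omega)
  have hswapS : ∀ T : Finset α, ∀ u ∈ T, ∀ v ∈ T, ∀ x ∈ T, Equiv.swap u v x ∈ T := fun T u hu v hv x hx => by
    rw [Equiv.swap_apply_def]; split_ifs <;> assumption
  obtain ⟨s, hs, hs2, -, hsS⟩ := hB.exists_involution_lift hG hkn G.one_mem (one_mul _) (s := S)
    (by omega) hS.le (fun x hx => hx) (hswapS S a ha b hb) (fun x _ => rfl)
    (fun x _ => Equiv.swap_apply_self a b x)
  -- the further fixed point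
  have hs1 : s ≠ 1 := fun h => hab (by
    have := hsS a ha; rw [h, Equiv.swap_apply_left] at this; exact this)
  obtain ⟨c, hcfix, hcS⟩ : ∃ c ∈ fixFinset s, c ∉ S := by
    by_contra hcon
    push Not at hcon
    have h1 : fixFinset s = (S.erase a).erase b := by
      ext x
      simp only [mem_fixFinset, Finset.mem_erase]
      constructor
      · intro hx
        have hxS := hcon x (mem_fixFinset.2 hx)
        refine ⟨?_, ?_, hxS⟩
        · rintro rfl
          rw [hsS _ hxS, Equiv.swap_apply_right] at hx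
          exact hab hx
        · rintro rfl
          rw [hsS _ hxS, Equiv.swap_apply_left] at hx
          exact hab hx.symm
      · rintro ⟨h1, h2, h3⟩
        rw [hsS x h3, Equiv.swap_apply_of_ne_of_ne h2 h1]
    have h2 := involution_fix_parity hs2
    rw [h1, Finset.card_erase_of_mem (Finset.mem_erase.2 ⟨Ne.symm hab, hb⟩), Finset.card_erase_of_mem ha, hS] at h2
    omega
  refine ⟨insert c S, by rw [Finset.card_insert_of_notMem hcS, hS], lift_of_swaps ?_⟩
  have hsp := special_point hG hk hn hB S hS ha hb hab hs hs2 hsS hcS (mem_fixFinset.1 hcfix)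
  have hin : ∀ u ∈ S, ∀ v ∈ S, u ≠ v → SwapLift G (insert c S) u v := by
    intro u hu v hv huv
    obtain ⟨g, hg, hgc, hgS⟩ := hsp u hu v hv huv
    refine ⟨g, hg, fun x hx => ?_⟩
    rcases Finset.mem_insert.1 hx with rfl | hx
    · rw [hgc, Equiv.swap_apply_of_ne_of_ne (fun e => hcS (by rw [e]; exact hu)) (fun e => hcS (by rw [e]; exact hv))]
    · exact hgS x hx
  -- transpositions moving `c`
  have hout : ∀ v ∈ S, SwapLift G (insert c S) c v := by
    intro v hv
    obtain ⟨u, hu, w, hw, huw⟩ := Finset.one_lt_card.1 (show 1 < (S.erase v).card by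
      rw [Finset.card_erase_of_mem hv]; omega)
    obtain ⟨d, hd⟩ : (((S.erase v).erase u).erase w).Nonempty := Finset.card_pos.1 (by
      rw [Finset.card_erase_of_mem (Finset.mem_erase.2 ⟨Ne.symm huw, hw⟩), Finset.card_erase_of_mem hu,
        Finset.card_erase_of_mem hv]
      omega)
    simp only [Finset.mem_erase] at hd hu hw
    obtain ⟨hdw, hdu, hdv, hdS⟩ := hd
    obtain ⟨g, hg, hgc, hgS⟩ := hsp u hu.2 w hw.2 huw
    obtain ⟨m, -, hmS, hm2⟩ := hB.exists_pow_involution (s := S) (by omega) (hswapS S u hu.2 w hw.2)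
      (fun x _ => Equiv.swap_apply_self u w x) hg hgS
    have hmc := Equiv.Perm.pow_apply_eq_self_of_apply_eq_self hgc m
    set S' := insert c (S.erase d) with hS'
    have hcd : c ≠ d := fun e => hcS (e ▸ hdS)
    have hdS' : d ∉ S' := by simp [hS', Ne.symm hcd]
    have hS'card : S'.card = k := by
      rw [hS', Finset.card_insert_of_notMem (fun h => hcS (Finset.mem_of_mem_erase h)),
        Finset.card_erase_of_mem hdS, hS]
      omega
    have hu' : u ∈ S' := Finset.mem_insert_of_mem (Finset.mem_erase.2 ⟨Ne.symm hdu, hu.2⟩)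
    have hw' : w ∈ S' := Finset.mem_insert_of_mem (Finset.mem_erase.2 ⟨Ne.symm hdw, hw.2⟩)
    obtain ⟨t, ht, htd, htS⟩ := special_point hG hk hn hB S' hS'card hu' hw' huw (G.pow_mem hg m) hm2
      (fun x hx => by
        rcases Finset.mem_insert.1 hx with rfl | hx
        · rw [hmc, Equiv.swap_apply_of_ne_of_ne (fun e => hcS (by rw [e]; exact hu.2)) (fun e => hcS (by rw [e]; exact hw.2))]
        · exact hmS x (Finset.mem_of_mem_erase hx))
      hdS' (by rw [hmS d hdS, Equiv.swap_apply_of_ne_of_ne hdu hdw])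
      c (Finset.mem_insert_self _ _) v (Finset.mem_insert_of_mem (Finset.mem_erase.2 ⟨Ne.symm hdv, hv⟩))
      (fun e => hcS (e ▸ hv))
    refine ⟨t, ht, fun x hx => ?_⟩
    by_cases hxd : x = d
    · subst hxd
      rw [htd, Equiv.swap_apply_of_ne_of_ne (Ne.symm hcd) hdv]
    · refine htS x ?_
      rcases Finset.mem_insert.1 hx with rfl | hx
      · exact Finset.mem_insert_self _ _
      · exact Finset.mem_insert_of_mem (Finset.mem_erase.2 ⟨hxd, hx⟩)
  intro u hu v hv huv
  rcases Finset.mem_insert.1 hu with hu0 | hu0 <;> rcases Finset.mem_insert.1 hv with hv0 | hv0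
  · exact absurd (hu0.trans hv0.symm) huv
  · exact hu0 ▸ hout v hv0
  · obtain ⟨g, hg, hgS⟩ := hout u hu0
    rw [hv0]
    exact ⟨g, hg, fun x hx => by rw [hgS x hx, Equiv.swap_comm]⟩
  · exact hin u hu0 v hv0 huv

set_option maxHeartbeats 1000000 in
open scoped Classical in
/-- The normaliser of a maximal 2-subgroup fixing more than `k` points is `k`-transitive on them. -/
theorem normalizer_ktrans {G : Subgroup (Equiv.Perm α)} {k : ℕ}
    (hG : MulAction.IsMultiplyPretransitive G α k) (hk : 2 ≤ k) (hkn : k < Fintype.card α)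
    (Q : Subgroup (Equiv.Perm α)) (hQG : Q ≤ G) (hQ2 : IsPGroup 2 Q) (F : Finset α)
    (hF : ∀ x, x ∈ F ↔ ∀ q ∈ Q, q x = x) (hFk : k < F.card)
    (hmax : ∀ Q' : Subgroup (Equiv.Perm α), Q' ≤ G → IsPGroup 2 Q' → Q < Q' →
      (Finset.univ.filter fun x => ∀ q ∈ Q', q x = x).card ≤ k)
    (x y : Fin k ↪ α) (hx : ∀ i, x i ∈ F) (hy : ∀ i, y i ∈ F) :
    ∃ g ∈ G, g ∈ Subgroup.normalizer (Q : Set (Equiv.Perm α)) ∧ ∀ i, g (x i) = y i := by
  classical
  haveI := Fact.mk Nat.prime_two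
  set N := G ⊓ Subgroup.normalizer (Q : Set (Equiv.Perm α)) with hN
  have hNF : ∀ g ∈ N, ∀ c ∈ F, g c ∈ F := fun g hg c hc => (hF _).2 fun q hq => by
    have hq' : g⁻¹ * q * g ∈ Q := by
      have h1 := (Subgroup.mem_normalizer_iff.1 (Subgroup.inv_mem _ hg.2) q).1 hq
      simpa using h1
    have h2 := (hF c).1 hc _ hq'
    rw [Equiv.Perm.mul_apply, Equiv.Perm.mul_apply, Equiv.Perm.inv_eq_iff_eq] at h2
    exact h2
  by_cases hgood : ∀ S ⊆ F, S.card = k →
      ∃ P : Subgroup (Equiv.Perm α), P ≤ fixIn G S ∧ IsPGroup 2 P ∧ Q < P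
  · -- Gleason
    have hu : ∀ S ⊆ F, S.card = k → ∃ g ∈ N, (∃ i : ℕ, g ^ 2 ^ i = 1) ∧ (∀ c ∈ S, g c = c) ∧
        ∀ c ∈ F, g c = c → c ∈ S := by
      intro S hSF hScard
      obtain ⟨P, hPK, hP2, hQP⟩ := hgood S hSF hScard
      haveI : Group.IsNilpotent P := hP2.isNilpotent
      have hlt := (Group.normalizerCondition_of_isNilpotent (G := P)) (Q.subgroupOf P)
        (lt_top_iff_ne_top.2 fun h => hQP.not_ge (Subgroup.subgroupOf_eq_top.1 h))
      obtain ⟨⟨g, hgP⟩, hgn, hgQ⟩ := SetLike.exists_of_lt hlt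
      rw [Subgroup.mem_subgroupOf] at hgQ
      have hgN : g ∈ Subgroup.normalizer (Q : Set (Equiv.Perm α)) := by
        rw [Subgroup.mem_normalizer_iff]
        intro q
        constructor
        · intro hq
          exact Subgroup.mem_subgroupOf.1 ((Subgroup.mem_normalizer_iff.1 hgn ⟨q, hQP.le hq⟩).1
            (Subgroup.mem_subgroupOf.2 hq))
        · intro hq
          have hqP : q ∈ P := by
            have := P.mul_mem (P.mul_mem (P.inv_mem hgP) (hQP.le hq)) hgP
            rwa [show g⁻¹ * (g * q * g⁻¹) * g = q by group] at this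
          exact Subgroup.mem_subgroupOf.1 ((Subgroup.mem_normalizer_iff.1 hgn ⟨q, hqP⟩).2
            (Subgroup.mem_subgroupOf.2 hq))
      refine ⟨g, ⟨(mem_fixIn.1 (hPK hgP)).1, hgN⟩, ?_, (mem_fixIn.1 (hPK hgP)).2, ?_⟩
      · obtain ⟨i, hi⟩ := hP2 ⟨g, hgP⟩
        exact ⟨i, congrArg Subtype.val hi⟩
      · let Q' := Q ⊔ Subgroup.zpowers g
        have hQ'P : Q' ≤ P := sup_le hQP.le (Subgroup.zpowers_le.2 hgP)
        have hQQ' : Q < Q' := lt_of_le_of_ne le_sup_left fun h =>
          hgQ (h ▸ Subgroup.mem_sup_right (Subgroup.mem_zpowers g))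
        have hcard := hmax Q' (hQ'P.trans (hPK.trans inf_le_left)) (hP2.to_le hQ'P) hQQ'
        intro c hc hgc
        by_contra hcS
        have hsub : insert c S ⊆ Finset.univ.filter fun x => ∀ q ∈ Q', q x = x := by
          intro d hd
          refine Finset.mem_filter.2 ⟨Finset.mem_univ _, ?_⟩
          have hd' : d ∈ F ∧ g d = d := by
            rcases Finset.mem_insert.1 hd with rfl | hd
            · exact ⟨hc, hgc⟩
            · exact ⟨hSF hd, (mem_fixIn.1 (hPK hgP)).2 d hd⟩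
          have hle : Q' ≤ MulAction.stabilizer (Equiv.Perm α) d :=
            sup_le (fun q hq => (hF d).1 hd'.1 q hq) (Subgroup.zpowers_le.2 hd'.2)
          exact fun q hq => hle hq
        have := Finset.card_le_card hsub
        rw [Finset.card_insert_of_notMem hcS] at this
        omega
    have htr : ∀ Θ ⊆ F, Θ.card < k → ∀ c ∈ F, c ∉ Θ → ∀ d ∈ F, d ∉ Θ →
        ∃ g ∈ N, (∀ t ∈ Θ, g t = t) ∧ g c = d := by
      intro Θ hΘF hΘk c hc hcΘ d hd hdΘ
      obtain ⟨Θ', hΘΘ', hΘ'F, hΘ'card⟩ := Finset.exists_subsuperset_card_eq (n := k - 1)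
        (show Θ ⊆ (F.erase c).erase d from fun t ht => Finset.mem_erase.2
          ⟨fun e => hdΘ (e ▸ ht), Finset.mem_erase.2 ⟨fun e => hcΘ (e ▸ ht), hΘF ht⟩⟩)
        (by omega)
        (by
          have h1 := Finset.pred_card_le_card_erase (s := F) (a := c)
          have h2 := Finset.pred_card_le_card_erase (s := F.erase c) (a := d)
          omega)
      have hΘ'F' : Θ' ⊆ F := fun t ht => Finset.mem_of_mem_erase (Finset.mem_of_mem_erase (hΘ'F ht))
      have hnotc : c ∉ Θ' := fun h => (Finset.mem_erase.1 (Finset.mem_of_mem_erase (hΘ'F h))).1 rfl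
      have hnotd : d ∉ Θ' := fun h => (Finset.mem_erase.1 (hΘ'F h)).1 rfl
      obtain ⟨g, hg, hgc⟩ := gleason_trans 2 (N ⊓ fixingSubgroup (Equiv.Perm α) (Θ' : Set α)) (F \ Θ')
        (fun h hh t ht => by
          obtain ⟨hhN, hhΘ⟩ := hh
          simp only [Finset.mem_sdiff] at ht ⊢
          refine ⟨hNF h hhN t ht.1, fun hm => ?_⟩
          have h1 : h (h t) = h t := (mem_fixingSubgroup_iff _).1 hhΘ _ hm
          exact ht.2 (h.injective h1 ▸ hm))
        (fun t ht => by
          simp only [Finset.mem_sdiff] at ht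
          obtain ⟨g, hg, ⟨i, hi⟩, hgS, huniq⟩ := hu (insert t Θ')
            (Finset.insert_subset ht.1 hΘ'F')
            (by rw [Finset.card_insert_of_notMem ht.2, hΘ'card]; omega)
          refine ⟨g, ⟨hg, (mem_fixingSubgroup_iff _).2 fun u hu => hgS u (Finset.mem_insert_of_mem hu)⟩,
            i, hi, hgS t (Finset.mem_insert_self _ _), fun u hu hgu => ?_⟩
          obtain ⟨hu1, hu2⟩ := Finset.mem_sdiff.1 hu
          exact (Finset.mem_insert.1 (huniq u hu1 hgu)).resolve_right hu2)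
        c (Finset.mem_sdiff.2 ⟨hc, hnotc⟩) d (Finset.mem_sdiff.2 ⟨hd, hnotd⟩)
      exact ⟨g, hg.1, fun t ht => (mem_fixingSubgroup_iff _).1 hg.2 t (hΘΘ' ht), hgc⟩
    suffices h : ∀ m ≤ k, ∃ g ∈ N, ∀ i : Fin k, (i : ℕ) < m → g (x i) = y i by
      obtain ⟨g, hg, hgi⟩ := h k le_rfl
      exact ⟨g, hg.1, hg.2, fun i => hgi i i.2⟩
    intro m
    induction m with
    | zero => exact fun _ => ⟨1, N.one_mem, fun i hi => absurd hi (Nat.not_lt_zero _)⟩
    | succ m ih =>
      intro hm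
      obtain ⟨g, hg, hgi⟩ := ih (by omega)
      let i₀ : Fin k := ⟨m, by omega⟩
      let Θ := (Finset.univ.filter fun i : Fin k => (i : ℕ) < m).image y
      have hΘmem : ∀ t, t ∈ Θ ↔ ∃ i : Fin k, (i : ℕ) < m ∧ y i = t := fun t => by simp [Θ]
      obtain ⟨t, htN, htΘ, hti⟩ := htr Θ (fun t ht => by
          obtain ⟨i, -, rfl⟩ := (hΘmem t).1 ht
          exact hy i)
        (lt_of_le_of_lt Finset.card_image_le (lt_of_lt_of_le (Finset.card_lt_card
          (Finset.filter_ssubset.2 ⟨i₀, Finset.mem_univ _, lt_irrefl m⟩)) (by simp)))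
        (g (x i₀)) (hNF g hg _ (hx i₀)) (fun h => by
          obtain ⟨i, hi, he⟩ := (hΘmem _).1 h
          rw [← hgi i hi] at he
          exact absurd (x.injective (g.injective he)) (fun e => (Nat.ne_of_lt hi) (congrArg Fin.val e)))
        (y i₀) (hy i₀) (fun h => by
          obtain ⟨i, hi, he⟩ := (hΘmem _).1 h
          exact (Nat.ne_of_lt hi) (congrArg Fin.val (y.injective he)))
      refine ⟨t * g, N.mul_mem htN hg, fun i hi => ?_⟩
      rcases Nat.lt_succ_iff_lt_or_eq.1 hi with h | h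
      · rw [Equiv.Perm.mul_apply, hgi i h, htΘ _ ((hΘmem _).2 ⟨i, h, rfl⟩)]
      · rw [show i = i₀ from Fin.ext h, Equiv.Perm.mul_apply, hti]
  -- Witt
  push Not at hgood
  obtain ⟨S₀, hS₀F, hS₀card, hS₀⟩ := hgood
  obtain ⟨g, hg, hgx⟩ := ktrans_exists hG hkn.le le_rfl x y
  set Sy := Finset.univ.image y with hSy
  have hSycard : Sy.card = k := by
    rw [hSy, Finset.card_image_of_injective _ y.injective, Finset.card_univ, Fintype.card_fin]
  have hQfix : ∀ S ⊆ F, Q ≤ fixIn G S := fun S hS q hq =>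
    mem_fixIn.2 ⟨hQG hq, fun c hc => (hF c).1 (hS hc) q hq⟩
  set K := fixIn G Sy with hK
  have hQK : Q ≤ K := hQfix _ fun c hc => by
    obtain ⟨i, -, rfl⟩ := Finset.mem_image.1 hc
    exact hy i
  have hcardK : Nat.card (fixIn G S₀) = Nat.card K := by
    let e := Finset.equivOfCardEq (hS₀card.trans hSycard.symm)
    obtain ⟨h, hh, hhf⟩ := ktrans_exists_finset hG hkn.le S₀ hS₀card.le
      (fun c => if hc : c ∈ S₀ then (e ⟨c, hc⟩ : α) else c) (fun u hu v hv huv => by
        simp only [dif_pos (Finset.mem_coe.1 hu), dif_pos (Finset.mem_coe.1 hv)] at huv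
        exact congrArg Subtype.val (e.injective (Subtype.ext huv)))
    refine fixIn_conj hh (Finset.eq_of_subset_of_card_le (fun d hd => ?_) ?_)
    · obtain ⟨c, hc, rfl⟩ := Finset.mem_image.1 hd
      rw [hhf c hc, dif_pos hc]
      exact (e ⟨c, hc⟩).2
    · rw [Finset.card_image_of_injective _ h.injective, hS₀card, hSycard]
  have hQcard : Nat.card Q = 2 ^ (Nat.card K).factorization 2 := by
    obtain ⟨P, hP⟩ := ((hQ2.of_equiv (Subgroup.subgroupOfEquivOfLe (hQfix S₀ hS₀F)).symm)).exists_le_sylow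
    have hle : Q ≤ (P : Subgroup (fixIn G S₀)).map (fixIn G S₀).subtype := fun q hq =>
      ⟨⟨q, hQfix S₀ hS₀F hq⟩, hP (Subgroup.mem_subgroupOf.2 hq), rfl⟩
    have heq : Q = (P : Subgroup (fixIn G S₀)).map (fixIn G S₀).subtype := by
      rcases eq_or_lt_of_le hle with h | h
      · exact h
      · exact absurd h (hS₀ _ (Subgroup.map_subtype_le _) (P.isPGroup'.map _))
    rw [heq, Subgroup.card_map_of_injective (fixIn G S₀).subtype_injective, P.card_eq_multiplicity, hcardK]
  let Qg := Q.map (MulAut.conj g).toMonoidHom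
  have hQgK : Qg ≤ K := by
    rintro _ ⟨q, hq, rfl⟩
    refine mem_fixIn.2 ⟨G.mul_mem (G.mul_mem hg (hQG hq)) (G.inv_mem hg), fun c hc => ?_⟩
    obtain ⟨i, -, rfl⟩ := Finset.mem_image.1 hc
    show (g * q * g⁻¹) (y i) = y i
    rw [← hgx i, Equiv.Perm.mul_apply, Equiv.Perm.mul_apply, Equiv.Perm.inv_def, Equiv.symm_apply_apply,
      (hF _).1 (hx i) q hq]
  have hQgcard : Nat.card Qg = Nat.card Q :=
    Subgroup.card_map_of_injective (MulAut.conj g).injective
  let P₁ : Sylow 2 K := Sylow.ofCard (Q.subgroupOf K)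
    (by rw [Nat.card_congr (Subgroup.subgroupOfEquivOfLe hQK).toEquiv, hQcard])
  let P₂ : Sylow 2 K := Sylow.ofCard (Qg.subgroupOf K)
    (by rw [Nat.card_congr (Subgroup.subgroupOfEquivOfLe hQgK).toEquiv, hQgcard, hQcard])
  obtain ⟨⟨κ, hκ⟩, hκe⟩ := MulAction.exists_smul_eq K P₂ P₁
  obtain ⟨hκG, hκy⟩ := mem_fixIn.1 hκ
  refine ⟨κ * g, G.mul_mem hκG hg, ?_, fun i => by
    rw [Equiv.Perm.mul_apply, hgx i, hκy _ (Finset.mem_image_of_mem y (Finset.mem_univ i))]⟩
  have hfwd : ∀ q ∈ Q, κ * g * q * (κ * g)⁻¹ ∈ Q := by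
    intro q hq
    have h1 : g * q * g⁻¹ ∈ Qg := ⟨q, hq, rfl⟩
    have h2 : (MulAut.conj (⟨κ, hκ⟩ : K)) ⟨g * q * g⁻¹, hQgK h1⟩ ∈ (P₁ : Subgroup K) := by
      rw [← hκe, Sylow.coe_subgroup_smul]
      exact Subgroup.smul_mem_pointwise_smul _ _ _ (Subgroup.mem_subgroupOf.2 h1)
    have h3 : κ * (g * q * g⁻¹) * κ⁻¹ ∈ Q := Subgroup.mem_subgroupOf.1 h2
    rwa [show κ * g * q * (κ * g)⁻¹ = κ * (g * q * g⁻¹) * κ⁻¹ by group]
  have hsurj : Function.Surjective fun q : Q => (⟨_, hfwd q q.2⟩ : Q) :=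
    Finite.surjective_of_injective fun q q' h => by
      have h' : κ * g * q * (κ * g)⁻¹ = κ * g * q' * (κ * g)⁻¹ := congrArg Subtype.val h
      exact Subtype.ext (mul_left_cancel (mul_right_cancel h'))
  rw [Subgroup.mem_normalizer_iff]
  refine fun q => ⟨hfwd q, fun hq => ?_⟩
  obtain ⟨q', hq'⟩ := hsurj ⟨_, hq⟩
  have h' : κ * g * q' * (κ * g)⁻¹ = κ * g * q * (κ * g)⁻¹ := congrArg Subtype.val hq'
  rw [← mul_left_cancel (mul_right_cancel h')]
  exact q'.2

/-- A `k`-transitive group with `4 ≤ k < n` induces all even permutations on some `(k + 1)`-set. -/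
theorem exists_alt_subset (k : ℕ) (hk : 4 ≤ k) :
    ∀ (n : ℕ) (α : Type u) [Fintype α] [DecidableEq α], Fintype.card α = n → k < n →
      ∀ G : Subgroup (Equiv.Perm α), MulAction.IsMultiplyPretransitive G α k →
      ∃ Δ : Finset α, Δ.card = k + 1 ∧ ∀ σ : Equiv.Perm ↥Δ, σ ∈ alternatingGroup ↥Δ →
        ∃ g ∈ G, ∀ x : ↥Δ, g (x : α) = σ x := by
  intro n
  induction n using Nat.strong_induction_on with
  | _ n ih =>
  intro α _ _ hn hkn G hG
  classical
  subst hn
  by_cases hnear : Fintype.card α ≤ k + 3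
  · obtain ⟨Δ, -, hΔ⟩ := Finset.exists_subset_card_eq (s := (Finset.univ : Finset α)) (n := k + 1)
      (by rw [Finset.card_univ]; omega)
    refine ⟨Δ, hΔ, fun σ hσ => ⟨Equiv.Perm.ofSubtype σ, alternating_le_of_near hG hk hkn hnear ?_, fun x => ?_⟩⟩
    · rw [Equiv.Perm.mem_alternatingGroup, Equiv.Perm.sign_ofSubtype]
      exact Equiv.Perm.mem_alternatingGroup.1 hσ
    · exact Equiv.Perm.ofSubtype_apply_coe σ x
  haveI := Fact.mk Nat.prime_two
  let Fx : Subgroup (Equiv.Perm α) → Finset α := fun Q => Finset.univ.filter fun x => ∀ q ∈ Q, q x = x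
  let cand := {Q : Subgroup (Equiv.Perm α) // Q ≤ G ∧ IsPGroup 2 Q ∧ k < (Fx Q).card}
  haveI : Nonempty cand := ⟨⟨⊥, bot_le, IsPGroup.of_bot, by
    have : Fx ⊥ = Finset.univ := Finset.filter_true_of_mem fun x _ q hq => by
      rw [Subgroup.mem_bot.1 hq, Equiv.Perm.one_apply]
    rw [this, Finset.card_univ]; exact hkn⟩⟩
  obtain ⟨⟨Q, hQG, hQ2, hQk⟩, hmax⟩ := Finite.exists_max fun Q : cand => Nat.card Q.1
  have hmax' : ∀ Q' : Subgroup (Equiv.Perm α), Q' ≤ G → IsPGroup 2 Q' → Q < Q' → (Fx Q').card ≤ k := by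
    intro Q' h1 h2 h3
    by_contra h4
    have h5 := hmax ⟨Q', h1, h2, by omega⟩
    exact absurd (Subgroup.eq_of_le_of_card_ge h3.le h5) h3.ne
  by_cases hQ1 : Q = ⊥
  · subst hQ1
    have hB : InvFixLE G k := by
      intro g hg hg2 hg1
      have hz : IsPGroup 2 (Subgroup.zpowers g) := by
        refine IsPGroup.of_card (n := 1) ?_
        rw [Nat.card_zpowers, pow_one, orderOf_eq_prime (by rw [pow_two]; exact hg2) hg1]
      have h := hmax' (Subgroup.zpowers g) (Subgroup.zpowers_le.2 hg) hz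
        (bot_lt_iff_ne_bot.2 fun e => hg1 (Subgroup.zpowers_eq_bot.1 e))
      refine le_trans (Finset.card_le_card fun x hx => ?_) h
      refine Finset.mem_filter.2 ⟨Finset.mem_univ _, fun q hq => ?_⟩
      obtain ⟨i, rfl⟩ := Subgroup.mem_zpowers_iff.1 hq
      exact Equiv.Perm.zpow_apply_eq_self_of_apply_eq_self (mem_fixFinset.1 hx) i
    by_cases hex : ∃ j ∈ G, j * j = 1 ∧ j ≠ 1 ∧ (fixFinset j).card = k
    · obtain ⟨j, hj, hj2, hj1, hjk⟩ := hex
      obtain ⟨Δ, -, hΔ⟩ := Finset.exists_subset_card_eq (s := (Finset.univ : Finset α)) (n := k + 1)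
        (by rw [Finset.card_univ]; omega)
      exact ⟨Δ, hΔ, fun σ _ => sym_subset_exact hG (by omega) hkn hB hj hj2 hj1 hjk Δ hΔ σ⟩
    · push Not at hex
      obtain ⟨Δ, hΔ, h⟩ := sym_subset_small hG hk (by omega) (fun g hg hg2 hg1 => by
        have h1 := hB g hg hg2 hg1
        have h2 := hex g hg hg2 hg1
        omega)
      exact ⟨Δ, hΔ, fun σ _ => h σ⟩
  -- induction through the normaliser
  set F := Fx Q with hFdef
  have hF : ∀ x, x ∈ F ↔ ∀ q ∈ Q, q x = x := fun x => by simp [hFdef, Fx]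
  have hFlt : F.card < Fintype.card α := by
    refine Finset.card_lt_card (Finset.ssubset_univ_iff.2 fun h => hQ1 ?_)
    rw [Subgroup.eq_bot_iff_forall]
    exact fun q hq => Equiv.ext fun x => (hF x).1 (h ▸ Finset.mem_univ x) q hq
  set N := G ⊓ Subgroup.normalizer (Q : Set (Equiv.Perm α)) with hN
  have hNF : ∀ g ∈ N, ∀ c ∈ F, g c ∈ F := fun g hg c hc => (hF _).2 fun q hq => by
    have hq' : g⁻¹ * q * g ∈ Q := by
      have h1 := (Subgroup.mem_normalizer_iff.1 (Subgroup.inv_mem _ hg.2) q).1 hq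
      simpa using h1
    have h2 := (hF c).1 hc _ hq'
    rw [Equiv.Perm.mul_apply, Equiv.Perm.mul_apply, Equiv.Perm.inv_eq_iff_eq] at h2
    exact h2
  have hNiff : ∀ g : N, ∀ c, (g : Equiv.Perm α) c ∈ F ↔ c ∈ F := fun g c =>
    ⟨fun h => by simpa using hNF _ (N.inv_mem g.2) _ h, hNF _ g.2 c⟩
  let r : N →* Equiv.Perm F :=
    { toFun := fun g => Equiv.Perm.subtypePerm (g : Equiv.Perm α) (hNiff g)
      map_one' := by ext x; rfl
      map_mul' := fun g h => by ext x; rfl }
  have hG' : MulAction.IsMultiplyPretransitive r.range F k := by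
    refine ⟨fun x y => ?_⟩
    obtain ⟨g, hg, hgn, hgx⟩ := normalizer_ktrans hG (by omega) hkn Q hQG hQ2 F hF hQk hmax'
      (x.trans (Function.Embedding.subtype _)) (y.trans (Function.Embedding.subtype _))
      (fun i => (x i).2) (fun i => (y i).2)
    exact ⟨⟨r ⟨g, hg, hgn⟩, ⟨_, rfl⟩⟩, Function.Embedding.ext fun i => Subtype.ext (hgx i)⟩
  obtain ⟨Δ', hΔ', hlift⟩ := ih F.card hFlt F (Fintype.card_coe F) hQk r.range hG'
  refine ⟨Δ'.map (Function.Embedding.subtype _), by rw [Finset.card_map]; exact hΔ', fun σ hσ => ?_⟩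
  let e : ↥Δ' ≃ ↥(Δ'.map (Function.Embedding.subtype (fun a => a ∈ F))) :=
    Equiv.ofBijective (fun x => ⟨(x.1 : α), Finset.mem_map_of_mem _ x.2⟩)
      ⟨fun x y h => Subtype.ext (Subtype.ext (Subtype.mk.inj h)), fun y => by
        obtain ⟨x, hx, hxy⟩ := Finset.mem_map.1 y.2
        exact ⟨⟨x, hx⟩, Subtype.ext hxy⟩⟩
  obtain ⟨_, ⟨⟨g, hgN⟩, rfl⟩, hg⟩ := hlift (e.symm.permCongr σ) (by
    rw [Equiv.Perm.mem_alternatingGroup, Equiv.Perm.sign_permCongr]
    exact Equiv.Perm.mem_alternatingGroup.1 hσ)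
  refine ⟨g, hgN.1, fun x => ?_⟩
  have h1 : g ((e.symm x).1 : α) = ((e.symm.permCongr σ (e.symm x)).1 : α) :=
    congrArg Subtype.val (hg (e.symm x))
  rw [Equiv.permCongr_apply, Equiv.symm_symm, Equiv.apply_symm_apply] at h1
  have h2 : ∀ z, ((e.symm z).1 : α) = (z : α) := fun z =>
    congrArg Subtype.val (e.apply_symm_apply z)
  rwa [h2, h2] at h1

end CfsgLib.Perm
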