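import Cfsg.Agent.Lib.Perm.Regular
import Cfsg.Agent.Lib.Core.MinNormal
import Cfsg.Agent.Lib.Char.Frobenius

/-!
# Burnside's theorem on minimal normal subgroups of doubly transitive groups

* `isPGroup_of_orderOf_eq`, `exists_line`, `free_or_fix`, `isPreprimitive_of_minimal_normal`,
  `comm_of_regular`, `isSimpleGroup_of_primitive`.
-/

set_option autoImplicit false
set_option linter.all false

namespace CfsgLib.Perm.Burnside2

open MulAction
open scoped Pointwise

variable {G α : Type*} [Group G] [Finite G] [MulAction G α] [FaithfulSMul G α] [Finite α]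

theorem isPGroup_of_orderOf_eq {H : Type*} [Group H] [Finite H]
    (h : ∀ a b : H, a ≠ 1 → b ≠ 1 → orderOf a = orderOf b) :
    ∃ p : ℕ, p.Prime ∧ IsPGroup p H := by
  rcases subsingleton_or_nontrivial H with hs | hn
  · exact ⟨2, Nat.prime_two, fun g => ⟨0, Subsingleton.elim _ _⟩⟩
  obtain ⟨p, hp, hpd⟩ := Nat.exists_prime_and_dvd (n := Nat.card H) Finite.one_lt_card.ne'
  haveI := Fact.mk hp
  obtain ⟨x, hx⟩ := exists_prime_orderOf_dvd_card' p hpd
  refine ⟨p, hp, fun g => ⟨1, ?_⟩⟩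
  by_cases hg : g = 1
  · simp [hg]
  · have hx1 : x ≠ 1 := fun e => hp.ne_one (by rw [← hx, e, orderOf_one])
    rw [pow_one, ← hx, ← h g x hg hx1, pow_orderOf_eq_one]

/-- A regular normal subgroup of a doubly transitive group is a `p`-group. -/
theorem isPGroup_of_regular (h2 : IsMultiplyPretransitive G α 2) (N : Subgroup G) [N.Normal]
    (x : α) (hreg : stabilizer N x = ⊥) : ∃ p : ℕ, p.Prime ∧ IsPGroup p N := by
  rw [is_two_pretransitive_iff] at h2
  refine isPGroup_of_orderOf_eq fun a b ha hb => ?_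
  have hne : ∀ c : N, c ≠ 1 → x ≠ (c : G) • x := fun c hc e => hc (by
    rw [← Subgroup.mem_bot, ← hreg]; exact e.symm)
  obtain ⟨g, hgx, hgb⟩ := h2 (hne a ha) (hne b hb)
  have hconj : (g * a * g⁻¹ : G) • x = (b : G) • x := by
    rw [mul_smul, mul_smul, inv_smul_eq_iff.2 hgx.symm, hgb]
  let c : N := ⟨g * a * g⁻¹, ‹N.Normal›.conj_mem _ a.2 g⟩
  have hcb : c = b := by
    have : b⁻¹ * c ∈ stabilizer N x := by
      show ((b⁻¹ * c : N) : G) • x = x
      show ((b : G)⁻¹ * (g * a * g⁻¹)) • x = x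
      rw [mul_smul, hconj, inv_smul_smul]
    rw [hreg, Subgroup.mem_bot, inv_mul_eq_one] at this
    exact this.symm
  rw [← hcb, ← Subgroup.orderOf_coe, ← Subgroup.orderOf_coe]
  exact orderOf_injective (MulAut.conj g).toMonoidHom (MulAut.conj g).injective a |>.symm

/-- The block system of lines through pairs of points. -/
theorem exists_line (h2 : IsMultiplyPretransitive G α 2) (N : Subgroup G) [N.Normal]
    (hprim : ¬ ∀ B : Set α, IsBlock N B → IsTrivialBlock B) :
    ∃ ℒ : Set (Set α), (∀ L ∈ ℒ, IsBlock N L ∧ L ≠ Set.univ) ∧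
      (∀ a b : α, a ≠ b → ∃ L ∈ ℒ, a ∈ L ∧ b ∈ L) ∧
      (∀ L ∈ ℒ, ∀ L' ∈ ℒ, ∀ a ∈ L ∩ L', ∀ b ∈ L ∩ L', a ≠ b → L = L') := by
  rw [is_two_pretransitive_iff] at h2
  push Not at hprim
  obtain ⟨B, hB, hBn⟩ := hprim
  simp only [IsTrivialBlock, not_or] at hBn
  obtain ⟨Δ, ⟨hΔb, hΔs, hΔu⟩, hmin⟩ := Set.exists_min_image
    {B : Set α | IsBlock N B ∧ ¬ B.Subsingleton ∧ B ≠ Set.univ} Set.ncard (Set.toFinite _) ⟨B, hB, hBn⟩
  have htr : ∀ g : G, IsBlock N (g • Δ) := by
    intro g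
    rw [isBlock_iff_smul_eq_or_disjoint]
    intro n
    let n' : N := ⟨g⁻¹ * n * g, by
      have := ‹N.Normal›.conj_mem _ n.2 g⁻¹
      rwa [inv_inv] at this⟩
    have he : n • g • Δ = g • n' • Δ := by
      show (n : G) • g • Δ = g • (g⁻¹ * n * g : G) • Δ
      rw [smul_smul, smul_smul, ← mul_assoc, ← mul_assoc, mul_inv_cancel, one_mul]
    rw [he]
    rcases hΔb.smul_eq_or_disjoint n' with h | h
    · exact Or.inl (by rw [h])
    · exact Or.inr (Set.disjoint_image_of_injective (MulAction.injective g) h)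
  refine ⟨Set.range fun g : G => g • Δ, ?_, fun a b hab => ?_, ?_⟩
  · rintro _ ⟨g, rfl⟩
    refine ⟨htr g, fun h => hΔu ?_⟩
    have h' : g⁻¹ • g • Δ = g⁻¹ • (Set.univ : Set α) := congrArg _ h
    rwa [inv_smul_smul, Set.smul_set_univ] at h'
  · rw [Set.not_subsingleton_iff] at hΔs
    obtain ⟨u, hu, v, hv, huv⟩ := hΔs
    obtain ⟨g, rfl, rfl⟩ := h2 huv hab
    exact ⟨g • Δ, ⟨g, rfl⟩, Set.smul_mem_smul_set hu, Set.smul_mem_smul_set hv⟩
  · rintro _ ⟨g, rfl⟩ _ ⟨g', rfl⟩ a ha b hb hab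
    have hcard : ∀ k : G, (k • Δ).ncard = Δ.ncard := fun k =>
      Set.ncard_image_of_injective Δ (MulAction.injective k)
    have hI : Δ.ncard ≤ (g • Δ ∩ g' • Δ).ncard := hmin _ ⟨(htr g).inter (htr g'),
      fun hs => hab (hs ha hb), fun h => hΔu (by
        have h1 : g • Δ = Set.univ := Set.univ_subset_iff.1 (h.symm.le.trans Set.inter_subset_left)
        have h' : g⁻¹ • g • Δ = g⁻¹ • (Set.univ : Set α) := congrArg _ h1
        rwa [inv_smul_smul, Set.smul_set_univ] at h')⟩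
    have e1 := Set.eq_of_subset_of_ncard_le (Set.inter_subset_left (s := g • Δ) (t := g' • Δ))
      (by rw [hcard]; exact hI)
    have e2 := Set.eq_of_subset_of_ncard_le (Set.inter_subset_right (s := g • Δ) (t := g' • Δ))
      (by rw [hcard]; exact hI)
    exact e1.symm.trans e2

/-- In an imprimitive normal subgroup of a doubly transitive group only `1` fixes two points. -/
theorem eq_one_of_fix_two (h2 : IsMultiplyPretransitive G α 2) (N : Subgroup G) [N.Normal]
    (hprim : ¬ ∀ B : Set α, IsBlock N B → IsTrivialBlock B) {x : N} {a d : α} (had : a ≠ d)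
    (hxa : x • a = a) (hxd : x • d = d) : x = 1 := by
  obtain ⟨ℒ, hℒ, hline, huniq⟩ := exists_line h2 N hprim
  have hfix : ∀ a : α, x • a = a → ∀ b c : α, ∀ L ∈ ℒ, a ∈ L → b ∈ L → x • b ≠ b → c ∉ L →
      x • c ≠ c := by
    intro a ha b c L hL haL hbL hb hcL hc
    have hab : a ≠ b := fun e => hb (e ▸ ha)
    have hxL : x • L = L := (hℒ L hL).1.smul_eq_of_mem haL (by rwa [ha])
    have hbc : b ≠ c := fun e => hcL (e ▸ hbL)
    obtain ⟨L', hL', hbL', hcL'⟩ := hline b c hbc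
    have hxL' : x • L' = L' := (hℒ L' hL').1.smul_eq_of_mem hcL' (by rwa [hc])
    have hmem : x • b ∈ L ∩ L' :=
      ⟨hxL ▸ Set.smul_mem_smul_set hbL, hxL' ▸ Set.smul_mem_smul_set hbL'⟩
    exact hcL (huniq L hL L' hL' _ hmem _ ⟨hbL, hbL'⟩ hb ▸ hcL')
  obtain ⟨L₀, hL₀, haL₀, hdL₀⟩ := hline a d had
  have hout : ∀ c, c ∉ L₀ → x • c = c := by
    intro c hc
    by_contra hc'
    have hac : a ≠ c := fun e => hc (e ▸ haL₀)
    obtain ⟨L, hL, haL, hcL⟩ := hline a c hac
    by_cases hdL : d ∈ L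
    · exact hc (huniq L hL L₀ hL₀ a ⟨haL, haL₀⟩ d ⟨hdL, hdL₀⟩ had ▸ hcL)
    · exact hfix a hxa c d L hL haL hcL hc' hdL hxd
  refine Subtype.ext (FaithfulSMul.eq_of_smul_eq_smul (α := α) fun b => ?_)
  rw [Subgroup.coe_one, one_smul]
  by_contra hb
  have hbL : b ∈ L₀ := by
    by_contra h
    exact hb (hout b h)
  obtain ⟨c, hc⟩ : ∃ c, c ∉ L₀ := by
    by_contra h
    push Not at h
    exact (hℒ L₀ hL₀).2 (Set.eq_univ_iff_forall.2 h)
  exact hfix a hxa b c L₀ hL₀ haL₀ hbL hb hc (hout c hc)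

/-- A transitive non-regular minimal normal subgroup of a doubly transitive group is primitive. -/
theorem isPreprimitive_of_minimal_normal (h2 : IsMultiplyPretransitive G α 2) (N : Subgroup G)
    [N.Normal] (hmin : ∀ M : Subgroup G, M.Normal → M ≤ N → M = ⊥ ∨ M = N)
    [IsPretransitive N α] (a : α) (hnreg : stabilizer N a ≠ ⊥) : IsPreprimitive N α := by
  refine ⟨fun {B} hB => ?_⟩
  by_contra hBn
  have hprim : ¬ ∀ B : Set α, IsBlock N B → IsTrivialBlock B := fun h => hBn (h B hB)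
  haveI : Fintype N := Fintype.ofFinite N
  haveI : Nontrivial α := by
    simp only [IsTrivialBlock, not_or, Set.not_subsingleton_iff] at hBn
    obtain ⟨u, -, v, -, huv⟩ := hBn.1
    exact ⟨u, v, huv⟩
  obtain ⟨b, hab⟩ := exists_ne a
  have hH : Cfsg.IsFrobeniusComplement (stabilizer N a) := by
    refine ⟨hnreg, fun h => ?_, fun g hg => ?_⟩
    · obtain ⟨n, hn⟩ := exists_smul_eq N a b
      have : n ∈ stabilizer N a := h ▸ Subgroup.mem_top n
      exact hab (hn.symm.trans this)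
    · rw [eq_bot_iff]
      intro n hn
      obtain ⟨hn1, hn2⟩ := Subgroup.mem_inf.1 hn
      rw [Subgroup.mem_bot]
      rw [CfsgLib.Frobenius.mem_conj_smul, mem_stabilizer_iff, mul_smul,
        mul_smul, inv_smul_eq_iff] at hn2
      exact eq_one_of_fix_two h2 N hprim (fun e => hg e.symm) hn1 hn2
  obtain ⟨K, hKset, hKn, hKc⟩ := CfsgLib.Frobenius.exists_normal_complement hH
  have hKmem : ∀ n : N, n ∈ K ↔ n = 1 ∨ ∀ y : α, n • y ≠ y := by
    intro n
    rw [← SetLike.mem_coe, hKset, Cfsg.frobeniusKernel, Set.mem_setOf_eq]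
    refine or_congr Iff.rfl ⟨fun h y hy => ?_, fun h g hg => ?_⟩
    · obtain ⟨g, rfl⟩ := exists_smul_eq N a y
      refine h g ?_
      rw [CfsgLib.Frobenius.mem_conj_smul, mem_stabilizer_iff, mul_smul, mul_smul, hy, inv_smul_smul]
    · rw [CfsgLib.Frobenius.mem_conj_smul, mem_stabilizer_iff, mul_smul, mul_smul,
        inv_smul_eq_iff] at hg
      exact h _ hg
  have hn : (K.map N.subtype).Normal := by
    refine ⟨?_⟩
    rintro _ ⟨n, hn, rfl⟩ g
    refine ⟨⟨g * n * g⁻¹, ‹N.Normal›.conj_mem _ n.2 g⟩, (hKmem _).2 ?_, rfl⟩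
    rcases (hKmem n).1 hn with rfl | hfree
    · exact Or.inl (Subtype.ext (by simp))
    · refine Or.inr fun y hy => hfree (g⁻¹ • y) ?_
      have hy' : (g * n * g⁻¹ : G) • y = y := hy
      rw [mul_smul, mul_smul, ← eq_inv_smul_iff] at hy'
      exact hy'
  have hcard := hKc.card_mul
  rcases hmin _ hn (Subgroup.map_subtype_le K) with h | h
  · rw [Subgroup.map_eq_bot_iff_of_injective K N.subtype_injective] at h
    subst h
    exact hH.2.1 (Subgroup.eq_top_of_card_eq _ (by simpa using hcard))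
  · have hK : K = ⊤ := Subgroup.map_injective N.subtype_injective (by
      rw [h, ← MonoidHom.range_eq_map, Subgroup.range_subtype])
    subst hK
    exact hnreg (Subgroup.eq_bot_of_card_le _ (by
      have hp : 0 < Nat.card N := Nat.card_pos
      rw [Subgroup.card_top] at hcard
      exact (mul_right_eq_self₀.1 hcard |>.resolve_right hp.ne').le))

/-- Commuting subgroups acting regularly: corresponding elements have equal orders. -/
theorem orderOf_eq_of_smul_eq (A B : Subgroup G) [IsPretransitive A α] [IsPretransitive B α]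
    (hAB : ∀ s ∈ A, ∀ t ∈ B, Commute s t) (x : α) {s t : G} (hs : s ∈ A) (ht : t ∈ B)
    (h : s • x = t • x) : orderOf s = orderOf t := by
  have key : ∀ k : ℕ, s ^ k • x = t ^ k • x := by
    intro k
    induction k with
    | zero => simp
    | succ k ih =>
      rw [pow_succ, mul_smul, h, ← mul_smul, ((hAB s hs t ht).pow_left k).eq, mul_smul, ih,
        ← mul_smul, ← pow_succ']
  have hA : ∀ u ∈ A, u • x = x → u = 1 := fun u hu e =>
    CfsgLib.Perm.Regular.eq_one_of_commute B (fun v hv => (hAB u hu v hv).symm) (x := x) e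
  have hB : ∀ u ∈ B, u • x = x → u = 1 := fun u hu e =>
    CfsgLib.Perm.Regular.eq_one_of_commute A (fun v hv => hAB v hv u hu) (x := x) e
  apply dvd_antisymm <;> rw [orderOf_dvd_iff_pow_eq_one]
  · exact hA _ (A.pow_mem hs _) (by rw [key, pow_orderOf_eq_one, one_smul])
  · exact hB _ (B.pow_mem ht _) (by rw [← key, pow_orderOf_eq_one, one_smul])

theorem isPretransitive_map_conj (A : Subgroup G) [IsPretransitive A α] (g : G) :
    IsPretransitive (A.map (MulAut.conj g).toMonoidHom) α := by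
  refine ⟨fun y z => ?_⟩
  obtain ⟨⟨s, hs⟩, h⟩ := exists_smul_eq A (g⁻¹ • y) (g⁻¹ • z)
  refine ⟨⟨g * s * g⁻¹, s, hs, rfl⟩, ?_⟩
  show (g * s * g⁻¹ : G) • y = z
  rw [mul_smul, mul_smul, (show s • g⁻¹ • y = g⁻¹ • z from h), smul_inv_smul]

/-- A non-abelian primitive minimal normal subgroup of a doubly transitive group is simple. -/
theorem isSimpleGroup_of_primitive (h2 : IsMultiplyPretransitive G α 2) (N : Subgroup G)
    [N.Normal] (hN : N ≠ ⊥) (hmin : ∀ M : Subgroup G, M.Normal → M ≤ N → M = ⊥ ∨ M = N)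
    [IsPreprimitive N α] : IsSimpleGroup N := by
  haveI : Nontrivial N := N.nontrivial_iff_ne_bot.mpr hN
  haveI : Nonempty α := by
    by_contra h
    rw [not_nonempty_iff] at h
    haveI : Subsingleton G := ⟨fun s t => FaithfulSMul.eq_of_smul_eq_smul (α := α) fun y => isEmptyElim y⟩
    exact hN (Subsingleton.elim _ _)
  obtain ⟨x⟩ := ‹Nonempty α›
  rw [is_two_pretransitive_iff] at h2
  by_contra hns
  obtain ⟨M₁, hM₁n, hM₁b, hM₁t⟩ : ∃ M₁ : Subgroup N, M₁.Normal ∧ M₁ ≠ ⊥ ∧ M₁ ≠ ⊤ := by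
    by_contra h
    push Not at h
    exact hns ⟨fun H hH => or_iff_not_imp_left.2 fun hb => h H hH hb⟩
  haveI := hM₁n
  obtain ⟨M₀, hM₀n, hM₀b, hM₀le, hM₀min⟩ := CfsgLib.Core.exists_minimal_normal_le' M₁ hM₁b
  -- `M` is a minimal `N`-invariant subgroup of `N`
  set M : Subgroup G := M₀.map N.subtype with hM
  have hMN : M ≤ N := Subgroup.map_subtype_le M₀
  have hMb : M ≠ ⊥ := fun h => hM₀b ((Subgroup.map_eq_bot_iff_of_injective M₀ N.subtype_injective).1 h)
  have hMne : M ≠ N := fun h => hM₁t (top_le_iff.1 ((le_of_eq (Subgroup.map_injective N.subtype_injective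
    (by rw [← MonoidHom.range_eq_map, Subgroup.range_subtype]; exact h.symm))).trans hM₀le))
  let Inv : Subgroup G → Prop := fun L => ∀ n ∈ N, ∀ m ∈ L, n * m * n⁻¹ ∈ L
  have hMinv : Inv M := by
    rintro n hn _ ⟨m, hm, rfl⟩
    exact ⟨⟨n, hn⟩ * m * ⟨n, hn⟩⁻¹, hM₀n.conj_mem m hm _, rfl⟩
  have hMmin : ∀ L : Subgroup G, L ≤ M → Inv L → L = ⊥ ∨ L = M := by
    intro L hL hLi
    have hLn : (L.subgroupOf N).Normal := ⟨fun m hm n => hLi n n.2 m hm⟩
    have hle : L.subgroupOf N ≤ M₀ := fun m hm => by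
      obtain ⟨m', hm', he⟩ := hL hm
      rwa [← N.subtype_injective he]
    rcases hM₀min _ hLn hle with h | h
    · left
      rw [Subgroup.subgroupOf_eq_bot] at h
      exact h.eq_bot_of_le (hL.trans hMN)
    · right
      rw [hM, ← h, Subgroup.map_subgroupOf_eq_of_le (hL.trans hMN)]
  haveI htrM : IsPretransitive M α := by
    have ht : IsPretransitive M₀ α := by
      refine IsQuasiPreprimitive.isPretransitive_of_normal fun h => hM₀b ?_
      refine M₀.eq_bot_iff_forall.2 fun m hm => Subtype.ext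
        (FaithfulSMul.eq_of_smul_eq_smul (α := α) fun y => ?_)
      rw [Subgroup.coe_one, one_smul]
      exact Set.eq_univ_iff_forall.1 h y ⟨m, hm⟩
    exact ⟨fun y z => by
      obtain ⟨m, hm⟩ := exists_smul_eq M₀ y z
      exact ⟨⟨_, Subgroup.mem_map_of_mem _ m.2⟩, hm⟩⟩
  have hconjinv : ∀ (g : G) (L : Subgroup G), Inv L → Inv (L.map (MulAut.conj g).toMonoidHom) := by
    rintro g L hL n hn _ ⟨m, hm, rfl⟩
    refine ⟨(g⁻¹ * n * g) * m * (g⁻¹ * n * g)⁻¹, hL _ ?_ m hm, ?_⟩
    · have := ‹N.Normal›.conj_mem _ hn g⁻¹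
      rwa [inv_inv] at this
    · simp only [MulEquiv.coe_toMonoidHom, MulAut.conj_apply]
      group
  have hconjN : ∀ g : G, M.map (MulAut.conj g).toMonoidHom ≤ N := by
    rintro g _ ⟨m, hm, rfl⟩
    exact ‹N.Normal›.conj_mem m (hMN hm) g
  have hcardeq : ∀ g : G, Nat.card (M.map (MulAut.conj g).toMonoidHom) = Nat.card M := fun g =>
    Subgroup.card_map_of_injective (MulAut.conj g).injective
  -- distinct conjugates of `M` commute with it
  have hcomm : ∀ g : G, M.map (MulAut.conj g).toMonoidHom ≠ M →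
      ∀ s ∈ M, ∀ t ∈ M.map (MulAut.conj g).toMonoidHom, Commute s t := by
    intro g hg s hs t ht
    set L := M.map (MulAut.conj g).toMonoidHom
    have hd : Disjoint M L := by
      rw [disjoint_iff]
      refine (hMmin (M ⊓ L) inf_le_left fun n hn m hm =>
        ⟨hMinv n hn m hm.1, hconjinv g M hMinv n hn m hm.2⟩).resolve_right fun e => hg ?_
      exact (Subgroup.eq_of_le_of_card_ge (inf_eq_left.1 e) (hcardeq g).le).symm
    have h1 : s * t * s⁻¹ * t⁻¹ ∈ M := by
      have h : s * (t * s⁻¹ * t⁻¹) ∈ M := M.mul_mem hs (hMinv t (hconjN g ht) _ (M.inv_mem hs))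
      simpa [mul_assoc] using h
    have h2 : s * t * s⁻¹ * t⁻¹ ∈ L :=
      L.mul_mem (hconjinv g M hMinv s (hMN hs) t ht) (L.inv_mem ht)
    have h3 : s * t * s⁻¹ * t⁻¹ = 1 := Subgroup.disjoint_def.1 hd h1 h2
    rw [mul_inv_eq_one, mul_inv_eq_iff_eq_mul] at h3
    exact h3
  obtain ⟨g₀, hg₀⟩ : ∃ g : G, M.map (MulAut.conj g).toMonoidHom ≠ M := by
    by_contra h
    push Not at h
    have hn : M.Normal := ⟨fun m hm g => by
      rw [← h g]; exact ⟨m, hm, rfl⟩⟩
    exact (hmin M hn hMN).elim hMb hMne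
  set M' := M.map (MulAut.conj g₀).toMonoidHom with hM'
  haveI : IsPretransitive M' α := isPretransitive_map_conj M g₀
  have hc := hcomm g₀ hg₀
  have hc' : ∀ t ∈ M', ∀ s ∈ M, Commute t s := fun t ht s hs => (hc s hs t ht).symm
  -- every conjugate of `M` is `M` or `M'`
  have hdich : ∀ g : G, M.map (MulAut.conj g).toMonoidHom = M ∨
      M.map (MulAut.conj g).toMonoidHom = M' := by
    intro g
    refine or_iff_not_imp_left.2 fun h => ?_
    refine Subgroup.eq_of_le_of_card_ge (fun t ht => ?_) (by rw [hcardeq, hcardeq])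
    exact CfsgLib.Perm.Regular.mem_of_commute (α := α) M M' hc fun s hs => hcomm g h s hs t ht
  have hfreeM : stabilizer M x = ⊥ := CfsgLib.Perm.Regular.stabilizer_eq_bot_of_commute M M' hc x
  obtain ⟨p, hp, hpg⟩ := isPGroup_of_orderOf_eq (H := M) fun s t hs ht => by
    have hne : ∀ c : M, c ≠ 1 → x ≠ (c : G) • x := fun c hc e => hc (by
      rw [← Subgroup.mem_bot, ← hfreeM]; exact e.symm)
    obtain ⟨g, hgx, hgt⟩ := h2 (hne s hs) (hne t ht)
    have hconj : (g * s * g⁻¹ : G) • x = (t : G) • x := by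
      rw [mul_smul, mul_smul, inv_smul_eq_iff.2 hgx.symm, hgt]
    have hord : orderOf (g * s * g⁻¹ : G) = orderOf (s : G) :=
      orderOf_injective (MulAut.conj g).toMonoidHom (MulAut.conj g).injective (s : G)
    rw [← Subgroup.orderOf_coe, ← Subgroup.orderOf_coe, ← hord]
    have hmem : (g * s * g⁻¹ : G) ∈ M.map (MulAut.conj g).toMonoidHom := ⟨s, s.2, rfl⟩
    rcases hdich g with h | h <;> rw [h] at hmem
    · have : (⟨_, hmem⟩ : M) = t := by
        have hmem' : t⁻¹ * ⟨_, hmem⟩ ∈ stabilizer M x := by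
          show ((t : G)⁻¹ * (g * s * g⁻¹)) • x = x
          rw [mul_smul, hconj, inv_smul_smul]
        rw [hfreeM, Subgroup.mem_bot, inv_mul_eq_one] at hmem'
        exact hmem'.symm
      exact congrArg (fun u : M => orderOf (u : G)) this
    · exact orderOf_eq_of_smul_eq M' M hc' x hmem t.2 hconj
  haveI := Fact.mk hp
  haveI : Nontrivial M := M.nontrivial_iff_ne_bot.mpr hMb
  have hZ : Nontrivial (Subgroup.center M) := hpg.center_nontrivial
  set Z : Subgroup G := (Subgroup.center M).map M.subtype with hZdef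
  have hZinv : Inv Z := by
    rintro n hn _ ⟨z, hz, rfl⟩
    refine ⟨⟨_, hMinv n hn z z.2⟩, Subgroup.mem_center_iff.2 fun u => ?_, rfl⟩
    have hu : n⁻¹ * (u : G) * n ∈ M := by
      have := hMinv n⁻¹ (N.inv_mem hn) u u.2
      rwa [inv_inv] at this
    have hcz := congrArg Subtype.val (Subgroup.mem_center_iff.1 hz ⟨_, hu⟩)
    apply Subtype.ext
    have hcz' : n⁻¹ * (u : G) * n * z = z * (n⁻¹ * (u : G) * n) := hcz
    show (u : G) * (n * z * n⁻¹) = n * z * n⁻¹ * u
    calc (u : G) * (n * z * n⁻¹) = n * (n⁻¹ * (u : G) * n * z) * n⁻¹ := by group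
      _ = n * (z * (n⁻¹ * (u : G) * n)) * n⁻¹ := by rw [hcz']
      _ = _ := by group
  rcases hMmin Z (Subgroup.map_subtype_le _) hZinv with h | h
  · rw [Subgroup.map_eq_bot_iff_of_injective _ M.subtype_injective] at h
    exact absurd h ((Subgroup.center M).nontrivial_iff_ne_bot.1 hZ)
  · -- so `M` is abelian, hence equals its conjugate `M'`
    have hab : ∀ s ∈ M, ∀ t ∈ M, Commute s t := by
      intro s hs t ht
      obtain ⟨z, hz, rfl⟩ : t ∈ Z := h.symm ▸ ht
      exact congrArg Subtype.val (Subgroup.mem_center_iff.1 hz ⟨s, hs⟩)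
    refine hg₀ (Subgroup.eq_of_le_of_card_ge (fun t ht => ?_) (hcardeq g₀).ge)
    exact CfsgLib.Perm.Regular.mem_of_commute (α := α) M M hab fun s hs => hc s hs t ht

end CfsgLib.Perm.Burnside2
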