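import Mathlib

/-!
# Even permutations as commutators with a prescribed centraliser element

`Fuse σ`: `σ = β α β⁻¹ α⁻¹` with even `α, β` such that `α` interchanges two disjoint pairs of points.
`Models`: the cycle types moving at most nine points.
-/

set_option autoImplicit false

namespace CfsgLib.Perm.CommutatorSwap

open Equiv Function

variable {α : Type*} [Fintype α] [DecidableEq α]

/-- A commutator of even permutations, one of them interchanging two disjoint pairs. -/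
def Fuse (σ : Perm α) : Prop :=
  ∃ s t : Perm α, ∃ a b c d : α, Perm.sign s = 1 ∧ Perm.sign t = 1 ∧ [a, b, c, d].Nodup ∧
    s a = b ∧ s b = a ∧ s c = d ∧ s d = c ∧ σ = t * s * t⁻¹ * s⁻¹

omit [Fintype α] [DecidableEq α] in
theorem nodup_map {β : Type*} {f : α → β} (hf : Injective f) {a b c d : α}
    (h : [a, b, c, d].Nodup) : [f a, f b, f c, f d].Nodup :=
  h.map hf

theorem fuse_conj {σ : Perm α} (h : Fuse σ) (π : Perm α) : Fuse (π * σ * π⁻¹) := by
  obtain ⟨s, t, a, b, c, d, hs, ht, hnd, h1, h2, h3, h4, rfl⟩ := h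
  refine ⟨π * s * π⁻¹, π * t * π⁻¹, π a, π b, π c, π d, ?_, ?_, nodup_map π.injective hnd, ?_, ?_,
    ?_, ?_, by group⟩
  · rw [map_mul, map_mul, map_inv, hs, mul_one, mul_inv_cancel]
  · rw [map_mul, map_mul, map_inv, ht, mul_one, mul_inv_cancel]
  all_goals simp [Perm.mul_apply, *]

/-- Transfer from a model. -/
theorem fuse_of_model {σ : Perm α} {m : ℕ} (hn : m ≤ Fintype.card α) (p s t : Perm (Fin m))
    (a b c d : Fin m)
    (h : Perm.sign s = 1 ∧ Perm.sign t = 1 ∧ [a, b, c, d].Nodup ∧ s a = b ∧ s b = a ∧ s c = d ∧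
      s d = c ∧ p = t * s * t⁻¹ * s⁻¹)
    (hc : σ.cycleType = p.cycleType) : Fuse σ := by
  classical
  obtain ⟨hs, ht, hnd, h1, h2, h3, h4, hp⟩ := h
  obtain ⟨ι⟩ : Nonempty (Fin m ↪ α) :=
    Function.Embedding.nonempty_of_card_le (by rwa [Fintype.card_fin])
  let e : Fin m ≃ {x // x ∈ Set.range ι} := ι.toEquivRange
  have hι : ∀ i, ((e i : {x // x ∈ Set.range ι}) : α) = ι i := fun i => rfl
  obtain ⟨π, hπ⟩ : ∃ π : Perm α, π * p.extendDomain e * π⁻¹ = σ :=
    isConj_iff.1 (Perm.isConj_iff_cycleType_eq.2 (by rw [Perm.cycleType_extendDomain, hc]))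
  rw [← hπ]
  refine fuse_conj ⟨s.extendDomain e, t.extendDomain e, ι a, ι b, ι c, ι d,
    by rw [Perm.sign_extendDomain, hs], by rw [Perm.sign_extendDomain, ht],
    nodup_map ι.injective hnd, ?_, ?_, ?_, ?_, ?_⟩ π
  · rw [← hι, Perm.extendDomain_apply_image, h1, hι]
  · rw [← hι, Perm.extendDomain_apply_image, h2, hι]
  · rw [← hι, Perm.extendDomain_apply_image, h3, hι]
  · rw [← hι, Perm.extendDomain_apply_image, h4, hι]
  · rw [hp]
    exact (map_mul (Perm.extendDomainHom e) _ _).trans (by rw [map_mul, map_mul, map_inv, map_inv]; rfl)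

/-- Cycle type `[2, 2]`. -/
theorem fuse_22 {σ : Perm α} (hn : 4 ≤ Fintype.card α)
    (h : σ.cycleType = {2, 2}) : Fuse σ :=
  fuse_of_model hn (([0, 1] : List (Fin 4)).formPerm * ([2, 3] : List (Fin 4)).formPerm)
    (([0, 2] : List (Fin 4)).formPerm * ([1, 3] : List (Fin 4)).formPerm)
    (([0, 3, 2] : List (Fin 4)).formPerm)
    (0 : Fin 4) 2 1 3 (by decide +kernel) (h.trans (by decide +kernel))

/-- Cycle type `[5]`. -/
theorem fuse_5 {σ : Perm α} (hn : 5 ≤ Fintype.card α)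
    (h : σ.cycleType = {5}) : Fuse σ :=
  fuse_of_model hn (([0, 1, 2, 3, 4] : List (Fin 5)).formPerm)
    (([1, 4] : List (Fin 5)).formPerm * ([2, 3] : List (Fin 5)).formPerm)
    (([0, 3, 4] : List (Fin 5)).formPerm)
    (1 : Fin 5) 4 2 3 (by decide +kernel) (h.trans (by decide +kernel))

/-- Cycle type `[3, 3]`. -/
theorem fuse_33 {σ : Perm α} (hn : 6 ≤ Fintype.card α)
    (h : σ.cycleType = {3, 3}) : Fuse σ :=
  fuse_of_model hn (([0, 1, 2] : List (Fin 6)).formPerm * ([3, 4, 5] : List (Fin 6)).formPerm)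
    (([1, 2] : List (Fin 6)).formPerm * ([4, 5] : List (Fin 6)).formPerm)
    (([0, 2, 1] : List (Fin 6)).formPerm * ([3, 5, 4] : List (Fin 6)).formPerm)
    (1 : Fin 6) 2 4 5 (by decide +kernel) (h.trans (by decide +kernel))

/-- Cycle type `[2, 4]`. -/
theorem fuse_24 {σ : Perm α} (hn : 6 ≤ Fintype.card α)
    (h : σ.cycleType = {2, 4}) : Fuse σ :=
  fuse_of_model hn (([0, 1] : List (Fin 6)).formPerm * ([2, 3, 4, 5] : List (Fin 6)).formPerm)
    (([2, 3] : List (Fin 6)).formPerm * ([4, 5] : List (Fin 6)).formPerm)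
    (([0, 3] : List (Fin 6)).formPerm * ([1, 5, 4, 2] : List (Fin 6)).formPerm)
    (2 : Fin 6) 3 4 5 (by decide +kernel) (h.trans (by decide +kernel))

/-- Cycle type `[7]`. -/
theorem fuse_7 {σ : Perm α} (hn : 7 ≤ Fintype.card α)
    (h : σ.cycleType = {7}) : Fuse σ :=
  fuse_of_model hn (([0, 1, 2, 3, 4, 5, 6] : List (Fin 7)).formPerm)
    (([0, 1, 4] : List (Fin 7)).formPerm * ([2, 6] : List (Fin 7)).formPerm * ([3, 5] : List (Fin 7)).formPerm)
    (([0, 1, 5, 6, 2] : List (Fin 7)).formPerm)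
    (2 : Fin 7) 6 3 5 (by decide +kernel) (h.trans (by decide +kernel))

/-- Cycle type `[2, 2, 3]`. -/
theorem fuse_223 {σ : Perm α} (hn : 7 ≤ Fintype.card α)
    (h : σ.cycleType = {2, 2, 3}) : Fuse σ :=
  fuse_of_model hn (([0, 1] : List (Fin 7)).formPerm * ([2, 3] : List (Fin 7)).formPerm * ([4, 5, 6] : List (Fin 7)).formPerm)
    (([2, 3] : List (Fin 7)).formPerm * ([5, 6] : List (Fin 7)).formPerm)
    (([0, 2] : List (Fin 7)).formPerm * ([1, 3] : List (Fin 7)).formPerm * ([4, 6, 5] : List (Fin 7)).formPerm)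
    (2 : Fin 7) 3 5 6 (by decide +kernel) (h.trans (by decide +kernel))

/-- Cycle type `[3, 5]`. -/
theorem fuse_35 {σ : Perm α} (hn : 8 ≤ Fintype.card α)
    (h : σ.cycleType = {3, 5}) : Fuse σ :=
  fuse_of_model hn (([0, 1, 2] : List (Fin 8)).formPerm * ([3, 4, 5, 6, 7] : List (Fin 8)).formPerm)
    (([1, 2] : List (Fin 8)).formPerm * ([3, 4, 6] : List (Fin 8)).formPerm * ([5, 7] : List (Fin 8)).formPerm)
    (([0, 2] : List (Fin 8)).formPerm * ([3, 4, 7, 5] : List (Fin 8)).formPerm)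
    (1 : Fin 8) 2 5 7 (by decide +kernel) (h.trans (by decide +kernel))

/-- Cycle type `[2, 6]`. -/
theorem fuse_26 {σ : Perm α} (hn : 8 ≤ Fintype.card α)
    (h : σ.cycleType = {2, 6}) : Fuse σ :=
  fuse_of_model hn (([0, 1] : List (Fin 8)).formPerm * ([2, 3, 4, 5, 6, 7] : List (Fin 8)).formPerm)
    (([1, 2, 3] : List (Fin 8)).formPerm * ([4, 7] : List (Fin 8)).formPerm * ([5, 6] : List (Fin 8)).formPerm)
    (([0, 6, 7, 2, 1] : List (Fin 8)).formPerm)
    (4 : Fin 8) 7 5 6 (by decide +kernel) (h.trans (by decide +kernel))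

/-- Cycle type `[4, 4]`. -/
theorem fuse_44 {σ : Perm α} (hn : 8 ≤ Fintype.card α)
    (h : σ.cycleType = {4, 4}) : Fuse σ :=
  fuse_of_model hn (([0, 1, 2, 3] : List (Fin 8)).formPerm * ([4, 5, 6, 7] : List (Fin 8)).formPerm)
    (([1, 3] : List (Fin 8)).formPerm * ([2, 4, 5] : List (Fin 8)).formPerm * ([6, 7] : List (Fin 8)).formPerm)
    (([0, 7, 6, 4, 5, 3, 1] : List (Fin 8)).formPerm)
    (1 : Fin 8) 3 6 7 (by decide +kernel) (h.trans (by decide +kernel))

/-- Cycle type `[2, 2, 2, 2]`. -/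
theorem fuse_2222 {σ : Perm α} (hn : 8 ≤ Fintype.card α)
    (h : σ.cycleType = {2, 2, 2, 2}) : Fuse σ :=
  fuse_of_model hn (([0, 1] : List (Fin 8)).formPerm * ([2, 3] : List (Fin 8)).formPerm * ([4, 5] : List (Fin 8)).formPerm * ([6, 7] : List (Fin 8)).formPerm)
    (([4, 5] : List (Fin 8)).formPerm * ([6, 7] : List (Fin 8)).formPerm)
    (([0, 4] : List (Fin 8)).formPerm * ([1, 5] : List (Fin 8)).formPerm * ([2, 6] : List (Fin 8)).formPerm * ([3, 7] : List (Fin 8)).formPerm)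
    (4 : Fin 8) 5 6 7 (by decide +kernel) (h.trans (by decide +kernel))

/-- Cycle type `[9]`. -/
theorem fuse_9 {σ : Perm α} (hn : 9 ≤ Fintype.card α)
    (h : σ.cycleType = {9}) : Fuse σ :=
  fuse_of_model hn (([0, 1, 2, 3, 4, 5, 6, 7, 8] : List (Fin 9)).formPerm)
    (([2, 8, 3] : List (Fin 9)).formPerm * ([4, 7] : List (Fin 9)).formPerm * ([5, 6] : List (Fin 9)).formPerm)
    (([0, 3, 2] : List (Fin 9)).formPerm * ([1, 6, 7, 4, 8] : List (Fin 9)).formPerm)
    (4 : Fin 9) 7 5 6 (by decide +kernel) (h.trans (by decide +kernel))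

/-- Cycle type `[3, 3, 3]`. -/
theorem fuse_333 {σ : Perm α} (hn : 9 ≤ Fintype.card α)
    (h : σ.cycleType = {3, 3, 3}) : Fuse σ :=
  fuse_of_model hn (([0, 1, 2] : List (Fin 9)).formPerm * ([3, 4, 5] : List (Fin 9)).formPerm * ([6, 7, 8] : List (Fin 9)).formPerm)
    (([1, 2] : List (Fin 9)).formPerm * ([4, 5] : List (Fin 9)).formPerm * ([6, 7, 8] : List (Fin 9)).formPerm)
    (([0, 2] : List (Fin 9)).formPerm * ([3, 5, 4] : List (Fin 9)).formPerm * ([7, 8] : List (Fin 9)).formPerm)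
    (1 : Fin 9) 2 4 5 (by decide +kernel) (h.trans (by decide +kernel))

/-- Cycle type `[2, 2, 5]`. -/
theorem fuse_225 {σ : Perm α} (hn : 9 ≤ Fintype.card α)
    (h : σ.cycleType = {2, 2, 5}) : Fuse σ :=
  fuse_of_model hn (([0, 1] : List (Fin 9)).formPerm * ([2, 3] : List (Fin 9)).formPerm * ([4, 5, 6, 7, 8] : List (Fin 9)).formPerm)
    (([2, 3] : List (Fin 9)).formPerm * ([4, 5, 7] : List (Fin 9)).formPerm * ([6, 8] : List (Fin 9)).formPerm)
    (([0, 2, 1, 3] : List (Fin 9)).formPerm * ([4, 5, 8, 6] : List (Fin 9)).formPerm)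
    (2 : Fin 9) 3 6 8 (by decide +kernel) (h.trans (by decide +kernel))

/-- Cycle type `[2, 3, 4]`. -/
theorem fuse_234 {σ : Perm α} (hn : 9 ≤ Fintype.card α)
    (h : σ.cycleType = {2, 3, 4}) : Fuse σ :=
  fuse_of_model hn (([0, 1] : List (Fin 9)).formPerm * ([2, 3, 4] : List (Fin 9)).formPerm * ([5, 6, 7, 8] : List (Fin 9)).formPerm)
    (([2, 3] : List (Fin 9)).formPerm * ([4, 5, 6] : List (Fin 9)).formPerm * ([7, 8] : List (Fin 9)).formPerm)
    (([0, 3] : List (Fin 9)).formPerm * ([1, 8, 7, 5, 4, 2] : List (Fin 9)).formPerm)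
    (2 : Fin 9) 3 7 8 (by decide +kernel) (h.trans (by decide +kernel))

/-- The cycle types moving at most nine points. -/
def smallTypes : List (Multiset ℕ) :=
  [0, {2}, {2, 2}, {2, 2, 2}, {2, 2, 2, 2}, {2, 2, 2, 3}, {2, 2, 3}, {2, 2, 4}, {2, 2, 5}, {2, 3}, {2, 3, 3}, {2, 3, 4}, {2, 4}, {2, 5}, {2, 6}, {2, 7}, {3}, {3, 3}, {3, 3, 3}, {3, 4}, {3, 5}, {3, 6}, {4}, {4, 4}, {4, 5}, {5}, {6}, {7}, {8}, {9}]

theorem mem_smallTypes : ∀ s : Multiset ℕ, (∀ x ∈ s, 2 ≤ x) → s.sum ≤ 9 → s ∈ smallTypes := by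
  have hstep : ∀ s ∈ smallTypes, ∀ x ∈ List.range 10, 2 ≤ x → x + s.sum ≤ 9 →
      x ::ₘ s ∈ smallTypes := by
    decide +kernel
  intro s
  induction s using Multiset.induction_on with
  | empty => intro _ _; decide +kernel
  | cons x s ih =>
    intro h hs
    rw [Multiset.sum_cons] at hs
    exact hstep s (ih (fun y hy => h y (Multiset.mem_cons_of_mem hy)) (by omega)) x
      (List.mem_range.2 (by omega)) (h x (Multiset.mem_cons_self x s)) hs

/-- Even permutations moving between four and nine points. -/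
theorem fuse_small {σ : Perm α} (hσ : Perm.sign σ = 1) (h4 : 4 ≤ σ.support.card)
    (h9 : σ.support.card ≤ 9) : Fuse σ := by
  have hn := Finset.card_le_univ σ.support
  rw [← Perm.sum_cycleType] at h4 h9 hn
  have hmem := mem_smallTypes σ.cycleType (fun x hx => Perm.two_le_of_mem_cycleType hx) h9
  rw [Perm.sign_of_cycleType] at hσ
  simp only [smallTypes, List.mem_cons, List.not_mem_nil, or_false] at hmem
  rcases hmem with h | h | h | h | h | h | h | h | h | h | h | h | h | h | h | h | h | h | h | h |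
      h | h | h | h | h | h | h | h | h | h <;>
    rw [h] at h4 hσ hn <;>
    first
      | (simp at h4; done)
      | exact absurd hσ (by decide +kernel)
      | exact fuse_22 (by simpa using hn) h
      | exact fuse_5 (by simpa using hn) h
      | exact fuse_33 (by simpa using hn) h
      | exact fuse_24 (by simpa using hn) h
      | exact fuse_7 (by simpa using hn) h
      | exact fuse_223 (by simpa using hn) h
      | exact fuse_35 (by simpa using hn) h
      | exact fuse_26 (by simpa using hn) h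
      | exact fuse_44 (by simpa using hn) h
      | exact fuse_2222 (by simpa using hn) h
      | exact fuse_9 (by simpa using hn) h
      | exact fuse_333 (by simpa using hn) h
      | exact fuse_225 (by simpa using hn) h
      | exact fuse_234 (by simpa using hn) h

end CfsgLib.Perm.CommutatorSwap
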