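import Mathlib
import Cfsg.Agent.Lib.Perm.CommutatorSwapModels

/-!
# Even permutations as commutators: the general degree

Every even permutation of at least five points is a commutator `t s t⁻¹ s⁻¹` of even permutations
where `s` interchanges two disjoint pairs of points (`fuse_of_even`).
-/

set_option autoImplicit false

namespace CfsgLib.Perm.CommutatorSwap

open Equiv Function

variable {α : Type*} [Fintype α] [DecidableEq α]

/-- Both `r` and `σ * r` are involutions; they move `2 k` and `2 l` points. -/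
def IPair (σ : Perm α) (k l : ℕ) : Prop :=
  ∃ r : Perm α, r.support ⊆ σ.support ∧ r * r = 1 ∧ σ * r * (σ * r) = 1 ∧
    r.support.card = 2 * k ∧ (σ * r).support.card = 2 * l

theorem ipair_one : IPair (1 : Perm α) 0 0 := ⟨1, by simp, by simp, by simp, by simp, by simp⟩

theorem ipair_mul {σ τ : Perm α} (hd : σ.Disjoint τ) {k l k' l' : ℕ} (h : IPair σ k l)
    (h' : IPair τ k' l') : IPair (σ * τ) (k + k') (l + l') := by
  obtain ⟨r, hr, r2, sr2, hk, hl⟩ := h
  obtain ⟨r', hr', r2', sr2', hk', hl'⟩ := h'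
  have hsup := Perm.disjoint_iff_disjoint_support.1 hd
  have d1 : r.Disjoint τ := Perm.disjoint_iff_disjoint_support.2 (hsup.mono_left hr)
  have d2 : r.Disjoint r' := Perm.disjoint_iff_disjoint_support.2 (hsup.mono hr hr')
  have hs1 : (σ * r).support ⊆ σ.support :=
    (Perm.support_mul_le σ r).trans (Finset.union_subset subset_rfl hr)
  have hs2 : (τ * r').support ⊆ τ.support :=
    (Perm.support_mul_le τ r').trans (Finset.union_subset subset_rfl hr')
  have d3 : (σ * r).Disjoint (τ * r') := Perm.disjoint_iff_disjoint_support.2 (hsup.mono hs1 hs2)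
  have e : σ * τ * (r * r') = σ * r * (τ * r') := by
    rw [mul_assoc, ← mul_assoc τ, ← d1.commute.eq]
    group
  refine ⟨r * r', ?_, ?_, ?_, ?_, ?_⟩
  · rw [d2.support_mul, hd.support_mul]
    exact Finset.union_subset_union hr hr'
  · rw [mul_assoc, ← mul_assoc r', ← d2.commute.eq, mul_assoc r, r2', mul_one, r2]
  · rw [e, mul_assoc, ← mul_assoc (τ * r'), ← d3.commute.eq, mul_assoc (σ * r) (τ * r'), sr2',
      mul_one, sr2]
  · rw [d2.card_support_mul, hk, hk', mul_add]
  · rw [e, d3.card_support_mul, hl, hl', mul_add]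

/-- The reflections of a cycle. -/
theorem cycle_reflect {c : Perm α} (hc : c.IsCycle) :
    (∀ k, c.support.card = 2 * k + 1 → IPair c k k) ∧
      (∀ k, c.support.card = 2 * k + 2 → IPair c k (k + 1) ∧ IPair c (k + 1) k) := by
  classical
  set m := c.support.card
  have hm0 : 0 < m := Finset.card_pos.2 hc.nonempty_support
  haveI : NeZero m := ⟨hm0.ne'⟩
  obtain ⟨x, hx⟩ := hc.nonempty_support
  have hord : orderOf c = m := hc.orderOf
  have hpow : ∀ i j : ℕ, (c ^ i) x = (c ^ j) x → i % m = j % m := fun i j h => by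
    rw [← hord]
    exact pow_eq_pow_iff_modEq.1 (hc.pow_eq_pow_iff.2 ⟨x, Perm.mem_support.1 hx, h⟩)
  let f : ZMod m → {z // z ∈ c.support} := fun j =>
    ⟨(c ^ j.val) x, Perm.pow_apply_mem_support.2 hx⟩
  have hf : Bijective f := by
    rw [Fintype.bijective_iff_injective_and_card]
    refine ⟨fun i j h => ZMod.val_injective _ ?_, by rw [ZMod.card, Fintype.card_coe]⟩
    have := hpow _ _ (congrArg Subtype.val h)
    rwa [Nat.mod_eq_of_lt (ZMod.val_lt i), Nat.mod_eq_of_lt (ZMod.val_lt j)] at this
  let e : ZMod m ≃ {z // z ∈ c.support} := Equiv.ofBijective f hf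
  have he : ∀ j, c (e j) = e (j + 1) := fun j => by
    show c ((c ^ j.val) x) = (c ^ (j + 1).val) x
    have h2 : (j + 1).val = (j.val + 1) % m := by
      rw [← ZMod.val_natCast, Nat.cast_add, ZMod.natCast_zmod_val, Nat.cast_one]
    have h3 := pow_mod_orderOf c (j.val + 1)
    rw [hord] at h3
    rw [h2, h3, pow_succ', Perm.mul_apply]
  have hceq : c = (Equiv.addRight (1 : ZMod m)).extendDomain e := by
    ext z
    by_cases hz : z ∈ c.support
    · obtain ⟨j, hj⟩ := e.surjective ⟨z, hz⟩
      have hz' : z = (e j : α) := by rw [hj]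
      rw [hz', Perm.extendDomain_apply_image, he]
      rfl
    · rw [Perm.extendDomain_apply_not_subtype _ _ hz, Perm.notMem_support.1 hz]
  -- the reflections
  let R : ZMod m → Perm α := fun a => Perm.extendDomain (Equiv.subLeft a) e
  have hR : ∀ a, (R a).support ⊆ c.support ∧ R a * R a = 1 ∧ c * R a = R (a + 1) := by
    intro a
    refine ⟨fun z hz => ?_, ?_, ?_⟩
    · by_contra h
      exact Perm.mem_support.1 hz (Perm.extendDomain_apply_not_subtype _ _ h)
    · show Perm.extendDomain (Equiv.subLeft a) e * Perm.extendDomain (Equiv.subLeft a) e = 1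
      rw [Perm.extendDomain_mul, show (Equiv.subLeft a : Perm (ZMod m)) * Equiv.subLeft a = 1 by
        ext y; simp [Perm.mul_apply], Perm.extendDomain_one]
    · show c * Perm.extendDomain (Equiv.subLeft a) e = Perm.extendDomain (Equiv.subLeft (a + 1)) e
      refine (congrArg (fun t => t * Perm.extendDomain (Equiv.subLeft a) e) hceq).trans ?_
      rw [Perm.extendDomain_mul]
      congr 1
      ext y
      simp [Perm.mul_apply, sub_add_eq_add_sub]
  have hcount : ∀ a, (R a).support.card + (Finset.univ.filter fun y : ZMod m => a - y = y).card = m := by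
    intro a
    rw [Perm.card_support_extend_domain]
    have h := Finset.card_filter_add_card_filter_not (s := (Finset.univ : Finset (ZMod m)))
      (fun y => a - y = y)
    rw [Finset.card_univ, ZMod.card, add_comm] at h
    exact h
  have key : ∀ a k l, (R a).support.card = 2 * k → (R (a + 1)).support.card = 2 * l →
      IPair c k l := by
    intro a k l hk hl
    refine ⟨R a, (hR a).1, (hR a).2.1, ?_, hk, by rw [(hR a).2.2]; exact hl⟩
    rw [(hR a).2.2]
    exact (hR (a + 1)).2.1
  constructor
  · intro k hk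
    have hk' : m = 2 * k + 1 := hk
    set h : ZMod m := ((k + 1 : ℕ) : ZMod m) with hh
    have h2 : (2 : ZMod m) * h = 1 := by
      have : ((2 * (k + 1) : ℕ) : ZMod m) = ((1 + m : ℕ) : ZMod m) := by congr 1; omega
      simpa [hh] using this
    have hfix : ∀ a, (Finset.univ.filter fun y : ZMod m => a - y = y).card = 1 := by
      intro a
      rw [Finset.card_eq_one]
      refine ⟨h * a, Finset.ext fun y => ?_⟩
      simp only [Finset.mem_filter, Finset.mem_univ, true_and, Finset.mem_singleton]
      constructor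
      · intro e'
        have e'' : a = y + y := sub_eq_iff_eq_add.1 e'
        rw [e'', ← two_mul, ← mul_assoc, mul_comm h, h2, one_mul]
      · rintro rfl
        linear_combination (-a) * h2
    refine key 0 k k ?_ ?_
    · have := hcount 0; rw [hfix] at this; omega
    · have := hcount (0 + 1); rw [hfix] at this; omega
  · intro k hk
    have hk' : m = 2 * k + 2 := hk
    set h : ZMod m := ((k + 1 : ℕ) : ZMod m) with hh
    have h2 : (2 : ZMod m) * h = 0 := by
      have : ((2 * (k + 1) : ℕ) : ZMod m) = ((m : ℕ) : ZMod m) := by congr 1; omega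
      simpa [hh] using this
    have hne : h ≠ 0 := fun e' => by
      have := Nat.le_of_dvd (by omega) ((ZMod.natCast_eq_zero_iff (k + 1) m).1 e')
      omega
    have hker : ∀ y : ZMod m, y + y = 0 → y = 0 ∨ y = h := by
      intro y hy
      have h1 : ((2 * y.val : ℕ) : ZMod m) = 0 := by simpa [two_mul] using hy
      obtain ⟨t, ht⟩ := (ZMod.natCast_eq_zero_iff _ _).1 h1
      have := ZMod.val_lt y
      have ht2 : t < 2 := by
        by_contra hcon
        have := Nat.mul_le_mul_left m (show 2 ≤ t by omega)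
        omega
      rcases (by omega : t = 0 ∨ t = 1) with rfl | rfl
      · left
        rw [← ZMod.natCast_zmod_val y, show y.val = 0 by omega, Nat.cast_zero]
      · right
        rw [hh, ← ZMod.natCast_zmod_val y]
        congr 1
        omega
    have heven : ∀ b, (Finset.univ.filter fun y : ZMod m => (b + b) - y = y).card = 2 := by
      intro b
      rw [Finset.card_eq_two]
      refine ⟨b, b + h, fun e' => hne (by linear_combination -e'), Finset.ext fun y => ?_⟩
      simp only [Finset.mem_filter, Finset.mem_univ, true_and, Finset.mem_insert,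
        Finset.mem_singleton]
      constructor
      · intro e'
        rcases hker (y - b) (by linear_combination -e') with hy | hy
        · exact Or.inl (sub_eq_zero.1 hy)
        · exact Or.inr (by rw [← hy]; ring)
      · rintro (rfl | rfl)
        · ring
        · linear_combination -h2
    have hodd : (Finset.univ.filter fun y : ZMod m => (1 : ZMod m) - y = y).card = 0 := by
      rw [Finset.card_eq_zero, Finset.filter_eq_empty_iff]
      intro y _ e'
      have hdvd : 2 ∣ m := ⟨k + 1, by omega⟩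
      have h1 := congrArg (ZMod.castHom hdvd (ZMod 2)) e'
      rw [map_sub, map_one] at h1
      revert h1
      generalize ZMod.castHom hdvd (ZMod 2) y = z
      revert z
      decide
    refine ⟨key 0 k (k + 1) ?_ ?_, key 1 (k + 1) k ?_ ?_⟩
    · have := hcount 0; rw [← add_zero (0 : ZMod m), heven] at this; rw [← add_zero (0 : ZMod m)]; omega
    · have := hcount (0 + 1); rw [zero_add] at this ⊢; rw [hodd] at this; omega
    · have := hcount 1; rw [hodd] at this; omega
    · have := hcount (1 + 1); rw [heven] at this; omega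

theorem ipair_flip {x y z w : α} (hnd : [x, y, z, w].Nodup) :
    IPair (swap x y * swap z w) 2 2 := by
  simp only [List.nodup_cons, List.mem_cons, List.not_mem_nil, or_false, not_or] at hnd
  obtain ⟨⟨hxy, hxz, hxw⟩, ⟨hyz, hyw⟩, hzw, -⟩ := hnd
  have d0 : (swap x y).Disjoint (swap z w) := by
    rw [Perm.disjoint_iff_disjoint_support, Perm.support_swap hxy, Perm.support_swap hzw]
    simp [hxz, hxw, hyz, hyw, Ne.symm hxz, Ne.symm hxw, Ne.symm hyz, Ne.symm hyw]
  have d1 : (swap x z).Disjoint (swap y w) := by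
    rw [Perm.disjoint_iff_disjoint_support, Perm.support_swap hxz, Perm.support_swap hyw]
    simp [hxy, hxw, hzw, Ne.symm hxy, Ne.symm hxw, Ne.symm hyz, hyz, Ne.symm hzw]
  have d2 : (swap x w).Disjoint (swap y z) := by
    rw [Perm.disjoint_iff_disjoint_support, Perm.support_swap hxw, Perm.support_swap hyz]
    simp [hxy, hxz, hzw, Ne.symm hxy, Ne.symm hxz, Ne.symm hyw, hyw, Ne.symm hzw]
  have e : swap x y * swap z w * (swap x z * swap y w) = swap x w * swap y z := by
    ext t
    simp only [Perm.mul_apply, Equiv.swap_apply_def]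
    split_ifs <;> simp_all
  refine ⟨swap x z * swap y w, ?_, ?_, ?_, ?_, ?_⟩
  · rw [d1.support_mul, d0.support_mul, Perm.support_swap hxz, Perm.support_swap hyw,
      Perm.support_swap hxy, Perm.support_swap hzw]
    intro t
    simp
    tauto
  · rw [mul_assoc, ← mul_assoc (swap y w), ← d1.commute.eq, mul_assoc (swap x z), swap_mul_self,
      mul_one, swap_mul_self]
  · rw [e, mul_assoc, ← mul_assoc (swap y z), ← d2.commute.eq, mul_assoc (swap x w), swap_mul_self,
      mul_one, swap_mul_self]
  · rw [d1.card_support_mul, Perm.card_support_swap hxz, Perm.card_support_swap hyw]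
  · rw [e, d2.card_support_mul, Perm.card_support_swap hxw, Perm.card_support_swap hyz]

/-- The decomposition into pieces. -/
theorem exists_pieces : ∀ (n : ℕ) (σ : Perm α), σ.support.card = n → Perm.sign σ = 1 →
    ∃ k, IPair σ k k ∧ (IPair σ (k + 1) (k + 1) ∨ σ.support.card ≤ 3 * k) := by
  intro n
  induction n using Nat.strong_induction_on with
  | _ n ih =>
    intro σ hn hσ
    by_cases h1 : σ = 1
    · exact ⟨0, h1 ▸ ipair_one, Or.inr (by simp [h1])⟩
    have split : ∀ (τ : Perm α), ∀ c ∈ τ.cycleFactorsFinset,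
        τ = c * (τ * c⁻¹) ∧ c.Disjoint (τ * c⁻¹) ∧ c.IsCycle ∧
          τ.support.card = c.support.card + (τ * c⁻¹).support.card := by
      intro τ c hc
      have hd := (Perm.disjoint_mul_inv_of_mem_cycleFactorsFinset hc).symm
      have he : τ = c * (τ * c⁻¹) := by rw [hd.commute.eq]; group
      refine ⟨he, hd, (Perm.mem_cycleFactorsFinset_iff.1 hc).1, ?_⟩
      conv_lhs => rw [he]
      exact hd.card_support_mul
    by_cases hodd : ∃ c ∈ σ.cycleFactorsFinset, Odd c.support.card
    · obtain ⟨c, hc, k, hk⟩ := hodd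
      obtain ⟨he, hd, hcyc, hcard⟩ := split σ c hc
      have h2 := hcyc.two_le_card_support
      have hs : Perm.sign (σ * c⁻¹) = 1 := by
        rw [map_mul, map_inv, hσ, hcyc.sign, hk, pow_succ, pow_mul]
        simp
      obtain ⟨l, hl, hl'⟩ := ih _ (by omega) (σ * c⁻¹) rfl hs
      have hck := (cycle_reflect hcyc).1 k hk
      refine ⟨k + l, he ▸ ipair_mul hd hck hl, ?_⟩
      rcases hl' with hl' | hl'
      · left
        have := ipair_mul hd hck hl'
        rw [← he, ← add_assoc] at this
        exact this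
      · right; omega
    push Not at hodd
    obtain ⟨c, hc⟩ : σ.cycleFactorsFinset.Nonempty :=
      Finset.nonempty_iff_ne_empty.2 fun h => h1 (Perm.cycleFactorsFinset_eq_empty_iff.1 h)
    obtain ⟨he, hd, hcyc, hcard⟩ := split σ c hc
    have hce := Nat.not_odd_iff_even.1 (hodd c hc)
    have h2 := hcyc.two_le_card_support
    have hs : Perm.sign (σ * c⁻¹) = -1 := by
      rw [map_mul, map_inv, hσ, hcyc.sign, hce.neg_one_pow]
      simp
    obtain ⟨d, hd'⟩ : (σ * c⁻¹).cycleFactorsFinset.Nonempty :=
      Finset.nonempty_iff_ne_empty.2 fun h => by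
        rw [Perm.cycleFactorsFinset_eq_empty_iff.1 h, map_one] at hs
        exact absurd hs (by decide)
    obtain ⟨he', hdd, hdcyc, hdcard⟩ := split (σ * c⁻¹) d hd'
    have hde : Even d.support.card := by
      refine Nat.not_odd_iff_even.1 (hodd d ?_)
      have := (Perm.cycleFactorsFinset_mul_inv_mem_eq_sdiff hc) ▸ hd'
      exact (Finset.mem_sdiff.1 this).1
    have h2' := hdcyc.two_le_card_support
    set ρ := σ * c⁻¹ * d⁻¹
    have hsρ : Perm.sign ρ = 1 := by
      simp only [ρ, map_mul, map_inv] at hs ⊢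
      rw [hs, hdcyc.sign, hde.neg_one_pow]
      simp
    obtain ⟨l, hl, hl'⟩ := ih _ (by omega) ρ rfl hsρ
    obtain ⟨a, ha⟩ : ∃ a, c.support.card = 2 * a + 2 :=
      ⟨c.support.card / 2 - 1, by obtain ⟨t, ht⟩ := hce; omega⟩
    obtain ⟨b, hb⟩ : ∃ b, d.support.card = 2 * b + 2 :=
      ⟨d.support.card / 2 - 1, by obtain ⟨t, ht⟩ := hde; omega⟩
    have hcd : c.Disjoint d := by
      rw [Perm.disjoint_iff_disjoint_support] at hd ⊢
      refine hd.mono_right ?_
      exact Perm.mem_cycleFactorsFinset_support_le hd'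
    have hpair : IPair (c * d) (a + b + 1) (a + b + 1) := by
      have := ipair_mul hcd ((cycle_reflect hcyc).2 a ha).1 ((cycle_reflect hdcyc).2 b hb).2
      rwa [show a + (b + 1) = a + b + 1 by omega, show a + 1 + b = a + b + 1 by omega] at this
    have hcdρ : (c * d).Disjoint ρ := by
      rw [Perm.disjoint_iff_disjoint_support] at hd hdd ⊢
      rw [hcd.support_mul, Finset.disjoint_union_left]
      refine ⟨hd.mono_right ?_, hdd⟩
      conv_rhs => rw [he', Perm.Disjoint.support_mul (Perm.disjoint_iff_disjoint_support.2 hdd)]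
      exact Finset.subset_union_right
    have heσ : σ = c * d * ρ := by rw [mul_assoc, ← he', ← he]
    refine ⟨a + b + 1 + l, heσ ▸ ipair_mul hcdρ hpair hl, ?_⟩
    rcases Nat.eq_zero_or_pos (a + b) with h0 | h0
    · left
      obtain ⟨x, y, hxy, hcxy⟩ := Perm.card_support_eq_two.1 (by omega : c.support.card = 2)
      obtain ⟨z, w, hzw, hdzw⟩ := Perm.card_support_eq_two.1 (by omega : d.support.card = 2)
      have hflip : IPair (c * d) 2 2 := by
        have hsupp := Perm.disjoint_iff_disjoint_support.1 hcd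
        rw [hcxy, hdzw, Perm.support_swap hxy, Perm.support_swap hzw] at hsupp
        rw [hcxy, hdzw]
        refine ipair_flip ?_
        simp at hsupp
        simp [hxy, hzw]
        tauto
      have := ipair_mul hcdρ hflip hl
      rw [← heσ, show 2 + l = a + b + 1 + l + 1 by omega] at this
      exact this
    · rcases hl' with hl' | hl'
      · left
        have := ipair_mul hcdρ hpair hl'
        rw [← heσ, ← add_assoc] at this
        exact this
      · right; omega

omit [DecidableEq α] [Fintype α] in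
theorem apply_self {r : Perm α} (hr : r * r = 1) (x : α) : r (r x) = x :=
  DFunLike.congr_fun hr x

theorem sign_of_involution {r : Perm α} (hr : r * r = 1) {k : ℕ} (hk : r.support.card = 2 * k) :
    Perm.sign r = (-1) ^ k ∧ r.cycleType = Multiset.replicate k 2 := by
  haveI : Fact (Nat.Prime 2) := ⟨Nat.prime_two⟩
  have hrep := Perm.cycleType_of_pow_prime_eq_one (p := 2) (σ := r) (by rw [sq]; exact hr)
  have hsum := r.sum_cycleType
  rw [hk, hrep, Multiset.sum_replicate, smul_eq_mul] at hsum
  have hcard : Multiset.card r.cycleType = k := by omega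
  rw [hcard] at hrep
  refine ⟨?_, hrep⟩
  rw [Perm.sign_of_cycleType, Perm.sum_cycleType, hcard, hk, pow_add, pow_mul]
  simp

theorem swap_commute {r : Perm α} (hr : r * r = 1) (z : α) :
    swap z (r z) * r = r * swap z (r z) := by
  ext t
  simp only [Perm.mul_apply]
  by_cases h1 : t = z
  · subst h1; rw [swap_apply_right, swap_apply_left, apply_self hr]
  by_cases h2 : t = r z
  · subst h2; rw [apply_self hr, swap_apply_left, swap_apply_right]
  rw [swap_apply_of_ne_of_ne h1 h2, swap_apply_of_ne_of_ne]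
  · exact fun h => h2 (by rw [← h, apply_self hr])
  · exact fun h => h1 (r.injective h)

/-- An even conjugator. -/
theorem exists_even_conj {r r' : Perm α} {k : ℕ} (hr : r * r = 1) (hr' : r' * r' = 1)
    (hk : r.support.card = 2 * k) (hk' : r'.support.card = 2 * k) (hk1 : 1 ≤ k) :
    ∃ t : Perm α, Perm.sign t = 1 ∧ t * r * t⁻¹ = r' := by
  obtain ⟨t, ht⟩ := isConj_iff.1 (Perm.isConj_iff_cycleType_eq.2
    ((sign_of_involution hr hk).2.trans (sign_of_involution hr' hk').2.symm))
  obtain ⟨z, hz⟩ := Finset.card_pos.1 (by omega : 0 < r.support.card)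
  rcases Int.units_eq_one_or (Perm.sign t) with h | h
  · exact ⟨t, h, ht⟩
  refine ⟨t * swap z (r z), ?_, ?_⟩
  · rw [map_mul, h, Perm.sign_swap (Ne.symm (Perm.mem_support.1 hz)), Int.units_mul_self]
  · rw [mul_inv_rev, mul_assoc t, swap_commute hr z, ← ht]
    group

theorem fuse_of_ipair {σ : Perm α} {k : ℕ} (h : IPair σ k k) (hk : Even k) (hk2 : 2 ≤ k) :
    Fuse σ := by
  obtain ⟨r, -, r2, sr2, hk1, hl1⟩ := h
  obtain ⟨t, ht, hconj⟩ := exists_even_conj r2 sr2 hk1 hl1 (by omega)
  obtain ⟨z, hz⟩ := Finset.card_pos.1 (by omega : 0 < r.support.card)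
  obtain ⟨w, hw⟩ : (r.support \ {z, r z}).Nonempty := by
    rw [← Finset.card_pos]
    have h1 := Finset.le_card_sdiff ({z, r z} : Finset α) r.support
    have h2 := Finset.card_le_two (a := z) (b := r z)
    omega
  simp only [Finset.mem_sdiff, Finset.mem_insert, Finset.mem_singleton, not_or] at hw
  obtain ⟨hw, hwz, hwrz⟩ := hw
  have hrz := Perm.mem_support.1 hz
  have hrw := Perm.mem_support.1 hw
  refine ⟨r, t, z, r z, w, r w, (sign_of_involution r2 hk1).1.trans hk.neg_one_pow, ht, ?_, rfl,
    apply_self r2 z, rfl, apply_self r2 w, ?_⟩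
  · have e1 : z ≠ r w := fun e => hwrz (by rw [e, apply_self r2])
    have e2 : r z ≠ r w := fun e => hwz (r.injective e).symm
    simp [Ne.symm hrz, Ne.symm hwz, e1, Ne.symm hwrz, e2, Ne.symm hrw]
  · rw [hconj, mul_assoc, mul_inv_cancel, mul_one]

theorem ipair_succ {σ : Perm α} {k : ℕ} (h : IPair σ k k) {x y : α} (hxy : x ≠ y)
    (hx : σ x = x) (hy : σ y = y) : ∃ r : Perm α, r * r = 1 ∧ σ * r * (σ * r) = 1 ∧
      r.support.card = 2 * (k + 1) ∧ (σ * r).support.card = 2 * (k + 1) := by
  obtain ⟨r, hr, r2, sr2, hk1, hl1⟩ := h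
  have hd : σ.Disjoint (swap x y) := by
    rw [Perm.disjoint_iff_disjoint_support, Perm.support_swap hxy]
    simp [hx, hy]
  have hsup := Perm.disjoint_iff_disjoint_support.1 hd
  have d1 : r.Disjoint (swap x y) := Perm.disjoint_iff_disjoint_support.2 (hsup.mono_left hr)
  have d2 : (σ * r).Disjoint (swap x y) := Perm.disjoint_iff_disjoint_support.2
    (hsup.mono_left ((Perm.support_mul_le σ r).trans (Finset.union_subset subset_rfl hr)))
  refine ⟨r * swap x y, ?_, ?_, ?_, ?_⟩
  · rw [mul_assoc, ← mul_assoc (swap x y), ← d1.commute.eq, mul_assoc r, swap_mul_self, mul_one, r2]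
  · rw [← mul_assoc σ r, mul_assoc, ← mul_assoc (swap x y), ← d2.commute.eq, mul_assoc (σ * r),
      swap_mul_self, mul_one, sr2]
  · rw [d1.card_support_mul, Perm.card_support_swap hxy, hk1, mul_add]
  · rw [← mul_assoc, d2.card_support_mul, Perm.card_support_swap hxy, hl1, mul_add]

/-- Centraliser of an involution, moving one moved point to another. -/
theorem exists_move {r : Perm α} (hr : r * r = 1) {u v : α} (hu : r u ≠ u) (hv : r v ≠ v) :
    ∃ c : Perm α, c * r = r * c ∧ c u = v ∧
      ∀ w, w ≠ u → w ≠ r u → w ≠ v → w ≠ r v → c w = w := by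
  by_cases h1 : v = u
  · exact ⟨1, by simp, by simp [h1], fun w _ _ _ _ => rfl⟩
  by_cases h2 : v = r u
  · subst h2
    exact ⟨swap u (r u), swap_commute hr u, swap_apply_left _ _,
      fun w hw hw' _ _ => swap_apply_of_ne_of_ne hw hw'⟩
  refine ⟨swap u v * swap (r u) (r v), ?_, ?_, fun w hw hw' hw'' hw''' => ?_⟩
  · have hc : r * (swap u v * swap (r u) (r v)) * r⁻¹ = swap u v * swap (r u) (r v) := by
      rw [show r * (swap u v * swap (r u) (r v)) * r⁻¹ =
        (r * swap u v * r⁻¹) * (r * swap (r u) (r v) * r⁻¹) by group, ← Equiv.swap_apply_apply,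
        ← Equiv.swap_apply_apply, apply_self hr, apply_self hr]
      refine (Perm.Disjoint.commute ?_).eq
      have q1 : r u ≠ r v := fun e => h1 (r.injective e).symm
      have q2 : r v ≠ u := fun e => h2 (by rw [← e, apply_self hr])
      rw [Perm.disjoint_iff_disjoint_support, Perm.support_swap (Ne.symm h1), Perm.support_swap q1]
      simp [hu, hv, q2, Ne.symm h2, Ne.symm hu, Ne.symm hv, h2, Ne.symm q2]
    exact (mul_inv_eq_iff_eq_mul.1 hc).symm
  · have q2 : u ≠ r v := fun e => h2 (by rw [e, apply_self hr])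
    rw [Perm.mul_apply, swap_apply_of_ne_of_ne hu.symm q2, swap_apply_left]
  · rw [Perm.mul_apply, swap_apply_of_ne_of_ne hw' hw''', swap_apply_of_ne_of_ne hw hw'']

/-- The twisted case. -/
theorem fuse_twist {σ : Perm α} {k : ℕ} (h : IPair σ k k) (hk : Odd k) (hk5 : 5 ≤ k)
    (hsupp : σ.support.card ≤ 3 * k) : Fuse σ := by
  classical
  obtain ⟨r, hr, r2, sr2, hk1, hl1⟩ := h
  set r' := σ * r
  have hr' : r'.support ⊆ σ.support :=
    (Perm.support_mul_le σ r).trans (Finset.union_subset subset_rfl hr)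
  have hinter : 4 ≤ (r.support ∩ r'.support).card := by
    have h1 := Finset.card_union_add_card_inter r.support r'.support
    have h2 := Finset.card_le_card (Finset.union_subset hr hr')
    omega
  obtain ⟨x, hx⟩ := Finset.card_pos.1 (by omega : 0 < (r.support ∩ r'.support).card)
  obtain ⟨y, hy⟩ : ((r.support ∩ r'.support) \ {x, r x, r' x}).Nonempty := by
    rw [← Finset.card_pos]
    have h1 := Finset.le_card_sdiff ({x, r x, r' x} : Finset α) (r.support ∩ r'.support)
    have h2 := Finset.card_le_three (a := x) (b := r x) (c := r' x)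
    omega
  simp only [Finset.mem_sdiff, Finset.mem_inter, Finset.mem_insert, Finset.mem_singleton, not_or,
    Perm.mem_support] at hx hy
  obtain ⟨⟨hyr, hyr'⟩, hyx, hyrx, hyr'x⟩ := hy
  obtain ⟨hxr, hxr'⟩ := hx
  have hryx : r y ≠ x := fun e => hyrx (by rw [← e, apply_self r2])
  -- a conjugator fixing both points
  obtain ⟨t₀, ht₀⟩ := isConj_iff.1 (Perm.isConj_iff_cycleType_eq.2
    ((sign_of_involution r2 hk1).2.trans (sign_of_involution sr2 hl1).2.symm))
  have hcomm : ∀ p, t₀ (r p) = r' (t₀ p) := fun p => by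
    rw [← ht₀]; simp
  obtain ⟨c₁, hc₁, hc₁x, -⟩ := exists_move sr2 (u := t₀ x) (v := x)
    (fun e => hxr (t₀.injective (by rw [hcomm, e]))) hxr'
  have hcomm₁ : ∀ p, (c₁ * t₀) (r p) = r' ((c₁ * t₀) p) := fun p => by
    rw [Perm.mul_apply, hcomm, ← Perm.mul_apply, hc₁]; rfl
  set y₁ := (c₁ * t₀) y
  have hx₁ : (c₁ * t₀) x = x := hc₁x
  obtain ⟨c₂, hc₂, hc₂y, hc₂w⟩ := exists_move sr2 (u := y₁) (v := y)
    (fun e => hyr ((c₁ * t₀).injective (by rw [hcomm₁]; exact e))) hyr'
  have hc₂x : c₂ x = x := by
    refine hc₂w x ?_ ?_ (Ne.symm hyx) ?_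
    · intro e
      exact hyx ((c₁ * t₀).injective (e.symm.trans hx₁.symm))
    · intro e
      apply hryx
      apply (c₁ * t₀).injective
      rw [hcomm₁, hx₁, e]
    · intro e
      exact hyr'x (by rw [e, apply_self sr2])
  -- the second pair of points
  obtain ⟨z, hz⟩ : (r.support \ {x, r x, y, r y}).Nonempty := by
    rw [← Finset.card_pos]
    have h1 := Finset.le_card_sdiff ({x, r x, y, r y} : Finset α) r.support
    have h2 := Finset.card_le_four (a := x) (b := r x) (c := y) (d := r y)
    omega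
  obtain ⟨w, hw⟩ : (r.support \ {x, r x, y, r y, z, r z}).Nonempty := by
    rw [← Finset.card_pos]
    have h1 := Finset.le_card_sdiff ({x, r x, y, r y, z, r z} : Finset α) r.support
    have h2 := Finset.card_le_six (a := x) (b := r x) (c := y) (d := r y) (e := z) (f := r z)
    omega
  simp only [Finset.mem_sdiff, Finset.mem_insert, Finset.mem_singleton, not_or,
    Perm.mem_support] at hz hw
  obtain ⟨hzr, hzx, hzrx, hzy, hzry⟩ := hz
  obtain ⟨hwr, hwx, hwrx, hwy, hwry, hwz, hwrz⟩ := hw
  obtain ⟨t, ht, htr, htx, hty⟩ : ∃ t : Perm α, Perm.sign t = 1 ∧ t * r = r' * t ∧ t x = x ∧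
      t y = y := by
    have hT : ∀ p, (c₂ * (c₁ * t₀)) (r p) = r' ((c₂ * (c₁ * t₀)) p) := fun p => by
      rw [Perm.mul_apply, hcomm₁, ← Perm.mul_apply, hc₂]; rfl
    have hTx : (c₂ * (c₁ * t₀)) x = x := by rw [Perm.mul_apply, hx₁, hc₂x]
    have hTy : (c₂ * (c₁ * t₀)) y = y := hc₂y
    rcases Int.units_eq_one_or (Perm.sign (c₂ * (c₁ * t₀))) with h | h
    · exact ⟨_, h, Equiv.ext hT, hTx, hTy⟩
    · refine ⟨c₂ * (c₁ * t₀) * swap z (r z), ?_, ?_, ?_, ?_⟩
      · rw [map_mul, h, Perm.sign_swap (Ne.symm hzr), Int.units_mul_self]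
      · rw [mul_assoc, swap_commute r2 z, ← mul_assoc,
          show c₂ * (c₁ * t₀) * r = r' * (c₂ * (c₁ * t₀)) from Equiv.ext hT, mul_assoc]
      · rw [Perm.mul_apply, swap_apply_of_ne_of_ne (Ne.symm hzx)
          (fun e => hzrx (by rw [e, apply_self r2])), hTx]
      · rw [Perm.mul_apply, swap_apply_of_ne_of_ne (Ne.symm hzy)
          (fun e => hzry (by rw [e, apply_self r2])), hTy]
  have hs : ∀ p, p ≠ x → p ≠ y → (r * swap x y) p = r p := fun p h1 h2 => by
    rw [Perm.mul_apply, swap_apply_of_ne_of_ne h1 h2]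
  have gz1 : r z ≠ x := fun e => hzrx (by rw [← e, apply_self r2])
  have gz2 : r z ≠ y := fun e => hzry (by rw [← e, apply_self r2])
  have gw1 : r w ≠ x := fun e => hwrx (by rw [← e, apply_self r2])
  have gw2 : r w ≠ y := fun e => hwry (by rw [← e, apply_self r2])
  refine ⟨r * swap x y, t, z, r z, w, r w, ?_, ht, ?_, hs z hzx hzy, ?_, hs w hwx hwy, ?_, ?_⟩
  · rw [map_mul, (sign_of_involution r2 hk1).1, Perm.sign_swap (Ne.symm hyx), hk.neg_one_pow,
      Int.units_mul_self]
  · have e1 : z ≠ r w := fun e => hwrz (by rw [e, apply_self r2])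
    have e2 : r z ≠ r w := fun e => hwz (r.injective e).symm
    simp [Ne.symm hzr, Ne.symm hwz, e1, Ne.symm hwrz, e2, Ne.symm hwr]
  · rw [hs _ gz1 gz2, apply_self r2]
  · rw [hs _ gw1 gw2, apply_self r2]
  · have e1 : t * swap x y * t⁻¹ = swap x y := by rw [← Equiv.swap_apply_apply, htx, hty]
    have e2 : t * (r * swap x y) * t⁻¹ = r' * swap x y := by
      rw [← mul_assoc, htr, mul_assoc r' t, mul_assoc r', e1]
    rw [e2]
    show σ = σ * r * swap x y * (r * swap x y)⁻¹
    group

/-- Every even permutation of at least five points is such a commutator. -/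
theorem fuse_of_even (hn : 5 ≤ Fintype.card α) {σ : Perm α} (hσ : Perm.sign σ = 1) : Fuse σ := by
  classical
  by_cases h1 : σ = 1
  · subst h1
    obtain ⟨f⟩ : Nonempty (Fin 4 ↪ α) :=
      Function.Embedding.nonempty_of_card_le (by rw [Fintype.card_fin]; omega)
    have h01 : f 0 ≠ f 1 := f.injective.ne (by decide)
    have h02 : f 0 ≠ f 2 := f.injective.ne (by decide)
    have h03 : f 0 ≠ f 3 := f.injective.ne (by decide)
    have h12 : f 1 ≠ f 2 := f.injective.ne (by decide)
    have h13 : f 1 ≠ f 3 := f.injective.ne (by decide)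
    have h23 : f 2 ≠ f 3 := f.injective.ne (by decide)
    refine ⟨swap (f 0) (f 1) * swap (f 2) (f 3), 1, f 0, f 1, f 2, f 3, ?_, map_one _, ?_, ?_, ?_,
      ?_, ?_, by group⟩
    · rw [map_mul, Perm.sign_swap h01, Perm.sign_swap h23, Int.units_mul_self]
    · simp [h01, h02, h03, h12, h13, h23]
    · rw [Perm.mul_apply, swap_apply_of_ne_of_ne h02 h03, swap_apply_left]
    · rw [Perm.mul_apply, swap_apply_of_ne_of_ne h12 h13, swap_apply_right]
    · rw [Perm.mul_apply, swap_apply_left, swap_apply_of_ne_of_ne h03.symm h13.symm]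
    · rw [Perm.mul_apply, swap_apply_right, swap_apply_of_ne_of_ne h02.symm h12.symm]
  obtain ⟨k, hk, hk'⟩ := exists_pieces _ σ rfl hσ
  have hk1 : 1 ≤ k := by
    by_contra hcon
    obtain ⟨r, -, -, -, hr1, hr2⟩ := hk
    rw [show k = 0 by omega, mul_zero, Finset.card_eq_zero, Perm.support_eq_empty_iff] at hr1 hr2
    rw [hr1, mul_one] at hr2
    exact h1 hr2
  rcases Nat.even_or_odd k with he | ho
  · exact fuse_of_ipair hk he (by obtain ⟨t, ht⟩ := he; omega)
  rcases hk' with hflip | hsupp
  · exact fuse_of_ipair hflip ho.add_one (by omega)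
  by_cases hfix : σ.support.card + 2 ≤ Fintype.card α
  · obtain ⟨x, y, hxy, hx, hy⟩ : ∃ x y : α, x ≠ y ∧ σ x = x ∧ σ y = y := by
      have h2 : 1 < σ.supportᶜ.card := by rw [Finset.card_compl]; omega
      obtain ⟨x, y, hx, hy, hxy⟩ := Finset.one_lt_card_iff.1 h2
      exact ⟨x, y, hxy, by simpa using hx, by simpa using hy⟩
    obtain ⟨r, r2, sr2, hr1, hr2⟩ := ipair_succ hk hxy hx hy
    obtain ⟨t, ht, hconj⟩ := exists_even_conj r2 sr2 hr1 hr2 (by omega)
    obtain ⟨z, hz⟩ := Finset.card_pos.1 (by omega : 0 < r.support.card)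
    obtain ⟨w, hw⟩ : (r.support \ {z, r z}).Nonempty := by
      rw [← Finset.card_pos]
      have h1 := Finset.le_card_sdiff ({z, r z} : Finset α) r.support
      have h2 := Finset.card_le_two (a := z) (b := r z)
      omega
    simp only [Finset.mem_sdiff, Finset.mem_insert, Finset.mem_singleton, not_or] at hw
    obtain ⟨hw, hwz, hwrz⟩ := hw
    refine ⟨r, t, z, r z, w, r w, (sign_of_involution r2 hr1).1.trans ho.add_one.neg_one_pow, ht,
      ?_, rfl, apply_self r2 z, rfl, apply_self r2 w,
      by rw [hconj, mul_assoc, mul_inv_cancel, mul_one]⟩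
    have e1 : z ≠ r w := fun e => hwrz (by rw [e, apply_self r2])
    have e2 : r z ≠ r w := fun e => hwz (r.injective e).symm
    simp [Ne.symm (Perm.mem_support.1 hz), Ne.symm hwz, e1, Ne.symm hwrz, e2,
      Ne.symm (Perm.mem_support.1 hw)]
  by_cases h9 : σ.support.card ≤ 9
  · exact fuse_small hσ (by omega) h9
  exact fuse_twist hk ho (by obtain ⟨t, ht⟩ := ho; omega) hsupp

end CfsgLib.Perm.CommutatorSwap
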