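import Mathlib

/-!
# Composition length

* `Reach K l`: some series from `⊥` to `K`, each term normal in the next, has `l` strict steps.
* `clen G`: the greatest such `l` for `K = ⊤`, with additivity and the Lagrange bound.
-/

set_option autoImplicit false
set_option linter.all false

namespace CfsgLib.Perm.CompLength

variable {G Q : Type*} [Group G] [Group Q]

/-- A subnormal series with strict steps reaches `K` in `l` steps. -/
inductive Reach : Subgroup G → ℕ → Prop
  | bot : Reach ⊥ 0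
  | step {A B : Subgroup G} {l : ℕ} :
      Reach A l → A < B → (∀ a ∈ A, ∀ b ∈ B, b * a * b⁻¹ ∈ A) → Reach B (l + 1)

theorem Reach.pow_le [Finite G] {q : ℕ} (hq : ∀ d, d ∣ Nat.card G → d ≠ 1 → q ≤ d) {K : Subgroup G} {l : ℕ}
    (h : Reach K l) : q ^ l ≤ Nat.card K := by
  induction h with
  | bot => simp
  | @step A B l _ hAB _ ih =>
    have h1 : A.relIndex B * Nat.card A = Nat.card B := by
      rw [mul_comm, Subgroup.relIndex, ← Nat.card_congr (Subgroup.subgroupOfEquivOfLe hAB.le).toEquiv]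
      exact Subgroup.card_mul_index _
    have h2 : A.relIndex B ≠ 1 := fun e => hAB.not_ge (Subgroup.relIndex_eq_one.1 e)
    have h3 : A.relIndex B ∣ Nat.card G :=
      (Dvd.intro _ h1).trans (Subgroup.card_subgroup_dvd_card B)
    rw [pow_succ', ← h1]
    exact Nat.mul_le_mul (hq _ h3 h2) ih

theorem two_le_of_dvd [Finite G] (d : ℕ) (hd : d ∣ Nat.card G) (h1 : d ≠ 1) : 2 ≤ d := by
  have := Nat.pos_of_dvd_of_pos hd Nat.card_pos
  omega

theorem Reach.le_card [Finite G] {K : Subgroup G} {l : ℕ} (h : Reach K l) : l ≤ Nat.card G :=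
  (Nat.lt_pow_self (by norm_num : 1 < 2)).le.trans
    ((h.pow_le two_le_of_dvd).trans (Nat.le_of_dvd Nat.card_pos (Subgroup.card_subgroup_dvd_card K)))

/-- The composition length. -/
noncomputable def clen (G : Type*) [Group G] : ℕ := sSup {l | Reach (⊤ : Subgroup G) l}

theorem clen_le {b : ℕ} (h : ∀ l, Reach (⊤ : Subgroup G) l → l ≤ b) : clen G ≤ b := csSup_le' h

theorem le_clen [Finite G] {l : ℕ} (h : Reach (⊤ : Subgroup G) l) : l ≤ clen G :=
  le_csSup ⟨Nat.card G, fun _ hl => hl.le_card⟩ h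

theorem pow_clen_le [Finite G] {q : ℕ} (hq : ∀ d, d ∣ Nat.card G → d ≠ 1 → q ≤ d) : q ^ clen G ≤ Nat.card G := by
  by_cases hne : {l | Reach (⊤ : Subgroup G) l}.Nonempty
  · have h : Reach (⊤ : Subgroup G) (clen G) := Nat.sSup_mem hne ⟨Nat.card G, fun _ hl => hl.le_card⟩
    have := h.pow_le hq
    rwa [Subgroup.card_top] at this
  · rw [clen, Set.not_nonempty_iff_eq_empty.1 hne, csSup_empty, bot_eq_zero, pow_zero]
    exact Nat.card_pos

theorem two_pow_clen_le [Finite G] : 2 ^ clen G ≤ Nat.card G := pow_clen_le two_le_of_dvd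

theorem clen_eq_zero_of_subsingleton [Subsingleton G] : clen G = 0 := by
  have h := two_pow_clen_le (G := G)
  rw [Nat.card_unique] at h
  by_contra h0
  have h2 : 2 ^ 1 ≤ 2 ^ clen G := Nat.pow_le_pow_right two_pos (by omega)
  omega

theorem Reach.split (φ : G →* Q) {K : Subgroup G} {l : ℕ} (h : Reach K l) :
    ∃ a b, l ≤ a + b ∧ Reach (K.subgroupOf φ.ker) a ∧ Reach (K.map φ.rangeRestrict) b := by
  induction h with
  | bot => exact ⟨0, 0, le_rfl, by rw [Subgroup.bot_subgroupOf]; exact .bot, by rw [Subgroup.map_bot]; exact .bot⟩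
  | @step A B l _ hAB hn ih =>
    obtain ⟨a, b, hl, ha, hb⟩ := ih
    have n1 : ∀ x ∈ A.subgroupOf φ.ker, ∀ y ∈ B.subgroupOf φ.ker, y * x * y⁻¹ ∈ A.subgroupOf φ.ker :=
      fun x hx y hy => hn _ hx _ hy
    have n2 : ∀ x ∈ A.map φ.rangeRestrict, ∀ y ∈ B.map φ.rangeRestrict, y * x * y⁻¹ ∈ A.map φ.rangeRestrict := by
      rintro _ ⟨x, hx, rfl⟩ _ ⟨y, hy, rfl⟩
      exact ⟨y * x * y⁻¹, hn x hx y hy, by simp⟩
    have l1 : A.subgroupOf φ.ker ≤ B.subgroupOf φ.ker := Subgroup.comap_mono hAB.le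
    have l2 : A.map φ.rangeRestrict ≤ B.map φ.rangeRestrict := Subgroup.map_mono hAB.le
    by_cases e1 : A.subgroupOf φ.ker = B.subgroupOf φ.ker
    · by_cases e2 : A.map φ.rangeRestrict = B.map φ.rangeRestrict
      · refine absurd (fun x hx => ?_) hAB.not_ge
        obtain ⟨y, hy, hyx⟩ := e2.ge (Subgroup.mem_map_of_mem _ hx)
        have hk : y⁻¹ * x ∈ φ.ker := by
          rw [MonoidHom.mem_ker, map_mul, map_inv, show φ y = φ x from congrArg Subtype.val hyx, inv_mul_cancel]
        have : (⟨_, hk⟩ : φ.ker) ∈ A.subgroupOf φ.ker := e1.ge (B.mul_mem (B.inv_mem (hAB.le hy)) hx)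
        simpa using A.mul_mem hy this
      · exact ⟨a, b + 1, by omega, e1 ▸ ha, hb.step (lt_of_le_of_ne l2 e2) n2⟩
    · by_cases e2 : A.map φ.rangeRestrict = B.map φ.rangeRestrict
      · exact ⟨a + 1, b, by omega, ha.step (lt_of_le_of_ne l1 e1) n1, e2 ▸ hb⟩
      · exact ⟨a + 1, b + 1, by omega, ha.step (lt_of_le_of_ne l1 e1) n1, hb.step (lt_of_le_of_ne l2 e2) n2⟩

theorem clen_le_ker_add_range [Finite G] (φ : G →* Q) : clen G ≤ clen φ.ker + clen φ.range := by
  refine clen_le fun l hl => ?_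
  obtain ⟨a, b, hab, ha, hb⟩ := hl.split φ
  rw [Subgroup.top_subgroupOf] at ha
  rw [Subgroup.map_top_of_surjective _ φ.rangeRestrict_surjective] at hb
  haveI : Finite φ.range := Finite.of_surjective _ φ.rangeRestrict_surjective
  exact hab.trans (Nat.add_le_add (le_clen ha) (le_clen hb))

theorem Reach.comap {φ : G →* Q} (hφ : Function.Surjective φ) {K : Subgroup Q} {l : ℕ} (h : Reach K l) :
    ∃ l', l ≤ l' ∧ Reach (K.comap φ) l' := by
  induction h with
  | bot =>
    rw [MonoidHom.comap_bot]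
    by_cases hk : φ.ker = ⊥
    · exact ⟨0, le_rfl, by rw [hk]; exact .bot⟩
    · exact ⟨1, zero_le_one, Reach.bot.step (bot_lt_iff_ne_bot.2 hk)
        fun a ha b _ => by rw [Subgroup.mem_bot] at ha ⊢; simp [ha]⟩
  | @step A B l _ hAB hn ih =>
    obtain ⟨l', hl', hA⟩ := ih
    exact ⟨l' + 1, by omega, hA.step ((Subgroup.comap_lt_comap_of_surjective hφ).2 hAB) fun a ha b hb => by
      rw [Subgroup.mem_comap, map_mul, map_mul, map_inv]; exact hn _ ha _ hb⟩

theorem clen_le_of_surjective [Finite G] (φ : G →* Q) (hφ : Function.Surjective φ) : clen Q ≤ clen G := by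
  refine clen_le fun l hl => ?_
  obtain ⟨l', hl', h⟩ := hl.comap hφ
  rw [Subgroup.comap_top] at h
  exact hl'.trans (le_clen h)

theorem clen_congr [Finite G] (e : G ≃* Q) : clen G = clen Q := by
  haveI : Finite Q := Finite.of_surjective e e.surjective
  exact le_antisymm (clen_le_of_surjective e.symm.toMonoidHom e.symm.surjective)
    (clen_le_of_surjective e.toMonoidHom e.surjective)

theorem clen_eq_range [Finite G] (φ : G →* Q) (hφ : Function.Injective φ) : clen G = clen φ.range :=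
  clen_congr (MonoidHom.ofInjective hφ)

theorem clen_le_quotient [Finite G] (N : Subgroup G) [N.Normal] : clen G ≤ clen N + clen (G ⧸ N) := by
  have h := clen_le_ker_add_range (QuotientGroup.mk' N)
  have e1 : clen (QuotientGroup.mk' N).ker = clen N := clen_congr (MulEquiv.subgroupCongr (QuotientGroup.ker_mk' N))
  have e2 : clen (QuotientGroup.mk' N).range = clen (G ⧸ N) := clen_congr
    ((MulEquiv.subgroupCongr (MonoidHom.range_eq_top.2 (QuotientGroup.mk'_surjective N))).trans Subgroup.topEquiv)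
  omega

theorem clen_le_one_of_isSimple [IsSimpleGroup G] : clen G ≤ 1 := by
  have h0 : ∀ (K : Subgroup G) (k : ℕ), Reach K k → K = ⊥ → k = 0 := by
    intro K k hK e
    cases hK with
    | bot => rfl
    | step _ h' _ => exact absurd (e ▸ h') not_lt_bot
  suffices h : ∀ (K : Subgroup G) (k : ℕ), Reach K k → K = ⊤ → k ≤ 1 from clen_le fun l hl => h ⊤ l hl rfl
  intro K k hK e
  cases hK with
  | bot => omega
  | @step A B m hA hlt hn =>
    have hA' : A.Normal := ⟨fun a ha b => hn a ha b (e.symm ▸ Subgroup.mem_top b)⟩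
    have := h0 A _ hA (hA'.eq_bot_or_eq_top.resolve_right fun h => hlt.not_ge (by rw [h]; exact le_top))
    omega

theorem reach_of_chain {l : ℕ} (H : Fin (l + 1) → Subgroup G) (h0 : H 0 = ⊥)
    (hchain : ∀ i : Fin l, H i.castSucc < H i.succ ∧ ((H i.castSucc).subgroupOf (H i.succ)).Normal) :
    Reach (H (Fin.last l)) l := by
  suffices h : ∀ i : Fin (l + 1), Reach (H i) i.1 from h (Fin.last l)
  refine Fin.induction ?_ fun i ih => ?_
  · rw [h0]; exact .bot
  · obtain ⟨hlt, hn⟩ := hchain i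
    refine ih.step hlt fun a ha b hb => ?_
    exact hn.conj_mem ⟨a, hlt.le ha⟩ ha ⟨b, hb⟩

end CfsgLib.Perm.CompLength
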