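import Mathlib
import Cfsg.Agent.S5913
import Cfsg.Agent.Lib.Perm.CompositionLength

/-!
# Ingredients for the composition length of a permutation group

* `Good n`: the bound in degree `n`.
* `intransitive_bound`, `affine_arith`, `small_class`, `factor_bound` and the facts about the factors of `T ^ k`.
-/

set_option autoImplicit false
set_option linter.all false

namespace CfsgLib.Perm.CompLength

/-- The bound `3 c + 4 r ≤ 4 n` for groups on `n` points keeping a function with `r` values. -/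
def Good (n : ℕ) : Prop :=
  ∀ (α : Type) [Finite α] (G : Subgroup (Equiv.Perm α)) (ι : Type) (f : α → ι),
    (∀ g ∈ G, ∀ x, f (g x) = f x) → Nat.card α = n → 3 * clen G + 4 * (Set.range f).ncard ≤ 4 * n

/-- The restriction of an action to an invariant set. -/
def restrHom {G α : Type*} [Group G] (φ : G →* Equiv.Perm α) (Δ : Set α) (h : ∀ g x, φ g x ∈ Δ ↔ x ∈ Δ) :
    G →* Equiv.Perm Δ where
  toFun g := (φ g).subtypePerm (h g)
  map_one' := Equiv.ext fun x => Subtype.ext (by simp)
  map_mul' g g' := Equiv.ext fun x => Subtype.ext (by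
    show φ (g * g') x = φ g (φ g' x)
    rw [map_mul]
    rfl)

theorem restrHom_apply {G α : Type*} [Group G] (φ : G →* Equiv.Perm α) (Δ : Set α)
    (h : ∀ g x, φ g x ∈ Δ ↔ x ∈ Δ) (g : G) (x : Δ) : ((restrHom φ Δ h g x : Δ) : α) = φ g x := rfl

theorem action_bound {n : ℕ} (hIH : ∀ m < n, Good m) {G : Type*} [Group G] {α : Type} [Finite α]
    (φ : G →* Equiv.Perm α) (hα : Nat.card α < n) {ι : Type} (f : α → ι) (hf : ∀ g x, f (φ g x) = f x) :
    3 * clen φ.range + 4 * (Set.range f).ncard ≤ 4 * Nat.card α :=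
  hIH _ hα α φ.range ι f (by rintro _ ⟨g, rfl⟩ x; exact hf g x) rfl

theorem intransitive_bound {n : ℕ} (hIH : ∀ m < n, Good m) {G : Type*} [Group G] [Finite G] {α : Type} [Finite α]
    (φ : G →* Equiv.Perm α) (hφ : Function.Injective φ) (hα : Nat.card α ≤ n) (Δ : Set α)
    (hΔ : ∀ g x, φ g x ∈ Δ ↔ x ∈ Δ) (h1 : Δ.Nonempty) (h2 : Δᶜ.Nonempty) {ι : Type} (f : α → ι)
    (hf : ∀ g x, f (φ g x) = f x) :
    3 * clen G + 4 * (Set.range f).ncard ≤ 4 * Nat.card α := by
  classical
  set ψ₁ := restrHom φ Δ hΔ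
  set ψ₂ : ψ₁.ker →* Equiv.Perm (Δᶜ : Set α) :=
    restrHom (φ.comp ψ₁.ker.subtype) Δᶜ fun g x => not_congr (hΔ g x)
  have hinj : Function.Injective ψ₂ := by
    rw [injective_iff_map_eq_one]
    intro g hg
    refine Subtype.ext (hφ (Equiv.ext fun x => ?_))
    rw [Subgroup.coe_one, map_one]
    by_cases hx : x ∈ Δ
    · exact congrArg Subtype.val (Equiv.congr_fun (MonoidHom.mem_ker.1 g.2) ⟨x, hx⟩)
    · exact congrArg Subtype.val (Equiv.congr_fun hg ⟨x, hx⟩)
  have hc := Set.ncard_add_ncard_compl Δ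
  have hp1 : 0 < Δ.ncard := (Set.ncard_pos (Set.toFinite _)).2 h1
  have hp2 : 0 < Δᶜ.ncard := (Set.ncard_pos (Set.toFinite _)).2 h2
  have b1 := action_bound hIH ψ₁ (by rw [Nat.card_coe_set_eq]; omega) (fun x : Δ => f x) fun g x => hf g x
  have b2 := action_bound hIH ψ₂ (by rw [Nat.card_coe_set_eq]; omega) (fun x : (Δᶜ : Set α) => f x)
    fun g x => hf g x
  have hker : clen ψ₁.ker = clen ψ₂.range := clen_eq_range ψ₂ hinj
  have hG := clen_le_ker_add_range ψ₁
  have hsub : Set.range f ⊆ Set.range (fun x : Δ => f x) ∪ Set.range (fun x : (Δᶜ : Set α) => f x) := by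
    rintro _ ⟨x, rfl⟩
    by_cases hx : x ∈ Δ
    · exact Or.inl ⟨⟨x, hx⟩, rfl⟩
    · exact Or.inr ⟨⟨x, hx⟩, rfl⟩
  have hr := (Set.ncard_le_ncard hsub (Set.toFinite _)).trans (Set.ncard_union_le _ _)
  rw [Nat.card_coe_set_eq] at b1 b2
  omega

theorem clen_le_cardFactors {G : Type*} [Group G] [Finite G] :
    clen G ≤ ArithmeticFunction.cardFactors (Nat.card G) := by
  refine clen_le fun l hl => ?_
  suffices h : ∀ (K : Subgroup G) (k : ℕ), Reach K k → k ≤ ArithmeticFunction.cardFactors (Nat.card K) by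
    simpa using h ⊤ l hl
  intro K k hK
  induction hK with
  | bot => simp
  | @step A B j _ hAB _ ih =>
    have h1 : A.relIndex B * Nat.card A = Nat.card B := by
      rw [mul_comm, Subgroup.relIndex, ← Nat.card_congr (Subgroup.subgroupOfEquivOfLe hAB.le).toEquiv]
      exact Subgroup.card_mul_index _
    have h2 : A.relIndex B ≠ 1 := fun e => hAB.not_ge (Subgroup.relIndex_eq_one.1 e)
    have h0 : A.relIndex B ≠ 0 := fun e => by
      rw [e, zero_mul] at h1
      exact Nat.card_pos.ne' h1.symm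
    rw [← h1, ArithmeticFunction.cardFactors_mul h0 Nat.card_pos.ne']
    have : ArithmeticFunction.cardFactors (A.relIndex B) ≠ 0 := fun e => by
      rw [ArithmeticFunction.cardFactors_eq_zero_iff_eq_zero_or_one] at e
      omega
    omega

theorem descFactorial_mono {n k d : ℕ} (hk : k ≤ d) (hd : d ≤ n) : n.descFactorial k ≤ n.descFactorial d := by
  induction hk with
  | refl => exact le_rfl
  | @step e _ ih =>
    rw [Nat.descFactorial_succ]
    exact (ih (by omega)).trans (Nat.le_mul_of_pos_left _ (by omega))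

theorem small_affine_table : ∀ d < 5, ∀ p < 32, 2 ≤ p → 1 ≤ d → p ^ d < 32 → ¬ (p = 2 ∧ d = 3) →
    3 * (d + Nat.log 2 ((p ^ d - 1).descFactorial d)) + 4 ≤ 4 * p ^ d := by
  set_option synthInstance.maxSize 20000 in decide +kernel

theorem quad_le_two_pow {L : ℕ} (h : 5 ≤ L) : 3 * (L * (L + 2)) + 4 ≤ 4 * 2 ^ L := by
  induction L, h using Nat.le_induction with
  | base => norm_num
  | succ k hk ih =>
    rw [pow_succ]
    nlinarith

/-- The arithmetic of the affine case. -/
theorem affine_arith {p d s l : ℕ} (hp : 2 ≤ p) (hd : 1 ≤ d) (hs : 2 ^ l ≤ s) (hle : s ≤ (p ^ d - 1).descFactorial d)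
    (h8 : p = 2 → d = 3 → l ≤ 6) : 3 * (d + l) + 4 ≤ 4 * p ^ d := by
  by_cases he : p = 2 ∧ d = 3
  · obtain ⟨rfl, rfl⟩ := he
    have := h8 rfl rfl
    omega
  by_cases h32 : p ^ d < 32
  · have hd5 : d < 5 := by
      by_contra h
      have h5 : (2 : ℕ) ^ 5 ≤ p ^ d := (Nat.pow_le_pow_left hp 5).trans (Nat.pow_le_pow_right (by omega) (by omega))
      omega
    have hp32 : p < 32 := lt_of_le_of_lt (Nat.le_self_pow (by omega) p) h32
    have h1 := small_affine_table d hd5 p hp32 hp hd h32 he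
    have h2 : l ≤ Nat.log 2 ((p ^ d - 1).descFactorial d) :=
      Nat.le_log_of_pow_le Nat.one_lt_two (hs.trans hle)
    omega
  · set L := Nat.log 2 (p ^ d) with hL
    have h0 : p ^ d ≠ 0 := by omega
    have hlo : 2 ^ L ≤ p ^ d := Nat.pow_log_le_self 2 h0
    have hhi : p ^ d < 2 ^ (L + 1) := Nat.lt_pow_succ_log_self Nat.one_lt_two _
    have hL5 : 5 ≤ L := Nat.le_log_of_pow_le Nat.one_lt_two (by omega)
    have hdL : d ≤ L := Nat.le_log_of_pow_le Nat.one_lt_two (Nat.pow_le_pow_left hp d)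
    have hlt : 2 ^ l < 2 ^ ((L + 1) * d) :=
      calc 2 ^ l ≤ s := hs
        _ ≤ (p ^ d - 1).descFactorial d := hle
        _ ≤ (p ^ d - 1) ^ d := Nat.descFactorial_le_pow _ _
        _ < (2 ^ (L + 1)) ^ d := Nat.pow_lt_pow_left (by omega) (by omega)
        _ = _ := (pow_mul _ _ _).symm
    have hl : l < (L + 1) * d := (Nat.pow_lt_pow_iff_right Nat.one_lt_two).1 hlt
    have hq := quad_le_two_pow hL5
    have hm : d + l ≤ L * (L + 2) := by nlinarith
    omega

/-- A non-abelian simple group has a non-central element whose automorphism orbit is at most half of the group. -/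
theorem small_class {G : Type*} [Group G] [Finite G] (X K : Subgroup G) [IsSimpleGroup X]
    (hX : ¬ IsMulCommutative X) (hnorm : ∀ k ∈ K, ∀ x ∈ X, k * x * k⁻¹ ∈ X) :
    ∃ x : G, ¬ X ≤ Subgroup.centralizer {x} ∧ 2 * (Subgroup.centralizer {x}).relIndex K ≤ Nat.card X := by
  classical
  haveI := Fintype.ofFinite X
  have hcen : Subgroup.center X = ⊥ :=
    (inferInstance : (Subgroup.center X).Normal).eq_bot_or_eq_top.resolve_right fun h => hX
      ⟨⟨fun a b => Subgroup.mem_center_iff.1 (h.ge (Subgroup.mem_top b)) a⟩⟩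
  obtain ⟨p, hp, hpd⟩ := Nat.exists_prime_and_dvd (n := Nat.card X) fun h => by
    haveI := (Nat.card_eq_one_iff_unique.1 h).1
    exact hX ⟨⟨fun a b => Subsingleton.elim _ _⟩⟩
  obtain ⟨q, hq, hqd, hqp⟩ : ∃ q, Nat.Prime q ∧ q ∣ Nat.card X ∧ q ≠ p := by
    by_contra! hall
    have hpg : IsPGroup p X := IsPGroup.of_card
      (Nat.eq_prime_pow_of_unique_prime_dvd Nat.card_pos.ne' fun {d} hd hdd => hall d hd hdd)
    haveI := Fact.mk hp
    exact (Subgroup.nontrivial_iff_ne_bot _).1 hpg.center_nontrivial hcen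
  have key : ∀ r, r.Prime → r ∣ Nat.card X → ∃ x : X,
      orderOf x = r ∧ ¬ X ≤ Subgroup.centralizer {(x : G)} ∧
      (Subgroup.centralizer {(x : G)}).relIndex K ≤ (Finset.univ.filter fun y : X => orderOf y = r).card := by
    intro r hr hrd
    haveI := Fact.mk hr
    obtain ⟨x, hx⟩ := exists_prime_orderOf_dvd_card' (G := X) r hrd
    refine ⟨x, hx, fun hle => ?_, ?_⟩
    · have hxc : x ∈ Subgroup.center X := Subgroup.mem_center_iff.2 fun y => Subtype.ext
        (Subgroup.mem_centralizer_iff.1 (hle y.2) (x : G) rfl).symm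
      rw [hcen, Subgroup.mem_bot] at hxc
      rw [hxc, orderOf_one] at hx
      exact hr.ne_one hx.symm
    · let F : K → {y : X // orderOf y = r} := fun k => ⟨⟨k * x * (k : G)⁻¹, hnorm k k.2 x x.2⟩, by
        rw [← hx, ← Subgroup.orderOf_coe x, ← Subgroup.orderOf_coe]
        exact orderOf_injective (MulAut.conj (k : G)).toMonoidHom (MulAut.conj (k : G)).injective x⟩
      set C := (Subgroup.centralizer {(x : G)}).subgroupOf K
      have hker : ∀ a b : K, F a = F b ↔ a⁻¹ * b ∈ C := by
        intro a b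
        simp only [F, Subtype.mk.injEq, C, Subgroup.mem_subgroupOf, Subgroup.mem_centralizer_singleton_iff,
          Subgroup.coe_mul, Subgroup.coe_inv]
        constructor <;> intro h
        · calc (a : G)⁻¹ * b * x = (a : G)⁻¹ * (b * x * (b : G)⁻¹) * b := by group
            _ = (a : G)⁻¹ * (a * x * (a : G)⁻¹) * b := by rw [h]
            _ = _ := by group
        · calc (a : G) * x * (a : G)⁻¹ = a * (x * ((a : G)⁻¹ * b)) * (b : G)⁻¹ := by group
            _ = a * ((a : G)⁻¹ * b * x) * (b : G)⁻¹ := by rw [h]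
            _ = _ := by group
      let F' : K ⧸ C → {y : X // orderOf y = r} := fun z => Quotient.liftOn' z F fun a b hab =>
        (hker a b).2 (QuotientGroup.leftRel_apply.1 hab)
      have hinj : Function.Injective F' := fun z w h => by
        induction z using QuotientGroup.induction_on with
        | H a =>
          induction w using QuotientGroup.induction_on with
          | H b => exact QuotientGroup.eq.2 ((hker a b).1 h)
      have := Nat.card_le_card_of_injective F' hinj
      rwa [Nat.card_eq_fintype_card (α := {y : X // orderOf y = r}), Fintype.card_subtype] at this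
  obtain ⟨x, -, hx1, hx2⟩ := key p hp hpd
  obtain ⟨y, -, hy1, hy2⟩ := key q hq hqd
  have hdisj : Disjoint (Finset.univ.filter fun z : X => orderOf z = p)
      (Finset.univ.filter fun z : X => orderOf z = q) := by
    rw [Finset.disjoint_filter]
    exact fun z _ h h' => hqp (h'.symm.trans h)
  have hcard := (Finset.card_union_of_disjoint hdisj).ge.trans (Finset.card_le_univ _)
  rw [← Nat.card_eq_fintype_card] at hcard
  rcases le_total (Finset.univ.filter fun z : X => orderOf z = p).card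
    (Finset.univ.filter fun z : X => orderOf z = q).card with h | h
  · exact ⟨x, hx1, by omega⟩
  · exact ⟨y, hy1, by omega⟩

/-- The elements normalising each of a family of subgroups. -/
def normAll {G : Type*} [Group G] {ι : Type*} (X : ι → Subgroup G) : Subgroup G :=
  ⨅ i, Subgroup.normalizer (X i : Set G)

theorem mem_normAll_iff {G : Type*} [Group G] {ι : Type*} {X : ι → Subgroup G} {g : G} :
    g ∈ normAll X ↔ ∀ i, (X i).map (MulAut.conj g).toMonoidHom = X i := by
  rw [normAll, Subgroup.mem_iInf]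
  refine forall_congr' fun i => ?_
  rw [Subgroup.mem_normalizer_iff]
  constructor
  · intro h
    ext y
    constructor
    · rintro ⟨x, hx, rfl⟩
      exact (h x).1 hx
    · intro hy
      refine ⟨g⁻¹ * y * g, ?_, by show g * (g⁻¹ * y * g) * g⁻¹ = y; group⟩
      refine (h _).2 ?_
      rwa [show g * (g⁻¹ * y * g) * g⁻¹ = y by group]
  · intro h x
    constructor
    · intro hx
      rw [← h]
      exact ⟨x, hx, rfl⟩
    · intro hx
      rw [← h] at hx
      obtain ⟨y, hy, hyx⟩ := hx
      have : y = x := (MulAut.conj g).injective hyx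
      rwa [← this]

theorem conj_mem_of_normAll {G : Type*} [Group G] {ι : Type*} {X : ι → Subgroup G} {g : G} (hg : g ∈ normAll X)
    {i : ι} {x : G} (hx : x ∈ X i) : g * x * g⁻¹ ∈ X i :=
  (mem_normAll_iff.1 hg i).le ⟨x, hx, rfl⟩

/-- The bound from a permuted family of simple subgroups with trivial joint centraliser. -/
theorem factor_bound {n : ℕ} (hIH : ∀ m < n, Good m) {G : Type} [Group G] [Finite G] {ι : Type} [Finite ι]
    (X : ι → Subgroup G) (hXinj : Function.Injective X)
    (hperm : ∀ g i, ∃ j, (X i).map (MulAut.conj g).toMonoidHom = X j) (hXK : ∀ i, X i ≤ normAll X)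
    (hsimple : ∀ i, IsSimpleGroup (X i)) (hC : ∀ g, (∀ i, ∀ x ∈ X i, g * x = x * g) → g = 1)
    (U : ι → Subgroup G) (hU : ∀ i, ¬ X i ≤ U i) (hι : 2 ≤ Nat.card ι) (hιn : Nat.card ι < n)
    (hsum : ∀ [Fintype ι], ∑ i, (U i).relIndex (normAll X) ≤ n) :
    3 * clen G + 4 ≤ 4 * n := by
  classical
  haveI := Fintype.ofFinite ι
  have hsum' := hsum
  choose π hπ using hperm
  have hπmul : ∀ g h i, π (g * h) i = π g (π h i) := fun g h i => hXinj <| by
    rw [← hπ, ← hπ, ← hπ, Subgroup.map_map]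
    congr 1
    ext x
    simp [mul_assoc]
  have hπone : ∀ i, π 1 i = i := fun i => hXinj <| by
    rw [← hπ, map_one]
    exact Subgroup.map_id _
  let perm : G →* Equiv.Perm ι :=
    { toFun := fun g => ⟨π g, π g⁻¹, fun i => by rw [← hπmul, inv_mul_cancel, hπone],
        fun i => by rw [← hπmul, mul_inv_cancel, hπone]⟩
      map_one' := Equiv.ext hπone
      map_mul' := fun g h => Equiv.ext (hπmul g h) }
  have hker : perm.ker = normAll X := by
    ext g
    rw [MonoidHom.mem_ker, mem_normAll_iff]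
    constructor
    · intro h i
      rw [hπ g i, show π g i = i from Equiv.congr_fun h i]
    · intro h
      exact Equiv.ext fun i => hXinj ((hπ g i).symm.trans (h i))
  have htop := action_bound hIH perm hιn (fun _ : ι => ()) fun _ _ => rfl
  haveI : Nonempty ι := (Nat.card_pos_iff.1 (by omega)).1
  rw [show (Set.range fun _ : ι => ()).ncard = 1 by rw [Set.range_const, Set.ncard_singleton]] at htop
  -- the kernel acts on the cosets
  let V : ι → Subgroup (normAll X) := fun i => (U i).subgroupOf (normAll X)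
  let act : normAll X →* Equiv.Perm (Σ i, normAll X ⧸ V i) :=
    { toFun := fun k => Equiv.sigmaCongrRight fun i => MulAction.toPerm k
      map_one' := Equiv.ext fun ⟨i, z⟩ => by simp
      map_mul' := fun k k' => Equiv.ext fun ⟨i, z⟩ => by simp [mul_smul] }
  have hinj : Function.Injective act := by
    rw [injective_iff_map_eq_one]
    intro k hk
    have hfix : ∀ (i : ι) (z : normAll X ⧸ V i), k • z = z := fun i z => by
      have h1 := Equiv.congr_fun hk ⟨i, z⟩
      simpa [act] using h1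
    refine Subtype.ext (hC k fun i x hx => ?_)
    -- the elements fixing all cosets meet the factor trivially
    let L : Subgroup (X i) :=
      { carrier := {y | ∀ (j : ι) (z : normAll X ⧸ V j), (⟨y.1, hXK i y.2⟩ : normAll X) • z = z}
        mul_mem' := fun {a b} ha hb j z => by
          show ((⟨a.1, hXK i a.2⟩ : normAll X) * ⟨b.1, hXK i b.2⟩) • z = z
          rw [mul_smul, hb, ha]
        one_mem' := fun j z => one_smul _ z
        inv_mem' := fun {a} ha j z => by
          show (⟨a.1, hXK i a.2⟩ : normAll X)⁻¹ • z = z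
          rw [inv_smul_eq_iff, ha] }
    have hLn : L.Normal := ⟨fun a ha g j z => by
      show ((⟨g.1, hXK i g.2⟩ : normAll X) * ⟨a.1, hXK i a.2⟩ * (⟨g.1, hXK i g.2⟩)⁻¹) • z = z
      rw [mul_smul, mul_smul, ha, smul_inv_smul]⟩
    haveI := hsimple i
    have hLbot : L = ⊥ := hLn.eq_bot_or_eq_top.resolve_right fun htop' => hU i fun y hy => by
      have h1 := (htop'.ge (Subgroup.mem_top ⟨y, hy⟩)) i ((1 : normAll X) : normAll X ⧸ V i)
      rw [MulAction.Quotient.smul_coe, smul_eq_mul, mul_one, QuotientGroup.eq, mul_one] at h1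
      simpa [V, Subgroup.mem_subgroupOf] using h1
    have hcm : (k : G) * x * (k : G)⁻¹ * x⁻¹ ∈ X i :=
      (X i).mul_mem (conj_mem_of_normAll k.2 hx) ((X i).inv_mem hx)
    have hmem : (⟨_, hcm⟩ : X i) ∈ L := fun j z => by
      show (k * ⟨x, hXK i hx⟩ * k⁻¹ * (⟨x, hXK i hx⟩)⁻¹ : normAll X) • z = z
      rw [mul_smul, mul_smul, mul_smul, inv_smul_eq_iff.2 (hfix j _).symm, smul_inv_smul, hfix]
    rw [hLbot, Subgroup.mem_bot] at hmem
    have h2 : (k : G) * x * (k : G)⁻¹ * x⁻¹ = 1 := congrArg Subtype.val hmem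
    rwa [mul_inv_eq_one, mul_inv_eq_iff_eq_mul] at h2
  have hcardSum : Nat.card (Σ i, normAll X ⧸ V i) = ∑ i, (U i).relIndex (normAll X) := by
    rw [Nat.card_sigma]; rfl
  obtain ⟨i₀, i₁, hne⟩ : ∃ i j : ι, i ≠ j := by
    haveI := Finite.one_lt_card_iff_nontrivial.1 (show 1 < Nat.card ι by omega)
    exact exists_pair_ne ι
  have hbot := intransitive_bound hIH act hinj (by rw [hcardSum]; exact hsum') {s | s.1 = i₀} (fun g s => Iff.rfl)
    ⟨⟨i₀, ((1 : normAll X) : normAll X ⧸ V i₀)⟩, rfl⟩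
    ⟨⟨i₁, ((1 : normAll X) : normAll X ⧸ V i₁)⟩, fun h => hne h.symm⟩ Sigma.fst (fun g s => rfl)
  have hr : (Set.range (Sigma.fst : (Σ i, normAll X ⧸ V i) → ι)).ncard = Nat.card ι := by
    rw [Set.range_eq_univ.2 fun i => ⟨⟨i, ((1 : normAll X) : normAll X ⧸ V i)⟩, rfl⟩, Set.ncard_univ]
  have hG := clen_le_ker_add_range perm
  have hK : clen perm.ker = clen (normAll X) := clen_congr (MulEquiv.subgroupCongr hker)
  rw [hr, hcardSum] at hbot
  omega

section Factors

variable {G T : Type*} [Group G] [Group T] {k : ℕ} {N : Subgroup G} (e : N ≃* (Fin k → T))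

/-- The embedding of the `i`-th factor. -/
def factorHom (i : Fin k) : T →* G :=
  N.subtype.comp (e.symm.toMonoidHom.comp (MonoidHom.mulSingle (fun _ : Fin k => T) i))

theorem factorHom_apply (i : Fin k) (t : T) : factorHom e i t = (e.symm (Pi.mulSingle i t) : G) := rfl

theorem factorHom_injective (i : Fin k) : Function.Injective (factorHom e i) :=
  N.subtype_injective.comp (e.symm.injective.comp (Pi.mulSingle_injective (M := fun _ : Fin k => T) i))

/-- The `i`-th factor. -/
def factorSub (i : Fin k) : Subgroup G := (factorHom e i).range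

theorem factorSub_le (i : Fin k) : factorSub e i ≤ N := by
  rintro _ ⟨t, rfl⟩
  exact (e.symm _).2

theorem card_factorSub (i : Fin k) : Nat.card (factorSub e i) = Nat.card T :=
  (Nat.card_congr (MonoidHom.ofInjective (factorHom_injective e i)).toEquiv).symm

theorem isSimple_factorSub [IsSimpleGroup T] (i : Fin k) : IsSimpleGroup (factorSub e i) :=
  haveI : Nontrivial (factorSub e i) := (MonoidHom.ofInjective (factorHom_injective e i)).symm.toEquiv.nontrivial
  IsSimpleGroup.isSimpleGroup_of_surjective (MonoidHom.ofInjective (factorHom_injective e i)).toMonoidHom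
    (MonoidHom.ofInjective (factorHom_injective e i)).surjective

theorem not_commutative_factorSub (hT : ¬ IsMulCommutative T) (i : Fin k) : ¬ IsMulCommutative (factorSub e i) := by
  intro h
  refine hT ⟨⟨fun a b => factorHom_injective e i ?_⟩⟩
  rw [map_mul, map_mul]
  exact congrArg Subtype.val (h.is_comm.comm ⟨_, a, rfl⟩ ⟨_, b, rfl⟩)

theorem factorSub_injective [Nontrivial T] : Function.Injective (factorSub e) := by
  intro i j h
  by_contra hij
  obtain ⟨t, ht⟩ := exists_ne (1 : T)
  obtain ⟨s, hs⟩ := h.le ⟨t, rfl⟩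
  have h1 := congrFun (e.symm.injective (N.subtype_injective hs)) i
  simp [Pi.mulSingle_eq_of_ne hij] at h1
  exact ht h1.symm

theorem commute_factorSub {i j : Fin k} (hij : i ≠ j) {x y : G} (hx : x ∈ factorSub e i) (hy : y ∈ factorSub e j) :
    x * y = y * x := by
  obtain ⟨s, rfl⟩ := hx
  obtain ⟨t, rfl⟩ := hy
  have h := (Pi.mulSingle_commute (f := fun _ : Fin k => T) hij s t).map (N.subtype.comp e.symm.toMonoidHom)
  exact h.eq

theorem le_normAll_factorSub [N.Normal] [IsSimpleGroup T] {g : G} (hg : g ∈ N) : g ∈ normAll (factorSub e) := by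
  rw [mem_normAll_iff]
  intro i
  have hsub : ∀ g ∈ N, ∀ x ∈ factorSub e i, g * x * g⁻¹ ∈ factorSub e i := by
    rintro g hg _ ⟨t, rfl⟩
    refine ⟨e ⟨g, hg⟩ i * t * (e ⟨g, hg⟩ i)⁻¹, ?_⟩
    have h1 : e.symm (Pi.mulSingle i (e ⟨g, hg⟩ i * t * (e ⟨g, hg⟩ i)⁻¹)) =
        ⟨g, hg⟩ * e.symm (Pi.mulSingle i t) * ⟨g, hg⟩⁻¹ := by
      apply e.injective
      rw [e.apply_symm_apply, map_mul, map_mul, map_inv, e.apply_symm_apply]
      funext j
      rcases eq_or_ne j i with rfl | hj
      · simp
      · simp [Pi.mulSingle_eq_of_ne hj]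
    exact congrArg Subtype.val h1
  ext y
  constructor
  · rintro ⟨x, hx, rfl⟩
    exact hsub g hg x hx
  · intro hy
    refine ⟨g⁻¹ * y * g, ?_, by show g * (g⁻¹ * y * g) * g⁻¹ = y; group⟩
    simpa using hsub g⁻¹ (N.inv_mem hg) y hy

theorem exists_conj_factorSub [Finite G] [N.Normal] [IsSimpleGroup T] (hT : ¬ IsMulCommutative T) (g : G)
    (i : Fin k) : ∃ j, (factorSub e i).map (MulAut.conj g).toMonoidHom = factorSub e j := by
  classical
  set Y := (factorSub e i).map (MulAut.conj g).toMonoidHom with hY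
  have hYN : Y ≤ N := by
    rintro _ ⟨x, hx, rfl⟩
    exact Subgroup.Normal.conj_mem inferInstance x (factorSub_le e i hx) g
  have hYn : ∀ m ∈ N, ∀ y ∈ Y, m * y * m⁻¹ ∈ Y := by
    rintro m hm _ ⟨x, hx, rfl⟩
    have hm' : g⁻¹ * m * g ∈ N := by simpa using Subgroup.Normal.conj_mem inferInstance m hm g⁻¹
    refine ⟨g⁻¹ * m * g * x * (g⁻¹ * m * g)⁻¹, conj_mem_of_normAll (le_normAll_factorSub e hm') hx, ?_⟩
    show g * (g⁻¹ * m * g * x * (g⁻¹ * m * g)⁻¹) * g⁻¹ = m * (g * x * g⁻¹) * m⁻¹
    group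
  let Z : Subgroup (Fin k → T) := Y.comap (N.subtype.comp e.symm.toMonoidHom)
  haveI : Z.Normal := ⟨fun a ha b => by
    show N.subtype (e.symm (b * a * b⁻¹)) ∈ Y
    simpa [map_mul, map_inv] using hYn _ (e.symm b).2 _ ha⟩
  obtain ⟨S, hS⟩ := Cfsg.Agent.S5913.result hT k Z
  obtain ⟨t, ht⟩ := exists_ne (1 : T)
  have hy : g * factorHom e i t * g⁻¹ ∈ Y := ⟨_, ⟨t, rfl⟩, rfl⟩
  set y := e ⟨_, hYN hy⟩ with hy'
  have hyZ : y ∈ Z := by
    show N.subtype (e.symm y) ∈ Y
    rw [hy', e.symm_apply_apply]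
    exact hy
  obtain ⟨j, hj⟩ : ∃ j, y j ≠ 1 := by
    by_contra! h
    have h1 : y = 1 := funext h
    rw [hy', map_eq_one_iff e e.injective] at h1
    have h2 : g * factorHom e i t * g⁻¹ = 1 := congrArg Subtype.val h1
    rw [conj_eq_one_iff, map_eq_one_iff _ (factorHom_injective e i)] at h2
    exact ht h2
  have hjS : j ∈ S := by_contra fun h => hj ((hS y).1 hyZ j h)
  refine ⟨j, (Subgroup.eq_of_le_of_card_ge ?_ ?_).symm⟩
  · rintro _ ⟨u, rfl⟩
    exact (hS (Pi.mulSingle j u)).2 fun l hl => Pi.mulSingle_eq_of_ne (M := fun _ : Fin k => T) (fun (h : l = j) => hl (h.symm ▸ hjS)) u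
  · rw [hY, Subgroup.card_map_of_injective (MulAut.conj g).injective, card_factorSub, card_factorSub]

theorem factorSub_le_normAll [N.Normal] [IsSimpleGroup T] (i : Fin k) : factorSub e i ≤ normAll (factorSub e) :=
  fun _ hx => le_normAll_factorSub e (factorSub_le e i hx)

theorem commute_of_commute_factorSub {g : G} (h : ∀ i, ∀ x ∈ factorSub e i, g * x = x * g) {x : G} (hx : x ∈ N) :
    g * x = x * g := by
  have he : (MulAut.conj g).toMonoidHom.comp (N.subtype.comp e.symm.toMonoidHom) =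
      N.subtype.comp e.symm.toMonoidHom := by
    refine MonoidHom.pi_ext fun i t => ?_
    show g * factorHom e i t * g⁻¹ = factorHom e i t
    rw [h i _ ⟨t, rfl⟩, mul_inv_cancel_right]
  have h1 : g * x * g⁻¹ = x := by
    have := DFunLike.congr_fun he (e ⟨x, hx⟩)
    simpa using this
  exact mul_inv_eq_iff_eq_mul.1 h1

end Factors

end CfsgLib.Perm.CompLength
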