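import Mathlib

/-!
# Mutually centralising transitive subgroups

* `eq_one_of_commute`: an element commuting with a transitive subgroup and fixing a point is `1`.
* `stabilizer_eq_bot_of_commute`: commuting transitive subgroups are regular.
* `eq_of_commute_le`, `orderEquiv`: the resulting equalities and the isomorphism between them.
-/

set_option autoImplicit false
set_option linter.all false

namespace CfsgLib.Perm.Regular

open MulAction

variable {G α : Type*} [Group G] [MulAction G α] [FaithfulSMul G α] (A B : Subgroup G)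

theorem eq_one_of_commute [IsPretransitive A α] {c : G} (hc : ∀ a ∈ A, Commute a c) {x : α}
    (hx : c • x = x) : c = 1 := by
  refine FaithfulSMul.eq_of_smul_eq_smul (α := α) fun y => ?_
  obtain ⟨⟨a, ha⟩, rfl⟩ := exists_smul_eq A x y
  show c • a • x = (1 : G) • a • x
  rw [one_smul, ← mul_smul, ← (hc a ha).eq, mul_smul, hx]

variable [IsPretransitive A α] [IsPretransitive B α] (hAB : ∀ a ∈ A, ∀ b ∈ B, Commute a b)
include hAB

theorem stabilizer_eq_bot_of_commute (x : α) : stabilizer A x = ⊥ := by
  rw [eq_bot_iff]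
  intro a ha
  rw [Subgroup.mem_bot]
  exact Subtype.ext (eq_one_of_commute B (fun b hb => (hAB a a.2 b hb).symm) (x := x) ha)

/-- Anything commuting with `A` lies in `B`. -/
theorem mem_of_commute [Nonempty α] {c : G} (hc : ∀ a ∈ A, Commute a c) : c ∈ B := by
  obtain ⟨x⟩ := ‹Nonempty α›
  obtain ⟨⟨b, hb⟩, hbx⟩ := exists_smul_eq B x (c • x)
  have h1 : b⁻¹ * c = 1 := eq_one_of_commute A
    (fun a ha => ((hAB a ha b hb).inv_right).mul_right (hc a ha)) (x := x)
    (by rw [mul_smul, inv_smul_eq_iff]; exact hbx.symm)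
  rw [inv_mul_eq_one] at h1
  exact h1 ▸ hb

theorem nonempty_mulEquiv [Nonempty α] : Nonempty (A ≃* B) := by
  obtain ⟨x⟩ := ‹Nonempty α›
  choose φ hφ using fun a : A => exists_smul_eq B x (a⁻¹ • x)
  have hB := stabilizer_eq_bot_of_commute (α := α) B A (fun b hb a ha => (hAB a ha b hb).symm)
  have hA := stabilizer_eq_bot_of_commute (α := α) A B hAB
  have hinjB : ∀ b b' : B, b • x = b' • x → b = b' := by
    intro b b' h
    have : b'⁻¹ * b ∈ stabilizer B x := by
      rw [mem_stabilizer_iff, mul_smul, h, inv_smul_smul]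
    rw [hB x, Subgroup.mem_bot, inv_mul_eq_one] at this
    exact this.symm
  have hinjA : ∀ a a' : A, a • x = a' • x → a = a' := by
    intro a a' h
    have : a'⁻¹ * a ∈ stabilizer A x := by
      rw [mem_stabilizer_iff, mul_smul, h, inv_smul_smul]
    rw [hA x, Subgroup.mem_bot, inv_mul_eq_one] at this
    exact this.symm
  have hcomm : ∀ (a : A) (b : B) (y : α), a • b • y = b • a • y := by
    intro a b y
    show (a : G) • (b : G) • y = (b : G) • (a : G) • y
    rw [← mul_smul, (hAB a a.2 b b.2).eq, mul_smul]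
  let f : A →* B := MonoidHom.mk' φ fun s t => hinjB _ _ (by
    rw [hφ, mul_inv_rev, mul_smul, ← hφ s, hcomm, ← hφ t, mul_smul])
  refine ⟨MulEquiv.ofBijective f ⟨fun s t hst => ?_, fun b => ?_⟩⟩
  · have h : φ s • x = φ t • x := by rw [show φ s = φ t from hst]
    rw [hφ, hφ] at h
    exact inv_injective (hinjA _ _ h)
  · obtain ⟨a, ha⟩ := exists_smul_eq A x (b • x)
    refine ⟨a⁻¹, hinjB _ _ ?_⟩
    show φ a⁻¹ • x = b • x
    rw [hφ, inv_inv, ha]

end CfsgLib.Perm.Regular
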