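import Mathlib
import Cfsg.Agent.S0703
import Cfsg.Agent.S0704
import Cfsg.Agent.S0723
import Cfsg.Agent.Lib.Perm.CharSimple
import Cfsg.Agent.Lib.Perm.CompositionLengthAux

/-!
# The composition length of a permutation group of degree `n` with `r` orbits is at most `4 (n - r) / 3`

* `good_all`: `Good n` for every `n`; the primitive case splits by the shape of a minimal normal subgroup.
-/

set_option autoImplicit false
set_option linter.all false

namespace CfsgLib.Perm.CompLength

open MulAction

theorem exists_generators {G : Type*} [Group G] [Finite G] {p d : ℕ} (hp : p.Prime) (hcard : Nat.card G = p ^ d) :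
    ∃ s : Finset G, (1 : G) ∉ s ∧ s.card ≤ d ∧ Subgroup.closure (s : Set G) = ⊤ := by
  classical
  have h : ∀ k, ∃ s : Finset G, (1 : G) ∉ s ∧ s.card ≤ k ∧
      (Subgroup.closure (s : Set G) = ⊤ ∨ p ^ k ≤ Nat.card (Subgroup.closure (s : Set G))) := by
    intro k
    induction k with
    | zero => exact ⟨∅, by simp, by simp, Or.inr (by simp)⟩
    | succ k ih =>
      obtain ⟨s, h1, hs, hc⟩ := ih
      by_cases htop : Subgroup.closure (s : Set G) = ⊤
      · exact ⟨s, h1, by omega, Or.inl htop⟩
      obtain ⟨x, hx⟩ : ∃ x, x ∉ Subgroup.closure (s : Set G) := by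
        by_contra! hall
        exact htop ((Subgroup.eq_top_iff' _).2 hall)
      have hx1 : x ≠ 1 := fun e => hx (e ▸ Subgroup.one_mem _)
      refine ⟨insert x s, by simp [h1, hx1.symm], (Finset.card_insert_le x s).trans (by omega), Or.inr ?_⟩
      set A := Subgroup.closure (s : Set G)
      set B := Subgroup.closure ((insert x s : Finset G) : Set G)
      have hAB : A < B := lt_of_le_of_ne (Subgroup.closure_mono (by simp))
        fun e => hx (e.symm ▸ Subgroup.subset_closure (by simp))
      have e1 : A.relIndex B * Nat.card A = Nat.card B := by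
        rw [mul_comm, Subgroup.relIndex, ← Nat.card_congr (Subgroup.subgroupOfEquivOfLe hAB.le).toEquiv]
        exact Subgroup.card_mul_index _
      have e2 : p ≤ A.relIndex B := by
        have hd : A.relIndex B ∣ p ^ d := hcard ▸ (Dvd.intro _ e1).trans (Subgroup.card_subgroup_dvd_card B)
        obtain ⟨j, -, hj⟩ := (Nat.dvd_prime_pow hp).1 hd
        rw [hj]
        refine Nat.le_self_pow ?_ p
        rintro rfl
        exact hAB.not_ge (Subgroup.relIndex_eq_one.1 hj)
      rw [pow_succ', ← e1]
      exact Nat.mul_le_mul e2 (hc.resolve_left htop)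
  obtain ⟨s, h1, hs, hc⟩ := h d
  refine ⟨s, h1, hs, hc.elim id fun hle => Subgroup.eq_top_of_le_card _ (by rw [hcard]; exact hle)⟩

theorem sum_le_prod_of_two_le {ι : Type*} (s : Finset ι) (f : ι → ℕ) (h : ∀ i ∈ s, 2 ≤ f i) :
    ∑ i ∈ s, f i ≤ ∏ i ∈ s, f i := by
  classical
  induction s using Finset.induction_on with
  | empty => simp
  | @insert a s ha ih =>
    rw [Finset.sum_insert ha, Finset.prod_insert ha]
    have h2 := h a (Finset.mem_insert_self a s)
    have hS := ih fun i hi => h i (Finset.mem_insert_of_mem hi)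
    by_cases hs : s = ∅
    · subst hs; simp
    · have hP : 2 ≤ ∏ i ∈ s, f i := by
        obtain ⟨b, hb⟩ := Finset.nonempty_of_ne_empty hs
        exact (h b (Finset.mem_insert_of_mem hb)).trans
          (Finset.single_le_prod' (fun i hi => le_trans (by norm_num) (h i (Finset.mem_insert_of_mem hi))) hb)
      nlinarith

theorem mul_le_pow {t k : ℕ} (ht : 2 ≤ t) (hk : 1 ≤ k) : k * t ≤ t ^ k := by
  obtain ⟨j, rfl⟩ : ∃ j, k = j + 1 := ⟨k - 1, by omega⟩
  rw [pow_succ]
  exact Nat.mul_le_mul_right t (Nat.succ_le_of_lt (Nat.lt_pow_self ht))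

theorem three_le_card_of_not_comm {T : Type*} [Group T] [Finite T] (hT : ¬ IsMulCommutative T) : 3 ≤ Nat.card T := by
  by_contra h
  apply hT
  have h0 : 0 < Nat.card T := Nat.card_pos
  rcases (show Nat.card T = 1 ∨ Nat.card T = 2 by omega) with h1 | h1
  · haveI := (Nat.card_eq_one_iff_unique.1 h1).1
    exact ⟨⟨fun a b => Subsingleton.elim _ _⟩⟩
  · haveI : Fact (Nat.Prime 2) := ⟨Nat.prime_two⟩
    haveI := isCyclic_of_prime_card h1
    exact ⟨⟨IsCyclic.commGroup.mul_comm⟩⟩

section Primitive

variable {α : Type} [Finite α] (G : Subgroup (Equiv.Perm α)) (a : α) (N : Subgroup G) [N.Normal]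
  [IsPretransitive N α]

include a

theorem quotient_surjective_stabilizer :
    Function.Surjective ((QuotientGroup.mk' N).comp (stabilizer G a).subtype) := by
  intro z
  obtain ⟨g, rfl⟩ := QuotientGroup.mk'_surjective N z
  obtain ⟨x, hx⟩ := exists_smul_eq N a (g • a)
  refine ⟨⟨(x : G)⁻¹ * g, ?_⟩, ?_⟩
  · rw [mem_stabilizer_iff, mul_smul, ← hx]
    exact inv_smul_smul (x : G) a
  · show (((x : G)⁻¹ * g : G) : G ⧸ N) = g
    rw [QuotientGroup.eq]
    have : ((x : G)⁻¹ * g)⁻¹ * g = g⁻¹ * x * g := by group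
    rw [this]
    simpa using Subgroup.Normal.conj_mem inferInstance (x : G) x.2 g⁻¹

theorem clen_le_add_stabilizer : clen G ≤ clen N + clen (stabilizer G a) :=
  (clen_le_quotient N).trans
    (Nat.add_le_add_left (clen_le_of_surjective _ (quotient_surjective_stabilizer G a N)) _)

theorem card_mul_stabilizer : Nat.card α * Nat.card (stabilizer N a) = Nat.card N := by
  rw [← index_stabilizer_of_transitive N a, mul_comm]
  exact Subgroup.card_mul_index _

theorem card_eq_of_regular (h : stabilizer N a = ⊥) : Nat.card N = Nat.card α := by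
  rw [← card_mul_stabilizer G a N, h, Subgroup.card_bot, mul_one]

theorem affine_case (hn : 2 ≤ Nat.card α) (hN : N ≠ ⊥)
    (hmin : ∀ L : Subgroup G, L.Normal → L ≤ N → L = ⊥ ∨ L = N) (hab : IsMulCommutative N) :
    3 * clen G + 4 ≤ 4 * Nat.card α := by
  classical
  obtain ⟨hcen, hreg, ⟨p, hp, hpow⟩, -⟩ := Cfsg.Agent.S0703.result G N hN hmin hab inferInstance
  haveI := Fact.mk hp
  have hPG : IsPGroup p N := fun x => ⟨1, Subtype.ext (by simpa using hpow x x.2)⟩
  obtain ⟨d, hd⟩ := IsPGroup.iff_card.1 hPG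
  have hcard : Nat.card α = p ^ d := by rw [← card_eq_of_regular G a N (hreg a), hd]
  have hd1 : 1 ≤ d := by
    by_contra h
    rw [show d = 0 by omega, pow_zero] at hcard
    omega
  have hlN : clen N ≤ d := by
    have h1 := pow_clen_le (G := N) (q := p) fun e he he1 => by
      rw [hd] at he
      obtain ⟨j, -, rfl⟩ := (Nat.dvd_prime_pow hp).1 he
      refine Nat.le_self_pow ?_ p
      rintro rfl
      exact he1 (pow_zero p)
    rw [hd] at h1
    exact (Nat.pow_le_pow_iff_right hp.one_lt).1 h1
  -- the stabiliser is determined by the images of generators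
  obtain ⟨s, hs1, hsd, hstop⟩ := exists_generators hp hd
  have hcent : ∀ g : stabilizer G a, (∀ x ∈ s, ((g : G) * (x : G) * (g : G)⁻¹) = (x : G)) → g = 1 := by
    intro g hg
    have hall : ∀ x : N, (g : G) * (x : G) * (g : G)⁻¹ = x := by
      intro x
      have hx : x ∈ Subgroup.closure (s : Set N) := hstop ▸ Subgroup.mem_top x
      induction hx using Subgroup.closure_induction with
      | mem y hy => exact hg y hy
      | one => simp
      | mul y z _ _ hy hz =>
        rw [Subgroup.coe_mul]
        calc (g : G) * ((y : G) * z) * (g : G)⁻¹ = ((g : G) * y * (g : G)⁻¹) * ((g : G) * z * (g : G)⁻¹) := by group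
          _ = _ := by rw [hy, hz]
      | inv y _ hy =>
        rw [Subgroup.coe_inv]
        calc (g : G) * (y : G)⁻¹ * (g : G)⁻¹ = ((g : G) * y * (g : G)⁻¹)⁻¹ := by group
          _ = _ := by rw [hy]
    have hmem : ((g : G) : Equiv.Perm α) ∈ Subgroup.centralizer ((N.map G.subtype : Subgroup (Equiv.Perm α)) :
        Set (Equiv.Perm α)) := by
      rw [Subgroup.mem_centralizer_iff]
      rintro _ ⟨x, hx, rfl⟩
      have h1 := congrArg (fun y : G => (y : Equiv.Perm α)) (mul_inv_eq_iff_eq_mul.1 (hall ⟨x, hx⟩))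
      simpa using h1.symm
    rw [hcen] at hmem
    obtain ⟨y, hy, hyg⟩ := hmem
    have hyg' : y = (g : G) := G.subtype_injective hyg
    subst hyg'
    have h1 : (⟨_, hy⟩ : N) ∈ stabilizer N a := g.2
    rw [hreg a, Subgroup.mem_bot] at h1
    exact Subtype.ext (show (g : G) = 1 from congrArg Subtype.val h1)
  let F : stabilizer G a → ({x : N // x ∈ s} ↪ {x : N // x ≠ 1}) := fun g =>
    ⟨fun x => ⟨⟨(g : G) * (x.1 : G) * (g : G)⁻¹, Subgroup.Normal.conj_mem inferInstance _ x.1.2 _⟩, fun e => by
        have e' : (g : G) * (x.1 : G) * (g : G)⁻¹ = 1 := congrArg Subtype.val e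
        rw [conj_eq_one_iff] at e'
        exact hs1 ((show x.1 = 1 from Subtype.ext e') ▸ x.2)⟩,
      fun x y e => Subtype.ext (Subtype.ext ((MulAut.conj (g : G)).injective
        (congrArg (fun z : {x : N // x ≠ 1} => ((z.1 : N) : G)) e)))⟩
  have hFinj : Function.Injective F := by
    intro g h e
    have h1 : h⁻¹ * g = 1 := hcent _ fun x hx => by
      have h2 : (g : G) * (x : G) * (g : G)⁻¹ = (h : G) * (x : G) * (h : G)⁻¹ :=
        congrArg (fun z : {x : N // x ≠ 1} => ((z.1 : N) : G)) (DFunLike.congr_fun e ⟨x, hx⟩)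
      rw [Subgroup.coe_mul, Subgroup.coe_inv]
      calc (h : G)⁻¹ * (g : G) * x * ((h : G)⁻¹ * (g : G))⁻¹ = (h : G)⁻¹ * ((g : G) * x * (g : G)⁻¹) * h := by group
        _ = _ := by rw [h2]; group
    exact (inv_mul_eq_one.1 h1).symm
  haveI := Fintype.ofFinite N
  haveI := Fintype.ofFinite (stabilizer G a)
  have hle : Nat.card (stabilizer G a) ≤ (p ^ d - 1).descFactorial d := by
    have h1 := Fintype.card_le_of_injective F hFinj
    rw [Fintype.card_embedding_eq, Fintype.card_subtype_compl, Fintype.card_subtype_eq, Fintype.card_coe] at h1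
    rw [Nat.card_eq_fintype_card]
    refine h1.trans ?_
    rw [← Nat.card_eq_fintype_card, hd]
    exact descFactorial_mono hsd (by have := Nat.lt_pow_self (n := d) hp.one_lt; omega)
  have harith := affine_arith hp.two_le hd1 two_pow_clen_le hle (fun h2 h3 => ?_)
  · have := clen_le_add_stabilizer G a N
    omega
  -- degree eight
  subst h2 h3
  let Δ : Set α := {x | x ≠ a}
  let φ : stabilizer G a →* Equiv.Perm Δ := restrHom (G.subtype.comp (stabilizer G a).subtype) Δ fun g x => by
    have hga : ((g : G) : Equiv.Perm α) a = a := g.2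
    constructor
    · intro h e
      subst e
      exact h hga
    · intro h e
      exact h (((g : G) : Equiv.Perm α).injective (e.trans hga.symm))
  have hφ : Function.Injective φ := by
    rw [injective_iff_map_eq_one]
    intro g hg
    refine Subtype.ext (Subtype.ext (Equiv.ext fun x => ?_))
    by_cases hx : x = a
    · subst hx; exact g.2
    · exact congrArg Subtype.val (Equiv.congr_fun hg ⟨x, hx⟩)
  have hdvd := Subgroup.card_dvd_of_injective φ hφ
  have hΔ : Nat.card Δ = 7 := by
    have h1 := Set.ncard_add_ncard_compl Δ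
    have h2 : Δᶜ = {a} := by ext x; simp [Δ]
    rw [h2, Set.ncard_singleton, hcard] at h1
    rw [Nat.card_coe_set_eq]
    omega
  rw [Nat.card_perm, hΔ] at hdvd
  by_contra h7
  have hlo : 2 ^ 7 ≤ Nat.card (stabilizer G a) := le_trans (Nat.pow_le_pow_right two_pos (by omega)) two_pow_clen_le
  have hhi : Nat.card (stabilizer G a) ≤ 210 := hle.trans (by decide)
  have hf := clen_le_cardFactors (G := stabilizer G a)
  have hlist : ∀ c < 211, 128 ≤ c → c ∣ 5040 → c = 140 ∨ c = 144 ∨ c = 168 ∨ c = 180 ∨ c = 210 := by decide +kernel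
  rcases hlist (Nat.card (stabilizer G a)) (by omega) (by omega) (by simpa [Nat.factorial] using hdvd) with e | e | e | e | e <;> rw [e] at hf <;>
    simp [ArithmeticFunction.cardFactors_apply] at hf <;> omega

theorem simple_case {n : ℕ} (hIH : ∀ m < n, Good m) (hα : Nat.card α = n) (hn : 2 ≤ n) (hN : clen N ≤ 1) :
    3 * clen G + 4 ≤ 4 * n := by
  classical
  let Δ : Set α := {x | x ≠ a}
  let φ : stabilizer G a →* Equiv.Perm Δ := restrHom (G.subtype.comp (stabilizer G a).subtype) Δ fun g x => by
    have hga : ((g : G) : Equiv.Perm α) a = a := g.2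
    constructor
    · intro h e
      subst e
      exact h hga
    · intro h e
      exact h (((g : G) : Equiv.Perm α).injective (e.trans hga.symm))
  have hφ : Function.Injective φ := by
    rw [injective_iff_map_eq_one]
    intro g hg
    refine Subtype.ext (Subtype.ext (Equiv.ext fun x => ?_))
    by_cases hx : x = a
    · subst hx; exact g.2
    · exact congrArg Subtype.val (Equiv.congr_fun hg ⟨x, hx⟩)
  have hΔ : Nat.card Δ + 1 = n := by
    have h1 := Set.ncard_add_ncard_compl Δ
    have h2 : Δᶜ = {a} := by ext x; simp [Δ]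
    rw [h2, Set.ncard_singleton, hα] at h1
    rw [Nat.card_coe_set_eq]
    exact h1
  have hb := action_bound hIH φ (by omega) (fun _ => ()) fun _ _ => rfl
  haveI : Nonempty Δ := (Nat.card_pos_iff.1 (show 0 < Nat.card Δ by omega)).1
  rw [show (Set.range fun _ : Δ => ()).ncard = 1 by rw [Set.range_const, Set.ncard_singleton]] at hb
  have := clen_le_add_stabilizer G a N
  have := clen_eq_range φ hφ
  omega

variable {T : Type} [Group T] [IsSimpleGroup T] {k : ℕ} (e : N ≃* (Fin k → T))

include e

theorem two_minimal_case {n : ℕ} (hIH : ∀ m < n, Good m) (hα : Nat.card α = n) (hk : 1 ≤ k)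
    (hT : ¬ IsMulCommutative T) (hN : N ≠ ⊥) (hmin : ∀ L : Subgroup G, L.Normal → L ≤ N → L = ⊥ ∨ L = N)
    (M : Subgroup G) [M.Normal] [IsPretransitive M α] (hM : M ≠ ⊥)
    (hMmin : ∀ L : Subgroup G, L.Normal → L ≤ M → L = ⊥ ∨ L = M) (hMN : M ≠ N) :
    3 * clen G + 4 ≤ 4 * n := by
  classical
  obtain ⟨hMreg, hNreg, -, ⟨eMN⟩, hcM, hcN, -⟩ :=
    Cfsg.Agent.S0704.result G M N hM hN hMmin hmin hMN inferInstance inferInstance
  haveI : Finite T := Finite.of_surjective (fun x : N => e x ⟨0, hk⟩) fun t => ⟨e.symm fun _ => t, by simp⟩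
  have ht3 := three_le_card_of_not_comm hT
  have hn : n = Nat.card T ^ k := by
    rw [← hα, ← card_eq_of_regular G a N (hNreg a), Nat.card_congr e.toEquiv, Nat.card_fun, Nat.card_fin]
  let eM : M ≃* (Fin k → T) := eMN.trans e
  have hdisj : M ⊓ N = ⊥ := by
    rcases hmin (M ⊓ N) inferInstance inf_le_right with h | h
    · exact h
    · exact absurd ((hMmin N inferInstance (inf_eq_right.1 h)).resolve_left hN).symm hMN
  let X : Fin k ⊕ Fin k → Subgroup G := Sum.elim (factorSub e) (factorSub eM)
  haveI hXs : ∀ i, IsSimpleGroup (X i) := fun i => by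
    rcases i with i | i
    · exact isSimple_factorSub e i
    · exact isSimple_factorSub eM i
  have hXc : ∀ i, ¬ IsMulCommutative (X i) := fun i => by
    rcases i with i | i
    · exact not_commutative_factorSub e hT i
    · exact not_commutative_factorSub eM hT i
  have hXcard : ∀ i, Nat.card (X i) = Nat.card T := fun i => by
    rcases i with i | i
    · exact card_factorSub e i
    · exact card_factorSub eM i
  have hne : ∀ i j, X (Sum.inl i) ≠ X (Sum.inr j) := fun i j h => by
    have h1 : X (Sum.inl i) ≤ M ⊓ N := le_inf (h.le.trans (factorSub_le eM j)) (factorSub_le e i)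
    rw [hdisj, le_bot_iff] at h1
    have := hXcard (Sum.inl i)
    rw [h1, Subgroup.card_bot] at this
    omega
  have hXinj : Function.Injective X := by
    rintro (i | i) (j | j) h
    · exact congrArg Sum.inl (factorSub_injective e h)
    · exact absurd h (hne i j)
    · exact absurd h.symm (hne j i)
    · exact congrArg Sum.inr (factorSub_injective eM h)
  have hperm : ∀ g i, ∃ j, (X i).map (MulAut.conj g).toMonoidHom = X j := by
    rintro g (i | i)
    · obtain ⟨j, hj⟩ := exists_conj_factorSub e hT g i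
      exact ⟨Sum.inl j, hj⟩
    · obtain ⟨j, hj⟩ := exists_conj_factorSub eM hT g i
      exact ⟨Sum.inr j, hj⟩
  have hcomm : ∀ x ∈ M, ∀ y ∈ N, x * y = y * x := fun x hx y hy =>
    Subgroup.commute_of_normal_of_disjoint M N inferInstance inferInstance (disjoint_iff.2 hdisj) x y hx hy
  have hfix : ∀ (A : Subgroup G) (g : G), (∀ x ∈ A, g * x = x * g) → A.map (MulAut.conj g).toMonoidHom = A := by
    intro A g h
    ext y
    constructor
    · rintro ⟨x, hx, rfl⟩
      show g * x * g⁻¹ ∈ A
      rwa [h x hx, mul_inv_cancel_right]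
    · intro hy
      exact ⟨y, hy, by show g * y * g⁻¹ = y; rw [h y hy, mul_inv_cancel_right]⟩
  have hXK : ∀ i, X i ≤ normAll X := by
    intro i g hg
    rw [mem_normAll_iff]
    rcases i with i | i <;> rintro (j | j)
    · exact mem_normAll_iff.1 (le_normAll_factorSub e (factorSub_le e i hg)) j
    · exact hfix _ g fun x hx => (hcomm x (factorSub_le eM j hx) g (factorSub_le e i hg)).symm
    · exact hfix _ g fun x hx => hcomm g (factorSub_le eM i hg) x (factorSub_le e j hx)
    · exact mem_normAll_iff.1 (le_normAll_factorSub eM (factorSub_le eM i hg)) j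
  have hC : ∀ g, (∀ i, ∀ x ∈ X i, g * x = x * g) → g = 1 := by
    intro g hg
    have hto : ∀ (A B : Subgroup G), Subgroup.centralizer ((A.map G.subtype : Subgroup (Equiv.Perm α)) :
        Set (Equiv.Perm α)) = B.map G.subtype → (∀ x ∈ A, g * x = x * g) → g ∈ B := by
      intro A B hAB h
      have hmem : (g : Equiv.Perm α) ∈ Subgroup.centralizer ((A.map G.subtype : Subgroup (Equiv.Perm α)) :
          Set (Equiv.Perm α)) := by
        rw [Subgroup.mem_centralizer_iff]
        rintro _ ⟨x, hx, rfl⟩
        simpa using congrArg (fun y : G => (y : Equiv.Perm α)) (h x hx).symm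
      rw [hAB] at hmem
      obtain ⟨y, hy, hyg⟩ := hmem
      exact (G.subtype_injective hyg) ▸ hy
    have h1 : g ∈ M := hto N M hcN fun x hx => commute_of_commute_factorSub e (fun i => hg (Sum.inl i)) hx
    have h2 : g ∈ N := hto M N hcM fun x hx => commute_of_commute_factorSub eM (fun i => hg (Sum.inr i)) hx
    have h3 : g ∈ M ⊓ N := ⟨h1, h2⟩
    rwa [hdisj, Subgroup.mem_bot] at h3
  have hsm : ∀ i, ∃ x : G, ¬ X i ≤ Subgroup.centralizer {x} ∧
      2 * (Subgroup.centralizer {x}).relIndex (normAll X) ≤ Nat.card (X i) := fun i =>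
    small_class (X i) (normAll X) (hXc i) fun g hg x hx => conj_mem_of_normAll hg hx
  choose x hx1 hx2 using hsm
  have hpow := mul_le_pow (show 2 ≤ Nat.card T by omega) hk
  refine factor_bound hIH X hXinj hperm hXK hXs hC (fun i => Subgroup.centralizer {x i}) hx1
    (by simp; omega) ?_ ?_
  · rw [Nat.card_sum, Nat.card_fin, hn]
    have : k * 3 ≤ k * Nat.card T := Nat.mul_le_mul_left k ht3
    omega
  · intro _
    have h1 : ∑ i, 2 * (Subgroup.centralizer {x i}).relIndex (normAll X) ≤ ∑ _i : Fin k ⊕ Fin k, Nat.card T :=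
      Finset.sum_le_sum fun i _ => (hx2 i).trans (hXcard i).le
    rw [← Finset.mul_sum, Finset.sum_const, Finset.card_univ, smul_eq_mul, ← Nat.card_eq_fintype_card,
      Nat.card_sum, Nat.card_fin] at h1
    rw [hn]
    nlinarith

theorem product_case {n : ℕ} (hIH : ∀ m < n, Good m) (hα : Nat.card α = n) (hk : 2 ≤ k)
    (hT : ¬ IsMulCommutative T) (hC : Subgroup.centralizer (N : Set G) = ⊥)
    (K : Fin k → Subgroup T) (hK : ∀ i, K i ≠ ⊤)
    (hKa : ∀ x : N, (x : G) ∈ stabilizer G a ↔ ∀ i, e x i ∈ K i) :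
    3 * clen G + 4 ≤ 4 * n := by
  classical
  haveI : Finite T := Finite.of_surjective (fun x : N => e x ⟨0, by omega⟩) fun t => ⟨e.symm fun _ => t, by simp⟩
  let X := factorSub e
  haveI hXs : ∀ i, IsSimpleGroup (X i) := fun i => isSimple_factorSub e i
  have hcenT : ∀ s : T, (∀ t, s * t = t * s) → s = 1 := by
    intro s hs
    have hbot : Subgroup.center T = ⊥ := (inferInstance : (Subgroup.center T).Normal).eq_bot_or_eq_top.resolve_right
      fun h => hT ⟨⟨fun a b => Subgroup.mem_center_iff.1 (h.ge (Subgroup.mem_top b)) a⟩⟩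
    have : s ∈ Subgroup.center T := Subgroup.mem_center_iff.2 fun t => (hs t).symm
    rwa [hbot, Subgroup.mem_bot] at this
  -- conjugation inside the kernel keeps each coordinate
  have hcoord : ∀ g ∈ normAll X, ∀ (x : N) (i : Fin k), e x i = 1 →
      ∀ (y : N), (y : G) = g * (x : G) * g⁻¹ → e y i = 1 := by
    intro g hg x i hxi y hy
    refine hcenT _ fun t => ?_
    set z : G := g⁻¹ * factorHom e i t * g with hz
    have hzX : z ∈ X i := by
      have := conj_mem_of_normAll ((normAll X).inv_mem hg) (show factorHom e i t ∈ X i from ⟨t, rfl⟩)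
      simpa [hz] using this
    obtain ⟨s, hs⟩ := hzX
    have hcxs : (x : G) * z = z * (x : G) := by
      have h1 : x * e.symm (Pi.mulSingle i s) = e.symm (Pi.mulSingle i s) * x := by
        apply e.injective
        rw [map_mul, map_mul, e.apply_symm_apply]
        funext j
        rcases eq_or_ne j i with rfl | hj
        · simp [hxi]
        · simp [Pi.mulSingle_eq_of_ne hj]
      rw [← hs]
      exact congrArg Subtype.val h1
    have h2 : (y : G) * factorHom e i t = factorHom e i t * (y : G) := by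
      rw [hy, show factorHom e i t = g * z * g⁻¹ by rw [hz]; group]
      calc g * (x : G) * g⁻¹ * (g * z * g⁻¹) = g * ((x : G) * z) * g⁻¹ := by group
        _ = g * (z * (x : G)) * g⁻¹ := by rw [hcxs]
        _ = _ := by group
    have h3 : y * e.symm (Pi.mulSingle i t) = e.symm (Pi.mulSingle i t) * y := Subtype.ext h2
    have h4 := congrFun (congrArg e h3) i
    simpa using h4
  let Nst : Fin k → Subgroup G := fun i =>
    ((K i).comap ((Pi.evalMonoidHom (fun _ : Fin k => T) i).comp e.toMonoidHom)).map N.subtype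
  have hNst : ∀ (i : Fin k) (x : G), x ∈ Nst i ↔ ∃ h : x ∈ N, e ⟨x, h⟩ i ∈ K i := by
    intro i x
    constructor
    · rintro ⟨y, hy, rfl⟩
      exact ⟨y.2, hy⟩
    · rintro ⟨h, hh⟩
      exact ⟨⟨x, h⟩, hh, rfl⟩
  have hnorm : ∀ g ∈ normAll X, g ∈ stabilizer G a → ∀ i, ∀ x ∈ Nst i, g * x * g⁻¹ ∈ Nst i := by
    intro g hg hga i x hx
    obtain ⟨hxN, hxK⟩ := (hNst i x).1 hx
    set y : N := e.symm (Pi.mulSingle i (e ⟨x, hxN⟩ i)) with hy
    have hya : (y : G) ∈ stabilizer G a := by
      rw [hKa]
      intro j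
      rw [hy, e.apply_symm_apply]
      rcases eq_or_ne j i with rfl | hj
      · simpa using hxK
      · rw [Pi.mulSingle_eq_of_ne hj]; exact one_mem _
    set y' : N := ⟨g * (y : G) * g⁻¹, Subgroup.Normal.conj_mem inferInstance _ y.2 g⟩
    have hy'K : e y' i ∈ K i :=
      (hKa y').1 ((stabilizer G a).mul_mem ((stabilizer G a).mul_mem hga hya) ((stabilizer G a).inv_mem hga)) i
    set x' : N := ⟨g * x * g⁻¹, Subgroup.Normal.conj_mem inferInstance _ hxN g⟩
    have h1 : e (x' * y'⁻¹) i = 1 := hcoord g hg (⟨x, hxN⟩ * y⁻¹) i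
      (by rw [map_mul, map_inv, hy, e.apply_symm_apply]; simp) _
      (by simp only [x', y', Subgroup.coe_mul, Subgroup.coe_inv]; group)
    rw [map_mul, map_inv, Pi.mul_apply, Pi.inv_apply, mul_inv_eq_one] at h1
    exact (hNst i _).2 ⟨x'.2, by rw [h1]; exact hy'K⟩
  have hNK : ∀ {x : G}, x ∈ N → x ∈ normAll X := fun hx => le_normAll_factorSub e hx
  let U : Fin k → Subgroup G := fun i =>
    { carrier := {u | ∃ g x, g ∈ normAll X ∧ g ∈ stabilizer G a ∧ x ∈ Nst i ∧ u = g * x}
      mul_mem' := by
        rintro _ _ ⟨g, x, hg, hga, hx, rfl⟩ ⟨g', x', hg', hga', hx', rfl⟩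
        refine ⟨g * g', g'⁻¹ * x * g' * x', (normAll X).mul_mem hg hg', (stabilizer G a).mul_mem hga hga', ?_,
          by group⟩
        have := hnorm g'⁻¹ ((normAll X).inv_mem hg') ((stabilizer G a).inv_mem hga') i x hx
        exact (Nst i).mul_mem (by simpa using this) hx'
      one_mem' := ⟨1, 1, one_mem _, one_mem _, one_mem _, (mul_one 1).symm⟩
      inv_mem' := by
        rintro _ ⟨g, x, hg, hga, hx, rfl⟩
        refine ⟨g⁻¹, g * x⁻¹ * g⁻¹, (normAll X).inv_mem hg, (stabilizer G a).inv_mem hga,
          hnorm g hg hga i _ ((Nst i).inv_mem hx), by group⟩ }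
  have hUX : ∀ i, ¬ X i ≤ U i := by
    intro i hle
    apply hK i
    rw [Subgroup.eq_top_iff']
    intro t
    obtain ⟨g, x, -, hga, hx, hgx⟩ := hle ⟨t, rfl⟩
    obtain ⟨hxN, hxK⟩ := (hNst i x).1 hx
    have hgN : g ∈ N := by
      rw [show g = factorHom e i t * x⁻¹ by rw [hgx]; group]
      exact N.mul_mem (factorSub_le e i ⟨t, rfl⟩) (N.inv_mem hxN)
    have h1 : e.symm (Pi.mulSingle i t) = ⟨g, hgN⟩ * ⟨x, hxN⟩ := Subtype.ext hgx
    have h2 := congrFun (congrArg e h1) i
    rw [e.apply_symm_apply, Pi.mulSingle_eq_same, map_mul, Pi.mul_apply] at h2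
    rw [h2]
    exact (K i).mul_mem ((hKa ⟨g, hgN⟩).1 hga i) hxK
  have hidx : ∀ i, (U i).relIndex (normAll X) ≤ (K i).index := by
    intro i
    let A : Subgroup N := (K i).comap ((Pi.evalMonoidHom (fun _ : Fin k => T) i).comp e.toMonoidHom)
    let V := (U i).subgroupOf (normAll X)
    let F : N ⧸ A → normAll X ⧸ V := fun z =>
      Quotient.liftOn' z (fun x => ((⟨x.1, hNK x.2⟩ : normAll X) : normAll X ⧸ V)) fun x y hxy => by
        rw [QuotientGroup.eq, Subgroup.mem_subgroupOf]
        exact ⟨1, (x⁻¹ * y : N), one_mem _, one_mem _, ⟨_, QuotientGroup.leftRel_apply.1 hxy, rfl⟩, by simp⟩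
    have hF : Function.Surjective F := by
      intro z
      induction z using QuotientGroup.induction_on with
      | H g =>
        obtain ⟨x, hx⟩ := exists_smul_eq N a ((g : G) • a)
        refine ⟨(x : N ⧸ A), ?_⟩
        show ((⟨x.1, hNK x.2⟩ : normAll X) : normAll X ⧸ V) = g
        rw [QuotientGroup.eq, Subgroup.mem_subgroupOf]
        refine ⟨(x : G)⁻¹ * g, 1, ?_, ?_, one_mem _, by simp⟩
        · exact (normAll X).mul_mem ((normAll X).inv_mem (hNK x.2)) g.2
        · rw [mem_stabilizer_iff, mul_smul, ← hx]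
          exact inv_smul_smul (x : G) a
    have h1 := Nat.card_le_card_of_surjective F hF
    have h2 : A.index = (K i).index := Subgroup.index_comap_of_surjective _ fun t =>
      ⟨e.symm (Pi.mulSingle i t), by simp⟩
    exact h1.trans h2.le
  have hn : n = ∏ i, (K i).index := by
    have h1 := card_mul_stabilizer G a N
    have h2 : Nat.card (stabilizer N a) = ∏ i, Nat.card (K i) := by
      rw [← Nat.card_pi]
      refine Nat.card_congr
        { toFun := fun x i => ⟨e x.1 i, (hKa x.1).1 x.2 i⟩
          invFun := fun f => ⟨e.symm fun i => (f i : T), (hKa _).2 fun i => by simp⟩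
          left_inv := fun x => Subtype.ext (by simp)
          right_inv := fun f => funext fun i => Subtype.ext (by simp) }
    have h3 : Nat.card N = ∏ i, (Nat.card (K i) * (K i).index) := by
      rw [Nat.card_congr e.toEquiv, Nat.card_pi]
      exact Finset.prod_congr rfl fun i _ => (Subgroup.card_mul_index _).symm
    rw [h2, h3, Finset.prod_mul_distrib, hα, mul_comm] at h1
    exact Nat.eq_of_mul_eq_mul_left (Finset.prod_pos fun i _ => Nat.card_pos) h1
  have htwo : ∀ i, 2 ≤ (K i).index := fun i => by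
    have h0 : (K i).index ≠ 0 := Subgroup.index_ne_zero_of_finite
    have h1 : (K i).index ≠ 1 := fun h => hK i (Subgroup.index_eq_one.1 h)
    omega
  refine factor_bound hIH X (factorSub_injective e) (exists_conj_factorSub e hT) (factorSub_le_normAll e) hXs
    ?_ U hUX (by simpa using hk) ?_ ?_
  · intro g hg
    have : g ∈ Subgroup.centralizer (N : Set G) := Subgroup.mem_centralizer_iff.2 fun x hx =>
      (commute_of_commute_factorSub e hg hx).symm
    rwa [hC, Subgroup.mem_bot] at this
  · rw [Nat.card_fin, hn]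
    refine lt_of_lt_of_le (Nat.lt_pow_self (show 1 < 2 by norm_num)) ?_
    calc 2 ^ k = ∏ _i : Fin k, 2 := by simp
      _ ≤ _ := Finset.prod_le_prod' fun i _ => htwo i
  · intro inst
    obtain rfl : inst = Fin.fintype k := Subsingleton.elim _ _
    rw [hn]
    refine le_trans ?_ (sum_le_prod_of_two_le Finset.univ _ fun i _ => htwo i)
    exact Finset.sum_le_sum fun i _ => hidx i

theorem diagonal_case {n : ℕ} (hIH : ∀ m < n, Good m) (hα : Nat.card α = n) (hk : 2 ≤ k)
    (hT : ¬ IsMulCommutative T) (hC : Subgroup.centralizer (N : Set G) = ⊥) {b : ℕ} (hb : 2 ≤ b) (c : Fin k → Fin k)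
    (hfib : ∀ j, Nat.card {i : Fin k // c i = j} = b ∨ Nat.card {i : Fin k // c i = j} = 0)
    (hKa : ∀ x : N, (x : G) ∈ stabilizer G a → ∀ i j, c i = c j → e x i = e x j) :
    3 * clen G + 4 ≤ 4 * n := by
  classical
  haveI : Finite T := Finite.of_surjective (fun x : N => e x ⟨0, by omega⟩) fun t => ⟨e.symm fun _ => t, by simp⟩
  have ht3 := three_le_card_of_not_comm hT
  set I := Finset.univ.image c with hI
  have hrep : ∀ j : I, ∃ i, c i = j.1 := fun j => by
    obtain ⟨i, -, hi⟩ := Finset.mem_image.1 j.2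
    exact ⟨i, hi⟩
  choose rep hrep using hrep
  let F : stabilizer N a → (I → T) := fun x j => e x.1 (rep j)
  have hF : Function.Injective F := by
    intro x y h
    refine Subtype.ext (e.injective (funext fun i => ?_))
    let j : I := ⟨c i, Finset.mem_image_of_mem c (Finset.mem_univ i)⟩
    rw [hKa x.1 x.2 i (rep j) (hrep j).symm, hKa y.1 y.2 i (rep j) (hrep j).symm]
    exact congrFun h j
  have hsize : 2 * I.card ≤ k := by
    have h1 : ∑ j ∈ I, (Finset.univ.filter fun i => c i = j).card = k := by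
      rw [← Finset.card_eq_sum_card_image, Finset.card_univ, Fintype.card_fin]
    have h2 : ∀ j ∈ I, 2 ≤ (Finset.univ.filter fun i => c i = j).card := by
      intro j hj
      obtain ⟨i, -, hi⟩ := Finset.mem_image.1 hj
      have hpos : 0 < (Finset.univ.filter fun i => c i = j).card :=
        Finset.card_pos.2 ⟨i, by simp [hi]⟩
      have h3 := hfib j
      rw [Nat.card_eq_fintype_card, Fintype.card_subtype] at h3
      omega
    have h3 := Finset.sum_le_sum h2
    rw [Finset.sum_const, smul_eq_mul, h1] at h3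
    omega
  have hn : Nat.card T ^ (k - I.card) ≤ n := by
    have h1 := card_mul_stabilizer G a N
    have h2 : Nat.card (stabilizer N a) ≤ Nat.card T ^ I.card := by
      have := Nat.card_le_card_of_injective F hF
      rwa [Nat.card_fun, Nat.card_eq_fintype_card (α := I), Fintype.card_coe] at this
    rw [Nat.card_congr e.toEquiv, Nat.card_fun, Nat.card_fin, hα,
      show k = (k - I.card) + I.card by omega, pow_add] at h1
    refine Nat.le_of_mul_le_mul_right ?_ (pow_pos (Nat.card_pos (α := T)) I.card)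
    rw [← h1]
    exact Nat.mul_le_mul_left n h2
  let X := factorSub e
  haveI hXs : ∀ i, IsSimpleGroup (X i) := fun i => isSimple_factorSub e i
  have hsm : ∀ i, ∃ x : G, ¬ X i ≤ Subgroup.centralizer {x} ∧
      2 * (Subgroup.centralizer {x}).relIndex (normAll X) ≤ Nat.card (X i) := fun i =>
    small_class (X i) (normAll X) (not_commutative_factorSub e hT i) fun g hg x hx => conj_mem_of_normAll hg hx
  choose x hx1 hx2 using hsm
  have hj1 : 1 ≤ k - I.card := by omega
  have hpow := mul_le_pow (show 2 ≤ Nat.card T by omega) hj1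
  refine factor_bound hIH X (factorSub_injective e) (exists_conj_factorSub e hT) (factorSub_le_normAll e) hXs
    ?_ (fun i => Subgroup.centralizer {x i}) hx1 (by simpa using hk) ?_ ?_
  · intro g hg
    have : g ∈ Subgroup.centralizer (N : Set G) := Subgroup.mem_centralizer_iff.2 fun x hx =>
      (commute_of_commute_factorSub e hg hx).symm
    rwa [hC, Subgroup.mem_bot] at this
  · rw [Nat.card_fin]
    have : (k - I.card) * 3 ≤ (k - I.card) * Nat.card T := Nat.mul_le_mul_left _ ht3
    omega
  · intro _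
    have h1 : ∑ i, 2 * (Subgroup.centralizer {x i}).relIndex (normAll X) ≤ ∑ _i : Fin k, Nat.card T :=
      Finset.sum_le_sum fun i _ => (hx2 i).trans (card_factorSub e i).le
    rw [← Finset.mul_sum, Finset.sum_const, Finset.card_univ, smul_eq_mul, ← Nat.card_eq_fintype_card,
      Nat.card_fin] at h1
    have h2 : k * Nat.card T ≤ 2 * ((k - I.card) * Nat.card T) := by
      rw [← mul_assoc]
      exact Nat.mul_le_mul_right _ (by omega)
    omega

end Primitive

theorem primitive_case {n : ℕ} (hIH : ∀ m < n, Good m) {α : Type} [Finite α] (G : Subgroup (Equiv.Perm α))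
    [IsPreprimitive G α] (hα : Nat.card α = n) (hn : 2 ≤ n) : 3 * clen G + 4 ≤ 4 * n := by
  classical
  haveI : Nontrivial α := Finite.one_lt_card_iff_nontrivial.1 (by omega)
  obtain ⟨a⟩ := (inferInstance : Nonempty α)
  have htr : ∀ L : Subgroup G, L.Normal → L ≠ ⊥ → IsPretransitive L α := by
    intro L hL hne
    refine IsQuasiPreprimitive.isPretransitive_of_normal fun h => hne ?_
    rw [eq_bot_iff]
    intro x hx
    rw [Subgroup.mem_bot]
    refine FaithfulSMul.eq_of_smul_eq_smul (α := α) fun y => ?_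
    have := (Set.eq_univ_iff_forall.1 h y) ⟨x, hx⟩
    rw [one_smul]
    exact this
  by_cases hG : Subsingleton G
  · rw [clen_eq_zero_of_subsingleton]
    omega
  haveI : Nontrivial G := not_subsingleton_iff_nontrivial.1 hG
  obtain ⟨N, hNn, hN, -, hmin⟩ := CfsgLib.Core.exists_minimal_normal_le' (⊤ : Subgroup G) top_ne_bot
  haveI := hNn
  haveI := htr N hNn hN
  subst hα
  by_cases hab : IsMulCommutative N
  · exact affine_case G a N hn hN hmin hab
  by_cases hC : Subgroup.centralizer (N : Set G) = ⊥
  · have huniq : ∀ L : Subgroup G, L.Normal → L ≠ ⊥ → (∀ M : Subgroup G, M.Normal → M ≤ L → M = ⊥ ∨ M = L) →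
        L = N := by
      intro L hL hne hLmin
      by_contra hLN
      apply hne
      rw [eq_bot_iff, ← hC]
      have hd : Disjoint L N := by
        rw [disjoint_iff]
        rcases hmin (L ⊓ N) inferInstance inf_le_right with h | h
        · exact h
        · exact absurd ((hLmin N inferInstance (inf_eq_right.1 h)).resolve_left hN).symm hLN
      exact fun x hx => Subgroup.mem_centralizer_iff.2 fun y hy =>
        (Subgroup.commute_of_normal_of_disjoint L N hL hNn hd x y hx hy).symm
    obtain ⟨T, instT, m, e, hT, hTc, hm, hcase⟩ := Cfsg.Agent.S0723.result G N hN hmin huniq hab a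
    letI := instT
    haveI := hT
    by_cases hm1 : m = 1
    · subst hm1
      refine simple_case G a N hIH rfl hn ?_
      rw [clen_congr (e.trans (MulEquiv.piUnique fun _ => T))]
      exact clen_le_one_of_isSimple
    rcases hcase with ⟨K, hK, hKa⟩ | ⟨b, c, hb, hfib, hKa⟩
    · exact product_case G a N e hIH rfl (by omega) hTc hC K hK hKa
    · exact diagonal_case G a N e hIH rfl (by omega) hTc hC hb c hfib fun x hx => (hKa x).1 hx
  · obtain ⟨M, hMn, hM, hMC, hMmin⟩ := CfsgLib.Core.exists_minimal_normal_le' (Subgroup.centralizer (N : Set G)) hC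
    haveI := hMn
    haveI := htr M hMn hM
    have hMN : M ≠ N := by
      rintro rfl
      exact hab ⟨⟨fun x y => Subtype.ext (Subgroup.mem_centralizer_iff.1 (hMC x.2) y y.2).symm⟩⟩
    obtain ⟨T, instT, k, hT, hk, ⟨e⟩⟩ := CfsgLib.Perm.CharSimple.exists_iso_pi_of_minimal_normal N hN hmin
    letI := instT
    haveI := hT
    have hTc : ¬ IsMulCommutative T := fun h => hab ⟨⟨fun x y => e.injective (by
      rw [map_mul, map_mul]; exact funext fun i => h.is_comm.comm _ _)⟩⟩
    exact two_minimal_case G a N e hIH rfl hk hTc hN hmin M hM hMmin hMN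

/-- The bound in every degree. -/
theorem good_all (n : ℕ) : Good n := by
  induction n using Nat.strong_induction_on with
  | _ n hIH =>
  intro α inst G ι f hf hα
  classical
  by_cases hint : ∃ a b : α, ∀ g : G, g • a ≠ b
  · obtain ⟨a, b, hab⟩ := hint
    have hmem : ∀ (g : G) x, (g : Equiv.Perm α) x ∈ orbit G a ↔ x ∈ orbit G a := fun g x => by
      show g • x ∈ orbit G a ↔ _
      rw [← orbit_eq_iff, orbit_eq_iff.2 (mem_orbit x g), orbit_eq_iff]
    have h := intransitive_bound hIH G.subtype G.subtype_injective hα.le (orbit G a) hmem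
      ⟨a, mem_orbit_self a⟩ ⟨b, fun ⟨g, hg⟩ => hab g hg⟩ f fun g x => hf g g.2 x
    omega
  push Not at hint
  haveI : IsPretransitive G α := ⟨hint⟩
  have hr : (Set.range f).ncard ≤ 1 ∧ (Set.range f).ncard ≤ n := by
    refine ⟨?_, ?_⟩
    · rw [Set.ncard_le_one_iff]
      rintro _ _ ⟨x, rfl⟩ ⟨y, rfl⟩
      obtain ⟨g, rfl⟩ := hint x y
      exact (hf g g.2 x).symm
    · rw [← hα, ← Set.image_univ, ← Set.ncard_univ]
      exact Set.ncard_image_le (Set.toFinite _)
  by_cases hn : n ≤ 1
  · haveI : Subsingleton α := Finite.card_le_one_iff_subsingleton.1 (hα ▸ hn)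
    rw [clen_eq_zero_of_subsingleton]
    omega
  haveI : Nontrivial α := Finite.one_lt_card_iff_nontrivial.1 (by omega)
  obtain ⟨a⟩ := (inferInstance : Nonempty α)
  suffices h : 3 * clen G + 4 ≤ 4 * n by omega
  by_cases hprim : IsPreprimitive G α
  · exact primitive_case hIH G hα (by omega)
  rw [← isCoatom_stabilizer_iff_preprimitive G a] at hprim
  have hS : stabilizer G a ≠ ⊤ := by
    intro htop
    obtain ⟨b, hb⟩ := exists_ne a
    obtain ⟨g, hg⟩ := hint a b
    exact hb (hg.symm.trans (htop.ge (Subgroup.mem_top g)))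
  obtain ⟨M, hM1, hM2⟩ : ∃ M, stabilizer G a < M ∧ M ≠ ⊤ := by
    by_contra! hall
    exact hprim ⟨hS, hall⟩
  have hsel : ∀ x : α, ∃ g : G, g • a = x := fun x => hint a x
  choose sel hsel using hsel
  let p : α → G ⧸ M := fun x => (sel x : G ⧸ M)
  have hp : ∀ (g : G) x, p (g • x) = g • p x := by
    intro g x
    show ((sel (g • x) : G) : G ⧸ M) = g • ((sel x : G) : G ⧸ M)
    rw [Quotient.smul_coe, smul_eq_mul, QuotientGroup.eq]
    refine hM1.le ?_
    rw [mem_stabilizer_iff, mul_smul, mul_smul, hsel, inv_smul_eq_iff, hsel]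
  have hpsurj : Function.Surjective p := by
    intro z
    induction z using QuotientGroup.induction_on with
    | H g =>
      refine ⟨g • a, ?_⟩
      show ((sel (g • a) : G) : G ⧸ M) = g
      rw [QuotientGroup.eq]
      refine hM1.le ?_
      rw [mem_stabilizer_iff, mul_smul, inv_smul_eq_iff, hsel]
  set φ := MulAction.toPermHom G (G ⧸ M)
  have hidx : (stabilizer G a).index = n := by rw [index_stabilizer_of_transitive G a, hα]
  have hm1 : 2 ≤ M.index := by
    have h0 : M.index ≠ 0 := Subgroup.index_ne_zero_of_finite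
    have h1 : M.index ≠ 1 := fun h => hM2 (Subgroup.index_eq_one.1 h)
    omega
  have hm2 : M.index < n := by
    rw [← hidx, ← Subgroup.relIndex_mul_index hM1.le]
    have h0 : (stabilizer G a).relIndex M ≠ 0 := Subgroup.index_ne_zero_of_finite
    have h1 : (stabilizer G a).relIndex M ≠ 1 := fun h => hM1.not_ge (Subgroup.relIndex_eq_one.1 h)
    calc M.index = 1 * M.index := (one_mul _).symm
      _ < _ := Nat.mul_lt_mul_of_pos_right (by omega) (by omega)
  have hblocks := action_bound hIH φ (by rw [← Subgroup.index_eq_card]; exact hm2) (fun _ => ()) fun _ _ => rfl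
  haveI : Nonempty (G ⧸ M) := ⟨((1 : G) : G ⧸ M)⟩
  rw [show (Set.range fun _ : G ⧸ M => ()).ncard = 1 by rw [Set.range_const, Set.ncard_singleton],
    ← Subgroup.index_eq_card] at hblocks
  have hfix : ∀ k : φ.ker, ∀ x, p ((k : G) • x) = p x := fun k x => by
    rw [hp]
    exact Equiv.congr_fun k.2 (p x)
  obtain ⟨b, hb⟩ : ∃ b, p b ≠ p a := by
    haveI : Nontrivial (G ⧸ M) := Finite.one_lt_card_iff_nontrivial.1 (by rw [← Subgroup.index_eq_card]; omega)
    obtain ⟨z, hz⟩ := exists_ne (p a)
    obtain ⟨b, rfl⟩ := hpsurj z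
    exact ⟨b, hz⟩
  have hker := intransitive_bound hIH (G.subtype.comp φ.ker.subtype)
    (G.subtype_injective.comp φ.ker.subtype_injective) hα.le {x | p x = p a}
    (fun k x => by show p ((k : G) • x) = p a ↔ p x = p a; rw [hfix]) ⟨a, rfl⟩ ⟨b, hb⟩ p fun k x => hfix k x
  rw [Set.range_eq_univ.2 hpsurj, Set.ncard_univ, ← Subgroup.index_eq_card, hα] at hker
  have := clen_le_ker_add_range φ
  omega

/-- The statement for an arbitrary faithful action. -/
theorem chain_bound {G Ω : Type*} [Group G] [Finite G] [MulAction G Ω] [FaithfulSMul G Ω] [Finite Ω]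
    {ι : Type} (f : Ω → ι) (hf : ∀ (g : G) x, f (g • x) = f x) :
    3 * clen G + 4 * (Set.range f).ncard ≤ 4 * Nat.card Ω := by
  let ε := Finite.equivFin Ω
  let ψ : G →* Equiv.Perm (Fin (Nat.card Ω)) :=
    ε.permCongrHom.toMonoidHom.comp (MulAction.toPermHom G Ω)
  have hψ : Function.Injective ψ := ε.permCongrHom.injective.comp MulAction.toPerm_injective
  have h := good_all (Nat.card Ω) (Fin (Nat.card Ω)) ψ.range ι (f ∘ ε.symm) (by
    rintro _ ⟨g, rfl⟩ x
    show f (ε.symm (ψ g x)) = f (ε.symm x)
    rw [show ψ g x = ε (g • ε.symm x) from rfl, Equiv.symm_apply_apply, hf]) (Nat.card_fin _)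
  rw [← clen_eq_range ψ hψ, ε.symm.surjective.range_comp] at h
  exact h

end CfsgLib.Perm.CompLength
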