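import Cfsg.Agent.Lib.Perm.ThompsonWielandt

/-!
The chain of Sims: a maximal subgroup `A` of order `3·2^r` and an element `g` such that
`K = A ⊓ gAg⁻¹` has index `3` and is not normalized by `g` give involutions `x_0, x_1, …`,
consecutive ones under conjugation by `g⁻¹`, with `⟨x_i, …, x_{i+k-1}⟩` of order `2^k` for `k ≤ r`.
-/

set_option autoImplicit false
set_option linter.style.haveILetI false

open Cfsg
open CfsgLib.ThompsonWielandt
open scoped commutatorElement

namespace CfsgLib.CubicChain

variable {G : Type*} [Group G]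

/-- The data of a suborbit of length three. -/
structure Setting (A : Subgroup G) (g : G) (r : ℕ) (f : A →* Equiv.Perm (Fin 3)) : Prop where
  norm : NormClosed A
  not_mem : g ∉ A
  cardA : Nat.card A = 3 * 2 ^ r
  cardK : Nat.card (A ⊓ A.map (MulAut.conj g).toMonoidHom : Subgroup G) = 2 ^ r
  turn : (A ⊓ A.map (MulAut.conj g).toMonoidHom).map (MulAut.conj g).toMonoidHom ≠
    A ⊓ A.map (MulAut.conj g).toMonoidHom
  surj : Function.Surjective f
  pos : 1 ≤ r

/-- The stabilizers of the initial segments of the path `a, g a, g² a, …`. -/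
def pathStab (A : Subgroup G) (g : G) : ℕ → Subgroup G
  | 0 => A
  | m + 1 => pathStab A g m ⊓ (pathStab A g m).map (MulAut.conj g).toMonoidHom

variable {A : Subgroup G} {g : G} {r : ℕ} {f : A →* Equiv.Perm (Fin 3)}

theorem card_map_conj (X : Subgroup G) (h : G) :
    Nat.card (X.map (MulAut.conj h).toMonoidHom) = Nat.card X :=
  (Nat.card_congr (X.equivMapOfInjective _ (MulAut.conj h).injective).toEquiv).symm

theorem map_conj_conj_inv (X : Subgroup G) (h : G) :
    (X.map (MulAut.conj h).toMonoidHom).map (MulAut.conj h⁻¹).toMonoidHom = X := by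
  ext x
  simp [Subgroup.mem_map, mul_assoc]

theorem map_conj_inv_conj (X : Subgroup G) (h : G) :
    (X.map (MulAut.conj h⁻¹).toMonoidHom).map (MulAut.conj h).toMonoidHom = X := by
  ext x
  simp [Subgroup.mem_map, mul_assoc]

theorem pathStab_succ_le (A : Subgroup G) (g : G) (m : ℕ) :
    pathStab A g (m + 1) ≤ pathStab A g m := inf_le_left

theorem pathStab_le (A : Subgroup G) (g : G) : ∀ m, pathStab A g m ≤ A
  | 0 => le_rfl
  | m + 1 => (pathStab_succ_le A g m).trans (pathStab_le A g m)

theorem map_pathStab_succ_le (A : Subgroup G) (g : G) (m : ℕ) :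
    (pathStab A g (m + 1)).map (MulAut.conj g⁻¹).toMonoidHom ≤ pathStab A g m :=
  (Subgroup.map_mono inf_le_right).trans (map_conj_conj_inv _ g).le

theorem pathStab_succ_le_map (A : Subgroup G) (g : G) (m : ℕ) :
    pathStab A g (m + 1) ≤ (pathStab A g m).map (MulAut.conj g).toMonoidHom := inf_le_right

theorem Setting.card_one (h : Setting A g r f) : Nat.card (pathStab A g 1) = 2 ^ r := h.cardK

theorem Setting.map_ne_one (h : Setting A g r f) :
    (pathStab A g 1).map (MulAut.conj g⁻¹).toMonoidHom ≠ pathStab A g 1 := by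
  intro he
  apply h.turn
  have := congrArg (Subgroup.map (MulAut.conj g).toMonoidHom) he
  rw [map_conj_inv_conj] at this
  exact this.symm

variable [Finite G]

/-- A proper index two subgroup together with anything outside generates. -/
theorem sup_eq_of_card_two {X Y H : Subgroup G} (hX : X ≤ H) (hY : Y ≤ H) {n : ℕ}
    (hH : Nat.card H = 2 ^ (n + 1)) (hXc : Nat.card X = 2 ^ n) (hne : ¬ Y ≤ X) : X ⊔ Y = H := by
  have hle : X ⊔ Y ≤ H := sup_le hX hY
  have hdvd : Nat.card (X ⊔ Y : Subgroup G) ∣ 2 ^ (n + 1) := hH ▸ Subgroup.card_dvd_of_le hle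
  obtain ⟨k, hk, hk'⟩ := (Nat.dvd_prime_pow Nat.prime_two).1 hdvd
  have hlt : X < X ⊔ Y := lt_of_le_of_ne le_sup_left fun he => hne (he ▸ le_sup_right)
  have : 2 ^ n < 2 ^ k := by
    rw [← hXc, ← hk']
    by_contra hcon
    exact hlt.ne (Subgroup.eq_of_le_of_card_ge hlt.le (not_lt.1 hcon))
  have hk2 : k = n + 1 := by
    have := (Nat.pow_lt_pow_iff_right (le_refl 2)).1 this
    omega
  exact Subgroup.eq_of_le_of_card_ge hle (by rw [hH, hk', hk2])

theorem Setting.sup_one (h : Setting A g r f) :
    pathStab A g 1 ⊔ (pathStab A g 1).map (MulAut.conj g⁻¹).toMonoidHom = A := by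
  set K := pathStab A g 1
  set K' := K.map (MulAut.conj g⁻¹).toMonoidHom
  have hle : K ⊔ K' ≤ A := sup_le (pathStab_succ_le A g 0) (map_pathStab_succ_le A g 0)
  refine Subgroup.eq_of_le_of_card_ge hle ?_
  have hd1 : Nat.card K ∣ Nat.card (K ⊔ K' : Subgroup G) := Subgroup.card_dvd_of_le le_sup_left
  have hd2 : Nat.card (K ⊔ K' : Subgroup G) ∣ Nat.card A := Subgroup.card_dvd_of_le hle
  rw [h.card_one] at hd1
  obtain ⟨q, hq⟩ := hd1
  rw [hq, h.cardA, mul_comm 3] at hd2
  rcases (Nat.dvd_prime Nat.prime_three).1 (Nat.dvd_of_mul_dvd_mul_left (by positivity) hd2) with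
    rfl | rfl
  · exfalso
    have he : K = K ⊔ K' := Subgroup.eq_of_le_of_card_ge le_sup_left (by rw [hq, h.card_one]; simp)
    exact h.map_ne_one (Subgroup.eq_of_le_of_card_ge (he ▸ le_sup_right : K' ≤ K)
      (card_map_conj K g⁻¹).ge)
  · rw [hq, h.cardA, mul_comm]

theorem Setting.kerf (h : Setting A g r f) : 2 * Nat.card f.ker = 2 ^ r := by
  have h1 := Subgroup.card_mul_index f.ker
  rw [Subgroup.index_ker, MonoidHom.range_eq_top.2 h.surj, Subgroup.card_top, h.cardA,
    Nat.card_perm, Nat.card_fin] at h1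
  rw [show Nat.factorial 3 = 6 from rfl] at h1
  omega

/-- The kernel of the action is `K ⊓ g⁻¹Kg`. -/
theorem Setting.ker_map (h : Setting A g r f) :
    f.ker.map A.subtype = (pathStab A g 2).map (MulAut.conj g⁻¹).toMonoidHom := by
  haveI : Fact (Nat.Prime 2) := ⟨Nat.prime_two⟩
  set U := f.ker.map A.subtype
  set K := pathStab A g 1 with hK
  set K' := K.map (MulAut.conj g⁻¹).toMonoidHom
  have hUc : 2 * Nat.card U = 2 ^ r := by
    rw [Subgroup.card_map_of_injective A.subtype_injective]
    exact h.kerf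
  have hsup : ∀ X : Subgroup G, X ≤ A → Nat.card X = 2 ^ r → U ≤ X := by
    intro X hX hXc
    have hUp : IsPGroup 2 U := IsPGroup.of_card (n := r - 1) (by
      have : 2 ^ r = 2 * 2 ^ (r - 1) := by
        rw [← pow_succ', Nat.sub_add_cancel h.pos]
      omega)
    have hXp : IsPGroup 2 X := IsPGroup.of_card hXc
    have hn : X ≤ Subgroup.normalizer (U : Set G) := fun k hk =>
      mem_normalizer_of_conj (by
        rintro _ ⟨u, hu, rfl⟩
        exact ⟨⟨k, hX hk⟩ * u * ⟨k, hX hk⟩⁻¹,
          (inferInstance : f.ker.Normal).conj_mem u hu _, rfl⟩)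
    have hS : IsPGroup 2 (U ⊔ X : Subgroup G) :=
      IsPGroup.to_sup_of_normal_left' hUp hXp hn
    obtain ⟨k, hk⟩ := hS.exists_card_eq
    have hd : Nat.card (U ⊔ X : Subgroup G) ∣ Nat.card A :=
      Subgroup.card_dvd_of_le (sup_le (Subgroup.map_subtype_le _) hX)
    rw [hk, h.cardA] at hd
    have hkr : k ≤ r := (Nat.pow_dvd_pow_iff_le_right (by norm_num)).1
      (Nat.Coprime.dvd_of_dvd_mul_left (Nat.Coprime.pow_left k (by norm_num)) hd)
    have : U ⊔ X = X := (Subgroup.eq_of_le_of_card_ge le_sup_right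
      (by rw [hk, hXc]; exact Nat.pow_le_pow_right (by norm_num) hkr)).symm
    exact this ▸ le_sup_left
  have hU1 : U ≤ K := hsup K (pathStab_succ_le A g 0) h.card_one
  have hU2 : U ≤ K' := hsup K' (map_pathStab_succ_le A g 0)
    (by rw [card_map_conj, h.card_one])
  have hint : K ⊓ K' = (pathStab A g 2).map (MulAut.conj g⁻¹).toMonoidHom := by
    rw [inf_comm, pathStab, Subgroup.map_inf _ _ _ (MulAut.conj g⁻¹).injective, map_conj_conj_inv]
  rw [← hint]
  refine Subgroup.eq_of_le_of_card_ge (le_inf hU1 hU2) ?_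
  have hlt : ¬ K ≤ K' := fun hle => h.map_ne_one
    (Subgroup.eq_of_le_of_card_ge hle (card_map_conj K g⁻¹).le).symm
  have hd : Nat.card (K ⊓ K' : Subgroup G) ∣ 2 ^ r :=
    h.card_one ▸ Subgroup.card_dvd_of_le inf_le_left
  obtain ⟨k, hk, hk'⟩ := (Nat.dvd_prime_pow Nat.prime_two).1 hd
  have hne : k ≠ r := fun hkr => hlt (inf_eq_left.1 (Subgroup.eq_of_le_of_card_ge inf_le_left
    (by rw [hk', hkr, h.card_one])))
  have h2 : 2 ^ (k + 1) ≤ 2 ^ r := Nat.pow_le_pow_right (by norm_num) (by omega)
  rw [pow_succ] at h2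
  omega

/-- Each step halves, and the conjugate is different. -/
theorem Setting.card_pathStab (h : Setting A g r f) :
    ∀ m, m + 1 ≤ r → Nat.card (pathStab A g (m + 1)) = 2 ^ (r - m) ∧
      (pathStab A g (m + 1)).map (MulAut.conj g⁻¹).toMonoidHom ≠ pathStab A g (m + 1) := by
  intro m
  induction m using Nat.strong_induction_on with
  | _ m ih =>
  intro hm
  obtain _ | m := m
  · exact ⟨h.card_one, h.map_ne_one⟩
  obtain ⟨hc, hne⟩ := ih m (Nat.lt_succ_self m) (by omega)
  set X := pathStab A g (m + 1) with hX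
  set Y := pathStab A g (m + 1 + 1) with hY
  -- the order of `Y`
  have hYc : Nat.card Y = 2 ^ (r - (m + 1)) := by
    obtain _ | k := m
    · have hk := h.ker_map
      have h2 := congrArg (fun S : Subgroup G => Nat.card S) hk
      simp only [card_map_conj, Subgroup.card_map_of_injective A.subtype_injective] at h2
      have h3 := h.kerf
      have h4 : 2 ^ r = 2 * 2 ^ (r - 1) := by
        rw [← pow_succ', Nat.sub_add_cancel h.pos]
      rw [hY, ← h2]
      simp only [zero_add]
      omega
    · obtain ⟨hWc, -⟩ := ih k (by omega) (by omega)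
      set W := (pathStab A g (k + 1)).map (MulAut.conj g).toMonoidHom with hW
      have hXW : X ≤ W := pathStab_succ_le_map A g (k + 1)
      have hX'W : X.map (MulAut.conj g).toMonoidHom ≤ W :=
        Subgroup.map_mono (pathStab_succ_le A g (k + 1))
      have hWc' : Nat.card W = 2 ^ (r - k) := by rw [hW, card_map_conj, hWc]
      haveI : Fact (Nat.Prime 2) := ⟨Nat.prime_two⟩
      have hidx : (X.subgroupOf W).index = 2 := by
        have h1 := Subgroup.card_mul_index (X.subgroupOf W)
        rw [Nat.card_congr (Subgroup.subgroupOfEquivOfLe hXW).toEquiv, hc, hWc',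
          show r - k = r - (k + 1) + 1 by omega, pow_succ] at h1
        exact Nat.eq_of_mul_eq_mul_left (by positivity) h1
      have hnle : ¬ X.map (MulAut.conj g).toMonoidHom ≤ X := by
        intro hle
        apply hne
        have he := Subgroup.eq_of_le_of_card_ge hle (card_map_conj X g).ge
        conv_lhs => rw [← he]
        exact map_conj_conj_inv X g
      have hdvd : Nat.card X ∣ 2 * Nat.card Y := by
        have h1 : X.relIndex (X.map (MulAut.conj g).toMonoidHom) ≤ 2 := by
          have := Subgroup.relIndex_le_of_le_right (H := X) hX'W (by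
            rw [Subgroup.relIndex, hidx]; norm_num)
          rwa [show X.relIndex W = 2 from hidx] at this
        have h2 : 0 < X.relIndex (X.map (MulAut.conj g).toMonoidHom) :=
          Nat.pos_of_ne_zero Subgroup.index_ne_zero_of_finite
        have h3 : X.relIndex (X.map (MulAut.conj g).toMonoidHom) ≠ 1 :=
          fun h1 => hnle (Subgroup.relIndex_eq_one.1 h1)
        have h4 := Subgroup.card_mul_index (X.subgroupOf (X.map (MulAut.conj g).toMonoidHom))
        rw [show (X.subgroupOf (X.map (MulAut.conj g).toMonoidHom)).index = 2 from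
          (by rw [Subgroup.relIndex] at h1 h2 h3; omega), card_map_conj,
          ← Subgroup.inf_subgroupOf_right,
          Nat.card_congr (Subgroup.subgroupOfEquivOfLe inf_le_right).toEquiv] at h4
        rw [← h4, mul_comm 2]
        rfl
      have hYX : Nat.card Y ∣ Nat.card X := Subgroup.card_dvd_of_le inf_le_left
      rw [hc] at hYX hdvd
      obtain ⟨j, hj, hj'⟩ := (Nat.dvd_prime_pow Nat.prime_two).1 hYX
      have hjne : j ≠ r - (k + 1) := fun hje => hnle (by
        have := Subgroup.eq_of_le_of_card_ge (pathStab_succ_le A g _ : Y ≤ X)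
          (le_of_eq (hc.trans (hje ▸ hj'.symm)))
        have h' : X ≤ X.map (MulAut.conj g).toMonoidHom :=
          this.ge.trans (pathStab_succ_le_map A g _)
        exact (Subgroup.eq_of_le_of_card_ge h' (card_map_conj X g).le).ge)
      rw [hj', ← pow_succ'] at hdvd
      have := (Nat.pow_dvd_pow_iff_le_right (by norm_num : 1 < 2)).1 hdvd
      rw [hj']
      congr 1
      omega
  refine ⟨hYc, fun heq => ?_⟩
  -- otherwise `Y` is normalized by `A` and by `g`
  set N := Subgroup.normalizer (Y : Set G) with hN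
  have hgN : g⁻¹ ∈ N := mem_normalizer_of_conj fun y hy => heq ▸ ⟨y, hy, by simp⟩
  have hXN : X ≤ N := by
    have hYX : Y ≤ X := inf_le_left
    haveI : (Y.subgroupOf X).Normal := Subgroup.normal_of_index_eq_two (by
      have h1 := Subgroup.card_mul_index (Y.subgroupOf X)
      rw [Nat.card_congr (Subgroup.subgroupOfEquivOfLe hYX).toEquiv, hYc, hc,
        show r - m = r - (m + 1) + 1 by omega, pow_succ] at h1
      exact Nat.eq_of_mul_eq_mul_left (by positivity) h1)
    exact (Subgroup.normal_subgroupOf_iff_le_normalizer hYX).1 inferInstance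
  have hstep : ∀ k, k ≤ m → pathStab A g (m + 1 - k) ≤ N := by
    intro k
    induction k with
    | zero => exact fun _ => hXN
    | succ k ihk =>
      intro hk
      have hN' : (pathStab A g (m + 1 - k)).map (MulAut.conj g⁻¹).toMonoidHom ≤ N := by
        rintro _ ⟨y, hy, rfl⟩
        exact N.mul_mem (N.mul_mem hgN (ihk (by omega) hy)) (N.inv_mem hgN)
      obtain ⟨hck, hnek⟩ := ih (m - k) (by omega) (by omega)
      obtain ⟨hck', -⟩ := ih (m - (k + 1)) (by omega) (by omega)
      rw [show m + 1 - (k + 1) = m - (k + 1) + 1 by omega]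
      rw [show m + 1 - k = m - k + 1 by omega] at ihk hN'
      have hmk : m - k = m - (k + 1) + 1 := by omega
      refine (sup_eq_of_card_two (n := r - (m - k)) (H := pathStab A g (m - (k + 1) + 1))
        (X := pathStab A g (m - k + 1))
        (Y := (pathStab A g (m - k + 1)).map (MulAut.conj g⁻¹).toMonoidHom)
        (by rw [hmk]; exact pathStab_succ_le A g _)
        (by rw [hmk]; exact map_pathStab_succ_le A g _)
        (by rw [hck']; congr 1; omega) hck
        (fun hle => hnek (Subgroup.eq_of_le_of_card_ge hle (card_map_conj _ g⁻¹).ge))).symm.trans_le ?_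
      exact sup_le (ihk (by omega)) hN'
  have hKN : pathStab A g 1 ≤ N := by simpa using hstep m le_rfl
  have hAN : A ≤ N := h.sup_one.ge.trans (sup_le hKN (by
    rintro _ ⟨y, hy, rfl⟩
    exact N.mul_mem (N.mul_mem hgN (hKN hy)) (N.inv_mem hgN)))
  have hYne : Y ≠ ⊥ := by
    intro hY0
    rw [hY0, Subgroup.card_bot] at hYc
    have h2 : 2 ^ 1 ≤ 2 ^ (r - (m + 1)) := Nat.pow_le_pow_right (by norm_num) (by omega)
    omega
  exact h.not_mem (A.inv_mem_iff.1 (h.norm Y (pathStab_le A g _) hAN hYne hgN))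

/-- The chosen involution fixing the longest path. -/
theorem Setting.exists_gen (h : Setting A g r f) :
    ∃ x : G, x ≠ 1 ∧ x * x = 1 ∧ pathStab A g r = Subgroup.zpowers x := by
  obtain ⟨r, rfl⟩ : ∃ k, r = k + 1 := ⟨r - 1, (Nat.sub_add_cancel h.pos).symm⟩
  obtain ⟨hc, -⟩ := h.card_pathStab r le_rfl
  rw [Nat.add_sub_cancel_left, pow_one] at hc
  have : pathStab A g (r + 1) ≠ ⊥ := fun he => by
    rw [he, Subgroup.card_bot] at hc; norm_num at hc
  obtain ⟨x, hx, hx1⟩ := (Subgroup.ne_bot_iff_exists_ne_one).1 this |> fun ⟨x, hx⟩ =>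
    (⟨(x : G), x.2, fun h1 => hx (Subtype.ext h1)⟩ : ∃ x : G, x ∈ pathStab A g (r + 1) ∧ x ≠ 1)
  have hox : orderOf x ∣ 2 := hc ▸ Subgroup.orderOf_dvd_natCard _ hx
  refine ⟨x, hx1, ?_, (Subgroup.eq_of_le_of_card_ge (Subgroup.zpowers_le.2 hx) ?_).symm⟩
  · rw [← sq]
    exact orderOf_dvd_iff_pow_eq_one.1 hox
  · rw [hc, Nat.card_zpowers]
    rcases (Nat.dvd_prime Nat.prime_two).1 hox with h1 | h1
    · exact absurd (orderOf_eq_one_iff.1 h1) hx1
    · exact h1.ge

end CfsgLib.CubicChain
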