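import Cfsg.Agent.Lib.Perm.CubicChain

/-!
The involutions of the chain of Sims, and the bound `r ≤ 4`.
-/

set_option autoImplicit false
set_option linter.style.haveILetI false

open Cfsg
open CfsgLib.ThompsonWielandt
open scoped commutatorElement

namespace CfsgLib.CubicChain

variable {G : Type*} [Group G]

/-- The `i`-th conjugate of `x` under `g⁻¹`. -/
def xs (g x : G) (i : ℕ) : G := MulAut.conj (g⁻¹ ^ i) x

/-- The subgroup generated by `k` consecutive conjugates. -/
def seg (g x : G) (i k : ℕ) : Subgroup G := Subgroup.closure (xs g x '' Set.Ico i (i + k))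

variable {g x : G}

theorem conj_xs (n i : ℕ) : MulAut.conj (g⁻¹ ^ n) (xs g x i) = xs g x (n + i) := by
  simp [xs, pow_add, mul_assoc]

theorem xs_zero : xs g x 0 = x := by simp [xs]

theorem xs_mem_seg {i k j : ℕ} (h1 : i ≤ j) (h2 : j < i + k) : xs g x j ∈ seg g x i k :=
  Subgroup.subset_closure ⟨j, ⟨h1, h2⟩, rfl⟩

theorem seg_le {i k : ℕ} {H : Subgroup G} (h : ∀ j, i ≤ j → j < i + k → xs g x j ∈ H) :
    seg g x i k ≤ H :=
  (Subgroup.closure_le H).2 (by rintro _ ⟨j, ⟨h1, h2⟩, rfl⟩; exact h j h1 h2)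

theorem seg_zero (i : ℕ) : seg g x i 0 = ⊥ :=
  le_bot_iff.1 (seg_le fun j h1 h2 => absurd h2 (by omega))

theorem seg_sup_seg (i k : ℕ) (hk : 1 ≤ k) :
    seg g x i k ⊔ seg g x (i + 1) k = seg g x i (k + 1) := by
  refine le_antisymm (sup_le (seg_le fun j h1 h2 => xs_mem_seg h1 (by omega))
    (seg_le fun j h1 h2 => xs_mem_seg (by omega) (by omega))) (seg_le fun j h1 h2 => ?_)
  by_cases hj : j < i + k
  · exact Subgroup.mem_sup_left (xs_mem_seg h1 hj)
  · exact Subgroup.mem_sup_right (xs_mem_seg (by omega) (by omega))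

theorem map_seg (n i k : ℕ) :
    (seg g x i k).map (MulAut.conj (g⁻¹ ^ n)).toMonoidHom = seg g x (n + i) k := by
  rw [seg, MonoidHom.map_closure, seg, ← Set.image_comp]
  congr 1
  ext z
  constructor
  · rintro ⟨j, ⟨h1, h2⟩, rfl⟩
    exact ⟨n + j, ⟨by omega, by omega⟩, (conj_xs n j).symm⟩
  · rintro ⟨j, ⟨h1, h2⟩, rfl⟩
    refine ⟨j - n, ⟨by omega, by omega⟩, ?_⟩
    show MulAut.conj (g⁻¹ ^ n) (xs g x (j - n)) = xs g x j
    rw [conj_xs, Nat.add_sub_cancel' (by omega)]

theorem commute_shift (n i j : ℕ) :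
    Commute (xs g x (n + i)) (xs g x (n + j)) ↔ Commute (xs g x i) (xs g x j) := by
  rw [← conj_xs, ← conj_xs]
  exact ⟨fun h => (MulAut.conj (g⁻¹ ^ n)).injective (by rw [map_mul, map_mul]; exact h.eq),
    fun h => h.map _⟩

theorem seg_induction {i k : ℕ} {H : Subgroup G} {y : G}
    (h : ∀ j, i ≤ j → j < i + k → Commute y (xs g x j)) (hz : H ≤ seg g x i k) {z : G}
    (hzm : z ∈ H) : Commute y z := by
  have : seg g x i k ≤ Subgroup.centralizer ({y} : Set G) := seg_le fun j h1 h2 =>
    Subgroup.mem_centralizer_singleton_iff.2 (h j h1 h2).symm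
  exact (Subgroup.mem_centralizer_singleton_iff.1 (this (hz hzm))).symm

theorem commute_seg {i k : ℕ} {y z : G}
    (h : ∀ j, i ≤ j → j < i + k → Commute y (xs g x j)) (hz : z ∈ seg g x i k) : Commute y z :=
  seg_induction h le_rfl hz

theorem mem_normalizer_seg [Finite G] {i k : ℕ} {y : G}
    (h : ∀ j, i ≤ j → j < i + k → y * xs g x j * y⁻¹ ∈ seg g x i k) :
    y ∈ Subgroup.normalizer (seg g x i k : Set G) :=
  mem_normalizer_closure (by rintro _ ⟨j, ⟨h1, h2⟩, rfl⟩; exact h j h1 h2)

theorem seg_inv {i k : ℕ} : ∀ j, i ≤ j → j < i + k → (xs g x j)⁻¹ ∈ seg g x i k :=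
  fun _ h1 h2 => Subgroup.inv_mem _ (xs_mem_seg h1 h2)

theorem xs_mul_self (hx : x * x = 1) (i : ℕ) : xs g x i * xs g x i = 1 := by
  rw [xs, ← map_mul, hx, map_one]

theorem xs_inv (hx : x * x = 1) (i : ℕ) : (xs g x i)⁻¹ = xs g x i :=
  inv_eq_of_mul_eq_one_right (xs_mul_self hx i)

/-- Splitting off the first generator of a commutative segment. -/
theorem seg_cases_left (hx : x * x = 1) {i m : ℕ}
    (hcomm : ∀ j, i < j → j < i + (m + 1) → Commute (xs g x i) (xs g x j)) {z : G}
    (hz : z ∈ seg g x i (m + 1)) :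
    z ∈ seg g x (i + 1) m ∨ xs g x i * z ∈ seg g x (i + 1) m := by
  set S := seg g x (i + 1) m
  have hc : ∀ s ∈ S, Commute (xs g x i) s := fun s hs =>
    commute_seg (fun j h1 h2 => hcomm j (by omega) (by omega)) hs
  have key : ∀ a ∈ S, ∀ b : G, xs g x i * b ∈ S → xs g x i * (a * b) ∈ S := by
    intro a ha b hb
    rw [← mul_assoc, (hc a ha).eq, mul_assoc]
    exact S.mul_mem ha hb
  refine Subgroup.closure_induction (p := fun z _ => z ∈ S ∨ xs g x i * z ∈ S) ?_
    (Or.inl S.one_mem) ?_ ?_ hz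
  · rintro _ ⟨j, ⟨h1, h2⟩, rfl⟩
    rcases Nat.lt_or_eq_of_le h1 with h | rfl
    · exact Or.inl (xs_mem_seg (by omega) (by omega))
    · exact Or.inr (by rw [xs_mul_self hx]; exact S.one_mem)
  · rintro a b - - (ha | ha) (hb | hb)
    · exact Or.inl (S.mul_mem ha hb)
    · exact Or.inr (key a ha b hb)
    · exact Or.inr (by rw [← mul_assoc]; exact S.mul_mem ha hb)
    · left
      have h1 := S.mul_mem ha hb
      have h2 : (xs g x i * a) * (xs g x i * b) = a * b := by
        have h5 := (Commute.refl (xs g x i)).mul_right (hc _ ha)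
        rw [← mul_assoc, xs_mul_self hx, one_mul] at h5
        rw [h5.eq, mul_assoc, ← mul_assoc (xs g x i), xs_mul_self hx, one_mul]
      rwa [h2] at h1
  · rintro a - (ha | ha)
    · exact Or.inl (S.inv_mem ha)
    · right
      have h5 : Commute (xs g x i) a := by
        have h6 := (Commute.refl (xs g x i)).mul_right (hc _ ha)
        rwa [← mul_assoc, xs_mul_self hx, one_mul] at h6
      have h7 := S.inv_mem ha
      rwa [mul_inv_rev, xs_inv hx, ← (h5.inv_right).eq] at h7

/-- Splitting off the last generator of a commutative segment. -/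
theorem seg_cases_right (hx : x * x = 1) {i m : ℕ}
    (hcomm : ∀ j, i ≤ j → j < i + m → Commute (xs g x (i + m)) (xs g x j)) {z : G}
    (hz : z ∈ seg g x i (m + 1)) :
    z ∈ seg g x i m ∨ xs g x (i + m) * z ∈ seg g x i m := by
  set S := seg g x i m
  set t := xs g x (i + m)
  have hc : ∀ s ∈ S, Commute t s := fun s hs => commute_seg hcomm hs
  have htt : t * t = 1 := xs_mul_self hx _
  have hcancel : ∀ a : G, t * a ∈ S → Commute t a := fun a ha => by
    have h5 := (Commute.refl t).mul_right (hc _ ha)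
    rwa [← mul_assoc, htt, one_mul] at h5
  refine Subgroup.closure_induction (p := fun z _ => z ∈ S ∨ t * z ∈ S) ?_
    (Or.inl S.one_mem) ?_ ?_ hz
  · rintro _ ⟨j, ⟨h1, h2⟩, rfl⟩
    by_cases h : j < i + m
    · exact Or.inl (xs_mem_seg h1 h)
    · obtain rfl : j = i + m := by omega
      exact Or.inr (by rw [htt]; exact S.one_mem)
  · rintro a b - - (ha | ha) (hb | hb)
    · exact Or.inl (S.mul_mem ha hb)
    · exact Or.inr (by rw [← mul_assoc, (hc a ha).eq, mul_assoc]; exact S.mul_mem ha hb)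
    · exact Or.inr (by rw [← mul_assoc]; exact S.mul_mem ha hb)
    · left
      have h1 := S.mul_mem ha hb
      rwa [(hcancel a ha).eq, mul_assoc, ← mul_assoc t t, htt, one_mul] at h1
  · rintro a - (ha | ha)
    · exact Or.inl (S.inv_mem ha)
    · right
      have h7 := S.inv_mem ha
      rwa [mul_inv_rev, inv_eq_of_mul_eq_one_right htt, ← ((hcancel a ha).inv_right).eq] at h7

variable [Finite G] {A : Subgroup G} {r : ℕ} {f : A →* Equiv.Perm (Fin 3)}

/-- A chain with its chosen generator. -/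
structure Chain (A : Subgroup G) (g : G) (r : ℕ) (f : A →* Equiv.Perm (Fin 3)) (x : G) :
    Prop extends Setting A g r f where
  two : 2 ≤ r
  sq : x * x = 1
  gen : pathStab A g r = Subgroup.zpowers x

namespace Chain

variable (h : Chain A g r f x)
include h

theorem seg_eq_pathStab : ∀ k, k + 1 ≤ r → seg g x 0 (k + 1) = pathStab A g (r - k) := by
  intro k
  induction k with
  | zero =>
    intro _
    rw [Nat.sub_zero, h.gen, seg, Subgroup.zpowers_eq_closure]
    congr 1
    ext z
    constructor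
    · rintro ⟨j, ⟨-, hj⟩, rfl⟩
      obtain rfl : j = 0 := by omega
      exact xs_zero
    · rintro rfl
      exact ⟨0, ⟨le_rfl, by omega⟩, xs_zero⟩
  | succ k ih =>
    intro hk
    have h0 := ih (by omega)
    obtain ⟨hc, hne⟩ := h.card_pathStab (r - k - 1) (by omega)
    obtain ⟨hc', -⟩ := h.card_pathStab (r - k - 2) (by omega)
    rw [show r - k - 1 + 1 = r - k by omega] at hc hne
    rw [show r - k - 2 + 1 = r - k - 1 by omega] at hc'
    rw [← seg_sup_seg 0 (k + 1) (by omega), show (0 : ℕ) + 1 = 1 + 0 from rfl, ← map_seg 1 0,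
      pow_one, h0, show r - (k + 1) = r - k - 1 by omega]
    refine sup_eq_of_card_two (n := k + 1) ?_ ?_ ?_ ?_ ?_
    · exact (congrArg (pathStab A g) (show r - k = r - k - 1 + 1 by omega)).le.trans
        (pathStab_succ_le A g _)
    · exact (congrArg (fun n => (pathStab A g n).map (MulAut.conj g⁻¹).toMonoidHom)
        (show r - k = r - k - 1 + 1 by omega)).le.trans (map_pathStab_succ_le A g _)
    · rw [hc']; congr 1; omega
    · rw [hc]; congr 1; omega
    · exact fun hle => hne (Subgroup.eq_of_le_of_card_ge hle (card_map_conj _ g⁻¹).ge)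

theorem card_seg (i k : ℕ) (hk : k ≤ r) : Nat.card (seg g x i k) = 2 ^ k := by
  obtain _ | k := k
  · rw [seg_zero, Subgroup.card_bot, pow_zero]
  have h0 : Nat.card (seg g x 0 (k + 1)) = 2 ^ (k + 1) := by
    rw [h.seg_eq_pathStab k hk]
    obtain ⟨hc, -⟩ := h.card_pathStab (r - k - 1) (by omega)
    rw [show r - k - 1 + 1 = r - k by omega] at hc
    rw [hc]; congr 1; omega
  rw [← h0, show seg g x i (k + 1) = seg g x (i + 0) (k + 1) from rfl, ← map_seg, card_map_conj]

theorem seg_eq_K : seg g x 0 r = pathStab A g 1 := by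
  have := h.seg_eq_pathStab (r - 1) (by have := h.two; omega)
  rwa [Nat.sub_add_cancel h.pos, Nat.sub_sub_self h.pos] at this

theorem seg_eq_A : seg g x 0 (r + 1) = A := by
  rw [← seg_sup_seg 0 r h.pos, show (0 : ℕ) + 1 = 1 + 0 from rfl, ← map_seg 1 0, pow_one,
    h.seg_eq_K]
  exact h.sup_one

theorem xs_mem (i : ℕ) (hi : i ≤ r) : xs g x i ∈ A :=
  h.seg_eq_A.le (xs_mem_seg (Nat.zero_le i) (by omega))

theorem xs_zero_not_mem {k : ℕ} (hk : k + 1 ≤ r) : xs g x 0 ∉ seg g x 1 k := by
  intro hm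
  have hle : seg g x 0 (k + 1) ≤ seg g x 1 k := seg_le fun j _ hj => by
    rcases Nat.eq_zero_or_pos j with rfl | hj0
    · exact hm
    · exact xs_mem_seg hj0 (by omega)
  have := Subgroup.card_le_of_le hle
  rw [h.card_seg 0 (k + 1) hk, h.card_seg 1 k (by omega), pow_succ] at this
  have : 0 < 2 ^ k := by positivity
  omega

theorem xs_last_not_mem {k : ℕ} (hk : k ≤ r) : xs g x k ∉ seg g x 0 k := by
  intro hm
  have hle : seg g x 0 (k + 1) ≤ seg g x 0 k := seg_le fun j _ hj => by
    by_cases hjk : j < 0 + k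
    · exact xs_mem_seg (Nat.zero_le j) hjk
    · obtain rfl : j = k := by omega
      exact hm
  have hle' := Subgroup.card_le_of_le hle
  rcases Nat.lt_or_eq_of_le hk with hk' | rfl
  · rw [h.card_seg 0 (k + 1) hk', h.card_seg 0 k hk, pow_succ] at hle'
    have : 0 < 2 ^ k := by positivity
    omega
  · rw [h.seg_eq_A, h.cardA, h.card_seg 0 k le_rfl] at hle'
    have : 0 < 2 ^ k := by positivity
    omega

theorem xs_ne_one (i : ℕ) : xs g x i ≠ 1 := by
  intro hi
  have : x = 1 := (MulAut.conj (g⁻¹ ^ i)).injective (hi.trans (map_one _).symm)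
  exact h.xs_zero_not_mem (k := 0) (by have := h.two; omega)
    (by rw [xs_zero, this]; exact Subgroup.one_mem _)

/-- Nothing but `1` in `A` commutes with `x_0, …, x_{r+1}`. -/
theorem eq_one_of_commute {y : G} (hy : y ∈ A)
    (hc : ∀ j, j ≤ r + 1 → Commute y (xs g x j)) : y = 1 := by
  by_contra hne
  have hN : Subgroup.normalizer (Subgroup.zpowers y : Set G) ≤ A := by
    refine h.norm _ (Subgroup.zpowers_le.2 hy) ?_ (fun hb => hne (Subgroup.zpowers_eq_bot.1 hb))
    refine le_trans (le_trans h.seg_eq_A.ge (seg_le fun j _ hj => ?_))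
      (Subgroup.centralizer_le_normalizer _)
    exact Subgroup.mem_centralizer_iff.2 fun z hz => by
      obtain ⟨n, rfl⟩ := hz
      exact ((hc j (by omega)).zpow_left n).eq
  have hle : seg g x 1 (r + 1) ≤ A := seg_le fun j _ hj =>
    hN (Subgroup.centralizer_le_normalizer _ (Subgroup.mem_centralizer_iff.2 fun z hz => by
      obtain ⟨n, rfl⟩ := hz
      exact ((hc j (by omega)).zpow_left n).eq))
  rw [show seg g x 1 (r + 1) = A.map (MulAut.conj g⁻¹).toMonoidHom by
    rw [show seg g x 1 (r + 1) = seg g x (1 + 0) (r + 1) from rfl, ← map_seg 1 0, pow_one,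
      h.seg_eq_A]] at hle
  have hgA : g⁻¹ ∈ Subgroup.normalizer (A : Set G) :=
    mem_normalizer_of_conj fun a ha => hle ⟨a, ha, by simp⟩
  have hAne : A ≠ ⊥ := fun hb => hne (by rw [hb] at hy; simpa using hy)
  exact h.not_mem (A.inv_mem_iff.1 (h.norm A le_rfl Subgroup.le_normalizer hAne hgA))

theorem not_normal_two {i k : ℕ} (hi : 1 ≤ i) (hik : i + k ≤ r + 1) (hk : 1 ≤ k)
    (h1 : ∀ j, j ≤ r + 1 → xs g x j ∈ Subgroup.normalizer (seg g x i k : Set G)) : False := by
  have hA : A ≤ Subgroup.normalizer (seg g x i k : Set G) :=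
    h.seg_eq_A.ge.trans (seg_le fun j _ hj => h1 j (by omega))
  have hne : seg g x i k ≠ ⊥ := fun hb => h.xs_ne_one i (by
    have : xs g x i ∈ seg g x i k := xs_mem_seg le_rfl (by omega)
    simpa [hb] using this)
  have hN := h.norm _ ((seg_le fun j h1 h2 => h.xs_mem j (by omega))) hA hne
  have hle : seg g x 1 (r + 1) ≤ A := seg_le fun j _ hj => hN (h1 j (by omega))
  rw [show seg g x 1 (r + 1) = A.map (MulAut.conj g⁻¹).toMonoidHom by
    rw [show seg g x 1 (r + 1) = seg g x (1 + 0) (r + 1) from rfl, ← map_seg 1 0, pow_one,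
      h.seg_eq_A]] at hle
  have hgA : g⁻¹ ∈ Subgroup.normalizer (A : Set G) :=
    mem_normalizer_of_conj fun a ha => hle ⟨a, ha, by simp⟩
  have hAne : A ≠ ⊥ := fun hb => by
    have := h.cardA
    rw [hb, Subgroup.card_bot] at this
    have : 1 ≤ 2 ^ r := Nat.one_le_two_pow
    omega
  exact h.not_mem (A.inv_mem_iff.1 (h.norm A le_rfl Subgroup.le_normalizer hAne hgA))

/-- The commutator of `x_i` and `x_{i+d}` lies strictly between them. -/
theorem comm_mem (i : ℕ) {d : ℕ} (hd : 1 ≤ d) (hdr : d + 1 ≤ r) :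
    xs g x i * xs g x (i + d) * xs g x i * xs g x (i + d) ∈ seg g x (i + 1) (d - 1) := by
  have hnorm : ∀ a, a ≤ 1 → seg g x 0 (d + 1) ≤ Subgroup.normalizer (seg g x a d : Set G) := by
    intro a ha
    have hle : seg g x a d ≤ seg g x 0 (d + 1) :=
      seg_le fun j h1 h2 => xs_mem_seg (Nat.zero_le j) (by omega)
    haveI : ((seg g x a d).subgroupOf (seg g x 0 (d + 1))).Normal :=
      Subgroup.normal_of_index_eq_two (by
        have h1 := Subgroup.card_mul_index ((seg g x a d).subgroupOf (seg g x 0 (d + 1)))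
        rw [Nat.card_congr (Subgroup.subgroupOfEquivOfLe hle).toEquiv, h.card_seg a d (by omega),
          h.card_seg 0 (d + 1) hdr, pow_succ] at h1
        exact Nat.eq_of_mul_eq_mul_left (by positivity) h1)
    exact (Subgroup.normal_subgroupOf_iff_le_normalizer hle).1 inferInstance
  have h0 : xs g x 0 ∈ seg g x 0 (d + 1) := xs_mem_seg le_rfl (by omega)
  have h1 : xs g x d ∈ seg g x 0 (d + 1) := xs_mem_seg (Nat.zero_le _) (by omega)
  set c := xs g x 0 * xs g x d * xs g x 0 * xs g x d with hc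
  have hc0 : c ∈ seg g x 0 d := by
    rw [hc, mul_assoc, mul_assoc]
    refine Subgroup.mul_mem _ (xs_mem_seg le_rfl (by omega)) ?_
    have := (Subgroup.mem_normalizer_iff.1 (hnorm 0 (by omega) h1) (xs g x 0)).1
      (xs_mem_seg le_rfl (by omega))
    rwa [xs_inv h.sq, mul_assoc] at this
  have hc1 : c ∈ seg g x 1 d := by
    rw [hc]
    refine Subgroup.mul_mem _ ?_ (xs_mem_seg (by omega) (by omega))
    have := (Subgroup.mem_normalizer_iff.1 (hnorm 1 le_rfl h0) (xs g x d)).1
      (xs_mem_seg (by omega) (by omega))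
    rwa [xs_inv h.sq] at this
  have hint : seg g x 0 d ⊓ seg g x 1 d = seg g x 1 (d - 1) := by
    refine (Subgroup.eq_of_le_of_card_ge
      (le_inf (seg_le fun j h1 h2 => xs_mem_seg (Nat.zero_le j) (by omega))
        (seg_le fun j h1 h2 => xs_mem_seg h1 (by omega))) ?_).symm
    have hne : seg g x 0 d ⊓ seg g x 1 d ≠ seg g x 0 d := fun he => by
      have : xs g x 0 ∈ seg g x 1 d := inf_eq_left.1 he (xs_mem_seg le_rfl (by omega))
      exact h.xs_zero_not_mem hdr this
    obtain ⟨j, hj, hj'⟩ := (Nat.dvd_prime_pow Nat.prime_two).1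
      (h.card_seg 0 d (by omega) ▸ Subgroup.card_dvd_of_le
        (inf_le_left : seg g x 0 d ⊓ seg g x 1 d ≤ seg g x 0 d))
    have hjd : j ≠ d := fun he => hne (Subgroup.eq_of_le_of_card_ge inf_le_left
      (by rw [hj', he, h.card_seg 0 d (by omega)]))
    rw [hj', h.card_seg 1 (d - 1) (by omega)]
    exact Nat.pow_le_pow_right (by norm_num) (by omega)
  have hmem : c ∈ seg g x 1 (d - 1) := hint ▸ ⟨hc0, hc1⟩
  have := Subgroup.mem_map_of_mem (MulAut.conj (g⁻¹ ^ i)).toMonoidHom hmem
  rw [map_seg] at this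
  rwa [hc, MulEquiv.coe_toMonoidHom, map_mul, map_mul, map_mul, conj_xs, conj_xs, add_zero]
    at this

theorem map_ker : f.ker.map A.subtype = seg g x 1 (r - 1) := by
  have h2 := h.two
  have := h.seg_eq_pathStab (r - 2) (by omega)
  rw [show r - 2 + 1 = r - 1 by omega, show r - (r - 2) = 2 by omega] at this
  rw [h.ker_map, ← this, show seg g x 1 (r - 1) = seg g x (1 + 0) (r - 1) from rfl,
    ← map_seg 1 0, pow_one]

theorem f_ne_one {i : ℕ} (hi : i = 0 ∨ i = r) (hm : xs g x i ∈ A) : f ⟨_, hm⟩ ≠ 1 := by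
  intro hone
  have hU : xs g x i ∈ seg g x 1 (r - 1) := h.map_ker ▸ ⟨⟨_, hm⟩, hone, rfl⟩
  have := h.two
  rcases hi with rfl | rfl
  · exact h.xs_zero_not_mem (by omega) hU
  · exact h.xs_last_not_mem le_rfl (seg_le (fun j h1 h2 => xs_mem_seg (Nat.zero_le j) (by omega))
      hU)

theorem f_ne :
    f ⟨_, h.xs_mem 0 (Nat.zero_le r)⟩ ≠ f ⟨_, h.xs_mem r le_rfl⟩ := by
  intro he
  have h2 := h.two
  have hU : (xs g x 0)⁻¹ * xs g x r ∈ seg g x 1 (r - 1) :=
    h.map_ker ▸ ⟨(⟨_, h.xs_mem 0 (Nat.zero_le r)⟩ : A)⁻¹ * ⟨_, h.xs_mem r le_rfl⟩,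
      (MonoidHom.mem_ker).2 (by rw [map_mul, map_inv, he, inv_mul_cancel]), rfl⟩
  apply h.xs_last_not_mem le_rfl
  have := (seg g x 0 r).mul_mem (xs_mem_seg (le_refl 0) (by omega) : xs g x 0 ∈ seg g x 0 r)
    ((seg_le fun j h1 h2 => xs_mem_seg (Nat.zero_le j) (by omega)) hU)
  simpa using this

theorem exists_not_commute : ∃ d, d ≤ r ∧ ¬ Commute (xs g x 0) (xs g x d) := by
  by_contra hall
  push Not at hall
  have hS : ∀ σ τ : Equiv.Perm (Fin 3), σ * σ = 1 → τ * τ = 1 → σ ≠ 1 → τ ≠ 1 → σ ≠ τ →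
      σ * τ ≠ τ * σ := by decide
  refine hS _ _ ?_ ?_ (h.f_ne_one (Or.inl rfl) (h.xs_mem 0 (Nat.zero_le r)))
    (h.f_ne_one (Or.inr rfl) (h.xs_mem r le_rfl)) h.f_ne ?_
  · rw [← map_mul]
    exact (congrArg f (Subtype.ext (xs_mul_self h.sq _))).trans (map_one f)
  · rw [← map_mul]
    exact (congrArg f (Subtype.ext (xs_mul_self h.sq _))).trans (map_one f)
  · rw [← map_mul, ← map_mul]
    exact congrArg f (Subtype.ext (hall r le_rfl).eq)

end Chain

/-- The least `d` with `x_0`, `x_d` not commuting. -/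
noncomputable def Chain.lam (h : Chain A g r f x) : ℕ :=
  @Nat.find _ (Classical.decPred _) h.exists_not_commute

namespace Chain

variable (h : Chain A g r f x)
include h

theorem lam_le : h.lam ≤ r := (@Nat.find_spec _ (Classical.decPred _) h.exists_not_commute).1

theorem lam_spec : ¬ Commute (xs g x 0) (xs g x h.lam) :=
  (@Nat.find_spec _ (Classical.decPred _) h.exists_not_commute).2

theorem commute_of_lt {i j : ℕ} (h1 : i < j + h.lam) (h2 : j < i + h.lam) :
    Commute (xs g x i) (xs g x j) := by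
  have key : ∀ d, d < h.lam → Commute (xs g x 0) (xs g x d) := fun d hd => by
    by_contra hc
    exact @Nat.find_min _ (Classical.decPred _) h.exists_not_commute d hd
      ⟨by have := h.lam_le; omega, hc⟩
  rcases le_total i j with hij | hij
  · obtain ⟨d, rfl⟩ := Nat.exists_eq_add_of_le hij
    simpa using (commute_shift (g := g) (x := x) i 0 d).2 (key d (by omega))
  · obtain ⟨d, rfl⟩ := Nat.exists_eq_add_of_le hij
    simpa using ((commute_shift (g := g) (x := x) j 0 d).2 (key d (by omega))).symm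

theorem not_commute (i : ℕ) : ¬ Commute (xs g x i) (xs g x (i + h.lam)) := fun hc =>
  h.lam_spec ((commute_shift (g := g) (x := x) i 0 h.lam).1 hc)

theorem two_le_lam : 2 ≤ h.lam := by
  by_contra hlt
  have hs := h.lam_spec
  obtain he | he : h.lam = 0 ∨ h.lam = 1 := by omega
  · rw [he] at hs; exact hs (Commute.refl _)
  · rw [he] at hs
    apply hs
    have h2 := h.comm_mem 0 (d := 1) le_rfl h.two
    rw [Nat.sub_self, seg_zero, Subgroup.mem_bot, zero_add] at h2
    unfold Commute SemiconjBy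
    calc xs g x 0 * xs g x 1
        = xs g x 0 * xs g x 1 * (xs g x 0 * xs g x 1 * xs g x 0 * xs g x 1)⁻¹ := by
          rw [h2, inv_one, mul_one]
      _ = (xs g x 1)⁻¹ * (xs g x 0)⁻¹ := by group
      _ = xs g x 1 * xs g x 0 := by rw [xs_inv h.sq, xs_inv h.sq]

theorem upper : 2 * h.lam ≤ r + 2 := by
  by_contra hlt
  have := h.lam_le
  have h2 := h.two_le_lam
  exact h.xs_ne_one (h.lam - 1) (h.eq_one_of_commute (h.xs_mem _ (by omega)) fun j hj =>
    h.commute_of_lt (by omega) (by omega))

/-- The support of the first nontrivial commutator. -/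
theorem support (hlt : h.lam < r) :
    ∃ i m : ℕ, 1 ≤ i ∧ 1 ≤ m ∧ r ≤ i + h.lam ∧ r + (i + m) ≤ 2 * h.lam + 1 ∧
      xs g x 0 * xs g x h.lam * xs g x 0 * xs g x h.lam ∈ seg g x i m := by
  classical
  have h2l := h.two_le_lam
  set l := h.lam with hl
  set c := xs g x 0 * xs g x l * xs g x 0 * xs g x l with hc
  have hex : ∃ m, ∃ i, 1 ≤ i ∧ i + m ≤ l ∧ c ∈ seg g x i m := by
    refine ⟨l - 1, 1, le_rfl, by omega, ?_⟩
    simpa using h.comm_mem 0 (d := l) (by omega) (by omega)
  set m := Nat.find hex with hm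
  obtain ⟨i, hi1, him, hci⟩ := Nat.find_spec hex
  rw [← hm] at him hci
  have hm1 : 1 ≤ m := by
    rcases Nat.eq_zero_or_pos m with h0 | h0
    · exfalso
      rw [h0, seg_zero, Subgroup.mem_bot] at hci
      apply h.lam_spec
      rw [← hl]
      unfold Commute SemiconjBy
      calc xs g x 0 * xs g x l = xs g x 0 * xs g x l * c⁻¹ := by rw [hci, inv_one, mul_one]
        _ = (xs g x l)⁻¹ * (xs g x 0)⁻¹ := by rw [hc]; group
        _ = xs g x l * xs g x 0 := by rw [xs_inv h.sq, xs_inv h.sq]
    · exact h0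
  have hmin : ∀ i', 1 ≤ i' → i' + (m - 1) ≤ l → c ∉ seg g x i' (m - 1) := fun i' h1 h2 h3 =>
    Nat.find_min hex (by omega : m - 1 < m) ⟨i', h1, h2, h3⟩
  have hcomm : ∀ a b, i ≤ a → a < i + m → i ≤ b → b < i + m →
      Commute (xs g x a) (xs g x b) := fun a b _ _ _ _ => h.commute_of_lt (by omega) (by omega)
  refine ⟨i, m, hi1, hm1, ?_, ?_, hci⟩
  · -- left end
    by_contra hlt'
    set y := xs g x (i + l)
    have hy : y * y = 1 := xs_mul_self h.sq _
    set e := xs g x 0 * y * xs g x 0 * y with he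
    have hemem : e ∈ seg g x 1 (i + l - 1) := by
      simpa using h.comm_mem 0 (d := i + l) (by omega) (by omega)
    have hel : Commute (xs g x l) e :=
      commute_seg (fun j h1 h2 => h.commute_of_lt (by omega) (by omega)) hemem
    have hec : Commute c e := commute_seg (fun j h1 h2 => Commute.symm
      (commute_seg (fun j' h3 h4 => h.commute_of_lt (by omega) (by omega)) hci)) hemem
    have hyl : Commute y (xs g x l) := h.commute_of_lt (by omega) (by omega)
    have hy0 : y * xs g x 0 * y = xs g x 0 * e := by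
      have : xs g x 0 * (xs g x 0 * y * xs g x 0 * y) =
          (xs g x 0 * xs g x 0) * (y * xs g x 0 * y) := by group
      rw [he, this, xs_mul_self h.sq, one_mul]
    have hy0' : y * xs g x 0 * y = e⁻¹ * xs g x 0 := by
      rw [he]
      simp only [mul_inv_rev, xs_inv h.sq, inv_eq_of_mul_eq_one_right hy]
      simp only [mul_assoc, xs_mul_self h.sq, mul_one]
    have hyl' : y * xs g x l * y = xs g x l := by rw [hyl.eq, mul_assoc, hy, mul_one]
    have hyc : y * c * y = c := by
      calc y * c * y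
          = (y * xs g x 0 * y) * (y * xs g x l * y) * (y * xs g x 0 * y) *
            (y * xs g x l * y) := by
              rw [hc]
              have : ∀ a b c d : G, (y * a * y) * (y * b * y) * (y * c * y) * (y * d * y) =
                  y * (a * (y * y) * b * (y * y) * c * (y * y) * d) * y := by intros; group
              rw [this, hy, mul_one, mul_one, mul_one]
        _ = e⁻¹ * xs g x 0 * xs g x l * (xs g x 0 * e) * xs g x l := by
              rw [hyl']; nth_rw 1 [hy0']; rw [hy0]
        _ = e⁻¹ * c * e := by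
              rw [hc]; simp only [mul_assoc]; rw [hel.eq]
        _ = c := by rw [mul_assoc, hec.eq, ← mul_assoc, inv_mul_cancel, one_mul]
    have hyc' : Commute y c := by
      unfold Commute SemiconjBy
      nth_rw 2 [← hyc]
      rw [mul_assoc (y * c), hy, mul_one]
    obtain ⟨m', hm'⟩ : ∃ m', m = m' + 1 := ⟨m - 1, by omega⟩
    rw [hm'] at hci
    rcases seg_cases_left h.sq
        (fun j h1 h2 => hcomm i j le_rfl (by omega) (by omega) (by omega)) hci with h1 | h1
    · exact hmin (i + 1) (by omega) (by omega) (by rwa [show m - 1 = m' by omega])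
    · refine h.not_commute i ?_
      have h3 : Commute y (xs g x i * c) :=
        commute_seg (fun j h1 h2 => h.commute_of_lt (by omega) (by omega)) h1
      have h4 := h3.mul_right hyc'.inv_right
      rw [mul_assoc, mul_inv_cancel, mul_one] at h4
      exact h4.symm
  · -- right end
    by_contra hlt'
    set k := i + m - 1 with hk
    set y := xs g x k
    have hy : y * y = 1 := xs_mul_self h.sq _
    set c2 := xs g x l * xs g x (l + l) * xs g x l * xs g x (l + l) with hc2
    have hc2e : MulAut.conj (g⁻¹ ^ l) c = c2 := by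
      rw [hc, hc2]; simp only [map_mul, conj_xs, add_zero]
    have hc2mem : c2 ∈ seg g x (l + i) m := by
      rw [← map_seg, ← hc2e]; exact Subgroup.mem_map_of_mem _ hci
    set e := y * xs g x (l + l) * y * xs g x (l + l) with he
    have hemem : e ∈ seg g x (k + 1) (l + l - k - 1) := by
      have := h.comm_mem k (d := l + l - k) (by omega) (by omega)
      rwa [Nat.add_sub_cancel' (by omega)] at this
    have hel : Commute (xs g x l) e :=
      commute_seg (fun j h1 h2 => h.commute_of_lt (by omega) (by omega)) hemem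
    have hec : Commute c2 e := commute_seg (fun j h1 h2 => Commute.symm
      (commute_seg (fun j' h3 h4 => h.commute_of_lt (by omega) (by omega)) hc2mem)) hemem
    have hyl : Commute y (xs g x l) := h.commute_of_lt (by omega) (by omega)
    have hyl' : y * xs g x l * y = xs g x l := by rw [hyl.eq, mul_assoc, hy, mul_one]
    have hyt : y * xs g x (l + l) * y = e * xs g x (l + l) := by
      rw [he]
      simp only [mul_assoc, xs_mul_self h.sq, mul_one]
    have hyt' : y * xs g x (l + l) * y = xs g x (l + l) * e⁻¹ := by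
      rw [he]
      simp only [mul_inv_rev, xs_inv h.sq, inv_eq_of_mul_eq_one_right hy]
      rw [← mul_assoc, xs_mul_self h.sq, one_mul, mul_assoc]
    have hyc : y * c2 * y = c2 := by
      calc y * c2 * y
          = (y * xs g x l * y) * (y * xs g x (l + l) * y) * (y * xs g x l * y) *
            (y * xs g x (l + l) * y) := by
              rw [hc2]
              have : ∀ a b c d : G, (y * a * y) * (y * b * y) * (y * c * y) * (y * d * y) =
                  y * (a * (y * y) * b * (y * y) * c * (y * y) * d) * y := by intros; group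
              rw [this, hy, mul_one, mul_one, mul_one]
        _ = xs g x l * (e * xs g x (l + l)) * xs g x l * (xs g x (l + l) * e⁻¹) := by
              rw [hyl']; nth_rw 1 [hyt]; rw [hyt']
        _ = e * c2 * e⁻¹ := by
              rw [hc2]; simp only [← mul_assoc]; rw [hel.eq]
        _ = c2 := by rw [← hec.eq, mul_assoc, mul_inv_cancel, mul_one]
    have hyc' : Commute y c2 := by
      unfold Commute SemiconjBy
      nth_rw 2 [← hyc]
      rw [mul_assoc (y * c2), hy, mul_one]
    obtain ⟨m', hm'⟩ : ∃ m', m = m' + 1 := ⟨m - 1, by omega⟩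
    rw [hm'] at hci
    rcases seg_cases_right h.sq
        (fun j h1 h2 => hcomm _ j (by omega) (by omega) h1 (by omega)) hci with h1 | h1
    · exact hmin i hi1 (by omega) (by rwa [show m - 1 = m' by omega])
    · refine h.not_commute k ?_
      have h5 := Subgroup.mem_map_of_mem (MulAut.conj (g⁻¹ ^ l)).toMonoidHom h1
      rw [map_seg] at h5
      have h6 : MulAut.conj (g⁻¹ ^ l) (xs g x (i + m') * c) = xs g x (k + l) * c2 := by
        rw [map_mul, conj_xs, hc2e, show l + (i + m') = k + l by omega]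
      rw [MulEquiv.coe_toMonoidHom, h6] at h5
      have h3 : Commute y (xs g x (k + l) * c2) :=
        commute_seg (fun j h1 h2 => h.commute_of_lt (by omega) (by omega)) h5
      have h4 := h3.mul_right hyc'.inv_right
      rwa [mul_assoc, mul_inv_cancel, mul_one] at h4

end Chain

end CfsgLib.CubicChain
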