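import Mathlib.Algebra.MonoidAlgebra.Basic
import Mathlib.Algebra.CharP.Algebra
import Mathlib.Algebra.CharP.Lemmas
import Mathlib.GroupTheory.SpecificGroups.Cyclic
import Mathlib.GroupTheory.GroupAction.MultipleTransitivity
import Mathlib.Algebra.Field.ZMod
import Mathlib.Algebra.CharP.Basic

/-!
# Schur's theorem: a group with a regular cyclic subgroup of composite order is imprimitive or 2-transitive

The relation algebra is handled through functions of the difference of two points.
-/

set_option autoImplicit false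
set_option linter.all false

namespace CfsgLib.Perm.CyclicRegular

open Finset

variable {G : Type*} [Group G] {N : ℕ} [NeZero N]

/-- a function of the difference of two points which is preserved by the permutations `φ g` -/
def Inv (φ : G →* Equiv.Perm (ZMod N)) {α : Type*} (f : ZMod N → α) : Prop :=
  ∀ g : G, ∀ x y : ZMod N, f (φ g y - φ g x) = f (y - x)

variable {φ : G →* Equiv.Perm (ZMod N)}

/-- reindexing along a permutation -/
theorem sum_reindex {R : Type*} [AddCommMonoid R] (g : G) (x : ZMod N) (F : ZMod N → R) :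
    ∑ v, F v = ∑ w, F (φ g w - φ g x) :=
  (Fintype.sum_equiv ((φ g).trans (Equiv.subRight (φ g x))) (fun w => F (φ g w - φ g x)) F fun w => rfl).symm

theorem Inv.conv {R : Type*} [CommSemiring R] {f h : ZMod N → R} (hf : Inv φ f) (hh : Inv φ h) :
    Inv φ (fun d => ∑ v, f v * h (d - v)) := by
  intro g x y
  simp only
  rw [sum_reindex (φ := φ) g x (fun v => f v * h (φ g y - φ g x - v)),
    sum_reindex (φ := φ) 1 x (fun v => f v * h (y - x - v))]
  refine Finset.sum_congr rfl fun w _ => ?_
  rw [show φ g y - φ g x - (φ g w - φ g x) = φ g y - φ g w by abel, hf g x w, hh g w y]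
  simp only [map_one, Equiv.Perm.one_apply]
  rw [show y - x - (w - x) = y - w by abel]

theorem Inv.corr {R : Type*} [CommSemiring R] {f h : ZMod N → R} (hf : Inv φ f) (hh : Inv φ h) :
    Inv φ (fun d => ∑ v, f v * h (v - d)) := by
  intro g x y
  simp only
  rw [sum_reindex (φ := φ) g x (fun v => f v * h (v - (φ g y - φ g x))),
    sum_reindex (φ := φ) 1 x (fun v => f v * h (v - (y - x)))]
  refine Finset.sum_congr rfl fun w _ => ?_
  rw [show φ g w - φ g x - (φ g y - φ g x) = φ g w - φ g y by abel, hf g x w, hh g y w]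
  simp only [map_one, Equiv.Perm.one_apply]
  rw [show w - x - (y - x) = w - y by abel]

theorem Inv.comp {α β : Type*} {f : ZMod N → α} (hf : Inv φ f) (F : α → β) : Inv φ (fun d => F (f d)) :=
  fun g x y => congrArg F (hf g x y)

theorem inv_delta : Inv φ (fun d : ZMod N => if d = 0 then (1 : ZMod 2) else 0) := by
  intro g x y
  simp [sub_eq_zero]

theorem inv_delta' (R : Type*) [CommSemiring R] : Inv φ (fun d : ZMod N => if d = 0 then (1 : R) else 0) := by
  intro g x y
  simp [sub_eq_zero]

/-- the element of the group algebra -/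
noncomputable def ι {R : Type*} [CommSemiring R] (f : ZMod N → R) : AddMonoidAlgebra R (ZMod N) :=
  ∑ d, AddMonoidAlgebra.single d (f d)

theorem coeff_ι {R : Type*} [CommSemiring R] (f : ZMod N → R) (d : ZMod N) : (ι f).coeff d = f d := by
  rw [ι, AddMonoidAlgebra.coeff_sum, Finsupp.finsetSum_apply]
  simp [Finsupp.single_apply]

theorem ι_mul {R : Type*} [CommSemiring R] (f h : ZMod N → R) :
    ι f * ι h = ι (fun d => ∑ v, f v * h (d - v)) := by
  simp only [ι, Finset.sum_mul, Finset.mul_sum, AddMonoidAlgebra.single_mul_single]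
  have hs : ∀ (d : ZMod N), AddMonoidAlgebra.single d (∑ v, f v * h (d - v)) =
      ∑ v, AddMonoidAlgebra.single d (f v * h (d - v)) := fun d =>
    map_sum (AddMonoidAlgebra.singleAddHom d) _ _
  simp only [hs]
  rw [Finset.sum_comm]
  conv_rhs => rw [Finset.sum_comm]
  refine Finset.sum_congr rfl fun v _ => ?_
  refine Fintype.sum_equiv (Equiv.addLeft v) _ _ fun b => ?_
  simp

theorem exists_pow {R : Type*} [CommSemiring R] {f : ZMod N → R} (hf : Inv φ f) (j : ℕ) :
    ∃ c : ZMod N → R, Inv φ c ∧ ι f ^ j = ι c := by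
  induction j with
  | zero =>
    refine ⟨_, inv_delta' R, ?_⟩
    rw [pow_zero, ι, Finset.sum_eq_single (0 : ZMod N) (fun b _ hb => by simp [hb]) (by simp)]
    simp [AddMonoidAlgebra.one_def]
  | succ j ih =>
    obtain ⟨c, hc, he⟩ := ih
    exact ⟨_, hc.conv hf, by rw [pow_succ, he, ι_mul]⟩

/-- an invariant set -/
def InvSet (φ : G →* Equiv.Perm (ZMod N)) (S : Finset (ZMod N)) : Prop := Inv φ (fun d => decide (d ∈ S))

theorem InvSet.iff {S : Finset (ZMod N)} (h : InvSet φ S) (g : G) (x y : ZMod N) :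
    φ g y - φ g x ∈ S ↔ y - x ∈ S := decide_eq_decide.1 (h g x y)

theorem InvSet.inv {S : Finset (ZMod N)} (h : InvSet φ S) (R : Type*) [CommSemiring R] :
    Inv φ (fun d => if d ∈ S then (1 : R) else 0) := by
  intro g x y
  simp only [h.iff g x y]

/-- the counting function modulo `p` on the `p`-th multiples -/
theorem inv_fibre (p : ℕ) [Fact p.Prime] {S : Finset (ZMod N)} (hS : InvSet φ S) :
    Inv φ (fun y => ((S.filter fun t => p • t = y).card : ZMod p)) := by
  haveI : CharP (AddMonoidAlgebra (ZMod p) (ZMod N)) p :=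
    charP_of_injective_ringHom (f := AddMonoidAlgebra.singleZeroRingHom)
      (fun a b h => by
        have := congrArg (fun F => F.coeff 0) h
        simpa [AddMonoidAlgebra.singleZeroRingHom] using this) p
  obtain ⟨c, hc, he⟩ := exists_pow (hS.inv (ZMod p)) p
  convert hc using 1
  funext y
  rw [← coeff_ι c y, ← he, ι, sum_pow_char, AddMonoidAlgebra.coeff_sum, Finsupp.finsetSum_apply,
    ← Finset.sum_boole]
  simp only [AddMonoidAlgebra.single_pow, AddMonoidAlgebra.coeff_single, Finsupp.single_apply, ite_pow,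
    one_pow, zero_pow (Fact.out : p.Prime).ne_zero]
  rw [← Finset.sum_filter_add_sum_filter_not Finset.univ (· ∈ S), Finset.filter_univ_mem]
  rw [Finset.sum_eq_zero (s := Finset.univ.filter fun t => ¬ t ∈ S) (fun t ht => by
    simp only [Finset.mem_filter, Finset.mem_univ, true_and] at ht
    simp [ht]), add_zero]
  refine Finset.sum_congr rfl fun t ht => ?_
  simp [ht]

/-- the subgroup generated by an invariant set is invariant -/
theorem closure_inv {S : Finset (ZMod N)} (hS : InvSet φ S) (g : G) (x y : ZMod N)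
    (h : y - x ∈ AddSubgroup.closure (S : Set (ZMod N))) :
    φ g y - φ g x ∈ AddSubgroup.closure (S : Set (ZMod N)) := by
  suffices key : ∀ d ∈ AddSubgroup.closure (S : Set (ZMod N)), ∀ x : ZMod N,
      φ g (x + d) - φ g x ∈ AddSubgroup.closure (S : Set (ZMod N)) by
    have := key _ h x
    rwa [add_sub_cancel] at this
  intro d hd
  induction hd using AddSubgroup.closure_induction with
  | mem d hd =>
    intro x
    refine AddSubgroup.subset_closure ((hS.iff g x (x + d)).2 ?_)
    simpa using hd
  | zero => intro x; simp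
  | add a b _ _ ha hb =>
    intro x
    have := AddSubgroup.add_mem _ (hb (x + a)) (ha x)
    rwa [sub_add_sub_cancel, add_assoc] at this
  | neg a _ ha =>
    intro x
    have := AddSubgroup.neg_mem _ (ha (x + -a))
    rwa [neg_sub, neg_add_cancel_right] at this

/-- Schur: an intransitive point stabilizer gives an invariant proper nontrivial subgroup -/
theorem exists_invariant_addSubgroup (τ : G) (hτ : ∀ x, φ τ x = x + 1) {p : ℕ} (hp : p.Prime) (hpN : p ∣ N)
    (hlt : p < N) (hnt : ¬ ∀ a b : ZMod N, a ≠ 0 → b ≠ 0 → ∃ g : G, φ g 0 = 0 ∧ φ g a = b) :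
    ∃ D : AddSubgroup (ZMod N), D ≠ ⊥ ∧ D ≠ ⊤ ∧ ∀ g : G, ∀ x y, y - x ∈ D → φ g y - φ g x ∈ D := by
  classical
  haveI := Fact.mk hp
  by_contra hno
  push Not at hno
  have hprop : ∀ S : Finset (ZMod N), InvSet φ S →
      AddSubgroup.closure (S : Set (ZMod N)) = ⊥ ∨ AddSubgroup.closure (S : Set (ZMod N)) = ⊤ := by
    intro S hS
    by_contra h
    push Not at h
    obtain ⟨g, x, y, h1, h2⟩ := hno _ h.1 h.2
    exact h2 (closure_inv hS g x y h1)
  set Z : AddSubgroup (ZMod N) := (nsmulAddMonoidHom p : ZMod N →+ ZMod N).ker with hZdef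
  have hZmem : ∀ v, v ∈ Z ↔ p • v = 0 := fun v => by simp [hZdef, AddMonoidHom.mem_ker]
  obtain ⟨q, hq⟩ := hpN
  have hq1 : q < N := by
    rw [hq]; exact lt_mul_left (Nat.pos_of_ne_zero fun h => NeZero.ne N (by rw [hq, h, mul_zero])) hp.one_lt
  have hz0 : ((q : ℕ) : ZMod N) ≠ 0 := fun h => by
    rw [ZMod.natCast_eq_zero_iff] at h
    exact absurd (Nat.le_of_dvd (Nat.pos_of_ne_zero fun h' => NeZero.ne N (by rw [hq, h', mul_zero])) h) (not_le.2 hq1)
  have hz0Z : ((q : ℕ) : ZMod N) ∈ Z := by
    rw [hZmem, nsmul_eq_mul, ← Nat.cast_mul, ← hq, ZMod.natCast_self]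
  have hZtop : Z ≠ ⊤ := by
    intro h
    have h1 : ((1 : ℕ) : ZMod N) ∈ Z := h ▸ AddSubgroup.mem_top _
    rw [hZmem, Nat.cast_one, nsmul_eq_mul, mul_one, ZMod.natCast_eq_zero_iff] at h1
    exact absurd (Nat.le_of_dvd hp.pos h1) (not_le.2 hlt)
  have hZcard : (Finset.univ.filter fun v : ZMod N => p • v = 0).card ≤ p :=
    IsAddCyclic.card_nsmul_eq_zero_le hp.pos
  have hfib : ∀ y : ZMod N, (Finset.univ.filter fun t : ZMod N => p • t = y).card ≤ p := by
    intro y
    rcases (Finset.univ.filter fun t : ZMod N => p • t = y).eq_empty_or_nonempty with h | ⟨t₀, ht₀⟩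
    · rw [h]; simp
    · refine le_trans ?_ hZcard
      refine Finset.card_le_card_of_injOn (fun t => t - t₀) (fun t ht => ?_) (fun a _ b _ h => sub_left_injective h)
      simp only [Finset.coe_filter, Finset.mem_univ, true_and, Set.mem_setOf_eq, Finset.mem_filter] at ht ht₀ ⊢
      rw [nsmul_sub, ht, ht₀, sub_self]
  -- the classes outside `Z` are unions of cosets of `Z`
  have hunion : ∀ S : Finset (ZMod N), InvSet φ S → ∀ v ∈ S, v ∉ Z → ∀ z ∈ Z, v + z ∈ S := by
    intro S hS v hv hvZ z hz
    rw [hZmem] at hvZ hz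
    set y := p • v
    set S' : Finset (ZMod N) := Finset.univ.filter fun d => ((S.filter fun t => p • t = d).card : ZMod p) ≠ 0
    have hS' : InvSet φ S' := by
      intro g x y'
      have := inv_fibre p hS g x y'
      simp only [S', Finset.mem_filter, Finset.mem_univ, true_and, decide_eq_decide] at this ⊢
      rw [this]
    have hle : AddSubgroup.closure (S' : Set (ZMod N)) ≤ (nsmulAddMonoidHom p : ZMod N →+ ZMod N).range := by
      rw [AddSubgroup.closure_le]
      intro d hd
      simp only [S', Finset.coe_filter, Finset.mem_univ, true_and, Set.mem_setOf_eq] at hd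
      obtain ⟨t, ht⟩ : (S.filter fun t => p • t = d).Nonempty := by
        rw [Finset.nonempty_iff_ne_empty]
        intro h
        rw [h] at hd
        simp at hd
      exact ⟨t, (Finset.mem_filter.1 ht).2⟩
    have hrange : (nsmulAddMonoidHom p : ZMod N →+ ZMod N).range ≠ ⊤ := by
      intro h
      have hinj := Finite.injective_iff_surjective.2 (AddMonoidHom.range_eq_top.1 h)
      exact hz0 (hinj (by simpa using (hZmem _).1 hz0Z))
    have hbot := (hprop S' hS').resolve_right fun h => hrange (top_le_iff.1 (h ▸ hle))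
    have h0 : ((S.filter fun t => p • t = y).card : ZMod p) = 0 := by
      by_contra h
      have hy : y ∈ AddSubgroup.closure (S' : Set (ZMod N)) := AddSubgroup.subset_closure (Finset.mem_coe.2 (Finset.mem_filter.2 ⟨Finset.mem_univ _, h⟩))
      rw [hbot, AddSubgroup.mem_bot] at hy
      exact hvZ hy
    rw [ZMod.natCast_eq_zero_iff] at h0
    have hsub : S.filter (fun t => p • t = y) ⊆ Finset.univ.filter fun t : ZMod N => p • t = y := fun t ht => by
      simp only [Finset.mem_filter, Finset.mem_univ, true_and] at ht ⊢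
      exact ht.2
    have heq := Finset.eq_of_subset_of_card_le hsub ((hfib y).trans
      (Nat.le_of_dvd (Finset.card_pos.2 ⟨v, Finset.mem_filter.2 ⟨hv, rfl⟩⟩) h0))
    have : v + z ∈ Finset.univ.filter fun t : ZMod N => p • t = y :=
      Finset.mem_filter.2 ⟨Finset.mem_univ _, by rw [nsmul_add, hz, add_zero]⟩
    rw [← heq] at this
    exact (Finset.mem_filter.1 this).1
  -- every class meets `Z`
  have hmeet : ∀ S : Finset (ZMod N), InvSet φ S → S.Nonempty → 0 ∉ S → ∃ v ∈ S, v ∈ Z := by
    intro S hS hne h0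
    by_contra h
    push Not at h
    set S' : Finset (ZMod N) := Finset.univ.filter fun d =>
      (∑ v, (if v ∈ S then (1 : ℕ) else 0) * (if v - d ∈ S then 1 else 0)) = S.card
    have hS' : InvSet φ S' := by
      intro g x y
      have := (hS.inv ℕ).corr (hS.inv ℕ) g x y
      simp only [S', Finset.mem_filter, Finset.mem_univ, true_and, decide_eq_decide] at this ⊢
      rw [this]
    have hcount : ∀ d, (∑ v, (if v ∈ S then (1 : ℕ) else 0) * (if v - d ∈ S then 1 else 0)) =
        (S.filter fun v => v - d ∈ S).card := fun d => by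
      rw [Finset.card_filter, ← Finset.sum_filter_add_sum_filter_not Finset.univ (· ∈ S), Finset.filter_univ_mem,
        Finset.sum_eq_zero (s := Finset.univ.filter fun t => ¬ t ∈ S) (fun t ht => by
          simp only [Finset.mem_filter, Finset.mem_univ, true_and] at ht
          simp [ht]), add_zero]
      exact Finset.sum_congr rfl fun t ht => by simp [ht]
    have hmem : ∀ d, d ∈ S' ↔ ∀ v ∈ S, v - d ∈ S := fun d => by
      simp only [S', Finset.mem_filter, Finset.mem_univ, true_and, hcount]
      exact Finset.card_filter_eq_iff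
    have hz : ((q : ℕ) : ZMod N) ∈ S' := (hmem _).2 fun v hv => by
      rw [sub_eq_add_neg]; exact hunion S hS v hv (h v hv) _ (Z.neg_mem hz0Z)
    have htop := (hprop S' hS').resolve_left fun hb => hz0 (by
      have := AddSubgroup.subset_closure (k := (S' : Set (ZMod N))) hz
      rwa [hb, SetLike.mem_coe, AddSubgroup.mem_bot] at this)
    obtain ⟨v, hv⟩ := hne
    have key : ∀ d ∈ AddSubgroup.closure (S' : Set (ZMod N)), ∀ w, w ∈ S ↔ w - d ∈ S := by
      intro d hd
      induction hd using AddSubgroup.closure_induction with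
      | mem d hd =>
        intro w
        refine ⟨(hmem d).1 hd w, fun hw => ?_⟩
        have himg : S.image (· - d) = S := Finset.eq_of_subset_of_card_le
          (fun a ha => by obtain ⟨b, hb, rfl⟩ := Finset.mem_image.1 ha; exact (hmem d).1 hd b hb)
          (Finset.card_image_of_injective _ sub_left_injective).ge
        rw [← himg, Finset.mem_image] at hw
        obtain ⟨b, hb, hbw⟩ := hw
        exact sub_left_injective hbw ▸ hb
      | zero => simp
      | add a b _ _ ha hb =>
        intro w
        rw [ha w, hb (w - a), sub_sub]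
      | neg a _ ha =>
        intro w
        rw [ha (w - -a)]
        simp
    exact h0 (by have := (key v (htop ▸ AddSubgroup.mem_top v) v).1 hv; rwa [sub_self] at this)
  -- every class leaves `Z`
  have hout : ∀ S : Finset (ZMod N), InvSet φ S → S.Nonempty → 0 ∉ S → ∃ v ∈ S, v ∉ Z := by
    intro S hS hne h0
    by_contra h
    push Not at h
    obtain ⟨v, hv⟩ := hne
    rcases hprop S hS with hb | ht
    · have := AddSubgroup.subset_closure (k := (S : Set (ZMod N))) (Finset.mem_coe.2 hv)
      rw [hb, SetLike.mem_coe, AddSubgroup.mem_bot] at this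
      exact h0 (this ▸ hv)
    · exact hZtop (top_le_iff.1 (ht ▸ (AddSubgroup.closure_le Z).2 fun w hw => h w hw))
  -- translations
  have htr : ∀ v : ZMod N, ∀ x, φ (τ ^ v.val) x = x + v := by
    have : ∀ k : ℕ, ∀ x, φ (τ ^ k) x = x + (k : ZMod N) := by
      intro k
      induction k with
      | zero => simp
      | succ k ih => intro x; rw [pow_succ', map_mul, Equiv.Perm.mul_apply, ih, hτ]; push_cast; abel
    intro v x
    rw [this, ZMod.natCast_zmod_val]
  -- orbits of the stabilizer
  have horb : ∀ a : ZMod N, InvSet φ (Finset.univ.filter fun b => ∃ h : G, φ h 0 = 0 ∧ φ h a = b) := by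
    intro a g x y
    simp only [Finset.mem_filter, Finset.mem_univ, true_and, decide_eq_decide]
    set t₁ := τ ^ x.val
    set t₂ := τ ^ (-(φ g x)).val
    have e0 : φ (t₂ * g * t₁) 0 = 0 := by
      simp only [map_mul, Equiv.Perm.mul_apply, t₁, t₂, htr]
      simp
    have e1 : φ (t₂ * g * t₁) (y - x) = φ g y - φ g x := by
      simp only [map_mul, Equiv.Perm.mul_apply, t₁, t₂, htr]
      simp [sub_eq_add_neg]
    constructor
    · rintro ⟨h, hh0, hha⟩
      refine ⟨(t₂ * g * t₁)⁻¹ * h, ?_, ?_⟩
      · rw [map_mul, Equiv.Perm.mul_apply, hh0, map_inv, Equiv.Perm.inv_eq_iff_eq, e0]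
      · rw [map_mul, Equiv.Perm.mul_apply, hha, map_inv, Equiv.Perm.inv_eq_iff_eq, e1]
    · rintro ⟨h, hh0, hha⟩
      exact ⟨t₂ * g * t₁ * h, by rw [map_mul, Equiv.Perm.mul_apply, hh0, e0],
        by rw [map_mul, Equiv.Perm.mul_apply, hha, e1]⟩
  push Not at hnt
  obtain ⟨a, b, ha, hb, hab⟩ := hnt
  set T := Finset.univ.filter fun c => ∃ h : G, φ h 0 = 0 ∧ φ h a = c with hTdef
  set U := Finset.univ.filter fun c => ∃ h : G, φ h 0 = 0 ∧ φ h b = c with hUdef
  have hT0 : (0 : ZMod N) ∉ T := by
    simp only [hTdef, Finset.mem_filter, Finset.mem_univ, true_and]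
    rintro ⟨h, h1, h2⟩
    exact ha ((φ h).injective (h2.trans h1.symm))
  have hU0 : (0 : ZMod N) ∉ U := by
    simp only [hUdef, Finset.mem_filter, Finset.mem_univ, true_and]
    rintro ⟨h, h1, h2⟩
    exact hb ((φ h).injective (h2.trans h1.symm))
  have hdisj : ∀ c, c ∈ T → c ∈ U → False := by
    simp only [hTdef, hUdef, Finset.mem_filter, Finset.mem_univ, true_and]
    rintro c ⟨h, h1, h2⟩ ⟨k, k1, k2⟩
    refine hab (k⁻¹ * h) ?_ ?_
    · rw [map_mul, Equiv.Perm.mul_apply, h1, map_inv, Equiv.Perm.inv_eq_iff_eq, k1]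
    · rw [map_mul, Equiv.Perm.mul_apply, h2, map_inv, Equiv.Perm.inv_eq_iff_eq, k2]
  have haT : a ∈ T := by simp only [hTdef, Finset.mem_filter, Finset.mem_univ, true_and]; exact ⟨1, by simp⟩
  have hbU : b ∈ U := by simp only [hUdef, Finset.mem_filter, Finset.mem_univ, true_and]; exact ⟨1, by simp⟩
  obtain ⟨d, hdT, hdZ⟩ := hmeet T (horb a) ⟨a, haT⟩ hT0
  obtain ⟨u, huU, huZ⟩ := hmeet U (horb b) ⟨b, hbU⟩ hU0
  obtain ⟨x, hxT, hxZ⟩ := hout T (horb a) ⟨a, haT⟩ hT0
  -- the key count
  have hclosed : ∀ e ∈ T, e ∈ Z → e + u ∈ T := by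
    intro e heT heZ
    set U₀ := U.filter fun w => w ∈ Z
    set A := Finset.univ.filter fun v => v ∈ T ∧ v - e ∈ U
    set B := Finset.univ.filter fun v => v ∈ T ∧ v - x ∈ U
    have hcorr : A.card = B.card := by
      have hinv := ((horb a).inv ℕ).corr ((horb b).inv ℕ)
      simp only [hTdef, Finset.mem_filter, Finset.mem_univ, true_and] at heT hxT
      obtain ⟨h₁, h₁0, h₁e⟩ := heT
      obtain ⟨h₂, h₂0, h₂x⟩ := hxT
      have k1 := hinv h₁ 0 a
      have k2 := hinv h₂ 0 a
      simp only [h₁0, h₁e, h₂0, h₂x, sub_zero] at k1 k2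
      have hc : ∀ e', (Finset.univ.filter fun v => v ∈ T ∧ v - e' ∈ U).card =
          ∑ v, (if v ∈ T then (1 : ℕ) else 0) * (if v - e' ∈ U then 1 else 0) := fun e' => by
        rw [Finset.card_filter]
        refine Finset.sum_congr rfl fun v _ => ?_
        by_cases h1 : v ∈ T <;> by_cases h2 : v - e' ∈ U <;> simp [h1, h2]
      rw [hc, hc]
      exact k1.trans k2.symm
    have hAsub : A ⊆ U₀.image (e + ·) := by
      intro v hv
      simp only [A, Finset.mem_filter, Finset.mem_univ, true_and] at hv
      refine Finset.mem_image.2 ⟨v - e, Finset.mem_filter.2 ⟨hv.2, Z.sub_mem ?_ heZ⟩, add_sub_cancel _ _⟩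
      by_contra hvZ
      refine hdisj v hv.1 ?_
      have := hunion U (horb b) (v - e) hv.2 (fun h => hvZ (by simpa using Z.add_mem h heZ)) e heZ
      simpa using this
    have hBsub : U₀.image (x + ·) ⊆ B := by
      intro v hv
      obtain ⟨w, hw, rfl⟩ := Finset.mem_image.1 hv
      simp only [B, U₀, Finset.mem_filter, Finset.mem_univ, true_and, add_sub_cancel_left] at hw ⊢
      exact ⟨hunion T (horb a) x hxT hxZ w hw.2, hw.1⟩
    have hAeq : A = U₀.image (e + ·) := by
      refine Finset.eq_of_subset_of_card_le hAsub ?_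
      rw [Finset.card_image_of_injective _ (add_right_injective e), ← Finset.card_image_of_injective U₀
        (add_right_injective x), hcorr]
      exact Finset.card_le_card hBsub
    have : e + u ∈ A := hAeq.symm ▸ Finset.mem_image.2 ⟨u, Finset.mem_filter.2 ⟨huU, huZ⟩, rfl⟩
    exact (Finset.mem_filter.1 this).2.1
  have hiter : ∀ n : ℕ, d + n • u ∈ T ∧ d + n • u ∈ Z := by
    intro n
    induction n with
    | zero => simp [hdT, hdZ]
    | succ n ih =>
      rw [succ_nsmul, ← add_assoc]
      exact ⟨hclosed _ ih.1 ih.2, Z.add_mem ih.2 huZ⟩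
  -- `u` generates `Z`
  have hu0 : u ≠ 0 := fun h => hU0 (h ▸ huU)
  have huord : addOrderOf u = p := addOrderOf_eq_prime ((hZmem u).1 huZ) hu0
  have hsub : (Finset.range p).image (fun n => n • u) ⊆ Finset.univ.filter fun v : ZMod N => p • v = 0 := by
    intro v hv
    obtain ⟨n, -, rfl⟩ := Finset.mem_image.1 hv
    simp only [Finset.mem_filter, Finset.mem_univ, true_and]
    exact (hZmem _).1 (Z.nsmul_mem huZ n)
  have heq := Finset.eq_of_subset_of_card_le hsub (by
    rw [Finset.card_image_of_injOn, Finset.card_range]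
    · exact hZcard
    · rw [Finset.coe_range, ← huord]; exact nsmul_injOn_Iio_addOrderOf)
  obtain ⟨n, -, hn⟩ := Finset.mem_image.1 (heq.ge (Finset.mem_filter.2 ⟨Finset.mem_univ (-d), (hZmem _).1 (Z.neg_mem hdZ)⟩))
  exact hT0 (by have := (hiter n).1; rwa [hn, add_neg_cancel] at this)

end CfsgLib.Perm.CyclicRegular
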