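import Cfsg.Agent.Lib.Perm.CyclicRegular

/-!
# Schur's theorem for actions: regular cyclic subgroup of composite order
-/

set_option autoImplicit false
set_option linter.all false

namespace CfsgLib.Perm.CyclicRegular

open MulAction

variable {G Ω : Type*} [Group G] [Finite Ω] [MulAction G Ω] {N : ℕ} [NeZero N]

theorem two_pretransitive_or_invariant (g : G) (hN : Nat.card Ω = N) (hg : g ^ N = 1) (a : Ω)
    (hinj : ∀ i < N, ∀ j < N, g ^ i • a = g ^ j • a → i = j) {p : ℕ} (hp : p.Prime) (hpN : p ∣ N) (hlt : p < N) :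
    IsMultiplyPretransitive G Ω 2 ∨
      ∃ e : ZMod N ≃ Ω, (∀ (n : ℕ) (k : ZMod N), g ^ n • e k = e (k + n)) ∧
        ∃ D : AddSubgroup (ZMod N), D ≠ ⊥ ∧ D ≠ ⊤ ∧
          ∀ (h : G) (x y : Ω), e.symm y - e.symm x ∈ D → e.symm (h • y) - e.symm (h • x) ∈ D := by
  classical
  have hbij : Function.Bijective (fun k : ZMod N => g ^ k.val • a) := by
    rw [Nat.bijective_iff_injective_and_card]
    exact ⟨fun k l h => ZMod.val_injective N (hinj _ (ZMod.val_lt k) _ (ZMod.val_lt l) h),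
      by rw [Nat.card_zmod, hN]⟩
  set e := Equiv.ofBijective _ hbij
  have he : ∀ n : ℕ, e (n : ZMod N) = g ^ n • a := fun n => by
    show g ^ (n : ZMod N).val • a = _
    rw [ZMod.val_natCast, ← pow_eq_pow_mod _ hg]
  have hstep : ∀ (n : ℕ) (k : ZMod N), g ^ n • e k = e (k + n) := by
    intro n k
    rw [← ZMod.natCast_zmod_val k, ← Nat.cast_add, he, he, ← mul_smul, ← pow_add, add_comm]
  let φ : G →* Equiv.Perm (ZMod N) := e.symm.permCongrHom.toMonoidHom.comp (MulAction.toPermHom G Ω)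
  have hφ : ∀ (h : G) (k : ZMod N), φ h k = e.symm (h • e k) := fun h k => rfl
  have hτ : ∀ k, φ g k = k + 1 := fun k => by
    rw [hφ, Equiv.symm_apply_eq]
    simpa using hstep 1 k
  by_cases hnt : ∀ i j : ZMod N, i ≠ 0 → j ≠ 0 → ∃ h : G, φ h 0 = 0 ∧ φ h i = j
  swap
  · obtain ⟨D, hD1, hD2, hD⟩ := exists_invariant_addSubgroup g hτ hp hpN hlt hnt
    refine Or.inr ⟨e, hstep, D, hD1, hD2, fun h x y hxy => ?_⟩
    have := hD h _ _ hxy
    simpa [hφ] using this
  left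
  rw [is_two_pretransitive_iff]
  intro x y u v hxy huv
  obtain ⟨x, rfl⟩ := e.surjective x
  obtain ⟨y, rfl⟩ := e.surjective y
  obtain ⟨u, rfl⟩ := e.surjective u
  obtain ⟨v, rfl⟩ := e.surjective v
  obtain ⟨h, h0, h1⟩ := hnt (y - x) (v - u) (sub_ne_zero.2 fun h => hxy (by rw [h]))
    (sub_ne_zero.2 fun h => huv (by rw [h]))
  rw [hφ, Equiv.symm_apply_eq] at h0 h1
  refine ⟨g ^ u.val * h * g ^ (-x).val, ?_, ?_⟩
  · rw [mul_smul, mul_smul, hstep, ZMod.natCast_zmod_val, add_neg_cancel, h0, hstep, ZMod.natCast_zmod_val, zero_add]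
  · rw [mul_smul, mul_smul, hstep, ZMod.natCast_zmod_val, ← sub_eq_add_neg, h1, hstep, ZMod.natCast_zmod_val,
      sub_add_cancel]

theorem not_isPreprimitive_of_invariant (e : ZMod N ≃ Ω) {D : AddSubgroup (ZMod N)} (h1 : D ≠ ⊥) (h2 : D ≠ ⊤)
    (hD : ∀ (h : G) (x y : Ω), e.symm y - e.symm x ∈ D → e.symm (h • y) - e.symm (h • x) ∈ D) :
    ¬ IsPreprimitive G Ω := by
  intro hprim
  have hBD : ∀ x, x ∈ e '' (D : Set (ZMod N)) ↔ e.symm x ∈ D := fun x =>
    ⟨fun ⟨k, hk, hkx⟩ => by rw [← hkx, Equiv.symm_apply_apply]; exact hk, fun h => ⟨_, h, e.apply_symm_apply x⟩⟩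
  have hB : IsBlock G (e '' (D : Set (ZMod N))) := by
    rw [isBlock_iff_smul_eq_of_nonempty]
    intro h hne
    obtain ⟨w, ⟨w₀, hw₀, rfl⟩, hw⟩ := hne
    rw [hBD] at hw₀ hw
    refine Set.ext fun x => ⟨?_, fun hx => ?_⟩
    · rintro ⟨y, hy, rfl⟩
      rw [hBD] at hy ⊢
      have := D.add_mem (hD h w₀ y (D.sub_mem hy hw₀)) hw
      simpa using this
    · rw [hBD] at hx
      refine ⟨h⁻¹ • x, ?_, smul_inv_smul h x⟩
      rw [hBD]
      have := D.add_mem (hD h⁻¹ (h • w₀) x (D.sub_mem hx hw)) hw₀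
      simpa using this
  rcases IsPreprimitive.isTrivialBlock_of_isBlock hB with h | h
  · refine h1 ((AddSubgroup.eq_bot_iff_forall D).2 fun k hk => e.injective ?_)
    exact h ⟨k, hk, rfl⟩ ⟨0, D.zero_mem, rfl⟩
  · refine h2 (eq_top_iff.2 fun k _ => ?_)
    have := (hBD (e k)).1 (h ▸ Set.mem_univ _)
    simpa using this

/-- an element shifting by a member of `D` lies in an intransitive normal subgroup -/
theorem not_pretransitive_normalClosure (e : ZMod N ≃ Ω) {D : AddSubgroup (ZMod N)} (h2 : D ≠ ⊤)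
    (hD : ∀ (h : G) (x y : Ω), e.symm y - e.symm x ∈ D → e.symm (h • y) - e.symm (h • x) ∈ D)
    (z : G) (hz : ∀ x, e.symm (z • x) - e.symm x ∈ D) :
    ¬ IsPretransitive (Subgroup.normalClosure ({z} : Set G)) Ω := by
  intro htr
  let K : Subgroup G :=
    { carrier := {h | ∀ x, e.symm (h • x) - e.symm x ∈ D}
      one_mem' := fun x => by simp
      mul_mem' := fun {h k} hh hk x => by
        have := D.add_mem (hh (k • x)) (hk x)
        rwa [sub_add_sub_cancel, ← mul_smul] at this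
      inv_mem' := fun {h} hh x => by
        have := D.neg_mem (hh (h⁻¹ • x))
        rwa [smul_inv_smul, neg_sub] at this }
  haveI : K.Normal := ⟨fun h hh c x => by
    have := hD c _ _ (hh (c⁻¹ • x))
    rwa [smul_inv_smul, ← mul_smul, ← mul_smul] at this⟩
  have hle : Subgroup.normalClosure ({z} : Set G) ≤ K :=
    Subgroup.normalClosure_le_normal (Set.singleton_subset_iff.2 hz)
  refine h2 (eq_top_iff.2 fun k _ => ?_)
  obtain ⟨⟨h, hh⟩, hhk⟩ := htr.exists_smul_eq (e 0) (e k)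
  have := hle hh (e 0)
  rw [show h • e 0 = e k from hhk, Equiv.symm_apply_apply, Equiv.symm_apply_apply, sub_zero] at this
  exact this

theorem natCast_mem_of_ne_bot {p m : ℕ} (hp : p.Prime) (hm : m ≠ 0) (hN : N = p ^ m) {D : AddSubgroup (ZMod N)}
    (h1 : D ≠ ⊥) : ((p ^ (m - 1) : ℕ) : ZMod N) ∈ D := by
  obtain ⟨d, hd, hd0⟩ := D.ne_bot_iff_exists_ne_zero.1 h1 |> fun ⟨⟨d, hd⟩, h⟩ => (⟨d, hd, fun h' => h (Subtype.ext h')⟩ : ∃ d ∈ D, d ≠ 0)
  obtain ⟨j, hj, hgcd⟩ := (Nat.dvd_prime_pow hp).1 (hN ▸ Nat.gcd_dvd_right d.val N : Nat.gcd d.val N ∣ p ^ m)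
  have hjm : j < m := by
    rcases lt_or_eq_of_le hj with h | h
    · exact h
    · exfalso
      have hdvd : N ∣ d.val := by
        have := Nat.gcd_dvd_left d.val N
        rwa [hgcd, h, ← hN] at this
      exact hd0 (by rw [← ZMod.natCast_zmod_val d, (ZMod.natCast_eq_zero_iff _ _).2 hdvd])
  have hbez := congrArg (fun t : ℤ => (t : ZMod N)) (Nat.gcd_eq_gcd_ab d.val N)
  simp only [Int.cast_natCast, Int.cast_add, Int.cast_mul, ZMod.natCast_self, zero_mul, add_zero,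
    ZMod.natCast_zmod_val] at hbez
  have hmem : ((Nat.gcd d.val N : ℕ) : ZMod N) ∈ D := by
    rw [hbez, mul_comm, ← zsmul_eq_mul]
    exact D.zsmul_mem hd _
  have := D.nsmul_mem hmem (p ^ (m - 1 - j))
  rwa [hgcd, nsmul_eq_mul, ← Nat.cast_mul, ← pow_add, show m - 1 - j + j = m - 1 by omega] at this

end CfsgLib.Perm.CyclicRegular
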