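import Mathlib
import Cfsg.Agent.Lib.Perm.PrimeNormalizer
import Cfsg.Agent.Lib.Perm.PrimeDegree
import Cfsg.Agent.Lib.Perm.PrimeProjective
import Cfsg.Agent.Lib.Perm.SimpleCount
import Cfsg.Agent.Lib.ClassSizes.Jordan
import Cfsg.Agent.Lib.Perm.Jordan

/-! Insoluble transitive groups of degree eleven not containing the alternating group. -/

set_option autoImplicit false

open Equiv MulAction

namespace CfsgLib.Perm.DegreeEleven

section General

variable {β : Type*} [Fintype β] [DecidableEq β]

/-- Fixed points of an element of prime order on an invariant set. -/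
theorem fixed_modEq {σ : Perm β} {p : ℕ} [Fact p.Prime] (hσ : σ ^ p = 1) (S : Finset β)
    (hS : ∀ x, σ x ∈ S ↔ x ∈ S) : (S.filter fun x => σ x = x).card ≡ S.card [MOD p] := by
  let τ : Perm S := σ.subtypePerm hS
  have hτ : τ ^ p ^ 1 = 1 := by
    rw [pow_one]
    ext x
    simp only [τ, Perm.subtypePerm_pow, Perm.subtypePerm_apply, hσ, Perm.one_apply]
  have h := Perm.card_compl_support_modEq hτ
  rw [Fintype.card_coe] at h
  have e : (τ.support)ᶜ.card = (S.filter fun x => σ x = x).card := by
    rw [← Finset.card_map (Function.Embedding.subtype _)]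
    congr 1
    ext x
    simp only [Finset.mem_map, Finset.mem_compl, Perm.mem_support, not_not, Finset.mem_filter,
      Function.Embedding.subtype, Function.Embedding.coeFn_mk, τ]
    constructor
    · rintro ⟨y, hy, rfl⟩
      exact ⟨y.2, congrArg Subtype.val hy⟩
    · rintro ⟨h1, h2⟩
      exact ⟨⟨x, h1⟩, Subtype.ext h2, rfl⟩
  exact e ▸ h

theorem commute_mem_support {u x : Perm β} (h : Commute u x) (c : β) :
    u c ∈ x.support ↔ c ∈ x.support := by
  rw [Perm.mem_support, Perm.mem_support, ← Perm.mul_apply, ← h.eq, Perm.mul_apply, ne_eq,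
    u.injective.eq_iff]

/-- An element of prime order `p` commuting with `x` fixes two moved points, unless `p` divides the
number of moved points. -/
theorem two_le_fixed_support {u x : Perm β} {p : ℕ} [Fact p.Prime] (hu : u ^ p = 1)
    (h : Commute u x) (hp : ¬ p ∣ x.support.card) :
    2 ≤ (x.support.filter fun c => u c = c).card := by
  have hm := fixed_modEq hu x.support (commute_mem_support h)
  obtain ⟨c, hc⟩ : (x.support.filter fun c => u c = c).Nonempty := by
    rw [Finset.nonempty_iff_ne_empty]
    intro h0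
    rw [h0, Finset.card_empty] at hm
    exact hp (Nat.modEq_zero_iff_dvd.1 hm.symm)
  obtain ⟨hc1, hc2⟩ := Finset.mem_filter.1 hc
  have hxc : x c ∈ x.support.filter fun c => u c = c := by
    refine Finset.mem_filter.2 ⟨Perm.apply_mem_support.2 hc1, ?_⟩
    rw [← Perm.mul_apply, h.eq, Perm.mul_apply, hc2]
  exact Finset.one_lt_card.2 ⟨c, hc, x c, hxc, (Perm.mem_support.1 hc1).symm⟩

/-- A full Sylow subgroup of a symmetric group contains a conjugate of every element of order `p`. -/
theorem exists_conj_mem {p v : ℕ} [Fact p.Prime] (P : Subgroup (Perm β)) (hP : Nat.card P = p ^ v)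
    (hv : (Nat.card (Perm β)).factorization p = v) {σ : Perm β} (hσ : σ ^ p = 1) :
    ∃ τ : Perm β, τ * σ * τ⁻¹ ∈ P := by
  let S : Sylow p (Perm β) := Sylow.ofCard P (by rw [hP, hv])
  have hz : IsPGroup p (Subgroup.zpowers σ) := by
    obtain ⟨k, -, hk⟩ := (Nat.dvd_prime_pow (Fact.out : p.Prime) (i := orderOf σ) (m := 1)).1
      (by rw [pow_one]; exact orderOf_dvd_of_pow_eq_one hσ)
    exact IsPGroup.of_card (n := k) (by rw [Nat.card_zpowers, hk])
  obtain ⟨T, hT⟩ := hz.exists_le_sylow
  obtain ⟨τ, hτ⟩ := MulAction.exists_smul_eq (Perm β) T S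
  refine ⟨τ, show τ * σ * τ⁻¹ ∈ (S : Subgroup (Perm β)) from ?_⟩
  rw [← hτ, Sylow.coe_subgroup_smul]
  exact Subgroup.smul_mem_pointwise_smul σ (MulAut.conj τ) _ (hT (Subgroup.mem_zpowers σ))

/-- In a `p`-group of order divisible by `p ^ 2` the centraliser of every element has that property. -/
theorem sq_dvd_card_centralizer {H : Type*} [Group H] [Finite H] {p : ℕ} [Fact p.Prime]
    (hH : IsPGroup p H) (h2 : p ^ 2 ∣ Nat.card H) (x : H) :
    p ^ 2 ∣ Nat.card (Subgroup.centralizer ({x} : Set H)) := by
  by_cases hx : x ∈ Subgroup.center H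
  · have : Subgroup.centralizer ({x} : Set H) = ⊤ := by
      rw [Subgroup.centralizer_eq_top_iff_subset, Set.singleton_subset_iff]
      exact hx
    rwa [this, Subgroup.card_top]
  haveI : Nontrivial H := Finite.one_lt_card_iff_nontrivial.1
    (lt_of_lt_of_le (Nat.one_lt_pow two_ne_zero (Fact.out : p.Prime).one_lt)
      (Nat.le_of_dvd Nat.card_pos h2))
  haveI := hH.center_nontrivial
  obtain ⟨i, hi⟩ := (hH.to_subgroup (Subgroup.center H)).exists_card_eq
  obtain ⟨j, hj⟩ := (hH.to_subgroup (Subgroup.centralizer ({x} : Set H))).exists_card_eq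
  have hlt : Nat.card (Subgroup.center H) < Nat.card (Subgroup.centralizer ({x} : Set H)) := by
    refine lt_of_le_of_ne (Subgroup.card_le_of_le (Subgroup.center_le_centralizer ({x} : Set H))) fun he => hx ?_
    rw [Subgroup.eq_of_le_of_card_ge (Subgroup.center_le_centralizer ({x} : Set H)) he.ge]
    exact Subgroup.mem_centralizer_singleton_iff.2 rfl
  have hi1 : 1 < Nat.card (Subgroup.center H) := Finite.one_lt_card
  rw [hi] at hlt hi1
  rw [hj] at hlt ⊢
  have h1 : i < j := (Nat.pow_lt_pow_iff_right (Fact.out : p.Prime).one_lt).1 hlt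
  exact pow_dvd_pow p (by
    rcases Nat.eq_zero_or_pos i with rfl | hi0
    · simp at hi1
    · omega)

set_option maxHeartbeats 1000000 in
/-- Double counting fixed tuples. -/
theorem card_mul_le (j m s : ℕ) (S : Finset (Perm β))
    (hm : ∀ g ∈ S, m ≤ (Finset.univ.filter fun c => g c = c).card)
    (hs : ∀ e : Fin j ↪ β, (S.filter fun g => ∀ i, g (e i) = e i).card ≤ s) :
    S.card * m.descFactorial j ≤ (Fintype.card β).descFactorial j * s := by
  classical
  calc S.card * m.descFactorial j
      ≤ ∑ g ∈ S, (Finset.univ.filter fun e : Fin j ↪ β => ∀ i, g (e i) = e i).card := by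
        rw [← smul_eq_mul, ← Finset.sum_const]
        refine Finset.sum_le_sum fun g hg => ?_
        refine (Nat.descFactorial_le j (hm g hg)).trans (le_of_eq ?_)
        have e1 : Nat.card (Fin j ↪ {c // c ∈ Finset.univ.filter fun c => g c = c}) =
            (Finset.univ.filter fun c => g c = c).card.descFactorial j := by
          rw [Nat.card_eq_fintype_card, Fintype.card_embedding_eq, Fintype.card_coe, Fintype.card_fin]
        rw [← e1, ← Fintype.card_coe, ← Nat.card_eq_fintype_card]
        exact Nat.card_congr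
          { toFun := fun e => ⟨e.trans (Function.Embedding.subtype _),
              Finset.mem_filter.2 ⟨Finset.mem_univ _, fun i => (Finset.mem_filter.1 (e i).2).2⟩⟩
            invFun := fun e => ⟨fun i => ⟨e.1 i, Finset.mem_filter.2 ⟨Finset.mem_univ _,
              (Finset.mem_filter.1 e.2).2 i⟩⟩, fun a b h => e.1.injective (congrArg Subtype.val h)⟩
            left_inv := fun e => rfl
            right_inv := fun e => rfl }
    _ = ∑ e : Fin j ↪ β, (S.filter fun g => ∀ i, g (e i) = e i).card := by
        simp only [Finset.card_eq_sum_ones, Finset.sum_filter]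
        exact Finset.sum_comm
    _ ≤ ∑ _e : Fin j ↪ β, s := Finset.sum_le_sum fun e _ => hs e
    _ = _ := by
        rw [Finset.sum_const, Finset.card_univ, Fintype.card_embedding_eq, Fintype.card_fin, smul_eq_mul]

/-- The conjugates of `t` under `G`. -/
theorem exists_class (G : Subgroup (Perm β)) {t : Perm β} (ht : t ∈ G) :
    ∃ S : Finset (Perm β), (∀ g ∈ S, g ∈ G ∧ g.support.card = t.support.card ∧ Perm.sign g = Perm.sign t) ∧
      Nat.card G ≤ Nat.card ↥(G ⊓ Subgroup.centralizer {t} : Subgroup (Perm β)) * S.card := by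
  classical
  refine ⟨(Finset.univ.filter (· ∈ G)).image fun k => k * t * k⁻¹, fun g hg => ?_, ?_⟩
  · obtain ⟨k, hk, rfl⟩ := Finset.mem_image.1 hg
    have hk' := (Finset.mem_filter.1 hk).2
    refine ⟨mul_mem (mul_mem hk' ht) (inv_mem hk'), ?_, ?_⟩
    · exact Perm.card_support_conj
    · rw [map_mul, map_mul, mul_comm (Perm.sign k), mul_assoc, map_inv, mul_inv_cancel, mul_one]
  · rw [Nat.card_eq_fintype_card (α := G), Fintype.card_of_subtype (Finset.univ.filter (· ∈ G))
      (fun x => by simp)]
    refine Finset.card_le_mul_card_image _ _ fun g hg => ?_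
    obtain ⟨k0, hk0, rfl⟩ := Finset.mem_image.1 hg
    rw [← Fintype.card_coe, ← Nat.card_eq_fintype_card]
    refine Nat.card_le_card_of_injective (fun k => (⟨k0⁻¹ * (k : Perm β), ?_⟩ :
      ↥(G ⊓ Subgroup.centralizer {t} : Subgroup (Perm β)))) fun a b h => ?_
    · obtain ⟨k, hk⟩ := k
      obtain ⟨hk1, hk2⟩ := Finset.mem_filter.1 hk
      refine Subgroup.mem_inf.2 ⟨G.mul_mem (G.inv_mem (Finset.mem_filter.1 hk0).2) (Finset.mem_filter.1 hk1).2, ?_⟩
      rw [Subgroup.mem_centralizer_singleton_iff]
      calc k0⁻¹ * k * t = k0⁻¹ * (k * t * k⁻¹) * k := by group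
        _ = k0⁻¹ * (k0 * t * k0⁻¹) * k := by rw [hk2]
        _ = t * (k0⁻¹ * k) := by group
    · exact Subtype.ext (mul_left_cancel (congrArg Subtype.val h))

/-- Orbit-stabiliser for tuples. -/
theorem card_tuple_stab (G : Subgroup (Perm β)) {j : ℕ} (h : IsMultiplyPretransitive G β j)
    (e : Fin j ↪ β) :
    Nat.card (stabilizer G e) * (Fintype.card β).descFactorial j = Nat.card G := by
  haveI : IsPretransitive G (Fin j ↪ β) := h
  have h1 := Nat.card_congr (MulAction.orbitProdStabilizerEquivGroup G e)
  rw [Nat.card_prod, @MulAction.orbit_eq_univ G _ _ _ h e, Nat.card_univ, Nat.card_eq_fintype_card (α := Fin j ↪ β),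
    Fintype.card_embedding_eq, Fintype.card_fin] at h1
  rw [mul_comm]
  exact h1

theorem smul_emb_apply (G : Subgroup (Perm β)) {j : ℕ} {g : G} {e e' : Fin j ↪ β} (h : g • e = e')
    (i : Fin j) : (g : Perm β) (e i) = e' i := by
  rw [← h]
  rfl

theorem mem_stab_iff (G : Subgroup (Perm β)) {j : ℕ} {g : G} {e : Fin j ↪ β} :
    g ∈ stabilizer G e ↔ ∀ i, (g : Perm β) (e i) = e i :=
  ⟨fun h i => smul_emb_apply G h i, fun h => Function.Embedding.ext h⟩

theorem exists_pair {a b : β} (h : a ≠ b) : ∃ e : Fin 2 ↪ β, e 0 = a ∧ e 1 = b :=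
  ⟨⟨![a, b], fun i j hij => by fin_cases i <;> fin_cases j <;> simp_all⟩, rfl, rfl⟩

theorem injective_four {a b c d : β} (hab : a ≠ b) (hac : a ≠ c) (had : a ≠ d) (hbc : b ≠ c) (hbd : b ≠ d)
    (hcd : c ≠ d) : Function.Injective ![a, b, c, d] := by
  intro i j hij
  fin_cases i <;> fin_cases j <;> simp_all [eq_comm]

theorem exists_prime_pow {H : Type*} [Group H] [Finite H] {g : H} (hg : g ≠ 1) :
    ∃ r k : ℕ, r.Prime ∧ orderOf (g ^ k) = r := by
  obtain ⟨r, hr, hrd⟩ := Nat.exists_prime_and_dvd (n := orderOf g) (fun h => hg (orderOf_eq_one_iff.1 h))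
  exact ⟨r, orderOf g / r, hr, orderOf_pow_orderOf_div (orderOf_pos g).ne' hrd⟩

end General

variable {α : Type*} [Fintype α] [DecidableEq α]

theorem fixed_card (hα : Fintype.card α = 11) (g : Perm α) :
    (Finset.univ.filter fun c => g c = c).card + g.support.card = 11 := by
  rw [show (Finset.univ.filter fun c => g c = c) = g.supportᶜ from by
    ext c; simp, Finset.card_compl_add_card, hα]

/-- Doubly transitive, of degree eleven, not containing the alternating group. -/
structure Setting (G : Subgroup (Perm α)) : Prop where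
  card : Fintype.card α = 11
  two : IsMultiplyPretransitive G α 2
  notA : ¬ alternatingGroup α ≤ G

variable {G : Subgroup (Perm α)}

theorem Setting.prim (hS : Setting G) : IsPreprimitive G α :=
  MulAction.isPreprimitive_of_is_two_pretransitive hS.two

theorem Setting.orders (hS : Setting G) {g : Perm α} (hg : g ∈ G) {r : ℕ} (hr : r.Prime)
    (ho : orderOf g = r) :
    (r = 2 ∧ (g.support.card = 4 ∨ g.support.card = 6 ∨ g.support.card = 8 ∨ g.support.card = 10)) ∨
    (r = 3 ∧ (g.support.card = 6 ∨ g.support.card = 9)) ∨ (r = 5 ∧ g.support.card = 10) ∨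
    (r = 11 ∧ g.support.card = 11) := by
  haveI := Fact.mk hr
  obtain ⟨k, hk⟩ := Perm.cycleType_prime_order (σ := g) (by rw [ho]; exact hr)
  have hsum : g.support.card = (k + 1) * r := by
    rw [← Perm.sum_cycleType, hk, Multiset.sum_replicate, smul_eq_mul, ho]
  have hle : g.support.card ≤ 11 := hS.card ▸ Finset.card_le_univ _
  have hk1 : k = 0 → r = 11 := by
    rintro rfl
    have hcyc : g.IsCycle := by
      rw [← Perm.card_cycleType_eq_one, hk, Multiset.card_replicate]
    have hc : g.support.card = r := by omega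
    by_contra hne
    have hr11 : r ≤ 11 := by omega
    have hr2 := hr.two_le
    refine hS.notA ?_
    rcases (show r = 2 ∨ r = 3 ∨ r = 5 ∨ r = 7 from by interval_cases r <;> first | omega | norm_num at hr)
      with h | h | h | h
    · have hswap : g.IsSwap := Perm.card_support_eq_two.1 (hc.trans h)
      rw [Equiv.Perm.subgroup_eq_top_of_isPreprimitive_of_isSwap_mem hS.prim g hswap hg]
      exact le_top
    · exact Equiv.Perm.alternatingGroup_le_of_isPreprimitive_of_isThreeCycle_mem hS.prim
        (_root_.card_support_eq_three_iff.1 (hc.trans h)) hg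
    · exact CfsgLib.ClassSizes.alternatingGroup_le_of_primeCycle G hS.prim hr
        (by rw [hS.card, h]; norm_num) hcyc hc hg
    · exact CfsgLib.ClassSizes.alternatingGroup_le_of_primeCycle G hS.prim hr
        (by rw [hS.card, h]; norm_num) hcyc hc hg
  have hr2 := hr.two_le
  rcases Nat.eq_zero_or_pos k with h | h
  · right; right; right
    refine ⟨hk1 h, ?_⟩
    rw [hsum, hk1 h, h]
  · have hr6 : r ≤ 5 := by
      by_contra h6
      have : 2 * 6 ≤ (k + 1) * r := Nat.mul_le_mul (by omega) (by omega)
      omega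
    interval_cases r <;> first | (norm_num at hr; done) | omega

theorem Setting.three (hS : Setting G) {g : Perm α} (hg : g ∈ G) (ho : orderOf g = 3) :
    g.support.card = 6 ∨ g.support.card = 9 := by
  rcases hS.orders hg Nat.prime_three ho with h | h | h | h <;> omega

theorem Setting.two_support (hS : Setting G) {g : Perm α} (hg : g ∈ G) (ho : orderOf g = 2) :
    g.support.card = 4 ∨ g.support.card = 6 ∨ g.support.card = 8 ∨ g.support.card = 10 := by
  rcases hS.orders hg Nat.prime_two ho with h | h | h | h <;> omega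

theorem Setting.five (hS : Setting G) {g : Perm α} (hg : g ∈ G) (ho : orderOf g = 5) :
    g.support.card = 10 := by
  rcases hS.orders hg Nat.prime_five ho with h | h | h | h <;> omega

theorem Setting.eleven (hS : Setting G) {g : Perm α} (hg : g ∈ G) (ho : orderOf g = 11) :
    g.support.card = 11 := by
  rcases hS.orders hg (by norm_num) ho with h | h | h | h <;> omega

theorem Setting.not_seven (hS : Setting G) : ¬ 7 ∣ Nat.card G := by
  intro h
  haveI : Fact (Nat.Prime 7) := ⟨by norm_num⟩
  obtain ⟨g, hg⟩ := exists_prime_orderOf_dvd_card' (G := G) 7 h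
  rw [← Subgroup.orderOf_coe] at hg
  rcases hS.orders g.2 (by norm_num) hg with h | h | h | h <;> omega

theorem card_perm (hα : Fintype.card α = 11) : Nat.card (Perm α) = 39916800 := by
  rw [Nat.card_perm, Nat.card_eq_fintype_card, hα]
  decide

/-- No Sylow subgroup of the symmetric group lies in `G`, for the primes 2, 3, 5. -/
theorem Setting.not_full (hS : Setting G) {p v : ℕ} [Fact p.Prime]
    (hv : (39916800 : ℕ).factorization p = v) (hp : p = 2 ∨ p = 3 ∨ p = 5) : ¬ p ^ v ∣ Nat.card G := by
  intro h
  obtain ⟨P, hP⟩ := Sylow.exists_subgroup_card_pow_prime p h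
  obtain ⟨σ, hσ⟩ := (Perm.exists_with_cycleType_iff α (m := {p})).2
    ⟨by rw [Multiset.sum_singleton, hS.card]; omega,
      fun a ha => by rw [Multiset.mem_singleton] at ha; omega⟩
  have ho : orderOf σ = p := by rw [← Perm.lcm_cycleType, hσ, Multiset.lcm_singleton, normalize_eq]
  have hc : σ.support.card = p := by rw [← Perm.sum_cycleType, hσ, Multiset.sum_singleton]
  obtain ⟨τ, hτ⟩ := exists_conj_mem (P.map G.subtype)
    (by rw [Subgroup.card_map_of_injective G.subtype_injective, hP])
    (by rw [card_perm hS.card, hv]) (σ := σ) (by rw [← ho, pow_orderOf_eq_one])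
  have hmem : τ * σ * τ⁻¹ ∈ G := Subgroup.map_subtype_le P hτ
  have hc' : (τ * σ * τ⁻¹).support.card = p := by rw [Perm.card_support_conj, hc]
  have hp' : p.Prime := Fact.out
  rcases hS.orders hmem hp' (by rw [← ho]; exact orderOf_injective (MulAut.conj τ).toMonoidHom (MulAut.conj τ).injective σ)
    with h' | h' | h' | h' <;> omega

theorem Setting.false_of_five (hS : Setting G) {u x : Perm α} (hu : u ∈ G) (ho : orderOf u = 5)
    (h : Commute u x) (hx : ¬ 5 ∣ x.support.card) : False := by
  haveI : Fact (Nat.Prime 5) := ⟨by norm_num⟩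
  have h2 := two_le_fixed_support (by rw [← ho, pow_orderOf_eq_one] : u ^ 5 = 1) h hx
  have h1 := hS.five hu ho
  have h3 := fixed_card hS.card u
  have h4 : (x.support.filter fun c => u c = c).card ≤ (Finset.univ.filter fun c => u c = c).card :=
    Finset.card_le_card (Finset.filter_subset_filter _ (Finset.subset_univ _))
  omega

/-- If the centraliser of `x` moves every fixed point to every other one, it has order prime to five
only when `x` does not fix five points. -/
theorem Setting.false_of_transitive_fixed (hS : Setting G) {x : Perm α} (hx : x.support.card = 6)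
    (C : Subgroup (Perm α)) (hCG : C ≤ G) (hinv : ∀ g ∈ C, ∀ c, x c = c → x (g c) = g c)
    (htr : ∀ c d, x c = c → x d = d → c ≠ d → ∃ g ∈ C, g c = d)
    (hcomm : ∀ g ∈ C, Commute (g ^ 2) x) : False := by
  classical
  haveI : Fact (Nat.Prime 5) := ⟨by norm_num⟩
  have hF := fixed_card hS.card x
  set F := Finset.univ.filter fun c => x c = c with hFdef
  obtain ⟨c, hc⟩ : F.Nonempty := Finset.card_pos.1 (by omega)
  have hxc : x c = c := (Finset.mem_filter.1 hc).2
  have horb : MulAction.orbit C c = (F : Set α) := by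
    ext d
    constructor
    · rintro ⟨⟨g, hg⟩, rfl⟩
      exact Finset.mem_filter.2 ⟨Finset.mem_univ _, hinv g hg c hxc⟩
    · intro hd
      by_cases he : c = d
      · exact he ▸ MulAction.mem_orbit_self c
      · obtain ⟨g, hg, hgd⟩ := htr c d hxc (Finset.mem_filter.1 hd).2 he
        exact ⟨⟨g, hg⟩, hgd⟩
  have h1 := Nat.card_congr (MulAction.orbitProdStabilizerEquivGroup C c)
  rw [Nat.card_prod, horb] at h1
  have h5 : 5 ∣ Nat.card C := by
    rw [← h1, show Nat.card ((F : Set α) : Set α) = 5 by rw [Nat.card_coe_set_eq, Set.ncard_coe_finset]; omega]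
    exact dvd_mul_right 5 _
  obtain ⟨u, hu⟩ := exists_prime_orderOf_dvd_card' (G := C) 5 h5
  rw [← Subgroup.orderOf_coe] at hu
  exact hS.false_of_five (G.pow_mem (hCG u.2) 2)
    (by rw [orderOf_pow' _ two_ne_zero, hu]; rfl) (hcomm u u.2) (by rw [hx]; norm_num)

theorem Setting.card_pair_stab (hS : Setting G) (e : Fin 2 ↪ α) :
    Nat.card (stabilizer G e) * 110 = Nat.card G := by
  have h := card_tuple_stab G hS.two e
  rwa [hS.card, show (11 : ℕ).descFactorial 2 = 110 from by decide] at h

theorem Setting.exists_odd_part {P : Subgroup (Perm α)} (hP : IsPGroup 3 P) {y : Perm α} (hy : y ∈ P) :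
    ∃ j : ℕ, orderOf y = 2 * j + 1 := by
  obtain ⟨k, hk⟩ := IsPGroup.iff_orderOf.1 hP ⟨y, hy⟩
  rw [← Subgroup.orderOf_coe] at hk
  obtain ⟨j, hj⟩ : Odd ((3 : ℕ) ^ k) := Odd.pow (by decide)
  exact ⟨j, hk.trans hj⟩

/-- Elements of order three fix exactly two points. -/
theorem Setting.three_support (hS : Setting G)
    (h : 9 * 110 ∣ Nat.card G ∨ Nat.card G = 660) {x : Perm α} (hx : x ∈ G) (ho : orderOf x = 3) :
    x.support.card = 9 := by
  classical
  rcases hS.three hx ho with h6 | h9
  swap
  · exact h9
  exfalso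
  haveI : Fact (Nat.Prime 3) := ⟨by norm_num⟩
  rcases h with h | h
  · -- the centraliser is transitive on the five fixed points
    refine hS.false_of_transitive_fixed h6 (G ⊓ Subgroup.centralizer {x}) inf_le_left ?_ ?_ ?_
    · intro g hg c hc
      have e : g * x = x * g := Subgroup.mem_centralizer_singleton_iff.1 hg.2
      rw [← Perm.mul_apply, ← e, Perm.mul_apply, hc]
    · intro c d hc hd hcd
      set F := Finset.univ.filter fun c => x c = c with hFdef
      have hF : F.card = 5 := by
        have hfc := fixed_card hS.card x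
        rw [← hFdef] at hfc
        omega
      have hmemF : ∀ w, x w = w → w ∈ F := fun w hw => Finset.mem_filter.2 ⟨Finset.mem_univ _, hw⟩
      obtain ⟨u, hu, v, hv, huv⟩ := Finset.one_lt_card.1 (show 1 < (F.erase c |>.erase d).card by
        rw [Finset.card_erase_of_mem (Finset.mem_erase.2 ⟨hcd.symm, hmemF d hd⟩),
          Finset.card_erase_of_mem (hmemF c hc)]
        omega)
      simp only [Finset.mem_erase, hFdef, Finset.mem_filter, Finset.mem_univ, true_and] at hu hv
      obtain ⟨e, he0, he1⟩ := exists_pair huv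
      have hxe : (⟨x, hx⟩ : G) ∈ stabilizer G e := (mem_stab_iff G).2 fun i => by
        fin_cases i
        · show x (e 0) = e 0
          rw [he0, hu.2.2]
        · show x (e 1) = e 1
          rw [he1, hv.2.2]
      have hz : IsPGroup 3 (Subgroup.zpowers (⟨⟨x, hx⟩, hxe⟩ : stabilizer G e)) :=
        IsPGroup.of_card (n := 1) (by
          rw [pow_one, Nat.card_zpowers, ← Subgroup.orderOf_coe, ← Subgroup.orderOf_coe]
          exact ho)
      obtain ⟨P, hP⟩ := hz.exists_le_sylow
      have hP9 : 3 ^ 2 ∣ Nat.card P := P.pow_dvd_card_of_pow_dvd_card (by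
        have h1 := hS.card_pair_stab e
        rw [← h1, mul_comm 9] at h
        rw [mul_comm] at h
        exact Nat.dvd_of_mul_dvd_mul_right (by norm_num) h)
      have hxP : (⟨⟨x, hx⟩, hxe⟩ : stabilizer G e) ∈ (P : Subgroup (stabilizer G e)) :=
        hP (Subgroup.mem_zpowers _)
      have hQ := sq_dvd_card_centralizer P.2 hP9 ⟨_, hxP⟩
      let Q : Subgroup (Perm α) :=
        (((Subgroup.centralizer ({⟨_, hxP⟩} : Set P)).map (P : Subgroup (stabilizer G e)).subtype).map
          (stabilizer G e).subtype).map G.subtype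
      have hQcard : 3 ^ 2 ∣ Nat.card Q := by
        simp only [Q, Subgroup.card_map_of_injective (Subgroup.subtype_injective _)]
        exact hQ
      have hQp : IsPGroup 3 Q := (((P.2.to_subgroup _).map _).map _).map _
      have hQG : Q ≤ G := Subgroup.map_subtype_le _
      have hQmem : ∀ y ∈ Q, Commute y x ∧ y u = u ∧ y v = v := by
        rintro _ ⟨_, ⟨_, ⟨y, hy, rfl⟩, rfl⟩, rfl⟩
        refine ⟨?_, ?_, ?_⟩
        · have := congrArg (fun z : P => (((z : stabilizer G e) : G) : Perm α))
            (Subgroup.mem_centralizer_singleton_iff.1 hy)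
          exact this
        · have := (mem_stab_iff G).1 (y : stabilizer G e).2 0
          rwa [he0] at this
        · have := (mem_stab_iff G).1 (y : stabilizer G e).2 1
          rwa [he1] at this
      -- some element of `Q` moves a fixed point of `x`
      obtain ⟨y, hy, r, hr, hyr⟩ : ∃ y ∈ Q, ∃ r, x r = r ∧ y r ≠ r := by
        by_contra hcon
        push Not at hcon
        obtain ⟨i, hi⟩ := hQp.exists_card_eq
        have hmap : ∀ (y : Q) (c : α), (y : Perm α) c ∈ x.support ↔ c ∈ x.support :=
          fun y c => commute_mem_support (hQmem y y.2).1 c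
        let ρ : Q →* Perm x.support :=
          { toFun := fun y => (y : Perm α).subtypePerm (hmap y)
            map_one' := by ext; simp
            map_mul' := fun a b => Equiv.ext fun z => Subtype.ext rfl }
        have hρ : Function.Injective ρ := fun a b hab => Subtype.ext (Perm.ext fun c => by
          by_cases hc' : c ∈ x.support
          · exact congrArg Subtype.val (Perm.congr_fun hab ⟨c, hc'⟩)
          · rw [Perm.notMem_support] at hc'
            rw [hcon a a.2 c hc', hcon b b.2 c hc'])
        have hc720 : Nat.card (Perm x.support) = 720 := by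
          rw [Nat.card_perm, Nat.card_eq_fintype_card, Fintype.card_coe, h6]; rfl
        have hle := Subgroup.card_subgroup_dvd_card ρ.range
        rw [← Nat.card_congr (MonoidHom.ofInjective hρ).toEquiv, hc720, hi] at hle
        have hi2 : i = 2 := by
          have h1 : 2 ≤ i := (Nat.pow_dvd_pow_iff_le_right (by norm_num)).1 (hi ▸ hQcard)
          have h2 : 3 ^ i ≤ 720 := Nat.le_of_dvd (by norm_num) hle
          have h3 : i ≤ 5 := by
            by_contra h5
            have := Nat.pow_le_pow_right (show 1 ≤ 3 by norm_num) (show 6 ≤ i by omega)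
            omega
          interval_cases i <;> omega
        obtain ⟨σ, hσ⟩ := (Perm.exists_with_cycleType_iff x.support (m := {3})).2
          ⟨by rw [Multiset.sum_singleton, Fintype.card_coe, h6]; norm_num,
            fun a ha => by rw [Multiset.mem_singleton] at ha; omega⟩
        obtain ⟨τ, hτ⟩ := exists_conj_mem (p := 3) (v := 2) ρ.range
          (by rw [← Nat.card_congr (MonoidHom.ofInjective hρ).toEquiv, hi, hi2])
          (by
            rw [hc720, show (720 : ℕ) = 3 ^ 2 * 80 by norm_num,
              Nat.factorization_mul (by norm_num) (by norm_num), Finsupp.add_apply,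
              Nat.Prime.factorization_pow (by norm_num), Finsupp.single_eq_same,
              Nat.factorization_eq_zero_of_not_dvd (by norm_num)]) (σ := σ)
          (by
            have hoσ : orderOf σ = 3 := by rw [← Perm.lcm_cycleType, hσ, Multiset.lcm_singleton, normalize_eq]
            rw [← hoσ, pow_orderOf_eq_one])
        obtain ⟨y, hy⟩ := hτ
        refine hS.notA (Equiv.Perm.alternatingGroup_le_of_isPreprimitive_of_isThreeCycle_mem hS.prim
          (g := (y : Perm α)) ?_ (hQG y.2))
        have e : Perm.ofSubtype (ρ y) = (y : Perm α) :=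
          Perm.ofSubtype_subtypePerm (f := (y : Perm α)) (hmap y) fun c hc' => by
            rw [Perm.mem_support]
            exact fun h' => hc' (hcon y y.2 c h')
        show (y : Perm α).cycleType = {3}
        rw [← e, Perm.cycleType_ofSubtype, hy, Perm.cycleType_conj, hσ]
      obtain ⟨hyx, hyu, hyv⟩ := hQmem y hy
      have hfix : ∀ w, x w = w → x (y w) = y w := fun w hw => by
        rw [← Perm.mul_apply, ← hyx.eq, Perm.mul_apply, hw]
      obtain ⟨j, hj⟩ := Setting.exists_odd_part hQp hy
      have hr2 : y (y r) ≠ r := by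
        intro h2
        refine hyr ?_
        have hk : ∀ k : ℕ, (y ^ 2) ^ k • r = r := by
          intro k
          induction k with
          | zero => simp
          | succ k ih => rw [pow_succ, mul_smul, show (y ^ 2) • r = r by rw [pow_two]; exact h2, ih]
        have h' := hk j
        rw [← pow_mul] at h'
        have h'' : y ^ orderOf y • r = y • r := by rw [hj, pow_succ', mul_smul, h']
        rw [pow_orderOf_eq_one, one_smul] at h''
        exact h''.symm
      have hT : ({r, y r, y (y r)} : Finset α) = (F.erase u).erase v := by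
        refine Finset.eq_of_subset_of_card_le (fun w hw => ?_) ?_
        · simp only [Finset.mem_insert, Finset.mem_singleton] at hw
          simp only [Finset.mem_erase, hFdef, Finset.mem_filter, Finset.mem_univ, true_and]
          have hru : r ≠ u := fun e' => hyr (e' ▸ hyu)
          have hrv : r ≠ v := fun e' => hyr (e' ▸ hyv)
          have h1 : y r ≠ u ∧ y r ≠ v :=
            ⟨fun e' => hru (y.injective (e'.trans hyu.symm)), fun e' => hrv (y.injective (e'.trans hyv.symm))⟩
          rcases hw with rfl | rfl | rfl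
          · exact ⟨hrv, hru, hr⟩
          · exact ⟨h1.2, h1.1, hfix r hr⟩
          · exact ⟨fun e' => h1.2 (y.injective (e'.trans hyv.symm)),
              fun e' => h1.1 (y.injective (e'.trans hyu.symm)), hfix _ (hfix r hr)⟩
        · have hne : ({r, y r, y (y r)} : Finset α).card = 3 := by
            rw [Finset.card_insert_of_notMem, Finset.card_pair (fun e' => hyr (y.injective e').symm)]
            simp only [Finset.mem_insert, Finset.mem_singleton, not_or]
            exact ⟨fun e' => hyr e'.symm, fun e' => hr2 e'.symm⟩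
          rw [hne, Finset.card_erase_of_mem (Finset.mem_erase.2 ⟨huv.symm, hmemF v hv.2.2⟩),
            Finset.card_erase_of_mem (hmemF u hu.2.2)]
          omega
      have hmemT : ∀ w, x w = w → w ≠ u → w ≠ v → ∃ k : ℕ, (y ^ k) r = w := by
        intro w hw h1 h2
        have : w ∈ ({r, y r, y (y r)} : Finset α) := by
          rw [hT]; simp [hFdef, hw, h1, h2]
        simp only [Finset.mem_insert, Finset.mem_singleton] at this
        rcases this with rfl | rfl | rfl
        exacts [⟨0, rfl⟩, ⟨1, rfl⟩, ⟨2, rfl⟩]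
      obtain ⟨k, hk⟩ := hmemT c hc hu.2.1.symm hv.2.1.symm
      obtain ⟨l, hl⟩ := hmemT d hd hu.1.symm hv.1.symm
      have hyC : y ∈ G ⊓ Subgroup.centralizer {x} :=
        ⟨hQG hy, Subgroup.mem_centralizer_singleton_iff.2 hyx.eq⟩
      refine ⟨y ^ l * (y ^ k)⁻¹, mul_mem (pow_mem hyC l) (inv_mem (pow_mem hyC k)), ?_⟩
      rw [Perm.mul_apply, ← hk, Perm.coe_inv, Equiv.symm_apply_apply, hl]
    · intro g hg
      exact Commute.pow_left (Subgroup.mem_centralizer_singleton_iff.1 hg.2) 2
  · -- here the two-point stabilisers have order six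
    refine hS.false_of_transitive_fixed h6 (G ⊓ Subgroup.normalizer (Subgroup.zpowers x : Set (Perm α)))
      inf_le_left ?_ ?_ ?_
    · intro g hg c hc
      have h1 := (Subgroup.mem_normalizer_iff''.1 hg.2 x).1 (Subgroup.mem_zpowers x)
      obtain ⟨k, hk⟩ := Subgroup.mem_zpowers_iff.1 h1
      have h2 : (x ^ k) c = c := Equiv.Perm.zpow_apply_eq_self_of_apply_eq_self hc k
      rw [hk, Perm.mul_apply, Perm.mul_apply, Perm.coe_inv, Equiv.symm_apply_eq] at h2
      exact h2
    · intro c d hc hd hcd
      obtain ⟨e, he0, he1⟩ := exists_pair hcd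
      obtain ⟨e', he0', he1'⟩ := exists_pair hcd.symm
      obtain ⟨g, hg⟩ := hS.two.exists_smul_eq e e'
      have hgc : (g : Perm α) c = d := by rw [← he0, smul_emb_apply G hg 0, he0']
      have hgd : (g : Perm α) d = c := by rw [← he1, smul_emb_apply G hg 1, he1']
      have hgci : (g : Perm α)⁻¹ d = c := by rw [Perm.coe_inv, Equiv.symm_apply_eq, hgc]
      have hgdi : (g : Perm α)⁻¹ c = d := by rw [Perm.coe_inv, Equiv.symm_apply_eq, hgd]
      let y : G := g * ⟨x, hx⟩ * g⁻¹
      have hyc : (y : Perm α) c = c := by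
        show (g : Perm α) (x ((g : Perm α)⁻¹ c)) = c
        rw [hgdi, hd, hgd]
      have hyd : (y : Perm α) d = d := by
        show (g : Perm α) (x ((g : Perm α)⁻¹ d)) = d
        rw [hgci, hc, hgc]
      have hfixe : ∀ z : G, (z : Perm α) c = c → (z : Perm α) d = d → z ∈ stabilizer G e := fun z h0 h1 =>
        (mem_stab_iff G).2 fun i => by
          fin_cases i
          · show (z : Perm α) (e 0) = e 0
            rw [he0, h0]
          · show (z : Perm α) (e 1) = e 1
            rw [he1, h1]
      let X : stabilizer G e := ⟨⟨x, hx⟩, hfixe _ hc hd⟩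
      let Y : stabilizer G e := ⟨y, hfixe _ hyc hyd⟩
      have hoX : orderOf X = 3 := by rw [← Subgroup.orderOf_coe, ← Subgroup.orderOf_coe]; exact ho
      have hoY : orderOf Y = 3 := by
        rw [← Subgroup.orderOf_coe, show ((Y : G)) = g * ⟨x, hx⟩ * g⁻¹ from rfl,
          show g * ⟨x, hx⟩ * g⁻¹ = (MulAut.conj g).toMonoidHom ⟨x, hx⟩ from rfl,
          orderOf_injective _ (MulAut.conj g).injective, ← Subgroup.orderOf_coe]
        exact ho
      have h6' : Nat.card (stabilizer G e) = 6 := by have := hS.card_pair_stab e; omega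
      have hidx : (Subgroup.zpowers X).index = 2 := by
        have h1 := (Subgroup.zpowers X).card_mul_index
        rw [Nat.card_zpowers, hoX, h6'] at h1
        omega
      have hYX : Y ∈ Subgroup.zpowers X := by
        have h2 := pow_mem (Subgroup.mul_self_mem_of_index_two hidx Y) 2
        rwa [← pow_two, ← pow_mul, show Y ^ (2 * 2) = Y from by
          rw [show 2 * 2 = orderOf Y + 1 by omega, pow_succ, pow_orderOf_eq_one, one_mul]] at h2
      obtain ⟨k, hk⟩ := Subgroup.mem_zpowers_iff.1 hYX
      have hk' : (g : Perm α) * x * (g : Perm α)⁻¹ = x ^ k :=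
        (congrArg (fun z : stabilizer G e => ((z : G) : Perm α)) hk).symm
      refine ⟨g, ⟨g.2, ?_⟩, hgc⟩
      have hle : (Subgroup.zpowers x).map (MulAut.conj (g : Perm α)).toMonoidHom ≤ Subgroup.zpowers x := by
        rw [MonoidHom.map_zpowers, Subgroup.zpowers_le]
        exact Subgroup.mem_zpowers_iff.2 ⟨k, hk'.symm⟩
      have heq : (Subgroup.zpowers x).map (MulAut.conj (g : Perm α)).toMonoidHom = Subgroup.zpowers x :=
        Subgroup.eq_of_le_of_card_ge hle
          (le_of_eq (Subgroup.card_map_of_injective (MulAut.conj (g : Perm α)).injective).symm)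
      refine Subgroup.mem_normalizer_iff.2 fun z => ?_
      conv_rhs => rw [← heq]
      exact (Subgroup.mem_map_iff_mem (f := (MulAut.conj (g : Perm α)).toMonoidHom)
        (MulAut.conj (g : Perm α)).injective).symm
    · intro g hg
      have h1 := (Subgroup.mem_normalizer_iff.1 hg.2 x).1 (Subgroup.mem_zpowers x)
      rw [mem_zpowers_iff_mem_range_orderOf, ho] at h1
      simp only [Finset.range_add_one, Finset.range_zero, Finset.image_insert, Finset.image_empty,
        Finset.mem_insert, Finset.notMem_empty, or_false] at h1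
      have key : g * (g * x * g⁻¹) * g⁻¹ = x := by
        rcases h1 with h1 | h1 | h1
        · have h3 : g * x ^ 2 * g⁻¹ = x := by
            rw [show g * x ^ 2 * g⁻¹ = (g * x * g⁻¹) * (g * x * g⁻¹) by rw [pow_two]; group, h1, ← pow_add,
              show 2 + 2 = orderOf x + 1 by omega, pow_succ, pow_orderOf_eq_one, one_mul]
          rw [h1, h3]
        · rw [pow_one] at h1
          rw [h1, h1]
        · rw [pow_zero, conj_eq_one_iff] at h1
          rw [h1, orderOf_one] at ho
          omega
      show g ^ 2 * x = x * g ^ 2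
      rw [pow_two]
      calc g * g * x = (g * (g * x * g⁻¹) * g⁻¹) * (g * g) := by group
        _ = x * (g * g) := by rw [key]

/-- A 3-subgroup fixes two points and is semiregular on the others. -/
theorem Setting.three_group (hS : Setting G)
    (h3 : ∀ x ∈ G, orderOf x = 3 → x.support.card = 9) (P : Subgroup (Perm α)) (hPG : P ≤ G)
    (hP : IsPGroup 3 P) :
    ∃ a b : α, a ≠ b ∧ (∀ g ∈ P, g a = a ∧ g b = b) ∧
      ∀ c, c ≠ a → c ≠ b → ∀ g ∈ P, g c = c → g = 1 := by
  classical
  haveI : Fact (Nat.Prime 3) := ⟨by norm_num⟩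
  have h := hP.card_modEq_card_fixedPoints α
  rw [Nat.card_eq_fintype_card (α := α), hS.card] at h
  have h2 : 1 < Nat.card (MulAction.fixedPoints P α) := by
    have h' : Nat.card (MulAction.fixedPoints P α) % 3 = 2 := h.symm
    omega
  obtain ⟨a, b, hab⟩ := Finite.one_lt_card_iff_nontrivial.1 h2
  refine ⟨a, b, fun e => hab (Subtype.ext e), fun g hg => ⟨a.2 ⟨g, hg⟩, b.2 ⟨g, hg⟩⟩, ?_⟩
  intro c hca hcb g hg hgc
  by_contra hg1
  obtain ⟨r, k, hr, hk⟩ := exists_prime_pow hg1
  obtain ⟨i, hi⟩ := IsPGroup.iff_orderOf.1 hP ⟨g ^ k, P.pow_mem hg k⟩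
  rw [← Subgroup.orderOf_coe, hk] at hi
  have hr3 : r = 3 := by
    rcases Nat.eq_zero_or_pos i with rfl | hi0
    · exact absurd hi hr.ne_one
    · exact ((Nat.prime_dvd_prime_iff_eq (by norm_num) hr).1 (hi ▸ dvd_pow_self 3 hi0.ne')).symm
  have hsup := h3 _ (G.pow_mem (hPG hg) k) (hk.trans hr3)
  have hfix := fixed_card hS.card (g ^ k)
  have key : ∀ d, g d = d → (g ^ k) d = d := fun d hd => Perm.pow_apply_eq_self_of_apply_eq_self hd k
  have hsub : ({(a : α), (b : α), c} : Finset α) ⊆ Finset.univ.filter fun d => (g ^ k) d = d := by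
    intro d hd
    simp only [Finset.mem_insert, Finset.mem_singleton] at hd
    refine Finset.mem_filter.2 ⟨Finset.mem_univ _, key d ?_⟩
    rcases hd with rfl | rfl | rfl
    exacts [a.2 ⟨g, hg⟩, b.2 ⟨g, hg⟩, hgc]
  have := Finset.card_le_card hsub
  rw [Finset.card_insert_of_notMem, Finset.card_pair hcb.symm] at this
  · omega
  · simp only [Finset.mem_insert, Finset.mem_singleton, not_or]
    exact ⟨fun e => hab (Subtype.ext e), hca.symm⟩

theorem Setting.card_three_group (hS : Setting G)
    (h3 : ∀ x ∈ G, orderOf x = 3 → x.support.card = 9) (P : Subgroup (Perm α)) (hPG : P ≤ G)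
    (hP : IsPGroup 3 P) :
    Nat.card P ≤ 9 ∧ (Nat.card P = 9 → ∀ w : Perm α, (∀ g ∈ P, Commute g w) →
      w.support.card = 6 → False) := by
  classical
  obtain ⟨a, b, hab, hfix, hsemi⟩ := hS.three_group h3 P hPG hP
  obtain ⟨c, hc⟩ : ∃ c, c ∉ ({a, b} : Finset α) := by
    by_contra h
    push Not at h
    have := (Finset.card_le_card (fun x _ => h x : (Finset.univ : Finset α) ⊆ {a, b})).trans Finset.card_le_two
    rw [Finset.card_univ, hS.card] at this
    omega
  have hmem : ∀ (g : P) (d : α), d ∈ (Finset.univ \ {a, b} : Finset α) → (g : Perm α) d ∈ (Finset.univ \ {a, b} : Finset α) := by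
    intro g d hd
    simp only [Finset.mem_sdiff, Finset.mem_univ, true_and, Finset.mem_insert, Finset.mem_singleton, not_or] at hd ⊢
    exact ⟨fun e => hd.1 ((g : Perm α).injective (e.trans (hfix g g.2).1.symm)),
      fun e => hd.2 ((g : Perm α).injective (e.trans (hfix g g.2).2.symm))⟩
  have hinj : ∀ d ∈ (Finset.univ \ {a, b} : Finset α), Function.Injective fun g : P => (g : Perm α) d := by
    intro d hd g g' e
    simp only [Finset.mem_sdiff, Finset.mem_univ, true_and, Finset.mem_insert, Finset.mem_singleton, not_or] at hd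
    have := hsemi d hd.1 hd.2 _ (P.mul_mem (P.inv_mem g'.2) g.2) (by
      simp only at e
      rw [Perm.mul_apply, e, Perm.coe_inv, Equiv.symm_apply_apply])
    exact Subtype.ext (inv_mul_eq_one.1 this).symm
  have hc9 : (Finset.univ \ {a, b} : Finset α).card = 9 := by
    rw [Finset.card_sdiff_of_subset (Finset.subset_univ _), Finset.card_univ, hS.card, Finset.card_pair hab]
  haveI := Fintype.ofFinite P
  have hcS : c ∈ (Finset.univ \ {a, b} : Finset α) := Finset.mem_sdiff.2 ⟨Finset.mem_univ _, hc⟩
  refine ⟨?_, fun h9 w hw h6 => ?_⟩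
  · rw [← hc9, Nat.card_eq_fintype_card, ← Finset.card_univ]
    exact Finset.card_le_card_of_injOn (fun g : P => (g : Perm α) c)
      (fun g _ => hmem g c hcS) (hinj c hcS).injOn
  · obtain ⟨d, hd, hdS⟩ : ∃ d ∈ w.support, d ∈ (Finset.univ \ {a, b} : Finset α) := by
      by_contra h
      push Not at h
      have := (Finset.card_le_card (fun x hx => by
        by_contra hx'
        exact h x hx (Finset.mem_sdiff.2 ⟨Finset.mem_univ _, hx'⟩) : w.support ⊆ {a, b})).trans Finset.card_le_two
      omega
    have := Finset.card_le_card_of_injOn (s := (Finset.univ : Finset P)) (t := w.support)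
      (fun g : P => (g : Perm α) d) (fun g _ => (commute_mem_support (hw g g.2) d).2 hd) (hinj d hdS).injOn
    rw [Finset.card_univ, ← Nat.card_eq_fintype_card, h9] at this
    omega

theorem Setting.sylow_three_card_le (hS : Setting G)
    (h3 : ∀ x ∈ G, orderOf x = 3 → x.support.card = 9) : ¬ 3 ^ 3 ∣ Nat.card G := by
  intro h
  haveI : Fact (Nat.Prime 3) := ⟨by norm_num⟩
  obtain ⟨P, hP⟩ := Sylow.exists_subgroup_card_pow_prime 3 h
  have := (hS.card_three_group h3 (P.map G.subtype) (Subgroup.map_subtype_le P)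
    ((IsPGroup.of_card hP).map _)).1
  rw [Subgroup.card_map_of_injective G.subtype_injective, hP] at this
  omega

/-- An element of order eleven commutes with nothing that fixes a point, except the identity. -/
theorem Setting.false_of_eleven (hS : Setting G) {u t : Perm α} (hu : u ∈ G) (ho : orderOf u = 11)
    (h : Commute u t) (ht : ¬ 11 ∣ t.support.card) : False := by
  haveI : Fact (Nat.Prime 11) := ⟨by norm_num⟩
  have h2 := two_le_fixed_support (by rw [← ho, pow_orderOf_eq_one] : u ^ 11 = 1) h ht
  have h1 := hS.eleven hu ho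
  have h3 := fixed_card hS.card u
  have h4 : (t.support.filter fun c => u c = c).card ≤ (Finset.univ.filter fun c => u c = c).card :=
    Finset.card_le_card (Finset.filter_subset_filter _ (Finset.subset_univ _))
  omega

theorem Setting.coprime_centralizer (hS : Setting G) {t : Perm α} (ht : t ≠ 1)
    (h5 : ¬ 5 ∣ t.support.card) (h11 : ¬ 11 ∣ t.support.card) :
    Nat.Coprime (Nat.card ↥(G ⊓ Subgroup.centralizer {t} : Subgroup (Perm α))) 55 := by
  rw [show 55 = 5 * 11 from rfl, Nat.coprime_mul_iff_right]
  refine ⟨?_, ?_⟩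
  · rw [Nat.coprime_comm, Nat.Prime.coprime_iff_not_dvd (by norm_num)]
    intro h
    haveI : Fact (Nat.Prime 5) := ⟨by norm_num⟩
    obtain ⟨u, hu⟩ := exists_prime_orderOf_dvd_card' 5 h
    rw [← Subgroup.orderOf_coe] at hu
    exact hS.false_of_five u.2.1 hu (Subgroup.mem_centralizer_singleton_iff.1 u.2.2) h5
  · rw [Nat.coprime_comm, Nat.Prime.coprime_iff_not_dvd (by norm_num)]
    intro h
    haveI : Fact (Nat.Prime 11) := ⟨by norm_num⟩
    obtain ⟨u, hu⟩ := exists_prime_orderOf_dvd_card' 11 h
    rw [← Subgroup.orderOf_coe] at hu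
    exact hS.false_of_eleven u.2.1 hu (Subgroup.mem_centralizer_singleton_iff.1 u.2.2) h11

/-- The even part: orders, and involutions fix exactly three points. -/
theorem Setting.no_double_transposition (hS : Setting G)
    (hcard : Nat.card G = 660 ∨ Nat.card G = 7920) {t : Perm α} (ht : t ∈ G) (ho : orderOf t = 2) :
    t.support.card ≠ 4 := by
  classical
  intro h4
  have h3 : ∀ x ∈ G, orderOf x = 3 → x.support.card = 9 := fun x hx hox =>
    hS.three_support (hcard.elim Or.inr fun h => Or.inl (by rw [h]; norm_num)) hx hox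
  have ht1 : t ≠ 1 := fun e => by rw [e, orderOf_one] at ho; omega
  set C : Subgroup (Perm α) := G ⊓ Subgroup.centralizer {t} with hC
  have hc55 := hS.coprime_centralizer ht1 (by rw [h4]; norm_num) (by rw [h4]; norm_num)
  have hc3 : ¬ 3 ∣ Nat.card C := by
    intro h
    haveI : Fact (Nat.Prime 3) := ⟨by norm_num⟩
    obtain ⟨u, hu⟩ := exists_prime_orderOf_dvd_card' 3 h
    rw [← Subgroup.orderOf_coe] at hu
    have hcm : Commute (u : Perm α) t := Subgroup.mem_centralizer_singleton_iff.1 u.2.2
    have hu3 : (u : Perm α) ^ 3 = 1 := by rw [← hu, pow_orderOf_eq_one]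
    have h2 := two_le_fixed_support hu3 hcm (by rw [h4]; norm_num)
    have hsup := h3 _ u.2.1 hu
    have hfx := fixed_card hS.card (u : Perm α)
    have hfc := fixed_card hS.card t
    set F := Finset.univ.filter fun c => t c = c with hF
    have hm := fixed_modEq hu3 F (fun c => by
      have := commute_mem_support hcm c
      simp only [Perm.mem_support, not_iff_not] at this
      simpa [hF] using this)
    have hdisj : (F.filter fun c => (u : Perm α) c = c).card + (t.support.filter fun c => (u : Perm α) c = c).card ≤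
        (Finset.univ.filter fun c => (u : Perm α) c = c).card := by
      rw [← Finset.card_union_of_disjoint]
      · exact Finset.card_le_card (Finset.union_subset (Finset.filter_subset_filter _ (Finset.subset_univ _))
          (Finset.filter_subset_filter _ (Finset.subset_univ _)))
      · refine Finset.disjoint_filter_filter (Finset.disjoint_left.2 fun c hc hc' => ?_)
        exact Perm.mem_support.1 hc' (Finset.mem_filter.1 hc).2
    have hm' : (F.filter fun c => (u : Perm α) c = c).card % 3 = F.card % 3 := hm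
    omega
  obtain ⟨S, hSmem, hScard⟩ := exists_class G ht
  have hs : ∀ e : Fin 2 ↪ α, (S.filter fun g => ∀ i, g (e i) = e i).card ≤ Nat.card (stabilizer G e) := by
    intro e
    rw [← Fintype.card_coe, ← Nat.card_eq_fintype_card]
    refine Nat.card_le_card_of_injective (fun g => (⟨⟨(g : Perm α), (hSmem _ (Finset.mem_filter.1 g.2).1).1⟩,
      (mem_stab_iff G).2 (Finset.mem_filter.1 g.2).2⟩ : stabilizer G e)) fun a b h => ?_
    exact Subtype.ext (congrArg (fun z : stabilizer G e => ((z : G) : Perm α)) h)
  have hst : ∀ e : Fin 2 ↪ α, Nat.card (stabilizer G e) = Nat.card G / 110 := fun e => by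
    rw [← hS.card_pair_stab e, Nat.mul_div_cancel _ (by norm_num)]
  have hcount := card_mul_le 2 7 (Nat.card G / 110) S (fun g hg => by
      have := fixed_card hS.card g
      have := (hSmem g hg).2.1
      omega) fun e => (hs e).trans (hst e).le
  rw [hS.card] at hcount
  rw [show (11 : ℕ).descFactorial 2 = 110 from rfl, show (7 : ℕ).descFactorial 2 = 42 from rfl] at hcount
  have hdiv : Nat.card C ∣ Nat.card G := Subgroup.card_dvd_of_le inf_le_left
  have hc165 : Nat.Coprime (Nat.card C) 495 := by
    have h9 : Nat.Coprime (Nat.card C) (3 ^ 2) :=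
      ((Nat.Prime.coprime_iff_not_dvd (by norm_num)).2 hc3).symm.pow_right 2
    have := h9.mul_right hc55
    rwa [show 3 ^ 2 * 55 = 495 from rfl] at this
  rcases hcard with h | h <;> rw [h] at hdiv hScard hcount
  · have hle : Nat.card C ≤ 4 :=
      Nat.le_of_dvd (by norm_num) ((hc165.coprime_dvd_right (by norm_num : (165 : ℕ) ∣ 495)).dvd_of_dvd_mul_right
        (m := 4) (show Nat.card C ∣ 4 * 165 from hdiv))
    have := hScard.trans (Nat.mul_le_mul_right _ hle)
    norm_num at hcount
    omega
  · have hle : Nat.card C ≤ 16 :=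
      Nat.le_of_dvd (by norm_num) (hc165.dvd_of_dvd_mul_right (m := 16) (show Nat.card C ∣ 16 * 495 from hdiv))
    have := hScard.trans (Nat.mul_le_mul_right _ hle)
    norm_num at hcount
    omega

theorem sign_even_support {g : Perm α} (ho : orderOf g = 2) (hs : Perm.sign g = 1) :
    ∃ k, g.support.card = 4 * k := by
  haveI : Fact (Nat.Prime 2) := ⟨Nat.prime_two⟩
  obtain ⟨k, hk⟩ := Perm.cycleType_prime_order (σ := g) (by rw [ho]; exact Nat.prime_two)
  rw [ho] at hk
  rw [Perm.sign_of_cycleType, hk, Multiset.sum_replicate, Multiset.card_replicate, smul_eq_mul] at hs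
  have he : Even ((k + 1) * 2 + (k + 1)) := by
    rcases Nat.even_or_odd ((k + 1) * 2 + (k + 1)) with h | h
    · exact h
    · rw [h.neg_one_pow] at hs
      exact absurd hs (by decide)
  obtain ⟨j, hj⟩ := he
  refine ⟨(k + 1) / 2, ?_⟩
  rw [← Perm.sum_cycleType, hk, Multiset.sum_replicate, smul_eq_mul]
  omega

/-- For the even groups of order 7920 every stabiliser of four points is trivial. -/
theorem Setting.four_transitive (hS : Setting G) (hsgn : ∀ g ∈ G, Perm.sign g = 1)
    (hcard : Nat.card G = 7920) :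
    IsMultiplyPretransitive G α 4 ∧ ∀ e : Fin 4 ↪ α, stabilizer G e = ⊥ := by
  classical
  have hbot : ∀ e : Fin 4 ↪ α, stabilizer G e = ⊥ := by
    intro e
    rw [Subgroup.eq_bot_iff_forall]
    intro g hg
    by_contra hg1
    have hg1' : (g : Perm α) ≠ 1 := fun h => hg1 (Subtype.ext h)
    obtain ⟨r, k, hr, hk⟩ := exists_prime_pow hg1'
    have hmem : ((g : Perm α) ^ k) ∈ G := G.pow_mem g.2 k
    have hfix : (Finset.univ.image e) ⊆ Finset.univ.filter fun d => ((g : Perm α) ^ k) d = d := by
      intro d hd
      obtain ⟨i, -, rfl⟩ := Finset.mem_image.1 hd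
      exact Finset.mem_filter.2 ⟨Finset.mem_univ _,
        Perm.pow_apply_eq_self_of_apply_eq_self ((mem_stab_iff G).1 hg i) k⟩
    have h4 := Finset.card_le_card hfix
    rw [Finset.card_image_of_injective _ e.injective, Finset.card_univ, Fintype.card_fin] at h4
    have hfc := fixed_card hS.card ((g : Perm α) ^ k)
    rcases hS.orders hmem hr hk with ⟨hr2, h⟩ | ⟨hr3, -⟩ | ⟨-, h⟩ | ⟨-, h⟩
    · obtain ⟨j, hj⟩ := sign_even_support (hk.trans hr2) (hsgn _ hmem)
      have := hS.no_double_transposition (Or.inr hcard) hmem (hk.trans hr2)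
      omega
    · have := hS.three_support (Or.inl (by rw [hcard]; norm_num)) hmem (hk.trans hr3)
      omega
    · omega
    · omega
  refine ⟨(MulAction.isPretransitive_iff G (Fin 4 ↪ α)).2 ?_, hbot⟩
  intro e e'
  have h1 := Nat.card_congr (MulAction.orbitProdStabilizerEquivGroup G e)
  rw [Nat.card_prod, hbot e, Subgroup.card_bot, mul_one, hcard] at h1
  have h2 : MulAction.orbit G e = Set.univ := by
    refine Set.eq_univ_of_univ_subset ((Set.eq_of_subset_of_ncard_le (Set.subset_univ _) ?_ (Set.toFinite _)).symm.subset)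
    rw [Set.ncard_univ, ← Nat.card_coe_set_eq, Nat.card_eq_fintype_card, Fintype.card_embedding_eq, hS.card,
      Fintype.card_fin]
    exact le_trans (by decide) h1.ge
  have : e' ∈ MulAction.orbit G e := h2 ▸ Set.mem_univ e'
  exact this

/-- An element of order eleven is a cycle, and only its powers commute with it. -/
theorem Setting.commute_eleven (hS : Setting G) {u g : Perm α} (hu : u ∈ G) (ho : orderOf u = 11)
    (h : Commute g u) : g ∈ Subgroup.zpowers u := by
  haveI : Fact (Nat.Prime 11) := ⟨by norm_num⟩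
  obtain ⟨k, hk⟩ := Perm.cycleType_prime_order (σ := u) (by rw [ho]; norm_num)
  have hsup := hS.eleven hu ho
  have hcyc : u.IsCycle := by
    have h1 : u.support.card = (k + 1) * 11 := by
      rw [← Perm.sum_cycleType, hk, Multiset.sum_replicate, smul_eq_mul, ho]
    have h2 : k = 0 := by omega
    rw [← Perm.card_cycleType_eq_one, hk, Multiset.card_replicate, h2]
  have hall : ∀ c, c ∈ u.support := fun c => by
    rw [Finset.eq_univ_of_card u.support (hsup.trans hS.card.symm)]; exact Finset.mem_univ c
  obtain ⟨a⟩ : Nonempty α := Fintype.card_pos_iff.1 (by rw [hS.card]; norm_num)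
  obtain ⟨i, hi⟩ := hcyc.exists_zpow_eq (Perm.mem_support.1 (hall a)) (Perm.mem_support.1 (hall (g a)))
  refine Subgroup.mem_zpowers_iff.2 ⟨i, Perm.ext fun c => ?_⟩
  obtain ⟨j, rfl⟩ := hcyc.exists_zpow_eq (Perm.mem_support.1 (hall a)) (Perm.mem_support.1 (hall c))
  rw [← Perm.mul_apply g, (h.zpow_right j).eq, Perm.mul_apply, ← hi, ← Perm.mul_apply, ← Perm.mul_apply,
    ← zpow_add, ← zpow_add, add_comm]

/-- No involution among even permutations inverts an element of order eleven. -/
theorem Setting.normalizer_odd (hS : Setting G) (hsgn : ∀ g ∈ G, Perm.sign g = 1) {u t : Perm α}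
    (hu : u ∈ G) (hou : orderOf u = 11) (ht : t ∈ G) (hot : orderOf t = 2)
    (hn : t * u * t⁻¹ ∈ Subgroup.zpowers u) : False := by
  haveI : Fact (Nat.Prime 11) := ⟨by norm_num⟩
  have ht2 : t * t = 1 := by rw [← pow_two, ← hot, pow_orderOf_eq_one]
  have htinv : t⁻¹ = t := inv_eq_of_mul_eq_one_right ht2
  have hsup := hS.eleven hu hou
  have hnofix : ∀ c, u c ≠ c := fun c => Perm.mem_support.1
    (by rw [Finset.eq_univ_of_card u.support (hsup.trans hS.card.symm)]; exact Finset.mem_univ c)
  have hPc : ∀ y ∈ Subgroup.zpowers u, y ≠ 1 → u ∈ Subgroup.zpowers y := by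
    intro y hy hy1
    have hoy : orderOf y = 11 := by
      rcases (Nat.dvd_prime (by norm_num)).1 (hou ▸ Nat.card_zpowers u ▸
          Subgroup.orderOf_dvd_natCard (Subgroup.zpowers u) hy) with h | h
      · exact absurd (orderOf_eq_one_iff.1 h) hy1
      · exact h
    rw [Subgroup.eq_of_le_of_card_ge (Subgroup.zpowers_le.2 hy) (by rw [Nat.card_zpowers, Nat.card_zpowers, hoy, hou])]
    exact Subgroup.mem_zpowers u
  -- `t` inverts `u`
  have hcomm : u * (t * u * t⁻¹) = (t * u * t⁻¹) * u := by
    obtain ⟨k, hk⟩ := Subgroup.mem_zpowers_iff.1 hn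
    rw [← hk]
    exact ((Commute.refl u).zpow_right k).eq
  have hcomm' : u * (t * u * t) = (t * u * t) * u := by rw [htinv] at hcomm; exact hcomm
  set y := u * (t * u * t⁻¹) with hy
  have hyt : Commute t y := by
    show t * y = y * t
    rw [hy, htinv]
    calc t * (u * (t * u * t)) = (t * u * t) * u * t := by simp only [mul_assoc]
      _ = u * (t * u * t) * t := by rw [← hcomm']
  have hy1 : y = 1 := by
    by_contra hy1
    obtain ⟨k, hk⟩ := Subgroup.mem_zpowers_iff.1 (hPc y (mul_mem (Subgroup.mem_zpowers u) hn) hy1)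
    have htu : Commute t u := hk ▸ hyt.zpow_right k
    have := Subgroup.orderOf_dvd_natCard _ (hS.commute_eleven hu hou htu)
    rw [hot, Nat.card_zpowers, hou] at this
    omega
  have hinv : t * u * t⁻¹ = u⁻¹ := eq_inv_of_mul_eq_one_right (hy ▸ hy1)
  -- so it fixes at most one point
  obtain ⟨j, hj⟩ := sign_even_support hot (hsgn t ht)
  have hfc := fixed_card hS.card t
  have hle : (Finset.univ.filter fun c => t c = c).card ≤ 1 := by
    rw [Finset.card_le_one]
    intro a ha c hc
    have hta := (Finset.mem_filter.1 ha).2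
    have htc := (Finset.mem_filter.1 hc).2
    obtain ⟨k, hk⟩ := Perm.cycleType_prime_order (σ := u) (by rw [hou]; norm_num)
    have hcyc : u.IsCycle := by
      have h1 : u.support.card = (k + 1) * 11 := by
        rw [← Perm.sum_cycleType, hk, Multiset.sum_replicate, smul_eq_mul, hou]
      rw [← Perm.card_cycleType_eq_one, hk, Multiset.card_replicate]
      omega
    obtain ⟨i, rfl⟩ := hcyc.exists_zpow_eq (hnofix a) (hnofix c)
    have h1 : t * u ^ i * t⁻¹ = (u⁻¹) ^ i := by rw [← conj_zpow, hinv]
    have h2 : (u⁻¹ ^ i) a = (u ^ i) a := by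
      rw [← h1, htinv, Perm.mul_apply, Perm.mul_apply, hta, htc]
    have h3 : (u ^ (2 * i)) a = a := by
      rw [two_mul, zpow_add, Perm.mul_apply, ← h2, inv_zpow', ← Perm.mul_apply, ← zpow_add, add_neg_cancel,
        zpow_zero, Perm.one_apply]
    by_contra hne
    have hu2 : u ^ (2 * i) ≠ 1 := by
      intro h
      have hdvd : (11 : ℤ) ∣ 2 * i := by
        have := orderOf_dvd_iff_zpow_eq_one.2 h
        rwa [hou] at this
      have : (11 : ℤ) ∣ i := (Int.Prime.dvd_mul' (by norm_num) hdvd).resolve_left (by norm_num)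
      obtain ⟨l, rfl⟩ := this
      apply hne
      rw [zpow_mul, show u ^ (11 : ℤ) = 1 by rw [← orderOf_dvd_iff_zpow_eq_one, hou]; rfl, one_zpow, Perm.one_apply]
    obtain ⟨l, hl⟩ := Subgroup.mem_zpowers_iff.1 (hPc _ (zpow_mem (Subgroup.mem_zpowers u) _) hu2)
    exact hnofix a (by rw [← hl]; exact Perm.zpow_apply_eq_self_of_apply_eq_self h3 l)
  have := hS.two_support ht hot
  omega

/-- The possible orders of an insoluble group of even permutations. -/
theorem Setting.card_eq (hS : Setting G) (hsgn : ∀ g ∈ G, Perm.sign g = 1) (hns : ¬ Group.IsSolvable G) :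
    (Nat.card G = 660 ∨ Nat.card G = 7920) ∧
      ∀ P : Sylow 11 G, Nat.card (Subgroup.normalizer ((P : Subgroup G) : Set G)) = 55 := by
  classical
  haveI : Fact (Nat.Prime 11) := ⟨by norm_num⟩
  have hdvd : Nat.card G ∣ 39916800 := card_perm hS.card ▸ Subgroup.card_subgroup_dvd_card G
  have h11 : 11 ∣ Nat.card G := by
    obtain ⟨a, b, hab⟩ := Fintype.exists_pair_of_one_lt_card (α := α) (by rw [hS.card]; norm_num)
    obtain ⟨e, -, -⟩ := exists_pair hab
    rw [← hS.card_pair_stab e]
    exact Dvd.dvd.mul_left (by norm_num) _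
  obtain ⟨m, hm⟩ := h11
  have hm11 : ¬ 11 ∣ m := fun h => by
    have : 11 * 11 ∣ 39916800 := (hm ▸ Nat.mul_dvd_mul_left 11 h : 11 * 11 ∣ Nat.card G).trans hdvd
    norm_num at this
  have hG' : Nat.card G = 11 ^ 1 * m := by rw [hm, pow_one]
  have hPcard : ∀ P : Sylow 11 G, Nat.card (P : Subgroup G) = 11 := fun P => by
    rw [CfsgLib.Perm.sylow_card_eq P hG' hm11, pow_one]
  have hgen : ∀ P : Sylow 11 G, ∃ u : G, orderOf u = 11 ∧ (P : Subgroup G) = Subgroup.zpowers u := by
    intro P
    obtain ⟨u, hu⟩ := exists_prime_orderOf_dvd_card' (G := P) 11 (by rw [hPcard P])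
    rw [← Subgroup.orderOf_coe] at hu
    exact ⟨u, hu, (Subgroup.eq_of_le_of_card_ge (Subgroup.zpowers_le.2 u.2)
      (by rw [Nat.card_zpowers, hu, hPcard P])).symm⟩
  -- the normaliser
  have hN : ∀ P : Sylow 11 G, Nat.card (Subgroup.normalizer ((P : Subgroup G) : Set G)) = 11 ∨
      Nat.card (Subgroup.normalizer ((P : Subgroup G) : Set G)) = 55 := by
    intro P
    obtain ⟨u, hu, hPu⟩ := hgen P
    have hu' : orderOf (u : Perm α) = 11 := by rw [Subgroup.orderOf_coe, hu]
    have hcent : Subgroup.centralizer ((P : Subgroup G) : Set G) = P := by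
      refine le_antisymm (fun g hg => ?_) ?_
      · have hc : Commute (g : Perm α) u :=
          (congrArg Subtype.val (Subgroup.mem_centralizer_iff.1 hg u (hPu ▸ Subgroup.mem_zpowers u))).symm
        obtain ⟨k, hk⟩ := Subgroup.mem_zpowers_iff.1 (hS.commute_eleven u.2 hu' hc)
        rw [hPu]
        exact Subgroup.mem_zpowers_iff.2 ⟨k, Subtype.ext (by rw [Subgroup.coe_zpow]; exact hk)⟩
      · haveI : IsCyclic (P : Subgroup G) := isCyclic_of_prime_card (hPcard P)
        exact Subgroup.le_centralizer (P : Subgroup G)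
    have hle : (P : Subgroup G) ≤ Subgroup.normalizer ((P : Subgroup G) : Set G) := Subgroup.le_normalizer
    haveI hcyc : IsCyclic (P : Subgroup G) := isCyclic_of_prime_card (hPcard P)
    have key := Subgroup.card_dvd_of_injective _ (QuotientGroup.kerLift_injective (Subgroup.normalizerMonoidHom (P : Subgroup G)))
    rw [Subgroup.normalizerMonoidHom_ker, ← Subgroup.index, ← Subgroup.relIndex, hcent, hcyc.card_mulAut, hPcard P,
      Nat.totient_prime (by norm_num)] at key
    have hmul := ((P : Subgroup G).subgroupOf (Subgroup.normalizer ((P : Subgroup G) : Set G))).card_mul_index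
    rw [Nat.card_congr (Subgroup.subgroupOfEquivOfLe hle).toEquiv, hPcard P, ← Subgroup.relIndex] at hmul
    have hodd : ¬ 2 ∣ Nat.card (Subgroup.normalizer ((P : Subgroup G) : Set G)) := by
      intro h2
      haveI : Fact (Nat.Prime 2) := ⟨Nat.prime_two⟩
      obtain ⟨t, ht⟩ := exists_prime_orderOf_dvd_card' 2 h2
      rw [← Subgroup.orderOf_coe, ← Subgroup.orderOf_coe] at ht
      refine hS.normalizer_odd hsgn u.2 hu' (t : G).2 ht ?_
      have h1 := (Subgroup.mem_normalizer_iff.1 t.2 u).1 (hPu ▸ Subgroup.mem_zpowers u)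
      have h1' : (t : G) * u * (t : G)⁻¹ ∈ Subgroup.zpowers u := hPu ▸ h1
      obtain ⟨k, hk⟩ := Subgroup.mem_zpowers_iff.1 h1'
      exact Subgroup.mem_zpowers_iff.2 ⟨k, by rw [← Subgroup.coe_zpow, hk]; rfl⟩
    set r := (P : Subgroup G).relIndex (Subgroup.normalizer ((P : Subgroup G) : Set G)) with hr
    have hr10 : r ∈ Nat.divisors 10 := Nat.mem_divisors.2 ⟨key, by norm_num⟩
    rw [show Nat.divisors 10 = {1, 2, 5, 10} from by decide] at hr10
    simp only [Finset.mem_insert, Finset.mem_singleton] at hr10
    rcases hr10 with e | e | e | e <;> rw [e] at hmul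
    · left; omega
    · exact absurd ⟨11, by omega⟩ hodd
    · right; omega
    · exact absurd ⟨55, by omega⟩ hodd
  have hN55 : ∀ P : Sylow 11 G, Nat.card (Subgroup.normalizer ((P : Subgroup G) : Set G)) = 55 := by
    intro P
    refine (hN P).resolve_left fun h => hns ?_
    have hNP : (P : Subgroup G) = Subgroup.normalizer ((P : Subgroup G) : Set G) :=
      Subgroup.eq_of_le_of_card_ge Subgroup.le_normalizer (by rw [h, hPcard P])
    haveI : IsCyclic (P : Subgroup G) := isCyclic_of_prime_card (hPcard P)
    have hPle : Subgroup.normalizer ((P : Subgroup G) : Set G) ≤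
        Subgroup.centralizer ((P : Subgroup G) : Set G) := hNP ▸ Subgroup.le_centralizer (P : Subgroup G)
    have hcompl := MonoidHom.ker_transferSylow_isComplement' P hPle
    set K := (MonoidHom.transferSylow P hPle).ker
    haveI := hS.prim
    have hK : K = ⊥ := by
      by_contra hK
      haveI := CfsgLib.Perm.Jordan.isPretransitive_of_normal (G := G) (X := α) (N := K) hK
      obtain ⟨a⟩ : Nonempty α := Fintype.card_pos_iff.1 (by rw [hS.card]; norm_num)
      have h1 := Nat.card_congr (MulAction.orbitProdStabilizerEquivGroup K a)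
      rw [Nat.card_prod, MulAction.orbit_eq_univ, Nat.card_univ, Nat.card_eq_fintype_card (α := α), hS.card] at h1
      have h2 := hcompl.card_mul_card
      rw [hPcard P, ← h1, hm] at h2
      exact hm11 ⟨Nat.card (MulAction.stabilizer K a), by linarith⟩
    rw [hK, Subgroup.isComplement'_bot_left] at hcompl
    refine Group.isSolvable_of_comm fun x y => ?_
    exact congrArg Subtype.val ((IsCyclic.isMulCommutative (α := (P : Subgroup G))).is_comm.comm
      ⟨x, hcompl ▸ Subgroup.mem_top x⟩ ⟨y, hcompl ▸ Subgroup.mem_top y⟩)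
  refine ⟨?_, hN55⟩
  obtain ⟨P⟩ := (inferInstance : Nonempty (Sylow 11 G))
  have hprod := (Subgroup.normalizer ((P : Subgroup G) : Set G)).card_mul_index
  rw [hN55 P] at hprod
  set n := (Subgroup.normalizer ((P : Subgroup G) : Set G)).index with hn
  have hn11 : n % 11 = 1 := by
    have h := card_sylow_modEq_one 11 G
    rwa [P.card_eq_index_normalizer] at h
  have hnd : n ∣ 725760 := by
    have h : 55 * n ∣ 55 * 725760 := by rw [hprod]; exact hdvd.trans (by norm_num)
    exact Nat.dvd_of_mul_dvd_mul_left (by norm_num) h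
  have h5 : ¬ 5 ∣ n := fun h => by
    haveI : Fact (Nat.Prime 5) := ⟨by norm_num⟩
    refine hS.not_full (p := 5) (v := 2) ?_ (by norm_num) ?_
    · rw [show (39916800 : ℕ) = 5 ^ 2 * 1596672 by norm_num, Nat.factorization_mul (by norm_num) (by norm_num),
        Finsupp.add_apply, Nat.Prime.factorization_pow (by norm_num), Finsupp.single_eq_same,
        Nat.factorization_eq_zero_of_not_dvd (by norm_num)]
    · rw [← hprod]
      exact (show 5 * 5 ∣ 55 * n from Nat.mul_dvd_mul (by norm_num) h)
  have h7 : ¬ 7 ∣ n := fun h => hS.not_seven (hprod ▸ Dvd.dvd.mul_left h 55)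
  have h256 : ¬ 256 ∣ n := fun h => by
    haveI : Fact (Nat.Prime 2) := ⟨Nat.prime_two⟩
    refine hS.not_full (p := 2) (v := 8) ?_ (by norm_num) (hprod ▸ Dvd.dvd.mul_left h 55)
    rw [show (39916800 : ℕ) = 2 ^ 8 * 155925 by norm_num, Nat.factorization_mul (by norm_num) (by norm_num),
      Finsupp.add_apply, Nat.Prime.factorization_pow (by norm_num), Finsupp.single_eq_same,
      Nat.factorization_eq_zero_of_not_dvd (by norm_num)]
  have h81 : ¬ 81 ∣ n := fun h => by
    haveI : Fact (Nat.Prime 3) := ⟨by norm_num⟩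
    refine hS.not_full (p := 3) (v := 4) ?_ (by norm_num) (hprod ▸ Dvd.dvd.mul_left h 55)
    rw [show (39916800 : ℕ) = 3 ^ 4 * 492800 by norm_num, Nat.factorization_mul (by norm_num) (by norm_num),
      Finsupp.add_apply, Nat.Prime.factorization_pow (by norm_num), Finsupp.single_eq_same,
      Nat.factorization_eq_zero_of_not_dvd (by norm_num)]
  have hn' : n ∣ 2 ^ 8 * 3 ^ 4 := by
    have hc : Nat.Coprime n 35 := by
      rw [show 35 = 5 * 7 from rfl, Nat.coprime_mul_iff_right]
      exact ⟨((Nat.Prime.coprime_iff_not_dvd (by norm_num)).2 h5).symm,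
        ((Nat.Prime.coprime_iff_not_dvd (by norm_num)).2 h7).symm⟩
    exact hc.dvd_of_dvd_mul_right (show n ∣ 2 ^ 8 * 3 ^ 4 * 35 from hnd)
  obtain ⟨n1, n2, hn1, hn2, hn12⟩ := Nat.dvd_mul.1 hn'
  obtain ⟨x, hx, rfl⟩ := (Nat.dvd_prime_pow Nat.prime_two).1 hn1
  obtain ⟨y, hy, rfl⟩ := (Nat.dvd_prime_pow Nat.prime_three).1 hn2
  have hxlt : x < 8 := by
    by_contra h
    exact h256 (hn12 ▸ Dvd.dvd.mul_right (show 256 ∣ 2 ^ x from pow_dvd_pow 2 (by omega : 8 ≤ x)) _)
  have hylt : y < 4 := by
    by_contra h
    exact h81 (hn12 ▸ Dvd.dvd.mul_left (show 81 ∣ 3 ^ y from pow_dvd_pow 3 (by omega : 4 ≤ y)) _)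
  have hcases : n = 1 ∨ n = 12 ∨ n = 144 ∨ n = 1728 := by
    rw [← hn12] at hn11 ⊢
    interval_cases x <;> interval_cases y <;> first | (norm_num at hn11; done) | norm_num
  rcases hcases with e | e | e | e <;> rw [e] at hprod
  · -- the Sylow subgroup is normal
    exfalso
    have hnorm : (P : Subgroup G).Normal :=
      Subgroup.normalizer_eq_top_iff.1 (Subgroup.eq_top_of_card_eq _ (by rw [hN55 P]; omega))
    haveI : IsCyclic (P : Subgroup G) := isCyclic_of_prime_card (hPcard P)
    have h5' : Nat.card (G ⧸ (P : Subgroup G)) = 5 := by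
      have h1 := (P : Subgroup G).card_mul_index
      rw [hPcard P] at h1
      rw [← Subgroup.index_eq_card]
      omega
    haveI : Fact (Nat.Prime 5) := ⟨by norm_num⟩
    haveI : IsCyclic (G ⧸ (P : Subgroup G)) := isCyclic_of_prime_card h5'
    haveI : Group.IsSolvable (G ⧸ (P : Subgroup G)) := Group.isSolvable_of_comm fun u v =>
      (IsCyclic.isMulCommutative (α := G ⧸ (P : Subgroup G))).is_comm.comm u v
    haveI : Group.IsSolvable (P : Subgroup G) := Group.isSolvable_of_comm fun u v =>
      (IsCyclic.isMulCommutative (α := (P : Subgroup G))).is_comm.comm u v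
    exact hns (Group.isSolvable_of_ker_le_range (P : Subgroup G).subtype (QuotientGroup.mk' (P : Subgroup G))
      (by rw [QuotientGroup.ker_mk', Subgroup.range_subtype]))
  · left; omega
  · right; omega
  · exfalso
    exact hS.sylow_three_card_le (fun x hx hox => hS.three_support (Or.inl (by rw [← hprod]; norm_num)) hx hox)
      (by rw [← hprod]; norm_num)

/-- The group of order 660 is simple and is `PSL(2, 11)`. -/
theorem Setting.iso_psl (hS : Setting G) (hsgn : ∀ g ∈ G, Perm.sign g = 1) (hns : ¬ Group.IsSolvable G)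
    (hcard : Nat.card G = 660) :
    Nonempty (G ≃* Matrix.ProjectiveSpecialLinearGroup (Fin 2) (ZMod 11)) := by
  classical
  haveI : Fact (Nat.Prime 11) := ⟨by norm_num⟩
  obtain ⟨-, hN55⟩ := hS.card_eq hsgn hns
  have hsyl : Nat.card (Sylow 11 G) = 12 := by
    obtain ⟨P⟩ := (inferInstance : Nonempty (Sylow 11 G))
    have h := (Subgroup.normalizer ((P : Subgroup G) : Set G)).card_mul_index
    rw [hN55 P, hcard] at h
    rw [P.card_eq_index_normalizer]
    refine Nat.eq_of_mul_eq_mul_left (show 0 < 55 by norm_num) (Eq.trans ?_ (show 660 = 55 * 12 by norm_num))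
    exact h
  haveI : Nontrivial G := Finite.one_lt_card_iff_nontrivial.1 (by rw [hcard]; norm_num)
  haveI hsimple : IsSimpleGroup G := ⟨fun M hM => ?_⟩
  · refine CfsgLib.Perm.PrimeProjective.exists_iso (p := 11) (d := 5) (by norm_num) (by norm_num)
      (by rw [hcard]) (by rw [hsyl]) (ν := 2) (by norm_num) (by norm_num) (by decide +kernel)
      (ZMod.card 11)
  haveI := hM
  refine or_iff_not_imp_left.2 fun hM1 => ?_
  haveI := hS.prim
  have htrans : ∀ (K : Subgroup G) [K.Normal], K ≠ ⊥ → 11 ∣ Nat.card K := by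
    intro K _ hK
    haveI := CfsgLib.Perm.Jordan.isPretransitive_of_normal (G := G) (X := α) (N := K) hK
    obtain ⟨a⟩ : Nonempty α := Fintype.card_pos_iff.1 (by rw [hS.card]; norm_num)
    have h1 := Nat.card_congr (MulAction.orbitProdStabilizerEquivGroup K a)
    rw [Nat.card_prod, MulAction.orbit_eq_univ, Nat.card_univ, Nat.card_eq_fintype_card (α := α), hS.card] at h1
    exact ⟨_, h1.symm⟩
  have h11 := htrans M hM1
  -- `M` contains every Sylow subgroup for eleven
  have hPM : ∀ P : Sylow 11 G, (P : Subgroup G) ≤ M := by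
    obtain ⟨g, hg⟩ := exists_prime_orderOf_dvd_card' (G := M) 11 h11
    rw [← Subgroup.orderOf_coe] at hg
    obtain ⟨Q, hQ⟩ := (IsPGroup.of_card (n := 1) (by rw [pow_one, Nat.card_zpowers, hg]) :
      IsPGroup 11 (Subgroup.zpowers (g : G))).exists_le_sylow
    have hQcard : Nat.card (Q : Subgroup G) = 11 := by
      rw [CfsgLib.Perm.sylow_card_eq Q (k := 1) (m := 60) (by rw [hcard]; norm_num) (by norm_num), pow_one]
    have hQM : (Q : Subgroup G) ≤ M := by
      rw [← Subgroup.eq_of_le_of_card_ge hQ (by rw [Nat.card_zpowers, hg, hQcard])]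
      exact Subgroup.zpowers_le.2 g.2
    intro P
    obtain ⟨k, hk⟩ := MulAction.exists_smul_eq G Q P
    rw [← hk, Sylow.coe_subgroup_smul]
    intro y hy
    obtain ⟨z, hz, rfl⟩ := Subgroup.mem_map.1 hy
    exact hM.conj_mem z (hQM hz) k
  obtain ⟨P⟩ := (inferInstance : Nonempty (Sylow 11 G))
  have hPcard : Nat.card (P : Subgroup G) = 11 := by
    rw [CfsgLib.Perm.sylow_card_eq P (k := 1) (m := 60) (by rw [hcard]; norm_num) (by norm_num), pow_one]
  have hnM : Nat.card (Sylow 11 M) = 12 := by
    rw [← hsyl]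
    refine le_antisymm ?_ ?_
    · have hex : ∀ T : Sylow 11 M, ∃ Q : Sylow 11 G, (T : Subgroup M).map M.subtype = Q := fun T => by
        obtain ⟨Q, hQ⟩ := (T.isPGroup'.map M.subtype).exists_le_sylow
        refine ⟨Q, Subgroup.eq_of_le_of_card_ge hQ ?_⟩
        rw [Subgroup.card_map_of_injective M.subtype_injective,
          CfsgLib.Perm.sylow_card_eq Q (k := 1) (m := 60) (by rw [hcard]; norm_num) (by norm_num), pow_one]
        obtain ⟨k, hk⟩ := T.isPGroup'.exists_card_eq
        rcases Nat.eq_zero_or_pos k with rfl | hk0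
        · exact absurd hk (fun h => (Sylow.ne_bot_of_dvd_card T h11) (Subgroup.card_eq_one.1 (h.trans (pow_zero _))))
        · rw [hk]; exact Nat.le_self_pow hk0.ne' 11
      choose F hF using hex
      exact Nat.card_le_card_of_injective F fun T T' h => Sylow.ext
        (Subgroup.map_injective M.subtype_injective (by rw [hF, hF, h]))
    refine Nat.card_le_card_of_injective (fun Q : Sylow 11 G => Q.subtype (hPM Q)) fun Q Q' h => ?_
    exact Sylow.ext (by
      have := congrArg (fun R : Sylow 11 M => (R : Subgroup M).map M.subtype) h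
      simpa [Sylow.coe_subtype, Subgroup.map_subgroupOf_eq_of_le, hPM Q, hPM Q'] using this)
  let R : Sylow 11 M := P.subtype (hPM P)
  have hRcard : Nat.card (R : Subgroup M) = 11 := by
    rw [Sylow.coe_subtype, Nat.card_congr (Subgroup.subgroupOfEquivOfLe (hPM P)).toEquiv, hPcard]
  have hidx : Nat.card (Subgroup.normalizer ((R : Subgroup M) : Set M)) * 12 = Nat.card M := by
    rw [← hnM, R.card_eq_index_normalizer]
    exact Subgroup.card_mul_index _
  have hRN : Nat.card (R : Subgroup M) ∣ Nat.card (Subgroup.normalizer ((R : Subgroup M) : Set M)) :=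
    Subgroup.card_dvd_of_le Subgroup.le_normalizer
  rw [hRcard] at hRN
  obtain ⟨e, he⟩ := hRN
  have hMG := Subgroup.card_subgroup_dvd_card M
  rw [hcard, ← hidx, he] at hMG
  have he5 : e ∣ 5 := Nat.dvd_of_mul_dvd_mul_left (show 0 < 132 by norm_num)
    (by rw [show 132 * e = 11 * e * 12 by ring]; exact hMG)
  rcases (Nat.dvd_prime Nat.prime_five).1 he5 with rfl | rfl
  swap
  · exact Subgroup.eq_top_of_card_eq M (by rw [hcard, ← hidx, he])
  exfalso
  haveI : IsCyclic (R : Subgroup M) := isCyclic_of_prime_card hRcard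
  have hRN' : (R : Subgroup M) = Subgroup.normalizer ((R : Subgroup M) : Set M) :=
    Subgroup.eq_of_le_of_card_ge Subgroup.le_normalizer (by rw [he, hRcard])
  have hle : Subgroup.normalizer ((R : Subgroup M) : Set M) ≤ Subgroup.centralizer ((R : Subgroup M) : Set M) :=
    hRN' ▸ Subgroup.le_centralizer (R : Subgroup M)
  have hcompl := MonoidHom.ker_transferSylow_isComplement' R hle
  set K := (MonoidHom.transferSylow R hle).ker
  have hKcard : Nat.card K = 12 := by
    have h := hcompl.card_mul_card
    rw [hRcard, ← hidx, he] at h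
    omega
  have hKiff : ∀ x : M, x ∈ K ↔ x ^ 12 = 1 := by
    intro x
    refine ⟨fun hx => ?_, fun hx => ?_⟩
    · exact orderOf_dvd_iff_pow_eq_one.1 (hKcard ▸ Subgroup.orderOf_dvd_natCard K hx)
    · rw [MonoidHom.mem_ker, ← orderOf_eq_one_iff]
      refine Nat.eq_one_of_dvd_coprimes (show Nat.Coprime 12 11 by norm_num) ?_ ?_
      · exact orderOf_dvd_of_pow_eq_one (by rw [← map_pow, hx, map_one])
      · exact (orderOf_dvd_natCard _).trans (dvd_of_eq hRcard)
  haveI : (K.map M.subtype).Normal := ⟨by
    rintro _ ⟨x, hx, rfl⟩ g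
    refine ⟨⟨g * x * g⁻¹, hM.conj_mem _ x.2 g⟩, (hKiff _).2 (Subtype.ext ?_), rfl⟩
    rw [Subgroup.coe_pow]
    show (g * (x : G) * g⁻¹) ^ 12 = 1
    rw [conj_pow, show (x : G) ^ 12 = 1 by rw [← Subgroup.coe_pow, (hKiff x).1 hx, Subgroup.coe_one],
      mul_one, mul_inv_cancel]⟩
  have h := htrans (K.map M.subtype) (by
    intro hb
    have := Subgroup.card_map_of_injective (K := K) (f := M.subtype) M.subtype_injective
    rw [hb, Subgroup.card_bot, hKcard] at this
    omega)
  rw [Subgroup.card_map_of_injective (f := M.subtype) M.subtype_injective, hKcard] at h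
  omega

theorem Setting.even_part (hS : Setting G) (G0 : Subgroup (Perm α)) (h0 : G0 ≤ G)
    (h2 : IsMultiplyPretransitive G0 α 2) : Setting G0 :=
  ⟨hS.card, h2, fun h => hS.notA (h.trans h0)⟩

set_option maxHeartbeats 1000000 in
/-- There are no odd permutations. -/
theorem Setting.no_odd (hS : Setting G) (G0 : Subgroup (Perm α)) (h0 : G0 ≤ G)
    (hmem : ∀ g ∈ G, Perm.sign g = 1 → g ∈ G0) (hsgn : ∀ g ∈ G0, Perm.sign g = 1)
    (h2 : IsMultiplyPretransitive G0 α 2) (hns : ¬ Group.IsSolvable G0)
    (hindex : Nat.card G = 2 * Nat.card G0) : False := by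
  classical
  have hS0 := hS.even_part G0 h0 h2
  obtain ⟨hcard, -⟩ := hS0.card_eq hsgn hns
  have hodd_of : ∀ g ∈ G, g ∉ G0 → Perm.sign g = -1 := fun g hg hg0 =>
    (Int.units_eq_one_or (Perm.sign g)).resolve_left fun h => hg0 (hmem g hg h)
  rcases hcard with hc | hc
  · -- order 1320: an odd involution fixing five points
    obtain ⟨a, b, hab⟩ := Fintype.exists_pair_of_one_lt_card (α := α) (by rw [hS.card]; norm_num)
    obtain ⟨e, he0, he1⟩ := exists_pair hab
    have h12 : Nat.card (stabilizer G e) = 12 := by have := hS.card_pair_stab e; omega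
    have hst0 : ∀ e : Fin 2 ↪ α, Nat.card (stabilizer G0 e) = 6 := fun e => by
      have := hS0.card_pair_stab e; omega
    haveI : Fact (Nat.Prime 2) := ⟨Nat.prime_two⟩
    obtain ⟨R, hR⟩ := Sylow.exists_subgroup_card_pow_prime (G := stabilizer G e) 2 (n := 2)
      (by rw [h12]; norm_num)
    obtain ⟨z, hzR, hz0⟩ : ∃ z : stabilizer G e, z ∈ R ∧ ((z : G) : Perm α) ∉ G0 := by
      by_contra hcon
      push Not at hcon
      let ρ : R →* stabilizer G0 e :=
        { toFun := fun z => ⟨⟨(((z : stabilizer G e) : G) : Perm α), hcon _ z.2⟩,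
            (mem_stab_iff G0).2 fun i => (mem_stab_iff G).1 (z : stabilizer G e).2 i⟩
          map_one' := rfl
          map_mul' := fun _ _ => rfl }
      have := Subgroup.card_dvd_of_injective ρ (fun z z' h => Subtype.ext (Subtype.ext (Subtype.ext
        (congrArg (fun w : stabilizer G0 e => ((w : G0) : Perm α)) h))))
      rw [hR, hst0 e] at this
      omega
    set u : Perm α := ((z : G) : Perm α) with hu
    have huG : u ∈ G := (z : G).2
    have hua : u a = a := by have := (mem_stab_iff G).1 z.2 0; rwa [he0] at this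
    have hub : u b = b := by have := (mem_stab_iff G).1 z.2 1; rwa [he1] at this
    have hu4 : orderOf u ∣ 4 := by
      rw [hu, Subgroup.orderOf_coe, Subgroup.orderOf_coe]
      exact (Subgroup.orderOf_dvd_natCard R hzR).trans (by rw [hR]; norm_num)
    have hus := hodd_of u huG hz0
    obtain ⟨w, hwG, hwo, hws, hw6⟩ : ∃ w ∈ G, orderOf w = 2 ∧ Perm.sign w = -1 ∧ w.support.card = 6 := by
      obtain ⟨i, hi, hi'⟩ := (Nat.dvd_prime_pow Nat.prime_two (m := 2)).1 hu4
      interval_cases i
      · exfalso
        rw [pow_zero, orderOf_eq_one_iff] at hi'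
        rw [hi', map_one] at hus
        exact absurd hus (by decide)
      · refine ⟨u, huG, by rw [hi', pow_one], hus, ?_⟩
        obtain ⟨k, hk⟩ := Perm.cycleType_prime_order (σ := u) (by rw [hi', pow_one]; exact Nat.prime_two)
        have hs6 := hS.two_support huG (by rw [hi', pow_one])
        have hle : u.support.card + 2 ≤ 11 := by
          have := fixed_card hS.card u
          have h2' : ({a, b} : Finset α).card ≤ (Finset.univ.filter fun c => u c = c).card :=
            Finset.card_le_card fun c hc => Finset.mem_filter.2 ⟨Finset.mem_univ _, by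
              simp only [Finset.mem_insert, Finset.mem_singleton] at hc
              rcases hc with rfl | rfl <;> assumption⟩
          rw [Finset.card_pair hab] at h2'
          omega
        have hsum : u.support.card = (k + 1) * 2 := by
          rw [← Perm.sum_cycleType, hk, Multiset.sum_replicate, smul_eq_mul, hi', pow_one]
        rw [hi', pow_one] at hk
        rw [Perm.sign_of_cycleType, hk, Multiset.sum_replicate, Multiset.card_replicate, smul_eq_mul] at hus
        have : k = 1 ∨ k = 2 ∨ k = 3 := by omega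
        rcases this with rfl | rfl | rfl
        · exact absurd hus (by decide)
        · omega
        · exact absurd hus (by decide)
      · exfalso
        have hsq0 : u ^ 2 ∈ G0 := hmem _ (G.pow_mem huG 2) (by rw [map_pow, hus]; rfl)
        have ho2 : orderOf (u ^ 2) = 2 := by rw [orderOf_pow' _ two_ne_zero, hi']; rfl
        obtain ⟨j, hj⟩ := sign_even_support ho2 (hsgn _ hsq0)
        have hne4 := hS0.no_double_transposition (Or.inl hc) hsq0 ho2
        have hsup := hS0.two_support hsq0 ho2
        have hfc := fixed_card hS.card (u ^ 2)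
        set F := Finset.univ.filter fun c => (u ^ 2) c = c with hF
        -- `u` fixes the three fixed points of its square
        have hFfix : ∀ c ∈ F, u c = c := by
          intro c hc
          by_contra hne
          have hc2 : u (u c) = c := by
            have := (Finset.mem_filter.1 hc).2
            rwa [pow_two, Perm.mul_apply] at this
          have hsub : ({a, b, c, u c} : Finset α) ⊆ F := by
            intro d hd
            simp only [Finset.mem_insert, Finset.mem_singleton] at hd
            refine Finset.mem_filter.2 ⟨Finset.mem_univ _, ?_⟩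
            rw [pow_two, Perm.mul_apply]
            rcases hd with rfl | rfl | rfl | rfl
            · rw [hua, hua]
            · rw [hub, hub]
            · exact hc2
            · rw [hc2]
          have hca : c ≠ a := fun h => hne (h ▸ hua)
          have hcb : c ≠ b := fun h => hne (h ▸ hub)
          have hua' : u c ≠ a := fun h => hca (u.injective (h.trans hua.symm))
          have hub' : u c ≠ b := fun h => hcb (u.injective (h.trans hub.symm))
          have h4 : ({a, b, c, u c} : Finset α).card = 4 := by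
            rw [Finset.card_insert_of_notMem, Finset.card_insert_of_notMem, Finset.card_pair (Ne.symm hne)]
            · simp only [Finset.mem_insert, Finset.mem_singleton, not_or]
              exact ⟨hcb.symm, hub'.symm⟩
            · simp only [Finset.mem_insert, Finset.mem_singleton, not_or]
              exact ⟨hab, hca.symm, hua'.symm⟩
          have := Finset.card_le_card hsub
          omega
        have hsupp : u.support = (u ^ 2).support := by
          refine le_antisymm (fun c hc => ?_) (Perm.support_pow_le u 2)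
          rw [Perm.mem_support] at hc ⊢
          exact fun h => hc (hFfix c (Finset.mem_filter.2 ⟨Finset.mem_univ _, h⟩))
        have hall : ∀ l ∈ u.cycleType, l = 4 := by
          intro l hl
          have hdvd := Perm.dvd_of_mem_cycleType hl
          rw [hi'] at hdvd
          have h2le := Perm.two_le_of_mem_cycleType hl
          rcases (Nat.dvd_prime_pow Nat.prime_two (m := 2)).1 hdvd with ⟨i, hi2, rfl⟩
          interval_cases i
          · omega
          · exfalso
            obtain ⟨σ, τ, he, hd, hσc, hσl⟩ := Perm.mem_cycleType_iff.1 hl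
            obtain ⟨c, hc⟩ : σ.support.Nonempty := Finset.card_pos.1 (by omega)
            have hσ2 : σ ^ 2 = 1 := by
              rw [show 2 = orderOf σ by rw [hσc.orderOf, hσl]; rfl, pow_orderOf_eq_one]
            have hcu : c ∈ u.support := by
              rw [he, hd.support_mul]; exact Finset.mem_union_left _ hc
            rw [hsupp, Perm.mem_support] at hcu
            apply hcu
            rw [he, hd.commute.mul_pow, hσ2, one_mul]
            exact Perm.pow_apply_eq_self_of_apply_eq_self ((hd c).resolve_left (Perm.mem_support.1 hc)) 2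
          · rfl
        rw [Perm.sign_of_cycleType, Perm.sum_cycleType, hsupp] at hus
        have hrep := Multiset.eq_replicate.2 ⟨rfl, hall⟩
        have hsum : u.support.card = Multiset.card u.cycleType * 4 := by
          rw [← Perm.sum_cycleType]
          nth_rewrite 1 [hrep]
          rw [Multiset.sum_replicate, smul_eq_mul]
        rw [hsupp] at hsum
        rw [show (u ^ 2).support.card = 8 by omega, show Multiset.card u.cycleType = 2 by omega] at hus
        exact absurd hus (by decide)
    -- count its conjugates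
    set C : Subgroup (Perm α) := G ⊓ Subgroup.centralizer {w} with hC
    have hw1 : w ≠ 1 := fun h => by rw [h, orderOf_one] at hwo; omega
    have hc55 := hS.coprime_centralizer hw1 (by rw [hw6]; norm_num) (by rw [hw6]; norm_num)
    have hdiv : Nat.card C ∣ Nat.card G := Subgroup.card_dvd_of_le inf_le_left
    rw [hindex, hc] at hdiv
    have hC24 : Nat.card C ≤ 24 :=
      Nat.le_of_dvd (by norm_num) (hc55.dvd_of_dvd_mul_right (m := 24) (show Nat.card C ∣ 24 * 55 from hdiv))
    obtain ⟨S, hSmem, hScard⟩ := exists_class G hwG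
    have hScard' := hScard.trans (Nat.mul_le_mul_right _ hC24)
    rw [hindex, hc] at hScard'
    have hs : ∀ e : Fin 2 ↪ α, (S.filter fun g => ∀ i, g (e i) = e i).card ≤ 6 := by
      intro e
      rcases (S.filter fun g => ∀ i, g (e i) = e i).eq_empty_or_nonempty with h | ⟨g0, hg0⟩
      · rw [h]; simp
      obtain ⟨hg0S, hg0e⟩ := Finset.mem_filter.1 hg0
      rw [← hst0 e, ← Fintype.card_coe, ← Nat.card_eq_fintype_card]
      refine Nat.card_le_card_of_injective (fun g => (⟨⟨(g : Perm α) * g0, hmem _
        (G.mul_mem (hSmem _ (Finset.mem_filter.1 g.2).1).1 (hSmem _ hg0S).1) (by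
          rw [map_mul, (hSmem _ (Finset.mem_filter.1 g.2).1).2.2, (hSmem _ hg0S).2.2, hws]; rfl)⟩,
        (mem_stab_iff G0).2 fun i => by
          show (g : Perm α) (g0 (e i)) = e i
          rw [hg0e i, (Finset.mem_filter.1 g.2).2 i]⟩ : stabilizer G0 e)) fun a b h => ?_
      exact Subtype.ext (mul_right_cancel (congrArg (fun z : stabilizer G0 e => ((z : G0) : Perm α)) h))
    have hcount := card_mul_le 2 5 6 S (fun g hg => by
      have := fixed_card hS.card g
      have := (hSmem g hg).2.1
      omega) hs
    rw [hS.card, show (11 : ℕ).descFactorial 2 = 110 from rfl, show (5 : ℕ).descFactorial 2 = 20 from rfl] at hcount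
    omega
  · -- order 15840
    obtain ⟨h4, -⟩ := hS0.four_transitive hsgn hc
    have h4G : ∀ e e' : Fin 4 ↪ α, ∃ g : G, g • e = e' := fun e e' => by
      obtain ⟨g, hg⟩ := h4.exists_smul_eq e e'
      exact ⟨⟨g, h0 g.2⟩, hg⟩
    have h4' : IsMultiplyPretransitive G α 4 := (MulAction.isPretransitive_iff G (Fin 4 ↪ α)).2 h4G
    have hst : ∀ e : Fin 4 ↪ α, Nat.card (stabilizer G e) = 2 := by
      intro e
      have := card_tuple_stab G h4' e
      rw [hindex, hc, hS.card, show (11 : ℕ).descFactorial 4 = 7920 from by decide] at this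
      omega
    haveI : Fact (Nat.Prime 2) := ⟨Nat.prime_two⟩
    obtain ⟨e⟩ : Nonempty (Fin 4 ↪ α) := Function.Embedding.nonempty_of_card_le (by rw [Fintype.card_fin, hS.card]; norm_num)
    obtain ⟨z, hz⟩ := exists_prime_orderOf_dvd_card' (G := stabilizer G e) 2 (by rw [hst])
    rw [← Subgroup.orderOf_coe, ← Subgroup.orderOf_coe] at hz
    set w : Perm α := ((z : G) : Perm α) with hw
    have hwG : w ∈ G := (z : G).2
    have hw0 : w ∉ G0 := by
      intro h
      have hb := (hS0.four_transitive hsgn hc).2 e
      have : (⟨w, h⟩ : G0) ∈ stabilizer G0 e := (mem_stab_iff G0).2 ((mem_stab_iff G).1 z.2)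
      rw [hb, Subgroup.mem_bot] at this
      rw [show w = 1 from congrArg Subtype.val this, orderOf_one] at hz
      omega
    have hfix : 4 ≤ (Finset.univ.filter fun c => w c = c).card := by
      have := Finset.card_le_card (show Finset.univ.image e ⊆ Finset.univ.filter fun c => w c = c from
        fun c hc' => by
          obtain ⟨i, -, rfl⟩ := Finset.mem_image.1 hc'
          exact Finset.mem_filter.2 ⟨Finset.mem_univ _, (mem_stab_iff G).1 z.2 i⟩)
      rwa [Finset.card_image_of_injective _ e.injective, Finset.card_univ, Fintype.card_fin] at this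
    have hfc := fixed_card hS.card w
    have hw6 : w.support.card = 6 := by
      have h4' := hS.two_support hwG hz
      rcases h4' with h | h | h | h
      · exfalso
        have hsw := hodd_of w hwG hw0
        obtain ⟨k, hk⟩ := Perm.cycleType_prime_order (σ := w) (by rw [hz]; exact Nat.prime_two)
        rw [hz] at hk
        rw [← Perm.sum_cycleType, hk, Multiset.sum_replicate, smul_eq_mul] at h
        rw [Perm.sign_of_cycleType, hk, Multiset.sum_replicate, Multiset.card_replicate, smul_eq_mul,
          show k + 1 = 2 by omega] at hsw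
        exact absurd hsw (by decide)
      · exact h
      · omega
      · omega
    refine hS.false_of_transitive_fixed hw6 (G ⊓ Subgroup.centralizer {w}) inf_le_left ?_ ?_ ?_
    · intro g hg c hc'
      have e : g * w = w * g := Subgroup.mem_centralizer_singleton_iff.1 hg.2
      rw [← Perm.mul_apply, ← e, Perm.mul_apply, hc']
    · intro c d hc' hd hcd
      set F := Finset.univ.filter fun c => w c = c with hF
      have hmF : ∀ q, w q = q → q ∈ F := fun q hq => Finset.mem_filter.2 ⟨Finset.mem_univ _, hq⟩
      obtain ⟨p, hp, q, hq, hpq⟩ := Finset.one_lt_card.1 (show 1 < ((F.erase c).erase d).card by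
        rw [Finset.card_erase_of_mem (Finset.mem_erase.2 ⟨hcd.symm, hmF d hd⟩), Finset.card_erase_of_mem (hmF c hc')]
        omega)
      simp only [Finset.mem_erase, hF, Finset.mem_filter, Finset.mem_univ, true_and] at hp hq
      have hinj : Function.Injective ![c, d, p, q] :=
        injective_four hcd hp.2.1.symm hq.2.1.symm hp.1.symm hq.1.symm hpq
      have hinj' : Function.Injective ![d, c, p, q] :=
        injective_four hcd.symm hp.1.symm hq.1.symm hp.2.1.symm hq.2.1.symm hpq
      obtain ⟨g, hg⟩ := h4G ⟨_, hinj⟩ ⟨_, hinj'⟩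
      have hgi : ∀ i, (g : Perm α) (![c, d, p, q] i) = ![d, c, p, q] i := fun i => smul_emb_apply G hg i
      refine ⟨g, ⟨g.2, ?_⟩, hgi 0⟩
      set y : G := g * ⟨w, hwG⟩ * g⁻¹ with hy
      have hwe' : ∀ i, w (![d, c, p, q] i) = ![d, c, p, q] i := fun i => by
        fin_cases i <;> simp [hd, hc', hp.2.2, hq.2.2]
      have hye : y ∈ stabilizer G (⟨_, hinj'⟩ : Fin 4 ↪ α) := (mem_stab_iff G).2 fun i => by
        show (g : Perm α) (w ((g : Perm α)⁻¹ (![d, c, p, q] i))) = ![d, c, p, q] i
        have hwe : w (![c, d, p, q] i) = ![c, d, p, q] i := by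
          fin_cases i <;> simp [hd, hc', hp.2.2, hq.2.2]
        rw [← hgi i, Perm.coe_inv, Equiv.symm_apply_apply, hwe]
      have h2' : ((⟨⟨w, hwG⟩, (mem_stab_iff G).2 hwe'⟩ : stabilizer G (⟨_, hinj'⟩ : Fin 4 ↪ α))) = ⟨y, hye⟩ := by
        obtain ⟨x0, y0, hxy, huniv⟩ := Nat.card_eq_two_iff.1 (hst (⟨_, hinj'⟩ : Fin 4 ↪ α))
        have hne1 : ∀ v : stabilizer G (⟨_, hinj'⟩ : Fin 4 ↪ α), v ≠ 1 → v = x0 ∧ (1 : stabilizer G (⟨_, hinj'⟩ : Fin 4 ↪ α)) = y0 ∨
            v = y0 ∧ (1 : stabilizer G (⟨_, hinj'⟩ : Fin 4 ↪ α)) = x0 := by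
          intro v hv
          have h1 := huniv.symm ▸ Set.mem_univ v
          have h2 := huniv.symm ▸ Set.mem_univ (1 : stabilizer G (⟨_, hinj'⟩ : Fin 4 ↪ α))
          simp only [Set.mem_insert_iff, Set.mem_singleton_iff] at h1 h2
          rcases h1 with h1 | h1 <;> rcases h2 with h2 | h2
          · exact absurd (h1.trans h2.symm) hv
          · exact Or.inl ⟨h1, h2⟩
          · exact Or.inr ⟨h1, h2⟩
          · exact absurd (h1.trans h2.symm) hv
        have hw1 : w ≠ 1 := fun h => by rw [h, orderOf_one] at hz; omega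
        rcases hne1 ⟨⟨w, hwG⟩, (mem_stab_iff G).2 hwe'⟩ (fun h => hw1
            (congrArg (fun v : stabilizer G (⟨_, hinj'⟩ : Fin 4 ↪ α) => ((v : G) : Perm α)) h)) with ⟨h1, h1'⟩ | ⟨h1, h1'⟩ <;>
          rcases hne1 ⟨y, hye⟩ (fun h => hw1 (congrArg Subtype.val (conj_eq_one_iff.1
            (congrArg Subtype.val h)))) with ⟨h2, h2'⟩ | ⟨h2, h2'⟩
        · rw [h1, h2]
        · exact absurd (h2'.symm.trans h1') hxy
        · exact absurd (h1'.symm.trans h2') hxy
        · rw [h1, h2]
      have e1 : w = (g : Perm α) * w * (g : Perm α)⁻¹ := congrArg (fun v => (((v : stabilizer G (⟨_, hinj'⟩ : Fin 4 ↪ α)) : G) : Perm α)) h2'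
      refine Subgroup.mem_centralizer_singleton_iff.2 ?_
      nth_rewrite 2 [e1]
      group
    · intro g hg
      exact Commute.pow_left (Subgroup.mem_centralizer_singleton_iff.1 hg.2) 2

theorem classify (hα : Fintype.card α = 11) (G : Subgroup (Perm α)) [IsPretransitive G α]
    (hG : ¬ Group.IsSolvable G) (hA : ¬ alternatingGroup α ≤ G) :
    (IsMultiplyPretransitive G α 4 ∧ ∀ x : Fin 4 ↪ α, stabilizer G x = ⊥) ∨
      Nonempty (G ≃* Matrix.ProjectiveSpecialLinearGroup (Fin 2) (ZMod 11)) := by
  classical
  haveI : Fact (Nat.Prime 11) := ⟨by norm_num⟩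
  have key : ∀ (H : Subgroup (Perm α)) [IsPretransitive H α], ¬ Group.IsSolvable H →
      IsMultiplyPretransitive H α 2 := by
    intro H _ hH
    obtain ⟨e, σ, hσ⟩ := CfsgLib.Perm.PrimeDegree.exists_coords (p := 11) hα (G := H)
    rcases CfsgLib.Perm.PrimeNormalizer.affine_or_two_pretransitive (p := 11) (e := e) hσ with h | h
    · exact absurd (CfsgLib.Perm.PrimeDegree.isSolvable_of_affine _ (CfsgLib.Perm.PrimeNormalizer.coordHom_injective e) h) hH
    · exact h
  have hS : Setting G := ⟨hα, key G hG, hA⟩
  obtain ⟨G0, hG0⟩ : ∃ G0 : Subgroup (Perm α), G0 = G ⊓ alternatingGroup α := ⟨_, rfl⟩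
  have hle0 : G0 ≤ G := hG0 ▸ inf_le_left
  have hsgn : ∀ g ∈ G0, Perm.sign g = 1 := fun g hg => Perm.mem_alternatingGroup.1 (hG0 ▸ hg : g ∈ G ⊓ alternatingGroup α).2
  have hmem : ∀ g ∈ G, Perm.sign g = 1 → g ∈ G0 := fun g hg h => hG0 ▸ (⟨hg, Perm.mem_alternatingGroup.2 h⟩ : g ∈ G ⊓ alternatingGroup α)
  by_cases hall : ∀ g ∈ G, Perm.sign g = 1
  · obtain ⟨hcard | hcard, -⟩ := hS.card_eq hall hG
    · exact Or.inr (hS.iso_psl hall hG hcard)
    · exact Or.inl (hS.four_transitive hall hcard)
  exfalso
  push Not at hall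
  obtain ⟨g1, hg1, hg1s⟩ := hall
  let s : G →* ℤˣ := Perm.sign.comp G.subtype
  have hker : s.ker = G0.subgroupOf G := by
    ext g
    simp [s, hG0, Subgroup.mem_subgroupOf, Perm.mem_alternatingGroup]
  have hindex : Nat.card G = 2 * Nat.card G0 := by
    have hr : Nat.card s.range = 2 := by
      have : s.range = ⊤ := by
        rw [eq_top_iff]
        intro z _
        rcases Int.units_eq_one_or z with rfl | rfl
        · exact one_mem _
        · exact ⟨⟨g1, hg1⟩, (Int.units_eq_one_or _).resolve_left hg1s⟩
      rw [this, Subgroup.card_top, Nat.card_eq_fintype_card]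
      rfl
    have h1 := s.ker.card_mul_index
    rw [Subgroup.index_ker, hr, hker,
      Nat.card_congr (Subgroup.subgroupOfEquivOfLe hle0).toEquiv] at h1
    omega
  have hns : ¬ Group.IsSolvable G0 := fun h => hG
    (Group.isSolvable_of_ker_le_range (Subgroup.inclusion hle0) s (by
      rw [hker, Subgroup.inclusion_range]))
  have h11 : 11 ∣ Nat.card G := by
    obtain ⟨a, b, hab⟩ := Fintype.exists_pair_of_one_lt_card (α := α) (by rw [hα]; norm_num)
    obtain ⟨e, -, -⟩ := exists_pair hab
    rw [← hS.card_pair_stab e]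
    exact Dvd.dvd.mul_left (by norm_num) _
  obtain ⟨u, hu⟩ := exists_prime_orderOf_dvd_card' (G := G) 11 h11
  rw [← Subgroup.orderOf_coe] at hu
  have hu0 : (u : Perm α) ∈ G0 := hmem u u.2 (by
    rcases Int.units_eq_one_or (Perm.sign (u : Perm α)) with h | h
    · exact h
    · exfalso
      have := congrArg Perm.sign (pow_orderOf_eq_one (u : Perm α))
      rw [hu, map_pow, h, map_one] at this
      exact absurd this (by decide))
  haveI : IsPretransitive G0 α := by
    have hsup := hS.eleven u.2 hu
    refine ⟨fun c d => ?_⟩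
    obtain ⟨k, hk⟩ := Perm.cycleType_prime_order (σ := (u : Perm α)) (by rw [hu]; norm_num)
    have hcyc : (u : Perm α).IsCycle := by
      have h1 : (u : Perm α).support.card = (k + 1) * 11 := by
        rw [← Perm.sum_cycleType, hk, Multiset.sum_replicate, smul_eq_mul, hu]
      rw [← Perm.card_cycleType_eq_one, hk, Multiset.card_replicate]
      omega
    have hall : ∀ c, (u : Perm α) c ≠ c := fun c => Perm.mem_support.1
      (by rw [Finset.eq_univ_of_card (u : Perm α).support (hsup.trans hα.symm)]; exact Finset.mem_univ c)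
    obtain ⟨i, hi⟩ := hcyc.exists_zpow_eq (hall c) (hall d)
    exact ⟨⟨(u : Perm α) ^ i, G0.zpow_mem hu0 i⟩, hi⟩
  exact hS.no_odd G0 hle0 hmem hsgn (key G0 hns) hns hindex

end CfsgLib.Perm.DegreeEleven
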