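import Mathlib

/-!
Counting fixed points of a two-transitive group through its two-point stabilisers.
-/

set_option autoImplicit false
set_option linter.unusedSectionVars false

namespace CfsgLib.Perm.DerangeBound

open MulAction

variable (G Ω : Type*) [Group G] [MulAction G Ω]

/-- Transitivity on ordered pairs of distinct points. -/
def PairTrans : Prop := ∀ a b c d : Ω, a ≠ b → c ≠ d → ∃ g : G, g • a = c ∧ g • b = d

variable {G Ω} [Fintype G] [Fintype Ω]

/-- The fixed points of an element. -/
noncomputable def fx (g : G) : Finset Ω := by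
  classical exact Finset.univ.filter fun x => g • x = x

theorem mem_fx {g : G} {x : Ω} : x ∈ (fx g : Finset Ω) ↔ g • x = x := by simp [fx]

theorem fx_one : fx (1 : G) = (Finset.univ : Finset Ω) := by ext x; simp [mem_fx]

theorem card_fixedBy (g : G) : Nat.card (fixedBy Ω g) = (fx g : Finset Ω).card := by
  classical
  rw [Nat.card_eq_fintype_card, ← Set.toFinset_card]
  congr 1
  ext x
  simp [mem_fx, MulAction.mem_fixedBy]

theorem fx_conj (x g : G) : (fx (x * g * x⁻¹) : Finset Ω).card = (fx g : Finset Ω).card := by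
  classical
  refine (Finset.card_bij' (fun y _ => x • y) (fun y _ => x⁻¹ • y) ?_ ?_ ?_ ?_).symm
  · intro y hy
    rw [mem_fx] at hy ⊢
    simp [mul_smul, hy]
  · intro y hy
    rw [mem_fx] at hy ⊢
    have := congrArg (x⁻¹ • ·) hy
    simpa [mul_smul] using this
  · intro y _; simp
  · intro y _; simp

/-- The two point stabiliser, as a finite set. -/
noncomputable def stab (a b : Ω) : Finset G := by
  classical exact Finset.univ.filter fun g => g • a = a ∧ g • b = b

theorem mem_stab {a b : Ω} {g : G} : g ∈ stab a b ↔ g • a = a ∧ g • b = b := by simp [stab]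

theorem one_mem_stab (a b : Ω) : (1 : G) ∈ stab a b := by simp [mem_stab]

theorem sum_stab_conj {M : Type*} [AddCommMonoid M] (f : G → M)
    (hf : ∀ x g : G, f (x * g * x⁻¹) = f g) (h : PairTrans G Ω) {a b c d : Ω} (hab : a ≠ b)
    (hcd : c ≠ d) : ∑ g ∈ stab c d, f g = ∑ g ∈ stab a b, f g := by
  obtain ⟨x, hx, hy⟩ := h a b c d hab hcd
  subst hx hy
  refine (Finset.sum_bij' (fun g _ => x * g * x⁻¹) (fun g _ => x⁻¹ * g * x) ?_ ?_ ?_ ?_ ?_).symm
  · intro g hg
    rw [mem_stab] at hg ⊢
    simp [mul_smul, hg.1, hg.2]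
  · intro g hg
    rw [mem_stab] at hg ⊢
    simp [mul_smul, hg.1, hg.2]
  · intro g _; group
  · intro g _; group
  · intro g _; exact (hf x g).symm

theorem card_stab_conj (h : PairTrans G Ω) {a b c d : Ω} (hab : a ≠ b) (hcd : c ≠ d) :
    (stab c d : Finset G).card = (stab a b : Finset G).card := by
  simpa using sum_stab_conj (fun _ : G => (1 : ℕ)) (fun _ _ => rfl) h hab hcd

theorem sum_pairs {M : Type*} [AddCommMonoid M] (f : G → M) [DecidableEq Ω] :
    ∑ g : G, ∑ _p ∈ (fx g : Finset Ω).offDiag, f g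
      = ∑ p ∈ (Finset.univ : Finset Ω).offDiag, ∑ g ∈ stab p.1 p.2, f g := by
  refine Finset.sum_comm' fun g p => ?_
  simp only [Finset.mem_univ, true_and, Finset.mem_offDiag, mem_fx, mem_stab]
  tauto

theorem sum_pairs_eq {M : Type*} [AddCommMonoid M] (f : G → M)
    (hf : ∀ x g : G, f (x * g * x⁻¹) = f g) (h : PairTrans G Ω) {a b : Ω} (hab : a ≠ b) :
    ∑ g : G, ((fx g : Finset Ω).card * ((fx g : Finset Ω).card - 1)) • f g
      = (Fintype.card Ω * (Fintype.card Ω - 1)) • ∑ g ∈ stab a b, f g := by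
  classical
  have hcard : ∀ s : Finset Ω, s.offDiag.card = s.card * (s.card - 1) := fun s => by
    rw [Finset.offDiag_card, Nat.mul_sub, mul_one]
  have h1 := sum_pairs (Ω := Ω) f
  simp only [Finset.sum_const, hcard] at h1
  rw [h1, ← Finset.card_univ, ← hcard, ← Finset.sum_const]
  exact Finset.sum_congr rfl fun p hp =>
    sum_stab_conj f hf h hab (Finset.mem_offDiag.mp hp).2.2

end CfsgLib.Perm.DerangeBound
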