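import Cfsg.Agent.Lib.Perm.DerangeBoundBase

/-!
Lines (fixed-point sets of two-point stabilisers) of a two-transitive group, and the two general
lower bounds for the sum of the inverse fixed-point numbers over a two-point stabiliser.
-/

set_option autoImplicit false
set_option linter.unusedSectionVars false

namespace CfsgLib.Perm.DerangeBound

open MulAction

variable {G Ω : Type*} [Group G] [MulAction G Ω] [Fintype G] [Fintype Ω]

variable (G) in
/-- The points fixed by the stabiliser of two points. -/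
noncomputable def line (a b : Ω) : Finset Ω := by
  classical exact Finset.univ.filter fun x => ∀ g ∈ (stab a b : Finset G), g • x = x

theorem mem_line {a b x : Ω} : x ∈ line G a b ↔ ∀ g ∈ (stab a b : Finset G), g • x = x := by
  simp [line]

theorem left_mem_line (a b : Ω) : a ∈ line G a b :=
  mem_line.mpr fun _ hg => (mem_stab.mp hg).1

theorem right_mem_line (a b : Ω) : b ∈ line G a b :=
  mem_line.mpr fun _ hg => (mem_stab.mp hg).2

theorem smul_mem_line {g : G} {a b x : Ω} (hx : x ∈ line G a b) :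
    g • x ∈ line G (g • a) (g • b) := by
  refine mem_line.mpr fun u hu => ?_
  rw [mem_stab] at hu
  have hm : g⁻¹ * u * g ∈ (stab a b : Finset G) := by
    rw [mem_stab]; constructor <;> rw [mul_smul, mul_smul, inv_smul_eq_iff]
    exacts [hu.1, hu.2]
  have := mem_line.mp hx _ hm
  rwa [mul_smul, mul_smul, inv_smul_eq_iff] at this

theorem card_line_le (g : G) (a b : Ω) :
    (line G a b).card ≤ (line G (g • a) (g • b)).card :=
  Finset.card_le_card_of_injOn (fun x => g • x) (fun _ hx => smul_mem_line hx)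
    (MulAction.injective g).injOn

theorem card_line (h : PairTrans G Ω) {a b c d : Ω} (hab : a ≠ b) (hcd : c ≠ d) :
    (line G c d).card = (line G a b).card := by
  obtain ⟨g, hc, hd⟩ := h a b c d hab hcd
  refine le_antisymm ?_ ?_
  · have := card_line_le (G := G) g⁻¹ c d
    rwa [← hc, ← hd, inv_smul_smul, inv_smul_smul, hc, hd] at this
  · have := card_line_le (G := G) g a b
    rwa [hc, hd] at this

theorem stab_eq_of_mem (h : PairTrans G Ω) {a b c d : Ω} (hab : a ≠ b) (hcd : c ≠ d)
    (hc : c ∈ line G a b) (hd : d ∈ line G a b) : (stab c d : Finset G) = stab a b :=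
  (Finset.eq_of_subset_of_card_le
    (fun g hg => mem_stab.mpr ⟨mem_line.mp hc g hg, mem_line.mp hd g hg⟩)
    (card_stab_conj h hab hcd).le).symm

theorem line_eq_of_mem (h : PairTrans G Ω) {a b c d : Ω} (hab : a ≠ b) (hcd : c ≠ d)
    (hc : c ∈ line G a b) (hd : d ∈ line G a b) : line G c d = line G a b := by
  ext x
  rw [mem_line, mem_line, stab_eq_of_mem h hab hcd hc hd]

theorem line_fixed {g : G} {c d x : Ω} (hc : g • c = c) (hd : g • d = d) (hx : x ∈ line G c d) :
    g • x = x := mem_line.mp hx g (mem_stab.mpr ⟨hc, hd⟩)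

/-- A line through a moved point meets the fixed points at most once. -/
theorem eq_of_line_inter (h : PairTrans G Ω) {g : G} {x z p q : Ω} (hgx : g • x ≠ x)
    (hp : g • p = p) (hq : g • q = q) (hzx : z ≠ x) (hzp : z ∈ line G x p)
    (hzq : z ∈ line G x q) : p = q := by
  by_contra hpq
  have hxp : x ≠ p := fun e => hgx (e ▸ hp)
  have hxq : x ≠ q := fun e => hgx (e ▸ hq)
  have h1 := line_eq_of_mem h hxp hzx.symm (left_mem_line x p) hzp
  have h2 := line_eq_of_mem h hxq hzx.symm (left_mem_line x q) hzq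
  have hqp : q ∈ line G x p := by rw [← h1, h2]; exact right_mem_line x q
  have h3 := line_eq_of_mem h hxp hpq (right_mem_line x p) hqp
  exact hgx (line_fixed hp hq (h3 ▸ left_mem_line x p))

theorem lines_through (h : PairTrans G Ω) {a b x : Ω} (hab : a ≠ b) {g : G} (hgx : g • x ≠ x) :
    (fx g : Finset Ω).card * ((line G a b).card - 1) ≤ Fintype.card Ω - 1 ∧
      ((fx g : Finset Ω).card * ((line G a b).card - 1) = Fintype.card Ω - 1 →
        ∀ z : Ω, z ≠ x → ∃ p, g • p = p ∧ p ∈ line G x z) := by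
  classical
  have hdisj : Set.PairwiseDisjoint ((fx g : Finset Ω) : Set Ω)
      (fun p => (line G x p).erase x) := by
    intro p hp q hq hpq
    rw [Function.onFun, Finset.disjoint_left]
    intro z hz hz'
    rw [Finset.mem_erase] at hz hz'
    exact hpq (eq_of_line_inter h hgx (mem_fx.mp hp) (mem_fx.mp hq) hz.1 hz.2 hz'.2)
  have hc : ((fx g : Finset Ω).biUnion fun p => (line G x p).erase x).card
      = (fx g : Finset Ω).card * ((line G a b).card - 1) := by
    rw [Finset.card_biUnion hdisj, Finset.sum_eq_card_nsmul, smul_eq_mul]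
    intro p hp
    rw [Finset.card_erase_of_mem (left_mem_line x p),
      card_line h hab (fun e : x = p => hgx (e ▸ mem_fx.mp hp))]
  have hsub : ((fx g : Finset Ω).biUnion fun p => (line G x p).erase x)
      ⊆ Finset.univ.erase x := by
    intro z hz
    obtain ⟨p, -, hz⟩ := Finset.mem_biUnion.mp hz
    exact Finset.mem_erase.mpr ⟨(Finset.mem_erase.mp hz).1, Finset.mem_univ _⟩
  have hu : (Finset.univ.erase x).card = Fintype.card Ω - 1 := by
    rw [Finset.card_erase_of_mem (Finset.mem_univ x), Finset.card_univ]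
  refine ⟨hc ▸ hu ▸ Finset.card_le_card hsub, fun he z hz => ?_⟩
  have := Finset.eq_of_subset_of_card_le hsub (by rw [hc, hu, he])
  have hz' : z ∈ (fx g : Finset Ω).biUnion fun p => (line G x p).erase x := by
    rw [this]; exact Finset.mem_erase.mpr ⟨hz, Finset.mem_univ z⟩
  obtain ⟨p, hp, hzp⟩ := Finset.mem_biUnion.mp hz'
  refine ⟨p, mem_fx.mp hp, ?_⟩
  have hxp : x ≠ p := fun e => hgx (e ▸ mem_fx.mp hp)
  rw [line_eq_of_mem h hxp hz.symm (left_mem_line x p) (Finset.mem_erase.mp hzp).2]
  exact right_mem_line x p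

theorem exists_moved [FaithfulSMul G Ω] {g : G} (hg : g ≠ 1) : ∃ x : Ω, g • x ≠ x := by
  by_contra hne
  push Not at hne
  exact hg (eq_of_smul_eq_smul fun x : Ω => by rw [hne x, one_smul])

theorem card_fx_mul_le [FaithfulSMul G Ω] (h : PairTrans G Ω) {a b : Ω} (hab : a ≠ b) {g : G}
    (hg : g ≠ 1) : (fx g : Finset Ω).card * ((line G a b).card - 1) ≤ Fintype.card Ω - 1 := by
  obtain ⟨x, hx⟩ := exists_moved (Ω := Ω) hg
  exact (lines_through h hab hx).1

theorem card_group (h : PairTrans G Ω) {a b : Ω} (hab : a ≠ b) :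
    Fintype.card G = Fintype.card Ω * (Fintype.card Ω - 1) * (stab a b : Finset G).card := by
  classical
  have hm : Set.MapsTo (fun g : G => (g • a, g • b)) ((Finset.univ : Finset G) : Set G)
      ((Finset.univ : Finset Ω).offDiag : Set (Ω × Ω)) := fun g _ =>
    Finset.mem_coe.mpr <| Finset.mem_offDiag.mpr
      ⟨Finset.mem_univ _, Finset.mem_univ _, fun e => hab (MulAction.injective g e)⟩
  have hh := Finset.card_eq_sum_card_fiberwise hm
  rw [Finset.card_univ] at hh
  rw [hh, Finset.sum_eq_card_nsmul (b := (stab a b : Finset G).card), smul_eq_mul,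
    Finset.offDiag_card, Finset.card_univ, Nat.mul_sub, mul_one]
  rintro ⟨c, d⟩ hcd
  obtain ⟨u, hc, hd⟩ := h a b c d hab (Finset.mem_offDiag.mp hcd).2.2
  refine Finset.card_bij' (fun g _ => u⁻¹ * g) (fun g _ => u * g) ?_ ?_ ?_ ?_
  · intro g hg
    simp only [Finset.mem_filter, Finset.mem_univ, true_and, Prod.mk.injEq] at hg
    rw [mem_stab, mul_smul, mul_smul, hg.1, hg.2, inv_smul_eq_iff, inv_smul_eq_iff]
    exact ⟨hc.symm, hd.symm⟩
  · intro g hg
    rw [mem_stab] at hg
    simp [mul_smul, hg.1, hg.2, hc, hd]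
  · intro g _; simp
  · intro g _; simp

variable (G) in
/-- The sum of the degree over the number of fixed points, over a two point stabiliser. -/
noncomputable def invSum (a b : Ω) : ℚ :=
  ∑ g ∈ (stab a b : Finset G), (Fintype.card Ω : ℚ) / ((fx g : Finset Ω).card : ℚ)

theorem two_le_fx {a b : Ω} (hab : a ≠ b) {g : G} (hg : g ∈ (stab a b : Finset G)) :
    2 ≤ (fx g : Finset Ω).card := by
  rw [mem_stab] at hg
  exact Finset.one_lt_card.mpr ⟨a, mem_fx.mpr hg.1, b, mem_fx.mpr hg.2, hab⟩

theorem invSum_eq {a b : Ω} (hab : a ≠ b) [DecidableEq G] :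
    invSum G a b = 1 + ∑ g ∈ (stab a b : Finset G).erase 1,
      (Fintype.card Ω : ℚ) / ((fx g : Finset Ω).card : ℚ) := by
  have h1 := two_le_fx hab (one_mem_stab (G := G) a b)
  rw [fx_one, Finset.card_univ] at h1
  rw [invSum, ← Finset.add_sum_erase _ _ (one_mem_stab a b), fx_one, Finset.card_univ, div_self]
  have : (2 : ℚ) ≤ Fintype.card Ω := by exact_mod_cast h1
  linarith

/-- If all non-identity elements of the stabiliser have at most `m` fixed points. -/
theorem invSum_ge_of_fx_le {a b : Ω} (hab : a ≠ b) {m : ℚ} (hm : 0 < m)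
    (H : ∀ g ∈ (stab a b : Finset G), g ≠ 1 → ((fx g : Finset Ω).card : ℚ) ≤ m) :
    1 + (((stab a b : Finset G).card : ℚ) - 1) * ((Fintype.card Ω : ℚ) / m) ≤ invSum G a b := by
  classical
  rw [invSum_eq hab]
  refine add_le_add le_rfl ?_
  have hc : (((stab a b : Finset G).erase 1).card : ℚ) = ((stab a b : Finset G).card : ℚ) - 1 := by
    rw [Finset.card_erase_of_mem (one_mem_stab a b),
      Nat.cast_sub (Finset.card_pos.mpr ⟨1, one_mem_stab a b⟩)]
    norm_num
  rw [← hc, ← nsmul_eq_mul]
  refine Finset.card_nsmul_le_sum _ _ _ fun g hg => ?_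
  obtain ⟨hg1, hg⟩ := Finset.mem_erase.mp hg
  have h2 := two_le_fx hab hg
  gcongr
  exact H g hg hg1

/-- The bound by convexity. -/
theorem invSum_ge_of_sum {a b : Ω} (hab : a ≠ b) (hh : 2 ≤ (stab a b : Finset G).card)
    (hS : (2 * ((stab a b : Finset G).card : ℚ) - 1) *
        (∑ g ∈ (stab a b : Finset G), ((fx g : Finset Ω).card : ℚ))
      ≤ (Fintype.card Ω : ℚ) * ((stab a b : Finset G).card : ℚ) ^ 2) :
    2 * ((stab a b : Finset G).card : ℚ) ≤ invSum G a b := by
  classical
  set T := (stab a b : Finset G).erase 1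
  set h := ((stab a b : Finset G).card : ℚ)
  set n := (Fintype.card Ω : ℚ)
  have hh' : (2 : ℚ) ≤ h := Nat.ofNat_le_cast.mpr hh
  have hc : (T.card : ℚ) = h - 1 := by
    rw [Finset.card_erase_of_mem (one_mem_stab a b),
      Nat.cast_sub (Finset.card_pos.mpr ⟨1, one_mem_stab a b⟩)]
    norm_num; rfl
  have hpos : ∀ g ∈ T, (0 : ℚ) < ((fx g : Finset Ω).card : ℚ) := fun g hg => by
    have := two_le_fx hab (Finset.mem_erase.mp hg).2
    exact_mod_cast (by omega : 0 < (fx g : Finset Ω).card)
  have hT := Finset.sq_sum_div_le_sum_sq_div T (fun _ => (1 : ℚ)) hpos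
  simp only [one_pow, Finset.sum_const, nsmul_eq_mul, mul_one, hc] at hT
  set R := ∑ g ∈ T, ((fx g : Finset Ω).card : ℚ) with hR
  have hR0 : 0 < R := Finset.sum_pos hpos <| Finset.card_pos.mp <| by
    rw [Finset.card_erase_of_mem (one_mem_stab a b)]; omega
  have hsum : ∑ g ∈ (stab a b : Finset G), ((fx g : Finset Ω).card : ℚ) = n + R := by
    rw [← Finset.add_sum_erase _ _ (one_mem_stab a b), fx_one, Finset.card_univ]
  rw [hsum] at hS
  rw [invSum_eq hab]
  have hn0 : 0 ≤ n := Nat.cast_nonneg _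
  have h1 : n * ((h - 1) ^ 2 / R) ≤
      ∑ g ∈ T, n / ((fx g : Finset Ω).card : ℚ) := by
    calc n * ((h - 1) ^ 2 / R) ≤ n * ∑ g ∈ T, 1 / ((fx g : Finset Ω).card : ℚ) :=
          mul_le_mul_of_nonneg_left hT hn0
      _ = _ := by rw [Finset.mul_sum]; exact Finset.sum_congr rfl fun g _ => by ring
  have h2 : 2 * h - 1 ≤ n * ((h - 1) ^ 2 / R) := by
    rw [mul_div_assoc', le_div_iff₀ hR0]
    nlinarith
  linarith

end CfsgLib.Perm.DerangeBound
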