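import Cfsg.Agent.Lib.Perm.DerangeBoundOrbit

/-!
The lower bound for the inverse fixed-point sum when the two-point stabilisers fix two points only.
-/

set_option autoImplicit false
set_option linter.unusedSectionVars false

namespace CfsgLib.Perm.DerangeBound

open MulAction

variable {G Ω : Type*} [Group G] [MulAction G Ω] [Fintype G] [Fintype Ω] [FaithfulSMul G Ω]

theorem sqrt_of_odd {M : Subgroup G} (hodd : ¬ 2 ∣ Nat.card M) {z : G} (hz : z ∈ M) :
    ∃ k : ℕ, (z ^ k) * (z ^ k) = z := by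
  have h1 : orderOf z ∣ Nat.card M := by
    rw [← Subgroup.orderOf_mk z hz]; exact orderOf_dvd_natCard _
  have h2 : orderOf z % 2 = 1 := by
    rcases Nat.mod_two_eq_zero_or_one (orderOf z) with h0 | h0
    · exact absurd ((Nat.dvd_of_mod_eq_zero h0).trans h1) hodd
    · exact h0
  refine ⟨(orderOf z + 1) / 2, ?_⟩
  rw [← pow_add, show (orderOf z + 1) / 2 + (orderOf z + 1) / 2 = orderOf z + 1 by omega,
    pow_succ, pow_orderOf_eq_one, one_mul]

theorem eq_one_of_sq_odd {M : Subgroup G} (hodd : ¬ 2 ∣ Nat.card M) {z : G} (hz : z ∈ M)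
    (h2 : z * z = 1) : z = 1 := by
  obtain ⟨k, hk⟩ := sqrt_of_odd hodd hz
  rw [← hk, ← (Commute.refl z).mul_pow, h2, one_pow]

section twist

variable {a b : Ω} (hab : a ≠ b) (hsq : ∀ u ∈ (stab a b : Finset G), u * u = 1)
  (M : Subgroup G) (hMa : ∀ m ∈ M, m • a = a) (hodd : ¬ 2 ∣ Nat.card M)
  (hinj : ∀ m ∈ M, ∀ m' ∈ M, m • b = m' • b → m = m')
  (hnorm : ∀ u ∈ (stab a b : Finset G), ∀ m ∈ M, u * m * u⁻¹ ∈ M)
  (hline : ∀ x, x ∈ line G a b → x = a ∨ x = b)
  (horb : ∀ x, x ∉ line G a b → (orb G a b x).card = 2)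

include hsq in
theorem stab_inv_eq {u : G} (hu : u ∈ (stab a b : Finset G)) : u⁻¹ = u :=
  (eq_inv_of_mul_eq_one_left (hsq u hu)).symm

include hsq in
theorem stab_comm {u v : G} (hu : u ∈ (stab a b : Finset G)) (hv : v ∈ (stab a b : Finset G)) :
    u * v = v * u := by
  calc u * v = (u * v)⁻¹ := (stab_inv_eq hsq (stab_mul hu hv)).symm
    _ = v⁻¹ * u⁻¹ := mul_inv_rev _ _
    _ = v * u := by rw [stab_inv_eq hsq hu, stab_inv_eq hsq hv]

include hMa hinj hab in
theorem moved_not_line {m : G} (hm : m ∈ M) (hm1 : m ≠ 1)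
    (hline : ∀ x, x ∈ line G a b → x = a ∨ x = b) : m • b ∉ line G a b := fun hl => by
  rcases hline _ hl with e | e
  · exact hab (MulAction.injective m (by dsimp only; rw [hMa m hm, e]))
  · exact hm1 (hinj m hm 1 M.one_mem (by rw [e, one_smul]))

include hab hsq hMa hinj hnorm hline horb in
/-- Two elements outside the centraliser act on a kernel element in the same way. -/
theorem conj_eq_conj {m : G} (hm : m ∈ M) (hm1 : m ≠ 1) {p q : G}
    (hp : p ∈ (stab a b : Finset G)) (hq : q ∈ (stab a b : Finset G))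
    (hpm : p * m * p⁻¹ ≠ m) (hqm : q * m * q⁻¹ ≠ m) : p * m * p⁻¹ = q * m * q⁻¹ := by
  classical
  have hb : ∀ u ∈ (stab a b : Finset G), u • m • b = (u * m * u⁻¹) • b := fun u hu => by
    rw [mul_smul, mul_smul, inv_smul_eq_iff.mpr (mem_stab.mp hu).2.symm]
  obtain ⟨c, d, -, hcd⟩ :=
    Finset.card_eq_two.mp (horb _ (moved_not_line hab M hMa hinj hm hm1 hline))
  have hin : ∀ u ∈ (stab a b : Finset G), (u * m * u⁻¹) • b = c ∨ (u * m * u⁻¹) • b = d :=
    fun u hu => by
      have : u • m • b ∈ orb G a b (m • b) := mem_orb.mpr ⟨u, hu, rfl⟩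
      rw [hcd, Finset.mem_insert, Finset.mem_singleton, hb u hu] at this
      exact this
  have h1 := hin 1 (one_mem_stab a b)
  rw [inv_one, one_mul, mul_one] at h1
  have hne : ∀ u ∈ (stab a b : Finset G), u * m * u⁻¹ ≠ m → (u * m * u⁻¹) • b ≠ m • b :=
    fun u hu hum e => hum (hinj _ (hnorm u hu m hm) m hm e)
  apply hinj _ (hnorm p hp m hm) _ (hnorm q hq m hm)
  have a1 := hin p hp
  have a2 := hin q hq
  have b1 := hne p hp hpm
  have b2 := hne q hq hqm
  grind

include hab hsq hMa hodd hinj hnorm hline horb in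
/-- An element outside the centraliser of a kernel element inverts it. -/
theorem inverts {m : G} (hm : m ∈ M) {p : G} (hp : p ∈ (stab a b : Finset G))
    (hpm : p * m * p⁻¹ ≠ m) : p * m * p⁻¹ = m⁻¹ := by
  have hm1 : m ≠ 1 := fun e => hpm (by rw [e, mul_one, mul_inv_cancel])
  set x := p * m * p⁻¹ with hx
  have hxM : x ∈ M := hnorm p hp m hm
  have hzM : m⁻¹ * x ∈ M := M.mul_mem (M.inv_mem hm) hxM
  obtain ⟨k, hk⟩ := sqrt_of_odd hodd hzM
  set w := (m⁻¹ * x) ^ k with hw
  have hpp : p * x * p⁻¹ = m := by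
    rw [hx, stab_inv_eq hsq hp]
    calc p * (p * m * p) * p = (p * p) * m * (p * p) := by group
      _ = m := by rw [hsq p hp, one_mul, mul_one]
  have hy : ∀ q ∈ (stab a b : Finset G), q * (m * w) * q⁻¹ = m * w := by
    intro q hq
    by_cases hqm : q * m * q⁻¹ = m
    · have hqx : q * x * q⁻¹ = x := by
        calc q * x * q⁻¹ = (q * p) * m * (q * p)⁻¹ := by rw [hx]; group
          _ = (p * q) * m * (p * q)⁻¹ := by rw [stab_comm hsq hq hp]
          _ = p * (q * m * q⁻¹) * p⁻¹ := by group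
          _ = x := by rw [hqm]
      rw [hw, ← conj_mul, ← conj_pow, ← conj_mul, ← conj_inv, hqm, hqx]
    · have hqx : q * m * q⁻¹ = x :=
        conj_eq_conj hab hsq M hMa hinj hnorm hline horb hm hm1 hq hp hqm hpm
      have hqm' : q * x * q⁻¹ = m := by
        rw [← hqx, stab_inv_eq hsq hq]
        calc q * (q * m * q) * q = (q * q) * m * (q * q) := by group
          _ = m := by rw [hsq q hq, one_mul, mul_one]
      rw [hw, ← conj_mul, ← conj_pow, ← conj_mul, ← conj_inv, hqx, hqm', ← hw]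
      calc x * (x⁻¹ * m) ^ k = x * ((m⁻¹ * x) ^ k)⁻¹ := by
            rw [← inv_pow]; congr 2; group
        _ = m * (w * w) * w⁻¹ := by rw [hk, hw]; group
        _ = m * w := by group
  have hyM : m * w ∈ M := M.mul_mem hm (M.pow_mem hzM k)
  have hy1 : m * w = 1 := by
    by_contra hne
    refine moved_not_line hab M hMa hinj hyM hne hline (mem_line.mpr fun q hq => ?_)
    conv_rhs => rw [← hy q hq]
    rw [mul_smul (q * (m * w)), inv_smul_eq_iff.mpr (mem_stab.mp hq).2.symm, mul_smul q]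
  have hwm : w = m⁻¹ := eq_inv_of_mul_eq_one_right hy1
  calc x = m * (w * w) := by rw [hk]; group
    _ = m⁻¹ := by rw [hwm]; group

include hab hsq hMa hodd hinj hnorm hline horb in
theorem twist_false (hh : 3 ≤ (stab a b : Finset G).card)
    (hex : ∀ y, y ≠ a → ∃ m ∈ M, m • b = y) (hn : 3 ≤ Fintype.card Ω) : False := by
  classical
  set B : Finset G := stab a b
  have hhalf : ∀ m ∈ M, m ≠ 1 →
      (B.filter fun u => u * m * u⁻¹ = m).card * 2 = B.card := by
    intro m hm hm1
    have hc := card_orb_mul (G := G) a b (m • b)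
    rw [horb _ (moved_not_line hab M hMa hinj hm hm1 hline), mul_comm] at hc
    rw [← hc]
    congr 1
    simp only [cst]
    congr 1
    refine Finset.filter_congr fun u hu => ⟨fun e => ?_, fun e => ?_⟩
    · conv_rhs => rw [← e]
      rw [mul_smul (u * m), inv_smul_eq_iff.mpr (mem_stab.mp hu).2.symm, mul_smul u]
    · apply hinj _ (hnorm u hu m hm) m hm
      rw [mul_smul, mul_smul, inv_smul_eq_iff.mpr (mem_stab.mp hu).2.symm, e]
  obtain ⟨y, hy⟩ : ∃ y, y ∉ ({a, b} : Finset Ω) := by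
    by_contra hall
    push Not at hall
    have : (Finset.univ : Finset Ω) ⊆ {a, b} := fun z _ => hall z
    have := Finset.card_le_card this
    rw [Finset.card_univ, Finset.card_pair hab] at this
    omega
  simp only [Finset.mem_insert, Finset.mem_singleton, not_or] at hy
  obtain ⟨m1, hm1, hm1b⟩ := hex y hy.1
  have hm1' : m1 ≠ 1 := fun e => hy.2 (by rw [← hm1b, e, one_smul])
  obtain ⟨p, hp, hp1⟩ : ∃ p ∈ B.filter (fun u => u * m1 * u⁻¹ = m1), p ≠ 1 :=
    Finset.exists_mem_ne (by have := hhalf m1 hm1 hm1'; omega) 1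
  rw [Finset.mem_filter] at hp
  obtain ⟨z, hz⟩ := exists_moved (Ω := Ω) hp1
  have hza : z ≠ a := fun e => hz (e ▸ (mem_stab.mp hp.1).1)
  obtain ⟨m2, hm2, hm2b⟩ := hex z hza
  have hp2 : p * m2 * p⁻¹ ≠ m2 := fun e => hz <| by
    rw [← hm2b]
    conv_rhs => rw [← e]
    rw [mul_smul (p * m2), inv_smul_eq_iff.mpr (mem_stab.mp hp.1).2.symm, mul_smul p]
  have hm2' : m2 ≠ 1 := fun e => hp2 (by rw [e, mul_one, mul_inv_cancel])
  obtain ⟨q, hq, hq2, hq1⟩ : ∃ q ∈ B, q * m2 * q⁻¹ = m2 ∧ q * m1 * q⁻¹ ≠ m1 := by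
    by_contra hall
    push Not at hall
    have hss : (B.filter fun u => u * m2 * u⁻¹ = m2) ⊂ (B.filter fun u => u * m1 * u⁻¹ = m1) := by
      refine Finset.ssubset_iff_of_subset (fun u hu => ?_) |>.mpr ⟨p, ?_, ?_⟩
      · rw [Finset.mem_filter] at hu ⊢
        exact ⟨hu.1, hall u hu.1 hu.2⟩
      · exact Finset.mem_filter.mpr hp
      · rw [Finset.mem_filter]; exact fun h => hp2 h.2
    have := Finset.card_lt_card hss
    have := hhalf m1 hm1 hm1'
    have := hhalf m2 hm2 hm2'
    omega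
  have i2 := inverts hab hsq M hMa hodd hinj hnorm hline horb hm2 hp.1 hp2
  have i1 := inverts hab hsq M hMa hodd hinj hnorm hline horb hm1 hq hq1
  have hm3 : m1 * m2 ∈ M := M.mul_mem hm1 hm2
  have hp3 : p * (m1 * m2) * p⁻¹ = m1 * m2⁻¹ := by rw [← conj_mul, hp.2, i2]
  have hq3 : q * (m1 * m2) * q⁻¹ = m1⁻¹ * m2 := by rw [← conj_mul, hq2, i1]
  have hpne : p * (m1 * m2) * p⁻¹ ≠ m1 * m2 := fun e => hm2' <| by
    rw [hp3] at e
    exact eq_one_of_sq_odd hodd hm2 (inv_eq_iff_mul_eq_one.mp (mul_left_cancel e))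
  have hqne : q * (m1 * m2) * q⁻¹ ≠ m1 * m2 := fun e => hm1' <| by
    rw [hq3] at e
    exact eq_one_of_sq_odd hodd hm1 (inv_eq_iff_mul_eq_one.mp (mul_right_cancel e))
  have e1 := hp3.symm.trans (inverts hab hsq M hMa hodd hinj hnorm hline horb hm3 hp.1 hpne)
  have e2 := hq3.symm.trans (inverts hab hsq M hMa hodd hinj hnorm hline horb hm3 hq hqne)
  have hsq12 : m1 * m1 = m2 * m2 := by
    have e3 : m1 * m2⁻¹ = m1⁻¹ * m2 := e1.trans e2.symm
    have := congrArg (fun t => m1 * t * m2) e3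
    simpa [mul_assoc] using this
  have e4 := congrArg (fun t => p * t * p⁻¹) hsq12
  simp only [← conj_mul, hp.2, i2] at e4
  have : m2 * m2 = 1 := eq_one_of_sq_odd hodd (M.mul_mem hm2 hm2) <| by
    rw [hsq12] at e4
    have := congrArg (fun t => t * (m2 * m2)) e4
    simpa [mul_assoc] using this
  exact hm2' (eq_one_of_sq_odd hodd hm2 this)

end twist

/-- The regular normal subgroup of a point stabiliser. -/
theorem exists_kernel (h : PairTrans G Ω) {a b : Ω} (hab : a ≠ b)
    (hsq : ∀ u ∈ (stab a b : Finset G), u * u = 1)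
    (hline : ∀ x, x ∈ line G a b → x = a ∨ x = b) (hn : ¬ 2 ∣ Fintype.card Ω - 1) :
    ∃ M : Subgroup G, (∀ m ∈ M, m • a = a) ∧ ¬ 2 ∣ Nat.card M ∧
      (∀ m ∈ M, ∀ m' ∈ M, m • b = m' • b → m = m') ∧
      (∀ u ∈ (stab a b : Finset G), ∀ m ∈ M, u * m * u⁻¹ ∈ M) ∧
      ∀ y, y ≠ a → ∃ m ∈ M, m • b = y := by
  classical
  haveI : Fact (Nat.Prime 2) := ⟨by norm_num⟩
  set A : Subgroup G := stabilizer G a with hA
  set B : Subgroup A := stabilizer A b with hB
  have memB : ∀ u : A, u ∈ B → (u : G) ∈ (stab a b : Finset G) := fun u hu =>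
    mem_stab.mpr ⟨u.2, hu⟩
  have hB2 : IsPGroup 2 B := fun u => ⟨1, by
    rw [pow_one, pow_two]
    exact Subtype.ext (Subtype.ext (hsq _ (memB u.1 u.2)))⟩
  have horbit : orbit A b = {y : Ω | y ≠ a} := by
    ext y
    constructor
    · rintro ⟨u, rfl⟩ e
      refine hab (MulAction.injective (u : G) ?_)
      exact (show (u : G) • a = a from u.2).trans e.symm
    · intro hy
      obtain ⟨g, h1, h2⟩ := h a b a y hab (Ne.symm hy)
      exact ⟨⟨g, h1⟩, h2⟩
  have hidx : B.index = Fintype.card Ω - 1 := by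
    rw [hB, MulAction.index_stabilizer, horbit, Set.ncard_eq_toFinset_card']
    simp [Finset.filter_ne', Finset.card_erase_of_mem]
  have h2 : ¬ 2 ∣ B.index := hidx ▸ hn
  set P : Sylow 2 A := hB2.toSylow h2
  have hPc : ((P : Subgroup A)) = B := IsPGroup.toSylow_coe _ _
  have hP : Subgroup.normalizer (P : Set A) ≤ Subgroup.centralizer (P : Set A) := by
    intro g hg u hu
    have hmem : ∀ v : A, v ∈ B → g⁻¹ * v * g ∈ B := fun v hv => by
      rw [← hPc] at hv ⊢
      exact (Subgroup.mem_normalizer_iff''.mp hg v).mp hv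
    have hgB : g ∈ B := by
      have hl : (g : G) • b ∈ line G a b := mem_line.mpr fun v hv => by
        obtain ⟨hv1, hv2⟩ := mem_stab.mp hv
        have h' : (((g⁻¹ : A) * ⟨v, hv1⟩ * g : A) : G) • b = b := hmem ⟨v, hv1⟩ hv2
        rwa [Subgroup.coe_mul, Subgroup.coe_mul, Subgroup.coe_inv, mul_smul, mul_smul,
          inv_smul_eq_iff] at h'
      rcases hline _ hl with e | e
      · exact absurd (MulAction.injective (g : G)
          (show (g : G) • a = (g : G) • b from (show (g : G) • a = a from g.2).trans e.symm)) hab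
      · exact e
    have huB : u ∈ B := by rw [← hPc]; exact hu
    apply Subtype.ext
    exact stab_comm hsq (memB u huB) (memB g hgB)
  set K : Subgroup A := (MonoidHom.transferSylow P hP).ker
  have hc : Subgroup.IsComplement' K B :=
    hPc ▸ MonoidHom.ker_transferSylow_isComplement' P hP
  refine ⟨K.map A.subtype, ?_, ?_, ?_, ?_, ?_⟩
  · rintro _ ⟨m, -, rfl⟩
    exact m.2
  · rw [Nat.card_congr (K.equivMapOfInjective A.subtype A.subtype_injective).toEquiv.symm]
    exact MonoidHom.not_dvd_card_ker_transferSylow P hP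
  · rintro _ ⟨m, hm, rfl⟩ _ ⟨m', hm', rfl⟩ e
    have h1 : m'⁻¹ * m ∈ B := by
      change ((m'⁻¹ * m : A) : G) • b = b
      rw [Subgroup.coe_mul, Subgroup.coe_inv, mul_smul, inv_smul_eq_iff]
      exact e
    have h3 : m'⁻¹ * m ∈ K := K.mul_mem (K.inv_mem hm') hm
    have := Subgroup.disjoint_def.mp hc.disjoint h3 h1
    rw [inv_mul_eq_one.mp this]
  · rintro u hu _ ⟨m, hm, rfl⟩
    exact ⟨(⟨u, (mem_stab.mp hu).1⟩ : A) * m * (⟨u, (mem_stab.mp hu).1⟩ : A)⁻¹,
      (MonoidHom.normal_ker _).conj_mem m hm _, rfl⟩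
  · intro y hy
    obtain ⟨g, h1, h3⟩ := h a b a y hab (Ne.symm hy)
    obtain ⟨⟨m, u⟩, hmu, -⟩ := hc.existsUnique (⟨g, h1⟩ : A)
    refine ⟨_, ⟨m, m.2, rfl⟩, ?_⟩
    have : ((m : A) : G) * ((u : A) : G) = g := congrArg Subtype.val hmu
    rw [← h3, ← this, mul_smul, show ((u : A) : G) • b = b from u.2]
    rfl

theorem key_two (h : PairTrans G Ω) {a b : Ω} (hab : a ≠ b) (hn : 7 ≤ Fintype.card Ω)
    (hh : 2 ≤ (stab a b : Finset G).card) (hK : (line G a b).card = 2) :
    2 * ((stab a b : Finset G).card : ℚ) ≤ invSum G a b := by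
  classical
  set s := (stab a b : Finset G).card with hs
  set n := Fintype.card Ω with hn'
  by_contra hfail
  have hf : ¬ ((2 * (s : ℚ) - 1) * (∑ g ∈ (stab a b : Finset G), ((fx g : Finset Ω).card : ℚ))
      ≤ (n : ℚ) * (s : ℚ) ^ 2) := fun hle => hfail (invSum_ge_of_sum hab hh hle)
  push Not at hf
  have hs' : (2 : ℚ) ≤ (s : ℚ) := Nat.ofNat_le_cast.mpr hh
  have hn7 : (7 : ℚ) ≤ (n : ℚ) := Nat.ofNat_le_cast.mpr hn
  have hS := congrArg (fun z : ℤ => (z : ℚ)) (two_sum_fx (G := G) a b)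
  rw [hK, ← hs, ← hn'] at hS
  push_cast at hS
  have hD0 : (0 : ℚ) ≤ (defc G a b : ℚ) := by
    have := orbit_deficit (G := G) (a := a) (b := b) (s := ∅) (Finset.empty_subset _)
    simp only [Finset.sum_empty] at this
    exact_mod_cast this
  have hD : defc G a b < 2 * (s : ℤ) := by
    have : (defc G a b : ℚ) < 2 * (s : ℚ) := by
      by_contra hge
      push Not at hge
      nlinarith [mul_le_mul_of_nonneg_left hge (by linarith : (0 : ℚ) ≤ 2 * (s : ℚ) - 1)]
    exact_mod_cast this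
  have hs3 : 3 ≤ s := by
    by_contra hlt
    obtain h2 : s = 2 := by omega
    rw [h2] at hf hS
    push_cast at hf hS
    nlinarith
  have hsq : ∀ u ∈ (stab a b : Finset G), u * u = 1 := fun u hu =>
    sq_eq_one h hab (by omega) hD hu
  have hlc : line G a b = {a, b} := (Finset.eq_of_subset_of_card_le (by
    intro x hx
    rcases Finset.mem_insert.mp hx with rfl | hx
    · exact left_mem_line x b
    · rw [Finset.mem_singleton.mp hx]; exact right_mem_line a b)
    (by rw [hK, Finset.card_pair hab])).symm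
  have hline : ∀ x, x ∈ line G a b → x = a ∨ x = b := fun x hx => by simpa [hlc] using hx
  have horb : ∀ x, x ∉ line G a b → (orb G a b x).card = 2 := by
    intro x hx
    have h3 := orb_le_three hD x
    have h2 := two_le_orb (G := G) hx
    by_contra hne
    obtain ⟨y, z, w, hyz, hyw, hzw, he⟩ := Finset.card_eq_three.mp (by omega : (orb G a b x).card = 3)
    have hy : y ∈ orb G a b x := by rw [he]; simp
    have hoy : orb G a b y = {y, z, w} := (orb_eq hy).trans he
    obtain ⟨u, hu, huy⟩ := mem_orb.mp (show z ∈ orb G a b y by rw [hoy]; simp)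
    obtain ⟨v, hv, hvy⟩ := mem_orb.mp (show w ∈ orb G a b y by rw [hoy]; simp)
    have hmem : u • w ∈ orb G a b y :=
      mem_orb.mpr ⟨u * v, stab_mul hu hv, by rw [mul_smul, hvy]⟩
    have hyu : u • z = y := by rw [← huy, ← mul_smul, hsq u hu, one_smul]
    have hyv : v • w = y := by rw [← hvy, ← mul_smul, hsq v hv, one_smul]
    rw [hoy] at hmem
    simp only [Finset.mem_insert, Finset.mem_singleton] at hmem
    rcases hmem with e | e | e
    · exact hzw (MulAction.injective u (hyu.trans e.symm))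
    · exact hyw (MulAction.injective u (huy.trans e.symm))
    · have e2 : v • u • w = v • w := by rw [e]
      rw [← mul_smul, stab_comm hsq hv hu, mul_smul, hyv, huy] at e2
      exact hyz e2.symm
  have heven : ¬ 2 ∣ n - 1 := by
    have hh := Finset.card_eq_sum_card_image (fun y => orb G a b y) (Finset.univ \ line G a b)
    rw [Finset.sum_eq_card_nsmul (b := 2), Finset.card_univ_diff, hK, smul_eq_mul, ← hn'] at hh
    · omega
    · intro L hL
      obtain ⟨y, hy, rfl⟩ := Finset.mem_image.mp hL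
      rw [Finset.mem_sdiff] at hy
      rw [← horb y hy.2]
      congr 1
      ext z
      rw [Finset.mem_filter]
      exact ⟨fun ⟨_, e⟩ => e ▸ self_mem_orb a b z,
        fun hz => ⟨orb_subset_compl hy.2 hz, orb_eq hz⟩⟩
  obtain ⟨M, hMa, hodd, hinj, hnorm, hex⟩ := exists_kernel h hab hsq hline heven
  exact twist_false hab hsq M hMa hodd hinj hnorm hline horb hs3 hex (by omega)

end CfsgLib.Perm.DerangeBound
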