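import Cfsg.Agent.Lib.Perm.DerangeBoundThree
import Cfsg.Agent.Lib.Perm.DerangeBoundTwo

/-!
The proportion of derangements in a transitive group: twice the reciprocal of the degree, unless the
group is sharply two-transitive.
-/

set_option autoImplicit false
set_option linter.unusedSectionVars false

namespace CfsgLib.Perm.DerangeBound

open MulAction

variable {G Ω : Type*} [Group G] [MulAction G Ω] [Fintype G] [Fintype Ω]

theorem sum_fx_eq_card [IsPretransitive G Ω] [Nonempty Ω] :
    ∑ g : G, (fx g : Finset Ω).card = Fintype.card G := by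
  classical
  obtain ⟨a⟩ := (inferInstance : Nonempty Ω)
  have h1 : ∑ g : G, (fx g : Finset Ω).card
      = ∑ x : Ω, (Finset.univ.filter fun g : G => g • x = x).card := by
    simp only [Finset.card_eq_sum_ones]
    refine Finset.sum_comm' fun g x => ?_
    simp [mem_fx]
  rw [h1, ← Finset.card_univ (α := G),
    Finset.card_eq_sum_card_fiberwise (f := fun g : G => g • a) (s := Finset.univ)
      (t := Finset.univ) (by intro g _; simp)]
  refine Finset.sum_congr rfl fun x _ => ?_
  obtain ⟨u, hu⟩ := exists_smul_eq G a x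
  refine Finset.card_bij' (fun g _ => g * u) (fun g _ => g * u⁻¹) ?_ ?_ ?_ ?_
  · intro g hg
    simp only [Finset.mem_filter, Finset.mem_univ, true_and] at hg ⊢
    rw [mul_smul, hu, hg]
  · intro g hg
    simp only [Finset.mem_filter, Finset.mem_univ, true_and] at hg ⊢
    rw [mul_smul, inv_smul_eq_iff.mpr hu.symm, hg]
  · intro g _; simp
  · intro g _; simp

theorem sum_stab_pair_orbit [DecidableEq Ω] (a b : Ω) :
    ∑ q ∈ (Finset.univ : Finset G).image (fun g => (g • a, g • b)),
      (stab q.1 q.2 : Finset G).card = Fintype.card G := by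
  classical
  rw [← Finset.card_univ (α := G),
    Finset.card_eq_sum_card_image (fun g : G => (g • a, g • b)) Finset.univ]
  refine Finset.sum_congr rfl fun q hq => ?_
  obtain ⟨u, -, rfl⟩ := Finset.mem_image.mp hq
  refine Finset.card_bij' (fun g _ => g * u) (fun g _ => g * u⁻¹) ?_ ?_ ?_ ?_
  · intro g hg
    rw [mem_stab] at hg
    simp [mul_smul, hg.1, hg.2]
  · intro g hg
    simp only [Finset.mem_filter, Finset.mem_univ, true_and, Prod.mk.injEq] at hg
    rw [mem_stab]
    simp [mul_smul, hg.1, hg.2]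
  · intro g _; simp
  · intro g _; simp

theorem sum_pairs_ge_two (hne : ¬ PairTrans G Ω) :
    2 * Fintype.card G
      ≤ ∑ g : G, (fx g : Finset Ω).card * ((fx g : Finset Ω).card - 1) := by
  classical
  simp only [PairTrans, not_forall] at hne
  obtain ⟨a, b, c, d, hab, hcd, hne⟩ := hne
  have h1 := sum_pairs (G := G) (Ω := Ω) (fun _ => (1 : ℕ))
  simp only [Finset.sum_const, smul_eq_mul, mul_one] at h1
  have h2 : ∑ g : G, (fx g : Finset Ω).card * ((fx g : Finset Ω).card - 1)
      = ∑ p ∈ (Finset.univ : Finset Ω).offDiag, (stab p.1 p.2 : Finset G).card := by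
    rw [← h1]
    refine Finset.sum_congr rfl fun g _ => ?_
    rw [Finset.offDiag_card, Nat.mul_sub, mul_one]
  rw [h2, two_mul]
  nth_rewrite 1 [← sum_stab_pair_orbit (G := G) a b]
  rw [← sum_stab_pair_orbit (G := G) c d]
  have hd : Disjoint ((Finset.univ : Finset G).image fun g => (g • a, g • b))
      ((Finset.univ : Finset G).image fun g => (g • c, g • d)) := by
    rw [Finset.disjoint_left]
    intro q hq hq'
    obtain ⟨u, -, rfl⟩ := Finset.mem_image.mp hq
    obtain ⟨v, -, hv⟩ := Finset.mem_image.mp hq'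
    rw [Prod.mk.injEq] at hv
    refine hne ⟨v⁻¹ * u, ?_, ?_⟩
    · rw [mul_smul, ← hv.1, inv_smul_smul]
    · rw [mul_smul, ← hv.2, inv_smul_smul]
  rw [← Finset.sum_union hd]
  refine Finset.sum_le_sum_of_subset fun q hq => ?_
  rcases Finset.mem_union.mp hq with hq | hq <;> obtain ⟨u, -, rfl⟩ := Finset.mem_image.mp hq
  · exact Finset.mem_offDiag.mpr
      ⟨Finset.mem_univ _, Finset.mem_univ _, fun e => hab (MulAction.injective u e)⟩
  · exact Finset.mem_offDiag.mpr
      ⟨Finset.mem_univ _, Finset.mem_univ _, fun e => hcd (MulAction.injective u e)⟩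

/-- The exact number of derangements, in terms of the pair counts. -/
theorem derange_identity [IsPretransitive G Ω] [Nonempty Ω] :
    (Fintype.card Ω : ℚ) * (Nat.card {g : G // ∀ ω : Ω, g • ω ≠ ω} : ℚ)
      = ∑ g : G, ((fx g : Finset Ω).card * ((fx g : Finset Ω).card - 1)) •
          ((Fintype.card Ω : ℚ) / ((fx g : Finset Ω).card : ℚ)) := by
  classical
  set n := (Fintype.card Ω : ℚ)
  have hpt : ∀ g : G, ((fx g : Finset Ω).card * ((fx g : Finset Ω).card - 1)) •
      (n / ((fx g : Finset Ω).card : ℚ))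
      = n * (((fx g : Finset Ω).card : ℚ) - 1) + if (fx g : Finset Ω).card = 0 then n else 0 := by
    intro g
    rw [nsmul_eq_mul]
    by_cases h0 : (fx g : Finset Ω).card = 0
    · simp [h0]
    · rw [if_neg h0, Nat.cast_mul, Nat.cast_sub (Nat.one_le_iff_ne_zero.mpr h0)]
      field_simp
      push_cast
      ring
  have hfilter : Nat.card {g : G // ∀ ω : Ω, g • ω ≠ ω}
      = (Finset.univ.filter fun g : G => (fx g : Finset Ω).card = 0).card := by
    rw [Nat.card_eq_fintype_card, Fintype.card_subtype]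
    congr 1
    ext g
    simp [Finset.card_eq_zero, Finset.eq_empty_iff_forall_notMem, mem_fx]
  have h1 : ∑ g : G, ((fx g : Finset Ω).card : ℚ) = (Fintype.card G : ℚ) := by
    exact_mod_cast sum_fx_eq_card (G := G) (Ω := Ω)
  rw [Finset.sum_congr rfl fun g _ => hpt g, Finset.sum_add_distrib, ← Finset.mul_sum,
    Finset.sum_sub_distrib, h1, Finset.sum_const, Finset.card_univ, nsmul_eq_mul, mul_one, sub_self,
    mul_zero, zero_add, ← Finset.sum_filter, Finset.sum_const, nsmul_eq_mul, hfilter, mul_comm]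

theorem derange_ge_pairs [IsPretransitive G Ω] [Nonempty Ω] :
    ∑ g : G, (fx g : Finset Ω).card * ((fx g : Finset Ω).card - 1)
      ≤ Fintype.card Ω * Nat.card {g : G // ∀ ω : Ω, g • ω ≠ ω} := by
  classical
  rw [← Nat.cast_le (α := ℚ), Nat.cast_mul (Fintype.card Ω), derange_identity, Nat.cast_sum]
  refine Finset.sum_le_sum fun g _ => ?_
  rw [nsmul_eq_mul]
  rcases Nat.eq_zero_or_pos (fx g : Finset Ω).card with h0 | h0
  · simp [h0]
  refine le_mul_of_one_le_right (Nat.cast_nonneg _) ?_
  rw [one_le_div (by exact_mod_cast h0)]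
  exact Nat.cast_le.mpr (Finset.card_le_univ _)

theorem derange_pairTrans [IsPretransitive G Ω] (h : PairTrans G Ω) {a b : Ω} (hab : a ≠ b) :
    (Fintype.card Ω : ℚ) * (Nat.card {g : G // ∀ ω : Ω, g • ω ≠ ω} : ℚ)
      = ((Fintype.card Ω * (Fintype.card Ω - 1) : ℕ) : ℚ) * invSum G a b := by
  haveI : Nonempty Ω := ⟨a⟩
  rw [derange_identity, sum_pairs_eq (fun g => (Fintype.card Ω : ℚ) / ((fx g : Finset Ω).card : ℚ))
    (fun x g => by rw [fx_conj]) h hab, nsmul_eq_mul, invSum]

theorem key [FaithfulSMul G Ω] (h : PairTrans G Ω) {a b : Ω} (hab : a ≠ b)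
    (hn : 7 ≤ Fintype.card Ω) (hh : 2 ≤ (stab a b : Finset G).card) :
    2 * ((stab a b : Finset G).card : ℚ) ≤ invSum G a b := by
  classical
  have h2 : 2 ≤ (line G a b).card :=
    Finset.one_lt_card.mpr ⟨a, left_mem_line a b, b, right_mem_line a b, hab⟩
  obtain h | h' | h'' : 4 ≤ (line G a b).card ∨ (line G a b).card = 3 ∨ (line G a b).card = 2 := by
    omega
  · exact key_large ‹PairTrans G Ω› hab hh h
  · exact key_three h hab hn hh h'
  · exact key_two h hab hn hh h''

/-- The main theorem. -/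
theorem derangement_two_over_degree [FaithfulSMul G Ω] [IsPretransitive G Ω]
    (hn : 7 ≤ Fintype.card Ω) :
    (((∃ g : G, g ≠ 1 ∧ ∃ ω : Ω, g • ω = ω) ∧
        ∀ g : G, g ≠ 1 → Nat.card (fixedBy Ω g) ≤ 1) ∧
      Nat.card G = Fintype.card Ω * (Fintype.card Ω - 1) ∧
      Fintype.card Ω * Nat.card {g : G // ∀ ω : Ω, g • ω ≠ ω} = Nat.card G) ∨
    2 * Nat.card G ≤ Fintype.card Ω * Nat.card {g : G // ∀ ω : Ω, g • ω ≠ ω} := by
  classical
  haveI : Nonempty Ω := Fintype.card_pos_iff.mp (by omega)
  rw [Nat.card_eq_fintype_card (α := G)]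
  by_cases hp : PairTrans G Ω
  swap
  · exact Or.inr ((sum_pairs_ge_two hp).trans derange_ge_pairs)
  obtain ⟨a, b, hab⟩ := Fintype.exists_pair_of_one_lt_card (α := Ω) (by omega)
  have hG := card_group (G := G) hp hab
  have hid := derange_pairTrans (G := G) hp hab
  rcases Nat.lt_or_ge (stab a b : Finset G).card 2 with h1 | h1
  · left
    have hs : (stab a b : Finset G).card = 1 := by
      have := Finset.card_pos.mpr ⟨1, one_mem_stab (G := G) a b⟩
      omega
    obtain ⟨u, hu⟩ := Finset.card_eq_one.mp hs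
    have hu1 : u = 1 := (Finset.mem_singleton.mp (hu ▸ one_mem_stab (G := G) a b)).symm
    rw [hu1] at hu
    have hinv : invSum G a b = 1 := by
      rw [invSum, hu, Finset.sum_singleton, fx_one, Finset.card_univ, div_self]
      exact_mod_cast (by omega : Fintype.card Ω ≠ 0)
    rw [hs, mul_one] at hG
    rw [hinv, mul_one, ← hG] at hid
    refine ⟨⟨?_, fun g hg => ?_⟩, hG, by exact_mod_cast hid⟩
    · have h3 : 1 < ((Finset.univ : Finset Ω).erase a).card := by
        rw [Finset.card_erase_of_mem (Finset.mem_univ a), Finset.card_univ]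
        omega
      obtain ⟨c, hc, hcb⟩ := Finset.exists_mem_ne h3 b
      obtain ⟨g, hga, hgb⟩ := hp a b a c hab (Finset.mem_erase.mp hc).1.symm
      exact ⟨g, fun e => hcb (by rw [← hgb, e, one_smul]), a, hga⟩
    · rw [card_fixedBy]
      by_contra hlt
      push Not at hlt
      obtain ⟨c, hc, d, hd, hcd⟩ := Finset.one_lt_card.mp hlt
      have hle := (card_stab_conj hp hab hcd).le
      rw [hs] at hle
      exact hg (Finset.card_le_one.mp hle g
        (mem_stab.mpr ⟨mem_fx.mp hc, mem_fx.mp hd⟩) 1 (one_mem_stab c d))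
  · right
    have hk := key hp hab hn h1
    rw [← Nat.cast_le (α := ℚ), Nat.cast_mul 2, Nat.cast_mul (Fintype.card Ω), hid, hG,
      Nat.cast_mul _ (stab a b).card, mul_left_comm, Nat.cast_ofNat]
    exact mul_le_mul_of_nonneg_left hk (Nat.cast_nonneg _)

end CfsgLib.Perm.DerangeBound
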