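import Cfsg.Agent.Lib.Perm.DerangeBoundLines

/-!
Orbits of two-point stabilisers: the deficit in the count of fixed points, and the conclusion that a
small deficit forces exponent two.
-/

set_option autoImplicit false
set_option linter.unusedSectionVars false

namespace CfsgLib.Perm.DerangeBound

open MulAction

variable {G Ω : Type*} [Group G] [MulAction G Ω] [Fintype G] [Fintype Ω]

variable (G) in
/-- The orbit of a point under a two point stabiliser. -/
noncomputable def orb (a b x : Ω) : Finset Ω := by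
  classical exact (stab a b : Finset G).image fun g => g • x

variable (G) in
/-- The number of elements of a two point stabiliser fixing a further point. -/
noncomputable def cst (a b x : Ω) : ℕ := by
  classical exact ((stab a b : Finset G).filter fun g => g • x = x).card

variable (G) in
/-- The deficit of the fixed point count. -/
noncomputable def defc (a b : Ω) : ℤ := by
  classical exact ∑ x ∈ Finset.univ \ line G a b,
    (((stab a b : Finset G).card : ℤ) - 2 * (cst G a b x : ℤ))

theorem mem_orb {a b x y : Ω} : y ∈ orb G a b x ↔ ∃ g ∈ (stab a b : Finset G), g • x = y := by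
  simp [orb]

theorem stab_mul {a b : Ω} {u v : G} (hu : u ∈ (stab a b : Finset G))
    (hv : v ∈ (stab a b : Finset G)) : u * v ∈ (stab a b : Finset G) := by
  rw [mem_stab] at *
  simp [mul_smul, hu.1, hu.2, hv.1, hv.2]

theorem stab_inv {a b : Ω} {u : G} (hu : u ∈ (stab a b : Finset G)) :
    u⁻¹ ∈ (stab a b : Finset G) := by
  rw [mem_stab] at *
  rw [inv_smul_eq_iff, inv_smul_eq_iff]
  exact ⟨hu.1.symm, hu.2.symm⟩

theorem self_mem_orb (a b x : Ω) : x ∈ orb G a b x :=
  mem_orb.mpr ⟨1, one_mem_stab a b, one_smul _ _⟩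

theorem orb_eq {a b x y : Ω} (hy : y ∈ orb G a b x) : orb G a b y = orb G a b x := by
  obtain ⟨u, hu, rfl⟩ := mem_orb.mp hy
  ext z
  rw [mem_orb, mem_orb]
  constructor
  · rintro ⟨g, hg, rfl⟩
    exact ⟨g * u, stab_mul hg hu, mul_smul _ _ _⟩
  · rintro ⟨g, hg, rfl⟩
    exact ⟨g * u⁻¹, stab_mul hg (stab_inv hu), by rw [mul_smul, inv_smul_smul]⟩

theorem card_orb_mul (a b x : Ω) :
    (orb G a b x).card * cst G a b x = (stab a b : Finset G).card := by
  classical
  have hm : Set.MapsTo (fun g : G => g • x) ((stab a b : Finset G) : Set G)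
      (orb G a b x : Set Ω) := fun g hg => Finset.mem_coe.mpr (mem_orb.mpr ⟨g, hg, rfl⟩)
  rw [Finset.card_eq_sum_card_fiberwise hm, Finset.sum_eq_card_nsmul (b := cst G a b x),
    smul_eq_mul]
  intro y hy
  obtain ⟨u, hu, rfl⟩ := mem_orb.mp hy
  simp only [cst]
  refine Finset.card_bij' (fun g _ => u⁻¹ * g) (fun g _ => u * g) ?_ ?_ ?_ ?_
  · intro g hg
    rw [Finset.mem_filter] at hg ⊢
    exact ⟨stab_mul (stab_inv hu) hg.1, by rw [mul_smul, hg.2, inv_smul_smul]⟩
  · intro g hg
    rw [Finset.mem_filter] at hg ⊢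
    exact ⟨stab_mul hu hg.1, by rw [mul_smul, hg.2]⟩
  · intro g _; simp
  · intro g _; simp

theorem two_le_orb {a b x : Ω} (hx : x ∉ line G a b) : 2 ≤ (orb G a b x).card := by
  rw [mem_line] at hx
  push Not at hx
  obtain ⟨g, hg, hgx⟩ := hx
  exact Finset.one_lt_card.mpr ⟨_, mem_orb.mpr ⟨g, hg, rfl⟩, x, self_mem_orb a b x, hgx⟩

theorem orb_subset_compl {a b x : Ω} (hx : x ∉ line G a b) [DecidableEq Ω] :
    orb G a b x ⊆ Finset.univ \ line G a b := by
  intro y hy
  refine Finset.mem_sdiff.mpr ⟨Finset.mem_univ _, fun hl => hx ?_⟩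
  obtain ⟨g, hg, rfl⟩ := mem_orb.mp hy
  have := mem_line.mp hl _ (stab_inv hg)
  rw [inv_smul_smul] at this
  exact this ▸ hl

theorem two_cst_le {a b x : Ω} (hx : x ∉ line G a b) :
    2 * cst G a b x ≤ (stab a b : Finset G).card := by
  rw [← card_orb_mul a b x]
  exact Nat.mul_le_mul_right _ (two_le_orb hx)

theorem sum_fx (a b : Ω) :
    ∑ g ∈ (stab a b : Finset G), (fx g : Finset Ω).card = ∑ x : Ω, cst G a b x := by
  classical
  simp only [Finset.card_eq_sum_ones, cst, fx]
  refine Finset.sum_comm' fun g x => ?_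
  simp

theorem two_sum_fx (a b : Ω) :
    2 * ((∑ g ∈ (stab a b : Finset G), (fx g : Finset Ω).card : ℕ) : ℤ)
      = ((stab a b : Finset G).card : ℤ) * ((Fintype.card Ω : ℤ) + ((line G a b).card : ℤ))
        - defc G a b := by
  classical
  rw [sum_fx, Nat.cast_sum, ← Finset.sum_sdiff (Finset.subset_univ (line G a b))]
  have h1 : ∑ x ∈ line G a b, (cst G a b x : ℤ)
      = ((line G a b).card : ℤ) * ((stab a b : Finset G).card : ℤ) := by
    rw [Finset.sum_eq_card_nsmul (b := ((stab a b : Finset G).card : ℤ)), nsmul_eq_mul]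
    intro x hx
    simp only [cst]
    rw [Finset.filter_true_of_mem fun g hg => mem_line.mp hx g hg]
  have h2 : ((Finset.univ \ line G a b).card : ℤ)
      = (Fintype.card Ω : ℤ) - ((line G a b).card : ℤ) := by
    rw [Finset.card_univ_diff, Nat.cast_sub (Finset.card_le_univ _)]
  simp only [defc]
  rw [h1, Finset.sum_sub_distrib, Finset.sum_const, nsmul_eq_mul, ← Finset.mul_sum, h2]
  ring

theorem orbit_deficit {a b : Ω} {s : Finset Ω} [DecidableEq Ω]
    (hs : s ⊆ Finset.univ \ line G a b) :
    ∑ x ∈ s, (((stab a b : Finset G).card : ℤ) - 2 * (cst G a b x : ℤ)) ≤ defc G a b := by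
  classical
  simp only [defc]
  refine le_trans (Finset.sum_le_sum_of_subset_of_nonneg hs fun x hx _ => ?_) (le_of_eq ?_)
  · have := two_cst_le (Finset.mem_sdiff.mp hx).2
    omega
  · congr!

theorem orb_sum (a b x : Ω) :
    ∑ y ∈ orb G a b x, (((stab a b : Finset G).card : ℤ) - 2 * (cst G a b y : ℤ))
      = (((orb G a b x).card : ℤ) - 2) * ((stab a b : Finset G).card : ℤ) := by
  have hy : ∀ y ∈ orb G a b x, cst G a b y = cst G a b x := by
    intro y hy
    have h1 := card_orb_mul (G := G) a b y
    rw [orb_eq hy, ← card_orb_mul (G := G) a b x] at h1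
    exact Nat.eq_of_mul_eq_mul_left (Finset.card_pos.mpr ⟨x, self_mem_orb a b x⟩) h1
  rw [Finset.sum_congr rfl fun y h => by rw [hy y h], Finset.sum_const, nsmul_eq_mul,
    ← card_orb_mul (G := G) a b x]
  push_cast
  ring

theorem orb_le_three {a b : Ω} (hD : defc G a b < 2 * ((stab a b : Finset G).card : ℤ)) (x : Ω) :
    (orb G a b x).card ≤ 3 := by
  classical
  by_cases hx : x ∈ line G a b
  · refine le_trans (Finset.card_le_one.mpr fun y hy z hz => ?_) (by norm_num)
    obtain ⟨g, hg, rfl⟩ := mem_orb.mp hy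
    obtain ⟨u, hu, rfl⟩ := mem_orb.mp hz
    rw [mem_line.mp hx g hg, mem_line.mp hx u hu]
  · by_contra hc
    have := orbit_deficit (orb_subset_compl (G := G) hx)
    rw [orb_sum] at this
    nlinarith

theorem orb_three_unique {a b x y : Ω}
    (hD : defc G a b < 2 * ((stab a b : Finset G).card : ℤ))
    (hx : (orb G a b x).card = 3) (hy : (orb G a b y).card = 3) : y ∈ orb G a b x := by
  classical
  by_contra hne
  have hd : Disjoint (orb G a b x) (orb G a b y) := Finset.disjoint_left.mpr fun z hz hz' =>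
    hne (by rw [← orb_eq hz, orb_eq hz']; exact self_mem_orb a b y)
  have hnl : ∀ z, (orb G a b z).card = 3 → z ∉ line G a b := fun z hz hl => by
    have : orb G a b z ⊆ {z} := fun w hw => by
      obtain ⟨g, hg, rfl⟩ := mem_orb.mp hw
      rw [mem_line.mp hl g hg]; exact Finset.mem_singleton_self z
    have := Finset.card_le_card this
    rw [hz, Finset.card_singleton] at this
    omega
  have := orbit_deficit (G := G) (Finset.union_subset (orb_subset_compl (hnl x hx))
    (orb_subset_compl (hnl y hy)))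
  rw [Finset.sum_union hd, orb_sum, orb_sum, hx, hy] at this
  push_cast at this
  linarith

/-- A stabiliser with small orbits has no element moving exactly three points. -/
theorem no_three [FaithfulSMul G Ω] [DecidableEq Ω] (h : PairTrans G Ω) {a b : Ω} (hab : a ≠ b)
    (hn : 6 ≤ Fintype.card Ω) (horb : ∀ x : Ω, (orb G a b x).card ≤ 3) (u : G)
    (hu : (MulAction.toPermHom G Ω u).support.card = 3) : False := by
  classical
  set R := (MulAction.toPermHom G Ω).range
  have hsm : ∀ (g : G) (x : Ω), MulAction.toPermHom G Ω g x = g • x := fun _ _ => rfl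
  have h2 : IsMultiplyPretransitive R Ω 2 := by
    rw [is_two_pretransitive_iff]
    intro x y z w hxy hzw
    obtain ⟨g, h1, h2⟩ := h x y z w hxy hzw
    exact ⟨⟨_, g, rfl⟩, h1, h2⟩
  have hA : alternatingGroup Ω ≤ R :=
    Equiv.Perm.alternatingGroup_le_of_isPreprimitive_of_isThreeCycle_mem
      (isPreprimitive_of_is_two_pretransitive h2) (card_support_eq_three_iff.mp hu) ⟨u, rfl⟩
  set T : Finset Ω := (Finset.univ.erase a).erase b
  have hT : T.card = Fintype.card Ω - 2 := by
    rw [Finset.card_erase_of_mem (Finset.mem_erase.mpr ⟨hab.symm, Finset.mem_univ b⟩),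
      Finset.card_erase_of_mem (Finset.mem_univ a), Finset.card_univ]
    omega
  obtain ⟨x, hx⟩ := Finset.card_pos.mp (show 0 < T.card by omega)
  have hsub : T ⊆ orb G a b x := by
    intro y hy
    by_cases hyx : y = x
    · rw [hyx]; exact self_mem_orb a b x
    have hT2 : 1 < ((T.erase x).erase y).card := by
      have h1 := Finset.pred_card_le_card_erase (s := T.erase x) (a := y)
      have h2 := Finset.card_erase_of_mem hx
      omega
    obtain ⟨p, hp, q, hq, hpq⟩ := Finset.one_lt_card.mp hT2
    simp only [T, Finset.mem_erase, Finset.mem_univ, and_true] at hx hy hp hq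
    have he : Equiv.swap x y * Equiv.swap p q ∈ alternatingGroup Ω := by
      rw [Equiv.Perm.mem_alternatingGroup, map_mul, Equiv.Perm.sign_swap (Ne.symm hyx),
        Equiv.Perm.sign_swap hpq]
      rfl
    obtain ⟨g, hg⟩ := hA he
    have hgx : ∀ z : Ω, g • z = Equiv.swap x y (Equiv.swap p q z) := fun z => by
      rw [← hsm g z, hg]; rfl
    refine mem_orb.mpr ⟨g, mem_stab.mpr ⟨?_, ?_⟩, ?_⟩
    · rw [hgx, Equiv.swap_apply_of_ne_of_ne hp.2.2.2.symm hq.2.2.2.symm,
        Equiv.swap_apply_of_ne_of_ne hx.2.symm hy.2.symm]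
    · rw [hgx, Equiv.swap_apply_of_ne_of_ne hp.2.2.1.symm hq.2.2.1.symm,
        Equiv.swap_apply_of_ne_of_ne hx.1.symm hy.1.symm]
    · rw [hgx, Equiv.swap_apply_of_ne_of_ne hp.2.1.symm hq.2.1.symm, Equiv.swap_apply_left]
  have := Finset.card_le_card hsub
  have := horb x
  omega

theorem sq_eq_one [FaithfulSMul G Ω] (h : PairTrans G Ω) {a b : Ω} (hab : a ≠ b)
    (hn : 6 ≤ Fintype.card Ω) (hD : defc G a b < 2 * ((stab a b : Finset G).card : ℤ)) {g : G}
    (hg : g ∈ (stab a b : Finset G)) : g * g = 1 := by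
  classical
  by_contra hne
  have key : ∀ y : Ω, (g * g) • y ≠ y →
      orb G a b y = {y, g • y, (g * g) • y} ∧ (orb G a b y).card = 3 := by
    intro y hy
    have h1 : g • y ≠ y := fun e => hy (by rw [mul_smul, e, e])
    have h2 : (g * g) • y ≠ g • y := fun e => h1 (MulAction.injective g (by dsimp only; rw [← mul_smul, e]))
    have hs : ({y, g • y, (g * g) • y} : Finset Ω) ⊆ orb G a b y := by
      intro z hz
      simp only [Finset.mem_insert, Finset.mem_singleton] at hz
      rcases hz with rfl | rfl | rfl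
      · exact self_mem_orb a b z
      · exact mem_orb.mpr ⟨g, hg, rfl⟩
      · exact mem_orb.mpr ⟨g * g, stab_mul hg hg, rfl⟩
    have hc : ({y, g • y, (g * g) • y} : Finset Ω).card = 3 :=
      Finset.card_eq_three.mpr ⟨_, _, _, h1.symm, hy.symm, h2.symm, rfl⟩
    have hle := orb_le_three hD y
    have he := Finset.eq_of_subset_of_card_le hs (by omega)
    exact ⟨he.symm, he ▸ hc⟩
  obtain ⟨x, hx⟩ := exists_moved (Ω := Ω) hne
  obtain ⟨hxo, hx3⟩ := key x hx
  apply no_three h hab hn (orb_le_three hD) (g * g)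
  have hsupp : (MulAction.toPermHom G Ω (g * g)).support = orb G a b x := by
    ext y
    rw [Equiv.Perm.mem_support]
    change (g * g) • y ≠ y ↔ _
    refine ⟨fun hy => orb_three_unique hD hx3 (key y hy).2, fun hy e => ?_⟩
    have h1 : g • x ≠ x := fun e' => hx (by rw [mul_smul, e', e'])
    have hmem : g • (g * g) • x ∈ orb G a b x := by
      rw [← mul_smul]; exact mem_orb.mpr ⟨_, stab_mul hg (stab_mul hg hg), rfl⟩
    rw [hxo] at hmem hy
    simp only [Finset.mem_insert, Finset.mem_singleton] at hmem hy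
    have hi := MulAction.injective g (β := Ω)
    rcases hy with rfl | rfl | rfl
    · exact hx e
    · exact hx (hi (by simpa [mul_smul] using e))
    · exact hx (hi (hi (by simpa [mul_smul] using e)))
  rw [hsupp, hx3]

end CfsgLib.Perm.DerangeBound
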