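import Cfsg.Agent.Lib.Perm.DerangeBoundOrbit

/-!
The lower bound for the inverse fixed-point sum when the lines have three points or more.
-/

set_option autoImplicit false
set_option linter.unusedSectionVars false

namespace CfsgLib.Perm.DerangeBound

open MulAction

variable {G Ω : Type*} [Group G] [MulAction G Ω] [Fintype G] [Fintype Ω] [FaithfulSMul G Ω]

theorem key_large (h : PairTrans G Ω) {a b : Ω} (hab : a ≠ b)
    (hh : 2 ≤ (stab a b : Finset G).card) (hK : 4 ≤ (line G a b).card) :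
    2 * ((stab a b : Finset G).card : ℚ) ≤ invSum G a b := by
  have hn2 := two_le_fx hab (one_mem_stab (G := G) a b)
  rw [fx_one, Finset.card_univ] at hn2
  have hn : (0 : ℚ) < (Fintype.card Ω : ℚ) := Nat.cast_pos.mpr (by omega)
  refine le_trans ?_ (invSum_ge_of_fx_le (m := (Fintype.card Ω : ℚ) / 3) hab (by linarith) ?_)
  · have hh' : (2 : ℚ) ≤ ((stab a b : Finset G).card : ℚ) := Nat.ofNat_le_cast.mpr hh
    rw [div_div_cancel₀ hn.ne']
    linarith
  · intro g _ hg1
    have h1 := card_fx_mul_le h hab hg1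
    have h2 : (fx g : Finset Ω).card * 3 ≤ Fintype.card Ω :=
      le_trans (Nat.mul_le_mul_left _ (by omega)) (le_trans h1 (Nat.sub_le _ _))
    rw [le_div_iff₀ (by norm_num)]
    exact_mod_cast h2

theorem odd_degree (h : PairTrans G Ω) {a b : Ω} (hab : a ≠ b) (hK : (line G a b).card = 3) :
    ∃ m, Fintype.card Ω = 2 * m + 1 := by
  classical
  have hh := Finset.card_eq_sum_card_image (fun y => line G a y) (Finset.univ.erase a)
  rw [Finset.sum_eq_card_nsmul (b := 2), Finset.card_erase_of_mem (Finset.mem_univ a),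
    Finset.card_univ, smul_eq_mul] at hh
  · have : 0 < Fintype.card Ω := Fintype.card_pos_iff.mpr ⟨a⟩
    exact ⟨((Finset.univ.erase a).image fun y => line G a y).card, by omega⟩
  · intro L hL
    obtain ⟨y, hy, rfl⟩ := Finset.mem_image.mp hL
    have hay : a ≠ y := fun e => (Finset.mem_erase.mp hy).1 e.symm
    have hf : ((Finset.univ.erase a).filter fun z => line G a z = line G a y)
        = (line G a y).erase a := by
      ext z
      simp only [Finset.mem_filter, Finset.mem_erase, Finset.mem_univ, and_true]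
      refine and_congr_right fun hz => ⟨fun e => e ▸ right_mem_line a z,
        fun hm => line_eq_of_mem h hay (Ne.symm hz) (left_mem_line a y) hm⟩
    rw [hf, Finset.card_erase_of_mem (left_mem_line a y), card_line h hab hay, hK]

theorem exists_conj_map (h : PairTrans G Ω) {g : G} (hg : g ≠ 1) {p y : Ω} (hpy : p ≠ y) :
    ∃ v : G, (v * g * v⁻¹) • p = y := by
  obtain ⟨w, hw⟩ := exists_moved (Ω := Ω) hg
  obtain ⟨v, h1, h2⟩ := h w (g • w) p y (Ne.symm hw) hpy
  exact ⟨v, by rw [mul_smul, mul_smul, inv_smul_eq_iff.mpr h1.symm, h2]⟩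

theorem eq_one_of_commute_conj (h : PairTrans G Ω) {g : G} {p : Ω} (hp : g • p = p)
    (hc : ∀ v : G, g * (v * g * v⁻¹) = (v * g * v⁻¹) * g) : g = 1 := by
  by_contra hg
  obtain ⟨y, hy⟩ := exists_moved (Ω := Ω) hg
  obtain ⟨v, hv⟩ := exists_conj_map h hg (fun e : p = y => hy (e ▸ hp))
  refine hy ?_
  conv_lhs => rw [← hv]
  rw [← mul_smul, hc v, mul_smul, hp, hv]

theorem large_fx_false (h : PairTrans G Ω) {a b : Ω} (hab : a ≠ b) (hn : 9 ≤ Fintype.card Ω)
    (hK : (line G a b).card = 3) (hsq : ∀ c d : Ω, c ≠ d → ∀ u ∈ (stab c d : Finset G), u * u = 1)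
    {g : G} (hg1 : g ≠ 1) (hg : 2 * (fx g : Finset Ω).card + 1 = Fintype.card Ω) : False := by
  classical
  set P : Finset Ω := fx g with hP
  have hP4 : 4 ≤ P.card := by omega
  obtain ⟨p0, hp0⟩ := Finset.card_pos.mp (show 0 < P.card by omega)
  have hmeet : ∀ x z : Ω, g • x ≠ x → z ≠ x → ∃ p, g • p = p ∧ p ∈ line G x z := fun x z hx hz =>
    (lines_through h hab hx).2 (by rw [hK, ← hP]; omega) z hz
  refine hg1 (eq_one_of_commute_conj h (mem_fx.mp hp0) fun v => ?_)
  set g' := v * g * v⁻¹ with hg'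
  have hP' : (fx g' : Finset Ω).card = P.card := fx_conj v g
  obtain ⟨r, hr, s, hs, hrs⟩ : ∃ r ∈ P ∩ fx g', ∃ s ∈ P ∩ fx g', r ≠ s := by
    rw [← Finset.one_lt_card]
    by_contra hle
    push Not at hle
    have h1 : ∀ r s, g • r = r → g' • r = r → g • s = s → g' • s = s → r = s := fun r s a1 a2 a3 a4 =>
      Finset.card_le_one.mp hle r (Finset.mem_inter.mpr ⟨mem_fx.mpr a1, mem_fx.mpr a2⟩) s
        (Finset.mem_inter.mpr ⟨mem_fx.mpr a3, mem_fx.mpr a4⟩)
    obtain ⟨p, hp, hpP⟩ : ∃ p ∈ (fx g' : Finset Ω), p ∉ P := by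
      by_contra hall
      push Not at hall
      have := Finset.card_le_card (Finset.subset_inter hall (subset_refl (fx g' : Finset Ω)))
      omega
    rw [mem_fx] at hp
    have hgp : g • p ≠ p := fun e => hpP (mem_fx.mpr e)
    have hmem : ∀ q ∈ (fx g' : Finset Ω), q ≠ p →
        ∃ r, g • r = r ∧ g' • r = r ∧ r ≠ p ∧ line G p q = line G p r := by
      intro q hq hqp
      obtain ⟨r, hr, hrl⟩ := hmeet p q hgp hqp
      have hrp : r ≠ p := fun e => hgp (e ▸ hr)
      exact ⟨r, hr, line_fixed hp (mem_fx.mp hq) hrl, hrp,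
        (line_eq_of_mem h hqp.symm hrp.symm (left_mem_line p q) hrl).symm⟩
    obtain ⟨q0, hq0⟩ : ((fx g' : Finset Ω).erase p).Nonempty := Finset.card_pos.mp <| by
      rw [Finset.card_erase_of_mem (mem_fx.mpr hp)]; omega
    obtain ⟨hq0p, hq0⟩ := Finset.mem_erase.mp hq0
    obtain ⟨r0, a1, a2, a3, -⟩ := hmem q0 hq0 hq0p
    have hsub : (fx g' : Finset Ω) ⊆ line G p r0 := by
      intro q hq
      by_cases hqp : q = p
      · rw [hqp]; exact left_mem_line p r0
      obtain ⟨r, b1, b2, -, b4⟩ := hmem q hq hqp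
      rw [h1 r0 r a1 a2 b1 b2, ← b4]
      exact right_mem_line p q
    have := Finset.card_le_card hsub
    rw [card_line h hab a3.symm, hK] at this
    omega
  rw [Finset.mem_inter, hP, mem_fx, mem_fx] at hr hs
  have h1 := hsq r s hrs g (mem_stab.mpr ⟨hr.1, hs.1⟩)
  have h2 := hsq r s hrs g' (mem_stab.mpr ⟨hr.2, hs.2⟩)
  have hm : g * g' ∈ (stab r s : Finset G) :=
    stab_mul (mem_stab.mpr ⟨hr.1, hs.1⟩) (mem_stab.mpr ⟨hr.2, hs.2⟩)
  have h3 := hsq r s hrs _ hm
  calc g * g' = (g * g')⁻¹ := eq_inv_of_mul_eq_one_left h3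
    _ = g'⁻¹ * g⁻¹ := mul_inv_rev _ _
    _ = g' * g := by rw [← eq_inv_of_mul_eq_one_left h1, ← eq_inv_of_mul_eq_one_left h2]

theorem degree_seven_false (h : PairTrans G Ω) {a b : Ω} (hab : a ≠ b)
    (hn : Fintype.card Ω = 7) (hh : 2 ≤ (stab a b : Finset G).card)
    (hh' : (stab a b : Finset G).card ≤ 3) {g : G} (hga : g • a = a)
    (hg : (fx g : Finset Ω).card = 3) : False := by
  classical
  haveI : Fact (Nat.Prime 7) := ⟨by norm_num⟩
  have hG : Nat.card G = 42 * (stab a b : Finset G).card := by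
    rw [Nat.card_eq_fintype_card, card_group h hab, hn]
  obtain ⟨P⟩ : Nonempty (Sylow 7 G) := inferInstance
  have hP7 : Nat.card P = 7 := by
    obtain ⟨k, hk⟩ := IsPGroup.iff_card.mp P.isPGroup'
    have h1 : 7 ∣ Nat.card P := P.dvd_card_of_dvd_card (by rw [hG]; omega)
    have h2 : Nat.card P ∣ Nat.card G := Subgroup.card_subgroup_dvd_card (P : Subgroup G)
    rcases k with - | - | k
    · rw [hk] at h1; norm_num at h1
    · simpa using hk
    · have h49 : 49 ∣ Nat.card G := dvd_trans ⟨7 ^ k, by rw [hk]; ring⟩ h2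
      rw [hG] at h49
      omega
  have hidx : (P : Subgroup G).index = 6 * (stab a b : Finset G).card := by
    have := Subgroup.index_mul_card (P : Subgroup G)
    rw [hG, hP7] at this
    omega
  have hone : Nat.card (Sylow 7 G) = 1 := by
    have h1 : Nat.card (Sylow 7 G) ≡ 1 [MOD 7] := card_sylow_modEq_one 7 G
    have h2 : Nat.card (Sylow 7 G) ∣ 6 * (stab a b : Finset G).card := hidx ▸ P.card_dvd_index
    have h3 := Nat.le_of_dvd (by omega) h2
    unfold Nat.ModEq at h1
    obtain hc | hc : (stab a b : Finset G).card = 2 ∨ (stab a b : Finset G).card = 3 := by omega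
    all_goals
      rw [hc] at h2 h3
      interval_cases Nat.card (Sylow 7 G) <;> omega
  haveI : Subsingleton (Sylow 7 G) := (Nat.card_eq_one_iff_unique.mp hone).1
  have hnormal : (P : Subgroup G).Normal := P.normal_of_subsingleton
  obtain ⟨⟨m, hm⟩, hm1⟩ : ∃ m : (P : Subgroup G), m ≠ 1 := by
    have : Nontrivial (P : Subgroup G) :=
      Finite.one_lt_card_iff_nontrivial.mp (by rw [hP7]; norm_num)
    exact exists_ne 1
  have hm1' : m ≠ 1 := fun e => hm1 (Subtype.ext e)
  have hsurj : Function.Surjective (fun u : (P : Subgroup G) => (u : G) • a) := by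
    intro y
    by_cases hy : a = y
    · exact ⟨1, by simp [hy]⟩
    obtain ⟨v, hv⟩ := exists_conj_map h hm1' hy
    exact ⟨⟨_, hnormal.conj_mem m hm v⟩, hv⟩
  have hbij : Function.Bijective (fun u : (P : Subgroup G) => (u : G) • a) :=
    hsurj.bijective_of_nat_card_le (by rw [hP7, Nat.card_eq_fintype_card, hn])
  set C : Subgroup G := (P : Subgroup G) ⊓ Subgroup.centralizer {g}
  have hC : Nat.card C = (fx g : Finset Ω).card := by
    rw [← Nat.card_eq_finsetCard]
    refine Nat.card_eq_of_bijective (fun u => ⟨(u : G) • a, mem_fx.mpr ?_⟩) ⟨?_, ?_⟩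
    · have := Subgroup.mem_centralizer_singleton_iff.mp u.2.2
      rw [← mul_smul, ← this, mul_smul, hga]
    · intro u v e
      have := hbij.1 (a₁ := ⟨(u : G), u.2.1⟩) (a₂ := ⟨(v : G), v.2.1⟩) (congrArg Subtype.val e)
      exact Subtype.ext (Subtype.mk.inj this)
    · rintro ⟨y, hy⟩
      obtain ⟨u, rfl⟩ := hbij.2 y
      rw [mem_fx] at hy
      have hc : g * (u : G) * g⁻¹ ∈ (P : Subgroup G) := hnormal.conj_mem _ u.2 g
      have := hbij.1 (a₁ := ⟨_, hc⟩) (a₂ := u) (by
        change (g * (u : G) * g⁻¹) • a = (u : G) • a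
        rw [mul_smul, mul_smul, inv_smul_eq_iff.mpr hga.symm, hy])
      refine ⟨⟨u, u.2, Subgroup.mem_centralizer_singleton_iff.mpr ?_⟩, rfl⟩
      have he : g * (u : G) * g⁻¹ = u := congrArg Subtype.val this
      exact (mul_inv_eq_iff_eq_mul.mp he).symm
  have := Subgroup.card_dvd_of_le (inf_le_left : C ≤ (P : Subgroup G))
  rw [hC, hg, hP7] at this
  omega

theorem key_three (h : PairTrans G Ω) {a b : Ω} (hab : a ≠ b) (hn : 7 ≤ Fintype.card Ω)
    (hh : 2 ≤ (stab a b : Finset G).card) (hK : (line G a b).card = 3) :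
    2 * ((stab a b : Finset G).card : ℚ) ≤ invSum G a b := by
  classical
  obtain ⟨m, hm⟩ := odd_degree h hab hK
  have hpi : ∀ g : G, g ≠ 1 → (fx g : Finset Ω).card ≤ m := fun g hg => by
    have := card_fx_mul_le h hab hg
    rw [hK] at this
    omega
  set s := (stab a b : Finset G).card with hs
  have hs' : (2 : ℚ) ≤ (s : ℚ) := Nat.ofNat_le_cast.mpr hh
  have hm3 : (3 : ℚ) ≤ (m : ℚ) := Nat.ofNat_le_cast.mpr (by omega)
  have hmq : (Fintype.card Ω : ℚ) = 2 * m + 1 := by exact_mod_cast hm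
  by_cases hA : Fintype.card Ω + 1 ≤ 2 * s
  · refine le_trans ?_ (invSum_ge_of_fx_le (m := (m : ℚ)) hab (by linarith)
      fun g _ hg => Nat.cast_le.mpr (hpi g hg))
    have hA' : (m : ℚ) + 1 ≤ (s : ℚ) := by exact_mod_cast (by omega : m + 1 ≤ s)
    rw [← hs, hmq, mul_div_assoc', ← sub_le_iff_le_add', le_div_iff₀ (by linarith)]
    nlinarith
  have hA' : s ≤ m := by omega
  have hA'' : (s : ℚ) ≤ (m : ℚ) := Nat.cast_le.mpr hA'
  have hS := two_sum_fx (G := G) a b
  rw [hK, ← hs, hm] at hS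
  push_cast at hS
  have hDq : 2 * (∑ g ∈ (stab a b : Finset G), ((fx g : Finset Ω).card : ℚ))
      = (s : ℚ) * (2 * (m : ℚ) + 4) - (defc G a b : ℚ) := by
    have := congrArg (fun z : ℤ => (z : ℚ)) hS
    push_cast at this
    linarith
  have hD0 : (0 : ℚ) ≤ (defc G a b : ℚ) := by
    have := orbit_deficit (G := G) (a := a) (b := b) (s := ∅) (Finset.empty_subset _)
    simp only [Finset.sum_empty] at this
    exact_mod_cast this
  by_cases hB1 : 6 * s ≤ Fintype.card Ω + 3
  · apply invSum_ge_of_sum hab hh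
    rw [← hs, hmq]
    have : 6 * (s : ℚ) ≤ 2 * (m : ℚ) + 4 := by exact_mod_cast (by omega : 6 * s ≤ 2 * m + 4)
    nlinarith
  by_cases hB2 : ∀ g ∈ (stab a b : Finset G), g ≠ 1 → (fx g : Finset Ω).card + 1 ≤ m
  · refine le_trans ?_ (invSum_ge_of_fx_le (m := (m : ℚ) - 1) hab (by linarith)
      fun g hg hg1 => by
        rw [le_sub_iff_add_le]
        exact_mod_cast hB2 g hg hg1)
    have : 2 * (m : ℚ) + 4 ≤ 6 * (s : ℚ) := by exact_mod_cast (by omega : 2 * m + 4 ≤ 6 * s)
    rw [← hs, hmq, mul_div_assoc', ← sub_le_iff_le_add', le_div_iff₀ (by linarith)]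
    nlinarith
  push Not at hB2
  obtain ⟨g, hg, hg1, hgm⟩ := hB2
  have hgm' : (fx g : Finset Ω).card = m := le_antisymm (hpi g hg1) (by omega)
  rcases Nat.lt_or_ge (Fintype.card Ω) 9 with h9 | h9
  · exact (degree_seven_false h hab (by omega) hh (by omega)
      (mem_stab.mp hg).1 (by omega)).elim
  by_contra hfail
  have hf : ¬ ((2 * (s : ℚ) - 1) * (∑ g ∈ (stab a b : Finset G), ((fx g : Finset Ω).card : ℚ))
      ≤ (Fintype.card Ω : ℚ) * (s : ℚ) ^ 2) := fun hle => hfail (invSum_ge_of_sum hab hh hle)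
  rw [hmq] at hf
  push Not at hf
  have hD : defc G a b < 2 * (s : ℤ) := by
    have : (defc G a b : ℚ) < 2 * (s : ℚ) := by
      by_contra hge
      push Not at hge
      nlinarith [mul_le_mul_of_nonneg_left hge (by linarith : (0 : ℚ) ≤ 2 * (s : ℚ) - 1)]
    exact_mod_cast this
  refine large_fx_false h hab h9 hK (fun c d hcd u hu => ?_) hg1 (by omega)
  obtain ⟨x, hc, hd⟩ := h a b c d hab hcd
  have hm' : x⁻¹ * u * x ∈ (stab a b : Finset G) := by
    rw [mem_stab] at hu ⊢
    constructor <;> rw [mul_smul, mul_smul, inv_smul_eq_iff]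
    · rw [hc, hu.1]
    · rw [hd, hu.2]
  have := sq_eq_one h hab (by omega) hD hm'
  calc u * u = x * ((x⁻¹ * u * x) * (x⁻¹ * u * x)) * x⁻¹ := by group
    _ = 1 := by rw [this]; group

end CfsgLib.Perm.DerangeBound
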