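import Mathlib
import Cfsg.Agent.Lib.ThreeTrans.DoubleCoverAlt
import Cfsg.Agent.Lib.Char.Exceptional.AltMultiplier
import Cfsg.Agent.Lib.Perm.CommutatorSwap

/-!
# Lifts in a perfect double cover of an alternating group

* `sq_ne_one`: a lift of a double transposition has order four;
* `exists_commutator`: every element of a perfect double cover of `A_n`, `n ≥ 5`, is a commutator.
-/

set_option autoImplicit false
set_option linter.style.haveILetI false

namespace CfsgLib.Perm.DoubleCoverLift

open Equiv Function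
open CfsgLib.Char.Exceptional.AltMultiplier (D apply_fix exists_lift exists_move ker_le_D
  commutator_sup_central_le)

universe u

theorem cycleType_permCongr {β γ : Type*} [Fintype β] [DecidableEq β] [Fintype γ] [DecidableEq γ]
    (e : β ≃ γ) (g : Perm β) : (e.permCongr g).cycleType = g.cycleType := by
  have h : e.permCongr g = g.extendDomain (p := fun _ : γ => True)
      (e.trans (Equiv.subtypeUnivEquiv fun _ => trivial).symm) := by
    ext y
    rw [Perm.extendDomain_apply_subtype _ _ trivial]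
    simp [Equiv.permCongr_apply]
  rw [h, Perm.cycleType_extendDomain]

/-- Restriction to a point stabiliser, with the cycle types. -/
theorem restrict_type {n : ℕ} {Γ : Type u} [Group Γ] [Finite Γ]
    (σ : Γ →* alternatingGroup (Fin (n + 1))) (hs : Surjective σ)
    (hc : σ.ker ≤ Subgroup.center Γ) (hd : σ.ker ≤ commutator Γ) (hn : 6 ≤ n) :
    ∃ (H : Subgroup Γ) (τ : H →* alternatingGroup (Fin n)), Surjective τ ∧
      τ.ker ≤ Subgroup.center H ∧ commutator H = ⊤ ∧ Nat.card τ.ker = Nat.card σ.ker ∧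
      ∀ y : Γ, (σ y : Perm (Fin (n + 1))) (Fin.last n) = Fin.last n →
        ∃ d : H, y⁻¹ * (d : Γ) ∈ σ.ker ∧
          (τ d : Perm (Fin n)).cycleType = (σ y : Perm (Fin (n + 1))).cycleType := by
  classical
  let o : Fin (n + 1) := Fin.last n
  have hker : σ.ker ≤ D σ o := ker_le_D σ hs hc hd (by omega) o
  let s : Finset (Fin (n + 1)) := ({o} : Finset _)ᶜ
  have hcard : Fintype.card s = n := by
    rw [Fintype.card_coe, Finset.card_compl, Fintype.card_fin, Finset.card_singleton]; omega
  let e : alternatingGroup s ≃* alternatingGroup (Fin n) := (Fintype.equivFinOfCardEq hcard).altCongrHom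
  let f := MonoidHom.ofInjective (alternatingGroup.ofSubtype_injective (s := s))
  have hrange : ∀ g : alternatingGroup (Fin (n + 1)),
      g ∈ (alternatingGroup.ofSubtype s).range ↔ (g : Perm _) o = o := by
    intro g
    rw [alternatingGroup.mem_range_ofSubtype_iff, ← Perm.notMem_support]
    refine ⟨fun h ho => by simpa [s] using h ho, fun h x hx => ?_⟩
    simp only [s, Finset.mem_compl, Finset.mem_singleton]
    rintro rfl; exact h hx
  let σ' : D σ o →* (alternatingGroup.ofSubtype s).range :=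
    (σ.comp (D σ o).subtype).codRestrict _ fun x => (hrange _).2 (apply_fix σ x.2)
  let τ : D σ o →* alternatingGroup (Fin n) := e.toMonoidHom.comp (f.symm.toMonoidHom.comp σ')
  have hiff : ∀ x : D σ o, (x : Γ) ∈ σ.ker ↔ x ∈ τ.ker := fun x => by
    simp only [τ, MonoidHom.mem_ker, MonoidHom.comp_apply, MulEquiv.coe_toMonoidHom,
      EmbeddingLike.map_eq_one_iff]
    exact ⟨fun h => Subtype.ext h, fun h => congrArg Subtype.val h⟩
  have hlift : ∀ y : Γ, (σ y : Perm (Fin (n + 1))) o = o →
      ∃ d : D σ o, y⁻¹ * (d : Γ) ∈ σ.ker ∧ σ (d : Γ) = σ y := by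
    intro y hy
    obtain ⟨d, hd', hm⟩ := exists_lift σ hs {o} (by simp; omega) (σ y) (by simpa using hy)
    exact ⟨⟨d, hm o (by simp)⟩,
      by rw [MonoidHom.mem_ker, map_mul, map_inv, hd', inv_mul_cancel], hd'⟩
  refine ⟨D σ o, τ, fun g => ?_, fun x hx => ?_, ?_, ?_, fun y hy => ?_⟩
  · obtain ⟨y, hy⟩ := hs ((f (e.symm g) : _) : alternatingGroup _)
    obtain ⟨d, -, hd'⟩ := hlift y (by rw [hy]; exact (hrange _).1 (f (e.symm g)).2)
    refine ⟨d, ?_⟩
    have : σ' d = f (e.symm g) := Subtype.ext (hd'.trans hy)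
    show e (f.symm (σ' d)) = g
    rw [this, MulEquiv.symm_apply_apply, MulEquiv.apply_symm_apply]
  · exact Subgroup.mem_center_iff.2 fun y => Subtype.ext (Subgroup.mem_center_iff.1 (hc ((hiff x).2 hx)) y)
  · refine (Subgroup.eq_top_iff' _).2 fun x => ?_
    have hsup : (MulAction.stabilizer (alternatingGroup (Fin (n + 1))) o).comap σ ≤ D σ o ⊔ σ.ker := by
      intro y hy
      obtain ⟨d, hd', -⟩ := hlift y hy
      have := Subgroup.mul_mem_sup (S := D σ o) (T := σ.ker) d.2 (inv_mem hd')
      rwa [show (d : Γ) * (y⁻¹ * (d : Γ))⁻¹ = y by group] at this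
    have hDD : D σ o ≤ ⁅D σ o, D σ o⁆ := by
      conv_lhs => rw [D]
      exact (Subgroup.commutator_mono hsup hsup).trans (commutator_sup_central_le _ _ hc)
    have hx := hDD x.2
    rw [← Subgroup.map_subtype_commutator] at hx
    obtain ⟨y, hy, hyx⟩ := hx
    exact Subtype.ext hyx ▸ hy
  · exact Nat.card_congr
      { toFun := fun z => ⟨(z : D σ o), (hiff _).2 z.2⟩
        invFun := fun z => ⟨⟨z, hker z.2⟩, (hiff _).1 z.2⟩
        left_inv := fun z => rfl
        right_inv := fun z => rfl }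
  · obtain ⟨d, hd1, hd2⟩ := hlift y hy
    refine ⟨d, hd1, ?_⟩
    have h1 : (f (f.symm (σ' d)) : alternatingGroup (Fin (n + 1))) = σ y := by
      rw [MulEquiv.apply_symm_apply]; exact hd2
    rw [← h1]
    show ((Fintype.equivFinOfCardEq hcard).permCongr ((f.symm (σ' d) : alternatingGroup s) : Perm s)).cycleType =
      (Perm.ofSubtype ((f.symm (σ' d) : alternatingGroup s) : Perm s)).cycleType
    rw [cycleType_permCongr, Perm.cycleType_ofSubtype]

theorem ker_eq_center {n : ℕ} (hn : 5 ≤ n) {Γ : Type u} [Group Γ]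
    (π : Γ →* alternatingGroup (Fin n)) (hs : Surjective π) (hc : π.ker ≤ Subgroup.center Γ) :
    π.ker = Subgroup.center Γ := by
  refine le_antisymm hc fun x hx => ?_
  have h : π x ∈ Subgroup.center (alternatingGroup (Fin n)) := by
    refine Subgroup.mem_center_iff.2 fun g => ?_
    obtain ⟨y, rfl⟩ := hs g
    rw [← map_mul, Subgroup.mem_center_iff.1 hx y, map_mul]
  rw [alternatingGroup.center_eq_bot (by simp; omega), Subgroup.mem_bot] at h
  exact h

/-- A lift of a double transposition has order four. -/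
theorem sq_ne_one : ∀ (n : ℕ), 5 ≤ n → ∀ {Γ : Type u} [Group Γ] [Finite Γ]
    (π : Γ →* alternatingGroup (Fin n)), Surjective π → π.ker ≤ Subgroup.center Γ →
    commutator Γ = ⊤ → Nat.card π.ker = 2 → ∀ x : Γ,
    (π x : Perm (Fin n)).cycleType = {2, 2} → x * x ≠ 1 := by
  intro n
  induction n with
  | zero => intro h; omega
  | succ n ih =>
    intro h5 Γ _ _ π hs hc hperf hcard x hx
    by_cases h7 : n + 1 ≤ 7
    · intro hxx
      have hZ := ker_eq_center h5 π hs hc
      have hndc : Cfsg.IsNonsplitDoubleCover Γ (alternatingGroup (Fin (n + 1))) := by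
        refine ⟨hZ ▸ hcard, ⟨(QuotientGroup.quotientMulEquivOfEq hZ.symm).trans
          (QuotientGroup.quotientKerEquivOfSurjective π hs)⟩, fun L hL => ?_⟩
        have h2 : L.index = 2 := by
          rw [← hZ] at hL
          rw [hL.index_eq_card, hcard]
        haveI : L.Normal := Subgroup.normal_of_index_eq_two h2
        have htop : L = ⊤ := top_le_iff.1 (hperf ▸ (Subgroup.Normal.commutator_le_of_self_sup_commutative_eq_top
          (N := L) (H := Subgroup.center Γ) (by rw [sup_comm]; exact hL.sup_eq_top)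
          inferInstance : commutator Γ ≤ L))
        rw [htop, Subgroup.index_top] at h2
        omega
      have hxne : x ≠ 1 := fun h => by
        rw [h, map_one] at hx
        simp at hx
      haveI : Fact (Nat.Prime 2) := ⟨Nat.prime_two⟩
      have h1 : x ∈ π.ker := hZ ▸ CfsgLib.ThreeTrans.DoubleCoverAlt.unique_involution h7 hndc
        (orderOf_eq_prime (by rw [sq]; exact hxx) hxne)
      rw [MonoidHom.mem_ker.1 h1] at hx
      simp at hx
    · have hd : π.ker ≤ commutator Γ := hperf ▸ le_top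
      obtain ⟨H, τ, ts, tc, tperf, tcard, hmove⟩ := restrict_type π hs hc hd (by omega)
      obtain ⟨p, hp⟩ : ∃ p, p ∉ (π x : Perm (Fin (n + 1))).support := by
        by_contra h
        push Not at h
        have h1 := (π x : Perm (Fin (n + 1))).sum_cycleType
        rw [hx, Finset.eq_univ_iff_forall.2 h, Finset.card_univ, Fintype.card_fin] at h1
        simp at h1
        omega
      obtain ⟨g, hg, -⟩ := exists_move (m := n + 1) (by omega) ∅ (Finset.notMem_empty p)
        (Finset.notMem_empty (Fin.last n)) (by simp; omega)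
      obtain ⟨γ, rfl⟩ := hs g
      obtain ⟨d, hd1, hd2⟩ := hmove (γ * x * γ⁻¹) (by
        rw [map_mul, map_mul, map_inv]
        simp only [Subgroup.coe_mul, Subgroup.coe_inv, Perm.mul_apply]
        have e : (π γ : Perm (Fin (n + 1)))⁻¹ (Fin.last n) = p := by rw [← hg]; simp
        rw [e, Perm.notMem_support.1 hp, hg])
      intro hxx
      refine ih (by omega) τ ts tc tperf (tcard.trans hcard) d ?_ ?_
      · rw [hd2, map_mul, map_mul, map_inv, Subgroup.coe_mul, Subgroup.coe_mul, Subgroup.coe_inv,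
          Perm.cycleType_conj, hx]
      · apply Subtype.ext
        show (d : Γ) * (d : Γ) = 1
        obtain ⟨c, hc', hdc⟩ : ∃ c ∈ π.ker, (d : Γ) = γ * x * γ⁻¹ * c :=
          ⟨_, hd1, by group⟩
        have hcc : c * c = 1 := by
          have h := π.ker.orderOf_dvd_natCard hc'
          rw [hcard] at h
          rw [← sq]; exact orderOf_dvd_iff_pow_eq_one.1 h
        have hcm := Subgroup.mem_center_iff.1 (hc hc') (γ * x * γ⁻¹)
        calc (d : Γ) * d = γ * x * γ⁻¹ * (γ * x * γ⁻¹) * (c * c) := by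
              rw [hdc, mul_assoc, ← mul_assoc c, ← hcm]; simp [mul_assoc]
          _ = γ * (x * x) * γ⁻¹ := by rw [hcc]; group
          _ = 1 := by rw [hxx]; group

theorem swaps_type {α : Type*} [Fintype α] [DecidableEq α] {a b c d : α}
    (h : [a, b, c, d].Nodup) : (swap a b * swap c d).cycleType = {2, 2} := by
  simp only [List.nodup_cons, List.mem_cons, List.not_mem_nil, or_false, not_or] at h
  obtain ⟨⟨hab, hac, had⟩, ⟨hbc, hbd⟩, hcd, -⟩ := h
  have d0 : (swap a b).Disjoint (swap c d) := by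
    rw [Perm.disjoint_iff_disjoint_support, Perm.support_swap hab, Perm.support_swap hcd]
    simp [hac, had, hbc, hbd, Ne.symm hac, Ne.symm had, Ne.symm hbc, Ne.symm hbd]
  rw [d0.cycleType_mul, (Perm.isCycle_swap hab).cycleType, (Perm.isCycle_swap hcd).cycleType,
    Perm.card_support_swap hab, Perm.card_support_swap hcd]
  rfl

theorem swaps_mul {α : Type*} [DecidableEq α] {a b c d : α} (hab : a ≠ b) (hac : a ≠ c)
    (had : a ≠ d) (hbc : b ≠ c) (hbd : b ≠ d) (hcd : c ≠ d) :
    swap a b * swap c d * (swap a c * swap b d) = swap a d * swap b c := by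
  ext p
  rw [Perm.mul_apply, Perm.mul_apply, Perm.mul_apply, Perm.mul_apply]
  rcases eq_or_ne p a with rfl | h1
  · simp [swap_apply_of_ne_of_ne, hab, hac, had, hbc, hbd, hcd, hab.symm, hac.symm, had.symm, hbc.symm, hbd.symm, hcd.symm]
  rcases eq_or_ne p b with rfl | h2
  · simp [swap_apply_of_ne_of_ne, hab, hac, had, hbc, hbd, hcd, hab.symm, hac.symm, had.symm, hbc.symm, hbd.symm, hcd.symm]
  rcases eq_or_ne p c with rfl | h3
  · simp [swap_apply_of_ne_of_ne, hab, hac, had, hbc, hbd, hcd, hab.symm, hac.symm, had.symm, hbc.symm, hbd.symm, hcd.symm]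
  rcases eq_or_ne p d with rfl | h4
  · simp [swap_apply_of_ne_of_ne, hab, hac, had, hbc, hbd, hcd, hab.symm, hac.symm, had.symm, hbc.symm, hbd.symm, hcd.symm]
  simp [swap_apply_of_ne_of_ne, h1, h2, h3, h4]

set_option maxHeartbeats 800000 in
/-- Every element of a perfect double cover is a commutator. -/
theorem exists_commutator {n : ℕ} (hn : 5 ≤ n) {Γ : Type u} [Group Γ] [Finite Γ]
    (π : Γ →* alternatingGroup (Fin n)) (hs : Surjective π) (hc : π.ker ≤ Subgroup.center Γ)
    (hperf : commutator Γ = ⊤) (hcard : Nat.card π.ker = 2) (g : Γ) :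
    ∃ a b : Γ, a * b * a⁻¹ * b⁻¹ = g := by
  classical
  haveI : Fact (Nat.Prime 2) := ⟨Nat.prime_two⟩
  obtain ⟨z, hz⟩ : ∃ z : π.ker, orderOf z = 2 := exists_prime_orderOf_dvd_card' 2 (by rw [hcard])
  have hzc : ∀ y : Γ, y * (z : Γ) = z * y := fun y => Subgroup.mem_center_iff.1 (hc z.2) y
  have hz1 : (z : Γ) ≠ 1 := fun h => by
    rw [OneMemClass.coe_eq_one.1 h, orderOf_one] at hz
    omega
  have hcases : ∀ k ∈ π.ker, k = 1 ∨ k = (z : Γ) := by
    intro k hk
    by_contra h
    push Not at h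
    have : 3 ≤ Nat.card π.ker := by
      have hsub : Function.Injective ![(1 : π.ker), z, ⟨k, hk⟩] := by
        refine List.nodup_ofFn.1 ?_
        simp [Subtype.ext_iff, Ne.symm h.1, Ne.symm h.2, Ne.symm hz1]
      simpa using Nat.card_le_card_of_injective _ hsub
    omega
  have hzz : (z : Γ) * z = 1 := by
    rw [← Subgroup.coe_mul, ← sq, ← hz, pow_orderOf_eq_one]; rfl
  -- squares of double transpositions
  have hsq : ∀ x, (π x : Perm (Fin n)).cycleType = {2, 2} → x * x = (z : Γ) := by
    intro x hx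
    refine (hcases _ ?_).resolve_left (sq_ne_one n hn π hs hc hperf hcard x hx)
    rw [MonoidHom.mem_ker]
    refine Subtype.ext ?_
    have h := pow_orderOf_eq_one (π x : Perm (Fin n))
    rw [← Perm.lcm_cycleType, hx, show Multiset.lcm ({2, 2} : Multiset ℕ) = 2 from rfl, sq] at h
    rw [map_mul]
    exact h
  -- lifts of disjoint even permutations commute
  have hdisj : ∀ X R : Γ, (π X : Perm (Fin n)).Disjoint (π R : Perm (Fin n)) → X * R = R * X := by
    intro X R hXR
    set S := (π X : Perm (Fin n)).supportᶜ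
    have hR : ∀ p, (π R : Perm (Fin n)) p ≠ p → p ∈ S := fun p hp => by
      rw [Finset.mem_compl, Perm.mem_support, not_not]
      exact (hXR p).resolve_right hp
    have hiff : ∀ p, (π R : Perm (Fin n)) p ∈ S ↔ p ∈ S := fun p => by
      by_cases hp : (π R : Perm (Fin n)) p = p
      · rw [hp]
      · exact iff_of_true (hR _ fun h => hp ((π R : Perm (Fin n)).injective h)) (hR p hp)
    set q := (π R : Perm (Fin n)).subtypePerm hiff
    have hq : Perm.ofSubtype q = (π R : Perm (Fin n)) := Perm.ofSubtype_subtypePerm hiff hR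
    have hqmem : q ∈ Subgroup.closure {t : Perm S | t.IsThreeCycle} := by
      rw [Perm.closure_three_cycles_eq_alternating, Perm.mem_alternatingGroup,
        ← Perm.sign_ofSubtype, hq]
      exact Perm.mem_alternatingGroup.1 (π R).2
    suffices H : ∀ t ∈ Subgroup.closure {t : Perm S | t.IsThreeCycle},
        ∀ T : Γ, (π T : Perm (Fin n)) = Perm.ofSubtype t → X * T = T * X from H q hqmem R hq.symm
    intro t ht
    induction ht using Subgroup.closure_induction with
    | mem t ht =>
      intro T hT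
      have hd' : (π X : Perm (Fin n)).Disjoint (π T : Perm (Fin n)) := by
        intro p
        by_cases hp : p ∈ S
        · exact Or.inl (by simpa [S] using hp)
        · exact Or.inr (by rw [hT]; exact Perm.ofSubtype_apply_of_not_mem t hp)
      have hk : X * T * X⁻¹ * T⁻¹ ∈ π.ker := by
        rw [MonoidHom.mem_ker, map_mul, map_mul, map_mul, map_inv, map_inv]
        refine Subtype.ext ?_
        rw [Subgroup.coe_mul, Subgroup.coe_mul, Subgroup.coe_mul, Subgroup.coe_inv, Subgroup.coe_inv,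
          hd'.commute.eq]
        simp
      have hT3 : T ^ 3 ∈ π.ker := by
        rw [MonoidHom.mem_ker, map_pow]
        refine Subtype.ext ?_
        rw [Subgroup.coe_pow, hT, ← map_pow, ← ht.orderOf, pow_orderOf_eq_one, map_one]
        rfl
      rcases hcases _ hk with h | h
      · exact eq_of_div_eq_one (by rw [div_eq_mul_inv, mul_inv_rev, ← mul_assoc]; exact h)
      exfalso
      have h1 : X * T * X⁻¹ = (z : Γ) * T := by rw [← h]; group
      have h2 : X * T ^ 3 * X⁻¹ = (z : Γ) ^ 3 * T ^ 3 := by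
        rw [← conj_pow, h1, (Commute.mul_pow (show Commute (z : Γ) T from (hzc T).symm))]
      rw [Subgroup.mem_center_iff.1 (hc hT3) X, mul_inv_cancel_right,
        show (z : Γ) ^ 3 = z by rw [pow_succ, pow_two, hzz, one_mul]] at h2
      exact hz1 (mul_eq_right.1 h2.symm)
    | one =>
      intro T hT
      rw [map_one] at hT
      exact (Subgroup.mem_center_iff.1 (hc (MonoidHom.mem_ker.2 (Subtype.ext hT))) X)
    | mul u v hu hv ihu ihv =>
      intro T hT
      have hu' : Perm.ofSubtype u ∈ alternatingGroup (Fin n) := by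
        rw [Perm.closure_three_cycles_eq_alternating] at hu
        rw [Perm.mem_alternatingGroup, Perm.sign_ofSubtype]
        exact Perm.mem_alternatingGroup.1 hu
      obtain ⟨U, hU⟩ := hs ⟨_, hu'⟩
      have e1 := ihu U (by rw [hU])
      have e2 := ihv (U⁻¹ * T) (by
        rw [map_mul, map_inv, hU, Subgroup.coe_mul, Subgroup.coe_inv, hT, map_mul]
        group)
      calc X * T = X * U * (U⁻¹ * T) := by group
        _ = U * (U⁻¹ * T) * X := by rw [e1, mul_assoc, e2, ← mul_assoc]
        _ = T * X := by group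
    | inv u hu ihu =>
      intro T hT
      have e1 := ihu T⁻¹ (by rw [map_inv, Subgroup.coe_inv, hT, ← map_inv, inv_inv])
      exact ((inv_inv T) ▸ (show Commute X T⁻¹ from e1).inv_right : Commute X T).eq
  -- the representation
  obtain ⟨s, t, a, b, c, d, hs1, ht1, hnd, h1, h2, h3, h4, he⟩ :=
    CfsgLib.Perm.CommutatorSwap.fuse_of_even (α := Fin n) (by rwa [Fintype.card_fin])
      (Perm.mem_alternatingGroup.1 (π g).2)
  obtain ⟨A, hA⟩ := hs ⟨s, Perm.mem_alternatingGroup.2 hs1⟩
  obtain ⟨B, hB⟩ := hs ⟨t, Perm.mem_alternatingGroup.2 ht1⟩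
  have hnd' := hnd
  simp only [List.nodup_cons, List.mem_cons, List.not_mem_nil, or_false, not_or] at hnd'
  obtain ⟨⟨hab, hac, had⟩, ⟨hbc, hbd⟩, hcd, -⟩ := hnd'
  have hev : ∀ {p q r w : Fin n}, p ≠ q → r ≠ w → swap p q * swap r w ∈ alternatingGroup (Fin n) :=
    fun h h' => by rw [Perm.mem_alternatingGroup, map_mul, Perm.sign_swap h, Perm.sign_swap h',
      Int.units_mul_self]
  obtain ⟨A₀, hA₀⟩ := hs ⟨_, hev hab hcd⟩
  obtain ⟨C, hC⟩ := hs ⟨_, hev hac hbd⟩
  have n1 : [a, c, b, d].Nodup := by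
    simp [hac, hab, had, Ne.symm hbc, hcd, hbd]
  have n2 : [a, d, b, c].Nodup := by
    simp [had, hab, hac, Ne.symm hbd, Ne.symm hcd, hbc]
  have eprod := swaps_mul hab hac had hbc hbd hcd
  have q1 := hsq A₀ (by rw [hA₀]; exact swaps_type hnd)
  have q2 := hsq C (by rw [hC]; exact swaps_type n1)
  have q3 := hsq (A₀ * C) (by
    rw [map_mul, hA₀, hC, Subgroup.coe_mul]
    rw [eprod]
    exact swaps_type n2)
  have hanti : C * A₀ = (z : Γ) * (A₀ * C) := by
    have i1 : A₀⁻¹ = (z : Γ) * A₀ := inv_eq_of_mul_eq_one_right (by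
      rw [← mul_assoc, hzc A₀, mul_assoc, q1, hzz])
    have i2 : C⁻¹ = (z : Γ) * C := inv_eq_of_mul_eq_one_right (by
      rw [← mul_assoc, hzc C, mul_assoc, q2, hzz])
    calc C * A₀ = A₀⁻¹ * (A₀ * C * (A₀ * C)) * C⁻¹ := by group
      _ = (z : Γ) * (A₀ * C) * ((z : Γ) * z) := by
        rw [q3, i1, i2, hzz, mul_one]
        rw [show (z : Γ) * A₀ * z * ((z : Γ) * C) = (z : Γ) * A₀ * ((z : Γ) * z) * C by group, hzz,
          mul_one, mul_assoc]
      _ = _ := by rw [hzz, mul_one]
  obtain ⟨R, hR, rfl⟩ : ∃ R, (π R : Perm (Fin n)) = swap a b * swap c d * s ∧ A₀ * R = A := by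
    refine ⟨A₀⁻¹ * A, ?_, by group⟩
    rw [map_mul, map_inv, hA, hA₀, Subgroup.coe_mul, Subgroup.coe_inv]
    simp only [mul_inv_rev, swap_inv]
    congr 1
    refine (Perm.Disjoint.commute ?_).eq.symm
    rw [Perm.disjoint_iff_disjoint_support, Perm.support_swap hab, Perm.support_swap hcd]
    simp [hac, had, hbc, hbd, Ne.symm hac, Ne.symm had, Ne.symm hbc, Ne.symm hbd]
  have hCR : C * R = R * C := by
    refine hdisj C R ?_
    intro p
    by_cases hp : p = a ∨ p = b ∨ p = c ∨ p = d
    · right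
      rw [hR]
      rcases hp with rfl | rfl | rfl | rfl
      · rw [Perm.mul_apply, Perm.mul_apply, h1, swap_apply_of_ne_of_ne hbc hbd, swap_apply_right]
      · rw [Perm.mul_apply, Perm.mul_apply, h2, swap_apply_of_ne_of_ne hac had, swap_apply_left]
      · rw [Perm.mul_apply, Perm.mul_apply, h3, swap_apply_right,
          swap_apply_of_ne_of_ne (Ne.symm hac) (Ne.symm hbc)]
      · rw [Perm.mul_apply, Perm.mul_apply, h4, swap_apply_left,
          swap_apply_of_ne_of_ne (Ne.symm had) (Ne.symm hbd)]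
    · left
      simp only [not_or] at hp
      rw [hC]
      show (swap a c * swap b d) p = p
      rw [Perm.mul_apply, swap_apply_of_ne_of_ne hp.2.1 hp.2.2.2,
        swap_apply_of_ne_of_ne hp.1 hp.2.2.1]
  have hCA : C * (A₀ * R) * C⁻¹ = (z : Γ) * (A₀ * R) := by
    rw [← mul_assoc C, hanti]
    calc (z : Γ) * (A₀ * C) * R * C⁻¹ = (z : Γ) * A₀ * (C * R) * C⁻¹ := by group
      _ = _ := by rw [hCR]; group
  have hker : B * (A₀ * R) * B⁻¹ * (A₀ * R)⁻¹ * g⁻¹ ∈ π.ker := by
    rw [MonoidHom.mem_ker]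
    refine Subtype.ext ?_
    simp only [map_mul, map_inv, hA, hB, hA₀, Subgroup.coe_mul, Subgroup.coe_inv]
    rw [he]
    simp
  rcases hcases _ hker with h | h
  · exact ⟨B, A₀ * R, mul_inv_eq_one.1 h⟩
  refine ⟨B * C, A₀ * R, ?_⟩
  calc B * C * (A₀ * R) * (B * C)⁻¹ * (A₀ * R)⁻¹
      = B * (C * (A₀ * R) * C⁻¹) * B⁻¹ * (A₀ * R)⁻¹ := by group
    _ = (z : Γ) * (B * (A₀ * R) * B⁻¹ * (A₀ * R)⁻¹) := by
        rw [hCA, ← mul_assoc B (z : Γ), hzc B]
        group
    _ = (z : Γ) * ((z : Γ) * g) := by rw [← h]; group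
    _ = g := by rw [← mul_assoc, hzz, one_mul]

end CfsgLib.Perm.DoubleCoverLift
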