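import Cfsg.Agent.Lib.Perm.ThompsonWielandt

/-!
Suborbits of primitive groups and the bound of Thompson and Wielandt.
-/

set_option autoImplicit false
set_option linter.style.haveILetI false

open Cfsg MulAction
open CfsgLib.ThompsonWielandt

namespace CfsgLib.SuborbitKernel

variable {G : Type*} [Group G] {Ω : Type*} [MulAction G Ω]

theorem stabilizer_stabilizer (a b : Ω) :
    stabilizer (stabilizer G a) b = (stabilizer G b).subgroupOf (stabilizer G a) := by
  ext g
  rfl

theorem card_orbit_eq_relIndex [Finite Ω] (a b : Ω) :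
    Nat.card (orbit (stabilizer G a) b) = (stabilizer G b).relIndex (stabilizer G a) := by
  rw [Subgroup.relIndex, ← stabilizer_stabilizer, MulAction.index_stabilizer, Nat.card_coe_set_eq]

theorem stabilizer_conj (g : G) (a : Ω) :
    stabilizer G (g • a) = (stabilizer G a).map (MulAut.conj g).toMonoidHom :=
  MulAction.stabilizer_smul_eq_stabilizer_map_conj g a

theorem card_stabilizer_eq [IsPretransitive G Ω] (a b : Ω) :
    Nat.card (stabilizer G a) = Nat.card (stabilizer G b) := by
  obtain ⟨g, rfl⟩ := exists_smul_eq G a b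
  rw [stabilizer_conj]
  exact Nat.card_congr ((stabilizer G a).equivMapOfInjective _ (MulAut.conj g).injective).toEquiv

theorem card_pCoreOf_stabilizer_eq [IsPretransitive G Ω] (a b : Ω) (q : ℕ) :
    Nat.card (pCoreOf q (stabilizer G a)) = Nat.card (pCoreOf q (stabilizer G b)) := by
  obtain ⟨g, rfl⟩ := exists_smul_eq G a b
  rw [pCoreOf, pCoreOf, stabilizer_conj]
  set e := (stabilizer G a).equivMapOfInjective (MulAut.conj g).toMonoidHom (MulAut.conj g).injective
  rw [← Nat.card_congr ((pCore q ↥(stabilizer G a)).equivMapOfInjective _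
      (stabilizer G a).subtype_injective).toEquiv,
    ← Nat.card_congr ((pCore q ↥((stabilizer G a).map (MulAut.conj g).toMonoidHom)).equivMapOfInjective _
      (Subgroup.subtype_injective _)).toEquiv]
  rw [← CfsgLib.Core.map_equiv_pCore (p := q) e]
  exact Nat.card_congr ((pCore q ↥(stabilizer G a)).equivMapOfInjective _ e.injective).toEquiv

theorem smul_mem_orbit_of {H : Subgroup G} {a y : Ω} {h : G} (hh : h ∈ H)
    (hy : y ∈ orbit H a) : h • y ∈ orbit H a := by
  obtain ⟨m, rfl⟩ := hy
  exact ⟨⟨h, hh⟩ * m, mul_smul _ _ _⟩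

theorem card_orbit_symm [Finite G] [Finite Ω] [IsPretransitive G Ω] (a b : Ω) :
    Nat.card (orbit (stabilizer G b) a) = Nat.card (orbit (stabilizer G a) b) := by
  rw [card_orbit_eq_relIndex, card_orbit_eq_relIndex]
  have h1 := Subgroup.card_mul_index ((stabilizer G a).subgroupOf (stabilizer G b))
  have h2 := Subgroup.card_mul_index ((stabilizer G b).subgroupOf (stabilizer G a))
  have e1 : Nat.card ((stabilizer G a).subgroupOf (stabilizer G b)) =
      Nat.card (stabilizer G a ⊓ stabilizer G b : Subgroup G) := by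
    rw [← Subgroup.inf_subgroupOf_right]
    exact Nat.card_congr (Subgroup.subgroupOfEquivOfLe inf_le_right).toEquiv
  have e2 : Nat.card ((stabilizer G b).subgroupOf (stabilizer G a)) =
      Nat.card (stabilizer G a ⊓ stabilizer G b : Subgroup G) := by
    rw [← Subgroup.inf_subgroupOf_left]
    exact Nat.card_congr (Subgroup.subgroupOfEquivOfLe inf_le_left).toEquiv
  rw [e1] at h1
  rw [e2] at h2
  rw [card_stabilizer_eq (G := G) b a, ← h2] at h1
  exact Nat.eq_of_mul_eq_mul_left Nat.card_pos h1

theorem card_orbit_smul [Finite G] (g : G) (a b : Ω) :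
    Nat.card (orbit (stabilizer G (g • a)) (g • b)) = Nat.card (orbit (stabilizer G a) b) := by
  refine Nat.card_congr (Equiv.symm ?_)
  refine (MulAction.toPerm g).subtypeEquiv fun y => ?_
  constructor
  · rintro ⟨⟨h, hh⟩, rfl⟩
    exact ⟨⟨g * h * g⁻¹, by simp [mem_stabilizer_iff, mul_smul, mem_stabilizer_iff.1 hh]⟩,
      by simp [Subgroup.smul_def, mul_smul]⟩
  · rintro ⟨⟨h, hh⟩, hy⟩
    refine ⟨⟨g⁻¹ * h * g, by
      simp [mem_stabilizer_iff, mul_smul, mem_stabilizer_iff.1 hh]⟩, ?_⟩
    have hy' : h • g • b = g • y := hy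
    simp [Subgroup.smul_def, mul_smul, hy']

/-- The elements fixing `a`, every point `x` of the suborbit of `b`, and for each such `x` every
point of the suborbit of `a` under the stabilizer of `x`. -/
def twKernel (G : Type*) [Group G] {Ω : Type*} [MulAction G Ω] (a b : Ω) : Subgroup G where
  carrier := {h | h • a = a ∧ ∀ x ∈ orbit (stabilizer G a) b, h • x = x ∧
    ∀ y ∈ orbit (stabilizer G x) a, h • y = y}
  one_mem' := ⟨one_smul _ _, fun _ _ => ⟨one_smul _ _, fun _ _ => one_smul _ _⟩⟩
  mul_mem' := fun {g h} hg hh => ⟨by rw [mul_smul, hh.1, hg.1],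
    fun x hx => ⟨by rw [mul_smul, (hh.2 x hx).1, (hg.2 x hx).1],
      fun y hy => by rw [mul_smul, (hh.2 x hx).2 y hy, (hg.2 x hx).2 y hy]⟩⟩
  inv_mem' := fun {g} hg => ⟨inv_smul_eq_iff.2 hg.1.symm,
    fun x hx => ⟨inv_smul_eq_iff.2 (hg.2 x hx).1.symm,
      fun y hy => inv_smul_eq_iff.2 ((hg.2 x hx).2 y hy).symm⟩⟩

theorem twKernel_le_left {a b : Ω} : twKernel G a b ≤ stabilizer G a :=
  fun _ hh => mem_stabilizer_iff.2 hh.1

theorem twKernel_le_right {a b : Ω} : twKernel G a b ≤ stabilizer G b :=
  fun _ hh => mem_stabilizer_iff.2 (hh.2 b (mem_orbit_self b)).1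

theorem twKernel_le_coreIn {a b : Ω} :
    twKernel G a b ≤ coreIn (stabilizer G b) (stabilizer G a) := by
  intro h hh
  refine ⟨twKernel_le_right hh, fun k hk => mem_stabilizer_iff.2 ?_⟩
  have hb : b ∈ orbit (stabilizer G a) b := mem_orbit_self b
  have := (hh.2 b hb).2 (k⁻¹ • a) ⟨⟨k⁻¹, (stabilizer G b).inv_mem hk⟩, rfl⟩
  rw [mul_smul, mul_smul, this, smul_inv_smul]

theorem le_normalizer_twKernel [Finite G] {a b : Ω} :
    stabilizer G a ≤ Subgroup.normalizer (twKernel G a b : Set G) := by
  intro k hk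
  refine mem_normalizer_of_conj fun h hh => ?_
  have hka : k • a = a := hk
  have hka' : k⁻¹ • a = a := (stabilizer G a).inv_mem hk
  refine ⟨by rw [mul_smul, mul_smul, hka', hh.1, hka], fun x hx => ?_⟩
  have hx' : k⁻¹ • x ∈ orbit (stabilizer G a) b :=
    smul_mem_orbit_of ((stabilizer G a).inv_mem hk) hx
  obtain ⟨h1, h2⟩ := hh.2 _ hx'
  refine ⟨by rw [mul_smul, mul_smul, h1, smul_inv_smul], fun y hy => ?_⟩
  obtain ⟨⟨m, hm⟩, rfl⟩ := hy
  have hm' : m • x = x := hm
  have := h2 (k⁻¹ • m • a) ⟨⟨k⁻¹ * m * k, by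
    simp [mem_stabilizer_iff, mul_smul, hm']⟩, by simp [Subgroup.smul_def, mul_smul, hka]⟩
  change (k * h * k⁻¹) • m • a = m • a
  rw [mul_smul, mul_smul, this, smul_inv_smul]

theorem twKernel_isSubnormal [Finite G] {a b : Ω} :
    ((twKernel G a b).subgroupOf (stabilizer G b)).IsSubnormal := by
  set Q := coreIn (stabilizer G b) (stabilizer G a)
  haveI hQn : (Q.subgroupOf (stabilizer G b)).Normal :=
    (Subgroup.normal_subgroupOf_iff_le_normalizer coreIn_le_left).2 le_normalizer_coreIn
  have hle : (twKernel G a b).subgroupOf (stabilizer G b) ≤ Q.subgroupOf (stabilizer G b) :=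
    fun x hx => twKernel_le_coreIn hx
  refine Subgroup.IsSubnormal.step _ _ hle hQn.isSubnormal ?_
  refine (Subgroup.normal_subgroupOf_iff_le_normalizer hle).2 fun q hq => ?_
  exact mem_normalizer_of_conj fun t ht =>
    (Subgroup.mem_normalizer_iff.1 (le_normalizer_twKernel (coreIn_le_right hq)) _).1 ht

/-- The order of a stabilizer divides `d! ((d-1)!)^d |P|`. -/
theorem card_dvd [Finite G] [Finite Ω] [IsPretransitive G Ω] (a b : Ω) :
    Nat.card (stabilizer G a) ∣
      Nat.factorial (Nat.card (orbit (stabilizer G a) b)) *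
        Nat.factorial (Nat.card (orbit (stabilizer G a) b) - 1) ^
          Nat.card (orbit (stabilizer G a) b) * Nat.card (twKernel G a b) := by
  classical
  haveI := Fintype.ofFinite Ω
  set A := stabilizer G a
  set Δ := orbit A b
  set d := Nat.card Δ
  let f : A →* Equiv.Perm Δ := MulAction.toPermHom A Δ
  have hf : Nat.card A = Nat.card f.ker * Nat.card f.range := by
    rw [← Subgroup.index_ker, Subgroup.card_mul_index]
  have hr : Nat.card f.range ∣ Nat.factorial d := by
    have := Subgroup.card_subgroup_dvd_card f.range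
    rwa [Nat.card_perm] at this
  have hfix : ∀ (h : f.ker) (x : Δ), ((h : A) : G) • (x : Ω) = x := fun h x => by
    have h1 : (h : A) • x = x := congrArg (fun σ : Equiv.Perm Δ => σ x) h.2
    exact congrArg Subtype.val h1
  let Y : Δ → Type _ := fun x => {y : Ω // y ∈ orbit (stabilizer G (x : Ω)) a ∧ y ≠ a}
  have hinv : ∀ (h : f.ker) (x : Δ) (y : Ω),
      (y ∈ orbit (stabilizer G (x : Ω)) a ∧ y ≠ a) ↔
        (((h : A) : G) • y ∈ orbit (stabilizer G (x : Ω)) a ∧ ((h : A) : G) • y ≠ a) := by
    intro h x y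
    have ha : ((h : A) : G) • a = a := (h : A).2
    have hm : ((h : A) : G) ∈ stabilizer G (x : Ω) := hfix h x
    refine and_congr ⟨fun hy => ?_, fun hy => ?_⟩ (not_congr ?_)
    · exact smul_mem_orbit_of hm hy
    · simpa using smul_mem_orbit_of ((stabilizer G (x : Ω)).inv_mem hm) hy
    · conv_rhs => rw [← ha, smul_left_cancel_iff]
  let f2 : f.ker →* ∀ x : Δ, Equiv.Perm (Y x) :=
    { toFun := fun h x => (MulAction.toPerm (((h : A) : G))).subtypePerm
        (fun y => (hinv h x y).symm)
      map_one' := by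
        funext x
        ext y
        simp
      map_mul' := fun h k => by
        funext x
        ext y
        exact mul_smul (((h : A) : G)) (((k : A) : G)) (y : Ω) }
  have hf2 : Nat.card f.ker = Nat.card f2.ker * Nat.card f2.range := by
    rw [← Subgroup.index_ker, Subgroup.card_mul_index]
  have hr2 : Nat.card f2.range ∣ Nat.factorial (d - 1) ^ d := by
    have := Subgroup.card_subgroup_dvd_card f2.range
    rw [Nat.card_pi] at this
    refine this.trans (dvd_of_eq ?_)
    have hY : ∀ x : Δ, Nat.card (Equiv.Perm (Y x)) = Nat.factorial (d - 1) := by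
      intro x
      rw [Nat.card_perm]
      congr 1
      obtain ⟨⟨k, hk⟩, hkx⟩ := x.2
      have hk' : k • a = a := hk
      have hc : Nat.card (orbit (stabilizer G (x : Ω)) a) = d := by
        rw [← hkx]
        change Nat.card (orbit (stabilizer G (k • b)) a) = d
        conv_lhs => rw [← hk']
        rw [card_orbit_smul, card_orbit_symm]
      rw [← hc, Nat.card_coe_set_eq, ← Set.ncard_sdiff_singleton_of_mem (mem_orbit_self a),
        ← Nat.card_coe_set_eq]
      rfl
    rw [Finset.prod_congr rfl fun x _ => hY x, Finset.prod_const, Finset.card_univ,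
      ← Nat.card_eq_fintype_card]
  have hker : Nat.card f2.ker ∣ Nat.card (twKernel G a b) := by
    refine Subgroup.card_dvd_of_injective
      (((A.subtype.comp f.ker.subtype).comp f2.ker.subtype).codRestrict (twKernel G a b) ?_) ?_
    · rintro ⟨h, hh⟩
      refine ⟨(h : A).2, fun x hx => ⟨hfix h ⟨x, hx⟩, fun y hy => ?_⟩⟩
      by_cases hya : y = a
      · rw [hya]; exact (h : A).2
      · exact congrArg Subtype.val (congrArg (fun σ => σ (⟨y, hy, hya⟩ : Y ⟨x, hx⟩))
          (congrFun hh ⟨x, hx⟩))
    · intro h k hhk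
      exact Subtype.ext (Subtype.ext (Subtype.ext (congrArg Subtype.val hhk :)))
  rw [hf, hf2]
  calc Nat.card f2.ker * Nat.card f2.range * Nat.card f.range
      ∣ Nat.card (twKernel G a b) * Nat.factorial (d - 1) ^ d * Nat.factorial d :=
        mul_dvd_mul (mul_dvd_mul hker hr2) hr
    _ = Nat.factorial d * Nat.factorial (d - 1) ^ d * Nat.card (twKernel G a b) := by ring

section Primitive

variable [Finite G] [FaithfulSMul G Ω] [IsPreprimitive G Ω]

theorem normClosed_stabilizer [Nontrivial Ω] (a : Ω) : NormClosed (stabilizer G a) := by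
  intro X hX hn hne
  have hco := MulAction.IsPreprimitive.isCoatom_stabilizer_of_isPreprimitive G a
  rcases eq_or_ne (stabilizer G a) (Subgroup.normalizer (X : Set G)) with h | h
  · exact h.ge
  exfalso
  have htop := hco.2 _ (lt_of_le_of_ne hn h)
  apply hne
  rw [Subgroup.eq_bot_iff_forall]
  intro x hx
  refine FaithfulSMul.eq_of_smul_eq_smul (α := Ω) fun y => ?_
  obtain ⟨g, rfl⟩ := exists_smul_eq G a y
  have hg : g ∈ Subgroup.normalizer (X : Set G) := htop ▸ Subgroup.mem_top g
  have h1 : g⁻¹ * x * g⁻¹⁻¹ ∈ X :=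
    (Subgroup.mem_normalizer_iff.1 ((Subgroup.normalizer _).inv_mem hg) x).1 hx
  have h2 : (g⁻¹ * x * g⁻¹⁻¹) • a = a := hX h1
  rw [inv_inv, mul_smul, mul_smul, inv_smul_eq_iff] at h2
  rw [h2, one_smul]

omit [FaithfulSMul G Ω] [IsPreprimitive G Ω] [Finite G] in
theorem not_le_of_two_le [Finite Ω] {a b : Ω}
    (h2 : 2 ≤ Nat.card (orbit (stabilizer G a) b)) : ¬ stabilizer G a ≤ stabilizer G b := by
  intro h
  rw [card_orbit_eq_relIndex, Subgroup.relIndex_eq_one.2 h] at h2
  omega

/-- The theorem of Thompson and Wielandt for a suborbit of a primitive group. -/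
theorem main [Finite Ω] {a b : Ω} {d : ℕ} (hd : Nat.card (orbit (stabilizer G a) b) = d)
    (h2 : 2 ≤ d) :
    Nat.card (stabilizer G a) ∣ Nat.factorial d * Nat.factorial (d - 1) ^ d ∨
      ∃ p : ℕ, p.Prime ∧ generalizedFittingSubgroup (stabilizer G a) = pCore p (stabilizer G a) ∧
        ∃ S : Subgroup G, S ≤ stabilizer G a ⊓ stabilizer G b ∧
          stabilizer G a ≤ Subgroup.normalizer (S : Set G) ∧ IsPGroup p S ∧
          Nat.card (stabilizer G a) ∣
            Nat.factorial d * Nat.factorial (d - 1) ^ d * Nat.card S := by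
  have hP := card_dvd (G := G) a b
  rw [hd] at hP
  have hsym : Nat.card (orbit (stabilizer G b) a) = d := (card_orbit_symm a b).trans hd
  have hZ := card_dvd (G := G) b a
  rw [hsym, ← card_stabilizer_eq (G := G) a b] at hZ
  by_cases hPne : twKernel G a b = ⊥
  · left
    simpa [hPne] using hP
  by_cases hZne : twKernel G b a = ⊥
  · left
    simpa [hZne] using hZ
  right
  haveI : Nontrivial Ω := by
    by_contra hns
    rw [not_nontrivial_iff_subsingleton] at hns
    have := Finite.card_le_one_iff_subsingleton.2 (inferInstance :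
      Subsingleton (orbit (stabilizer G a) b))
    omega
  have hA := normClosed_stabilizer (G := G) a
  have hB := normClosed_stabilizer (G := G) b
  have hAB : ¬ stabilizer G a ≤ stabilizer G b := not_le_of_two_le (hd.symm ▸ h2)
  have hBA : ¬ stabilizer G b ≤ stabilizer G a := not_le_of_two_le (hsym.symm ▸ h2)
  have hZH : twKernel G b a ≤ coreIn (stabilizer G a) (stabilizer G b) := twKernel_le_coreIn
  obtain ⟨p, hp, hF, hor⟩ := ThompsonWielandt.main hA hB twKernel_le_left le_normalizer_twKernel
    twKernel_le_right twKernel_isSubnormal hPne twKernel_le_left le_normalizer_twKernel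
    twKernel_isSubnormal hZH hZne hBA hAB (fun q _ => card_pCoreOf_stabilizer_eq a b q)
  haveI := Fact.mk hp
  refine ⟨p, hp, hF, ?_⟩
  rcases hor with h | h
  · exact ⟨twKernel G a b, le_inf twKernel_le_left twKernel_le_right, le_normalizer_twKernel, h,
      hP⟩
  · refine ⟨pCoreOf p (stabilizer G a) ⊓ coreIn (stabilizer G a) (stabilizer G b),
      le_inf (inf_le_right.trans coreIn_le_left) (inf_le_right.trans coreIn_le_right), ?_,
      (LocalEvenB.isPGroup_pCoreOf _).to_le inf_le_left, ?_⟩
    · exact fun k hk => mem_normalizer_of_conj fun t ht =>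
        ⟨(Subgroup.mem_normalizer_iff.1 (LocalEvenB.le_normalizer_pCoreOf _ hk) _).1 ht.1,
          conj_mem_coreIn hk ht.2⟩
    · refine hZ.trans (mul_dvd_mul_left _ (Subgroup.card_dvd_of_le (le_inf ?_ hZH)))
      exact subnormal_pGroup_le_pCoreOf twKernel_le_right twKernel_isSubnormal h

end Primitive

end CfsgLib.SuborbitKernel
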