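import Mathlib
import Cfsg.Agent.Lib.Perm.SuborbitKernel
import Cfsg.Agent.Lib.LocalEven.Amalgam
import Cfsg.Agent.Lib.PGroups.Basic

/-!
# Point stabilizers of extremely primitive groups

`G` is primitive and every point stabilizer is primitive on each of its orbits.

* `semiregular`: `O_p` of a point stabilizer is semiregular on the other points.
* `eq_one_of_pow_eq_one_central`: a point stabilizer with a central element of prime order is that prime cycle.
-/

set_option autoImplicit false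
set_option linter.all false

open Cfsg MulAction
open CfsgLib.ThompsonWielandt
open scoped Pointwise commutatorElement

namespace CfsgLib.Perm.ExtremelyPrimitive

variable {G : Type*} [Group G] [Finite G] {Ω : Type*} [Finite Ω] [MulAction G Ω]
  [FaithfulSMul G Ω] [Nontrivial Ω] [IsPreprimitive G Ω]

variable (p : ℕ) [Fact p.Prime]

/-- `O_p` of the stabilizer of a point. -/
abbrev R (G : Type*) [Group G] {Ω : Type*} [MulAction G Ω] (p : ℕ) (a : Ω) : Subgroup G :=
  pCoreOf p (stabilizer G a)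

theorem R_le (a : Ω) : R G p a ≤ stabilizer G a := CfsgLib.LocalEvenB.pCoreOf_le _

theorem R_isPGroup (a : Ω) : IsPGroup p (R G p a) := CfsgLib.LocalEvenB.isPGroup_pCoreOf _

theorem le_normalizer_R (a : Ω) : stabilizer G a ≤ Subgroup.normalizer (R G p a : Set G) :=
  CfsgLib.LocalEvenB.le_normalizer_pCoreOf _

theorem conj_R_mem {a : Ω} {h r : G} (hh : h • a = a) (hr : r ∈ R G p a) : h * r * h⁻¹ ∈ R G p a :=
  (Subgroup.mem_normalizer_iff.1 (le_normalizer_R p a hh) r).1 hr

theorem R_smul (g : G) (a : Ω) : R G p (g • a) = (R G p a).map (MulAut.conj g).toMonoidHom := by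
  unfold R
  rw [CfsgLib.SuborbitKernel.stabilizer_conj, CfsgLib.LocalEven.pCoreOf_map_conj]

theorem conj_mem_R_smul {g x : G} {a : Ω} (hx : x ∈ R G p a) : g * x * g⁻¹ ∈ R G p (g • a) := by
  rw [R_smul]
  exact ⟨x, hx, rfl⟩

theorem card_R (a b : Ω) : Nat.card (R G p a) = Nat.card (R G p b) :=
  CfsgLib.SuborbitKernel.card_pCoreOf_stabilizer_eq a b p

variable {p}

theorem stabilizer_ne_bot {a : Ω} (hH : stabilizer G a ≠ ⊥) (b : Ω) : stabilizer G b ≠ ⊥ := by
  intro h
  refine hH (Subgroup.card_eq_one.1 ?_)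
  rw [CfsgLib.SuborbitKernel.card_stabilizer_eq a b, h, Subgroup.card_bot]

theorem not_le {a b : Ω} (hH : stabilizer G a ≠ ⊥) (hab : a ≠ b) :
    ¬ stabilizer G a ≤ stabilizer G b := by
  intro h
  have heq : stabilizer G a = stabilizer G b :=
    Subgroup.eq_of_le_of_card_ge h (CfsgLib.SuborbitKernel.card_stabilizer_eq b a).le
  obtain ⟨g, rfl⟩ := exists_smul_eq G a b
  have hn : g ∈ Subgroup.normalizer (stabilizer G a : Set G) := by
    refine mem_normalizer_of_conj fun x hx => ?_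
    rw [heq, mem_stabilizer_iff, mul_smul, mul_smul, inv_smul_smul, mem_stabilizer_iff.1 hx]
  exact hab (CfsgLib.SuborbitKernel.normClosed_stabilizer a _ le_rfl Subgroup.le_normalizer hH hn).symm

theorem eq_bot_of_normalized {a b : Ω} (hH : stabilizer G a ≠ ⊥) (hab : a ≠ b) {X : Subgroup G}
    (hX : X ≤ stabilizer G a) (ha : stabilizer G a ≤ Subgroup.normalizer (X : Set G))
    (hb : stabilizer G b ≤ Subgroup.normalizer (X : Set G)) : X = ⊥ := by
  by_contra hne
  exact not_le (stabilizer_ne_bot hH b) hab.symm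
    (hb.trans (CfsgLib.SuborbitKernel.normClosed_stabilizer a X hX ha hne))

/-- The hypothesis: every stabilizer is primitive on each of its orbits. -/
def EP (G : Type*) [Group G] (Ω : Type*) [MulAction G Ω] : Prop :=
  ∀ a w : Ω, IsPreprimitive (stabilizer G a) (orbit (stabilizer G a) w)

variable (hep : EP G Ω)

include hep in
theorem exists_factor {a b : Ω} {K : Subgroup G} (hK : K ≤ stabilizer G a)
    (hn : stabilizer G a ≤ Subgroup.normalizer (K : Set G)) (hKb : ¬ K ≤ stabilizer G b) {h : G}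
    (hh : h • a = a) : ∃ k ∈ K, (k⁻¹ * h) • b = b := by
  haveI := hep a b
  haveI : (K.subgroupOf (stabilizer G a)).Normal :=
    (Subgroup.normal_subgroupOf_iff_le_normalizer hK).2 hn
  have htr : IsPretransitive (K.subgroupOf (stabilizer G a)) (orbit (stabilizer G a) b) := by
    refine IsQuasiPreprimitive.isPretransitive_of_normal fun hu => hKb fun k hk => ?_
    have h1 := hu.symm ▸ Set.mem_univ (⟨b, mem_orbit_self b⟩ : orbit (stabilizer G a) b)
    exact mem_stabilizer_iff.2 (congrArg Subtype.val (h1 ⟨⟨k, hK hk⟩, hk⟩))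
  obtain ⟨⟨⟨k, hka⟩, hk⟩, hkb⟩ := htr.exists_smul_eq ⟨b, mem_orbit_self b⟩
    ⟨h • b, ⟨⟨h, hh⟩, rfl⟩⟩
  refine ⟨k, hk, ?_⟩
  have h2 : k • b = h • b := congrArg Subtype.val hkb
  rw [mul_smul, ← h2, inv_smul_smul]

include hep in
theorem elementary (a : Ω) :
    (∀ x ∈ R G p a, ∀ y ∈ R G p a, x * y = y * x) ∧ ∀ x ∈ R G p a, x ^ p = 1 := by
  set E := (frattini (R G p a)).map (R G p a).subtype with hE
  have hEn : stabilizer G a ≤ Subgroup.normalizer (E : Set G) := by
    intro h hh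
    refine mem_normalizer_of_conj ?_
    rintro _ ⟨x, hx, rfl⟩
    let φ : MulAut (R G p a) := Subgroup.normalizerMonoidHom (R G p a) ⟨h, le_normalizer_R p a hh⟩
    refine ⟨φ x, ?_, rfl⟩
    have := (inferInstance : (frattini (R G p a)).Characteristic).fixed φ
    rw [← this] at hx
    exact hx
  have hEfix : ∀ b : Ω, E ≤ stabilizer G b := by
    intro b
    by_contra hEb
    have hEa : E ≤ stabilizer G a := (Subgroup.map_subtype_le _).trans (R_le p a)
    have htop : (stabilizer G b).subgroupOf (R G p a) ⊔ frattini (R G p a) = ⊤ := by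
      rw [eq_top_iff]
      rintro ⟨r, hr⟩ -
      obtain ⟨e, ⟨e', he', rfl⟩, he⟩ := exists_factor hep hEa hEn hEb (R_le p a hr)
      have : (⟨r, hr⟩ : R G p a) = e' * (e'⁻¹ * ⟨r, hr⟩) := by group
      rw [this]
      rw [sup_comm]
      exact Subgroup.mul_mem_sup he' he
    have h1 := frattini_nongenerating htop
    refine hEb (le_trans (Subgroup.map_subtype_le _) ?_)
    exact Subgroup.subgroupOf_eq_top.1 h1
  have hEbot : ∀ x ∈ frattini (R G p a), x = 1 := by
    intro x hx
    refine Subtype.ext (eq_of_smul_eq_smul (α := Ω) fun b => ?_)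
    rw [OneMemClass.coe_one, one_smul]
    exact hEfix b ⟨x, hx, rfl⟩
  constructor
  · intro x hx y hy
    have := hEbot _ (CfsgLib.PGroups.commutator_le_frattini' (R_isPGroup p a)
      (Subgroup.commutator_mem_commutator (Subgroup.mem_top (⟨x, hx⟩ : R G p a))
        (Subgroup.mem_top (⟨y, hy⟩ : R G p a))))
    exact congrArg Subtype.val (commutatorElement_eq_one_iff_mul_comm.1 this)
  · intro x hx
    exact congrArg Subtype.val (hEbot _ (CfsgLib.PGroups.pow_mem_frattini (R_isPGroup p a) ⟨x, hx⟩))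

include hep in
theorem semiregular_of_not_le {a b : Ω} (hH : stabilizer G a ≠ ⊥) (hab : a ≠ b)
    (hRb : ¬ R G p a ≤ stabilizer G b) :
    R G p a ⊓ stabilizer G b = ⊥ ∧ ¬ R G p b ≤ stabilizer G a := by
  set D : Subgroup G := stabilizer G a ⊓ stabilizer G b with hD
  set Q : Subgroup G := pCoreOf p D with hQ
  have hQD : Q ≤ D := CfsgLib.LocalEvenB.pCoreOf_le _
  have side : ∀ x y : Ω, D = stabilizer G x ⊓ stabilizer G y → ¬ R G p x ≤ stabilizer G y →
      Q = R G p x ⊓ stabilizer G y ∧ stabilizer G x ≤ Subgroup.normalizer (Q : Set G) := by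
    intro x y hxy hRy
    have hS : R G p x ⊓ stabilizer G y ≤ Q := by
      refine CfsgLib.LocalEvenB.le_pCoreOf (hxy ▸ inf_le_inf_right _ (R_le p x))
        ((R_isPGroup p x).to_le inf_le_left) fun d hd => mem_normalizer_of_conj fun s hs => ?_
      rw [hxy] at hd
      exact ⟨conj_R_mem p hd.1 hs.1, (stabilizer G y).mul_mem
        ((stabilizer G y).mul_mem hd.2 hs.2) ((stabilizer G y).inv_mem hd.2)⟩
    have hQx : Q ≤ stabilizer G x := hQD.trans (hxy ▸ inf_le_left)
    have hle : Q ⊔ R G p x ≤ R G p x := by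
      refine CfsgLib.LocalEvenB.le_pCoreOf (sup_le hQx (R_le p x))
        ((CfsgLib.LocalEvenB.isPGroup_pCoreOf D).to_sup_of_normal_right' (R_isPGroup p x)
          (hQx.trans (le_normalizer_R p x))) fun h hh => ?_
      obtain ⟨k, hk, hkd⟩ := exists_factor hep (R_le p x) (le_normalizer_R p x) hRy hh
      have hd : k⁻¹ * h ∈ D := by
        rw [hxy]
        exact ⟨(stabilizer G x).mul_mem ((stabilizer G x).inv_mem (R_le p x hk)) hh, hkd⟩
      rw [show h = k * (k⁻¹ * h) by group]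
      refine Subgroup.mul_mem _ (Subgroup.le_normalizer (Subgroup.mem_sup_right hk)) ?_
      have h1 := CfsgLib.LocalEvenB.le_normalizer_pCoreOf (p := p) D hd
      have h2 := le_normalizer_R p x (show k⁻¹ * h ∈ stabilizer G x by rw [hxy] at hd; exact hd.1)
      rw [← CfsgLib.LocalEvenB.map_conj_eq_self_iff_mem_normalizer] at h1 h2 ⊢
      rw [Subgroup.map_sup, h1, h2]
    have hQeq : Q = R G p x ⊓ stabilizer G y :=
      le_antisymm (le_inf (le_sup_left.trans hle) (hQD.trans (hxy ▸ inf_le_right))) hS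
    refine ⟨hQeq, fun h hh => ?_⟩
    obtain ⟨k, hk, hkd⟩ := exists_factor hep (R_le p x) (le_normalizer_R p x) hRy hh
    have hd : k⁻¹ * h ∈ D := by
      rw [hxy]
      exact ⟨(stabilizer G x).mul_mem ((stabilizer G x).inv_mem (R_le p x hk)) hh, hkd⟩
    rw [show h = k * (k⁻¹ * h) by group]
    refine Subgroup.mul_mem _ (mem_normalizer_of_conj fun s hs => ?_)
      (CfsgLib.LocalEvenB.le_normalizer_pCoreOf D hd)
    rw [(elementary hep x).1 k hk s (hQeq ▸ hs : s ∈ R G p x ⊓ stabilizer G y).1, mul_inv_cancel_right]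
    exact hs
  obtain ⟨hQa, hna⟩ := side a b rfl hRb
  have hRa : ¬ R G p b ≤ stabilizer G a := by
    intro hle
    have h1 : R G p b ≤ Q := CfsgLib.LocalEvenB.le_pCoreOf (le_inf hle (R_le p b))
      (R_isPGroup p b) (fun d hd => le_normalizer_R p b hd.2)
    have h2 : R G p b = R G p a :=
      Subgroup.eq_of_le_of_card_ge (h1.trans (hQa ▸ inf_le_left)) (card_R p a b).le
    exact hRb (h2 ▸ R_le p b)
  obtain ⟨-, hnb⟩ := side b a (inf_comm _ _) hRa
  refine ⟨?_, hRa⟩
  rw [← hQa]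
  exact eq_bot_of_normalized hH hab (hQD.trans inf_le_left) hna hnb

include hep in
theorem fixed_symm {a b : Ω} (hH : stabilizer G a ≠ ⊥) (hab : a ≠ b)
    (h : R G p a ≤ stabilizer G b) : R G p b ≤ stabilizer G a := by
  by_contra hn
  exact (semiregular_of_not_le hep (stabilizer_ne_bot hH b) hab.symm hn).2 h

include hep in
theorem inf_R_eq_bot {a b : Ω} (hH : stabilizer G a ≠ ⊥) (hab : a ≠ b) :
    R G p a ⊓ R G p b = ⊥ := by
  rw [Subgroup.eq_bot_iff_forall]
  intro x hx
  by_contra hx1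
  have hΦ : ∀ c : Ω, x ∈ R G p c → {y : Ω | R G p c ≤ stabilizer G y} = {y : Ω | x • y = y} := by
    intro c hc
    ext y
    refine ⟨fun h => h hc, fun hy => ?_⟩
    by_cases hcy : c = y
    · exact hcy ▸ R_le p c
    by_contra hn
    have h1 := (semiregular_of_not_le hep (stabilizer_ne_bot hH c) hcy hn).1
    exact hx1 (Subgroup.mem_bot.1 (h1 ▸ Subgroup.mem_inf.2 ⟨hc, hy⟩))
  have hstab : ∀ c : Ω, x ∈ R G p c → stabilizer G c ≤ stabilizer G {y : Ω | x • y = y} := by
    intro c hc h hh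
    rw [← hΦ c hc, mem_stabilizer_set_iff_subset_smul_set (Set.toFinite _)]
    intro y hy
    refine ⟨h⁻¹ • y, fun r hr => ?_, smul_inv_smul h y⟩
    have h1 := hy (conj_R_mem p hh hr)
    rw [mem_stabilizer_iff, mul_smul, mul_smul] at h1
    exact mem_stabilizer_iff.2 (eq_inv_smul_iff.2 h1)
  have htop : stabilizer G {y : Ω | x • y = y} = ⊤ := by
    refine (MulAction.IsPreprimitive.isCoatom_stabilizer_of_isPreprimitive G a).2 _
      (lt_of_le_of_ne (hstab a hx.1) fun he => ?_)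
    exact not_le (stabilizer_ne_bot hH b) hab.symm (he ▸ hstab b hx.2)
  refine hx1 (eq_of_smul_eq_smul (α := Ω) fun y => ?_)
  obtain ⟨g, rfl⟩ := exists_smul_eq G a y
  have hg : g ∈ stabilizer G {y : Ω | x • y = y} := htop ▸ Subgroup.mem_top g
  rw [mem_stabilizer_iff] at hg
  rw [one_smul]
  have h1 : g • a ∈ g • {y : Ω | x • y = y} := ⟨a, R_le p a hx.1, rfl⟩
  rw [hg] at h1
  exact h1

include hep in
theorem commute_of_fixed {a b : Ω} (hH : stabilizer G a ≠ ⊥) (hab : a ≠ b)
    (h : R G p a ≤ stabilizer G b) {r s : G} (hr : r ∈ R G p a) (hs : s ∈ R G p b) :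
    r * s = s * r := by
  have hm : ⁅r, s⁆ ∈ R G p a ⊓ R G p b := by
    rw [_root_.commutatorElement_def]
    constructor
    · rw [show r * s * r⁻¹ * s⁻¹ = r * (s * r⁻¹ * s⁻¹) by group]
      exact Subgroup.mul_mem _ hr (conj_R_mem p (fixed_symm hep hH hab h hs) (Subgroup.inv_mem _ hr))
    · exact Subgroup.mul_mem _ (conj_R_mem p (h hr) hs) (Subgroup.inv_mem _ hs)
  rw [inf_R_eq_bot hep hH hab, Subgroup.mem_bot] at hm
  exact commutatorElement_eq_one_iff_mul_comm.1 hm

include hep in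
theorem commutator_fix {a c : Ω} (hH : stabilizer G a ≠ ⊥) (hac : a ≠ c)
    (hc : ¬ R G p a ≤ stabilizer G c) {y z : G}
    (hy : y ∈ stabilizer G a ⊓ Subgroup.centralizer (R G p a : Set G))
    (hz : z ∈ stabilizer G a ⊓ Subgroup.centralizer (R G p a : Set G)) : ⁅y, z⁆ • c = c := by
  have hel := (elementary (p := p) hep a).1
  have split : ∀ y ∈ stabilizer G a ⊓ Subgroup.centralizer (R G p a : Set G),
      ∃ r ∈ R G p a, ∃ l : G, y = r * l ∧ l • c = c ∧ ∀ s ∈ R G p a, s * l = l * s := by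
    intro y hy
    obtain ⟨r, hr, hrc⟩ := exists_factor hep (R_le p a) (le_normalizer_R p a) hc hy.1
    refine ⟨r, hr, r⁻¹ * y, by group, hrc, fun s hs => ?_⟩
    have h1 : s * r⁻¹ = r⁻¹ * s := hel s hs r⁻¹ (Subgroup.inv_mem _ hr)
    rw [← mul_assoc, h1, mul_assoc, Subgroup.mem_centralizer_iff.1 hy.2 s hs, mul_assoc]
  obtain ⟨r, hr, l, rfl, hl, hlc⟩ := split y hy
  obtain ⟨s, hs, m, rfl, hm, hmc⟩ := split z hz
  have e1 : r * l * (s * m) = r * s * (l * m) := by
    rw [mul_assoc, ← mul_assoc l s m, ← hlc s hs, mul_assoc s l m, ← mul_assoc]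
  have e2 : s * m * (r * l) = r * s * (m * l) := by
    rw [mul_assoc, ← mul_assoc m r l, ← hmc r hr, mul_assoc r m l, ← mul_assoc, hel s hs r hr]
  have h1 : ⁅r * l, s * m⁆ = (r * s) * ⁅l, m⁆ * (r * s)⁻¹ := by
    rw [_root_.commutatorElement_def, _root_.commutatorElement_def]
    calc r * l * (s * m) * (r * l)⁻¹ * (s * m)⁻¹
        = r * l * (s * m) * ((s * m) * (r * l))⁻¹ := by group
      _ = r * s * (l * m) * (r * s * (m * l))⁻¹ := by rw [e1, e2]
      _ = _ := by group
  have hcm : ∀ u ∈ R G p a, u * ⁅l, m⁆ = ⁅l, m⁆ * u := by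
    intro u hu
    have cl : Commute u l := hlc u hu
    have cm : Commute u m := hmc u hu
    rw [_root_.commutatorElement_def]
    exact (((cl.mul_right cm).mul_right cl.inv_right).mul_right cm.inv_right).eq
  rw [h1, hcm (r * s) (Subgroup.mul_mem _ hr hs), mul_inv_cancel_right, _root_.commutatorElement_def]
  have hl' : l⁻¹ • c = c := by rw [inv_smul_eq_iff, hl]
  have hm' : m⁻¹ • c = c := by rw [inv_smul_eq_iff, hm]
  rw [mul_smul, mul_smul, mul_smul, hm', hl', hm, hl]

set_option maxHeartbeats 1600000 in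
include hep in
theorem semiregular {a b : Ω} (hH : stabilizer G a ≠ ⊥) (hab : a ≠ b) :
    R G p a ⊓ stabilizer G b = ⊥ := by
  by_cases hRb : R G p a ≤ stabilizer G b
  swap
  · exact (semiregular_of_not_le hep hH hab hRb).1
  by_contra hne0
  have hne : R G p a ≠ ⊥ := fun h => hne0 (le_bot_iff.1 (inf_le_left.trans h.le))
  set C : Subgroup G := stabilizer G a ⊓ Subgroup.centralizer (R G p a : Set G) with hC
  -- the centralizer of `R` is not abelian
  obtain ⟨y, hy, z, hz, hyz⟩ : ∃ y ∈ C, ∃ z ∈ C, ⁅y, z⁆ ≠ 1 := by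
    by_contra hcon
    push Not at hcon
    have hcomm : ∀ y ∈ C, ∀ z ∈ C, y * z = z * y := fun y hy z hz =>
      commutatorElement_eq_one_iff_mul_comm.1 (hcon y hy z hz)
    let P : Subgroup G :=
      { carrier := {x | x ∈ C ∧ x ^ p = 1}
        one_mem' := ⟨C.one_mem, one_pow p⟩
        mul_mem' := fun {u v} hu hv => ⟨C.mul_mem hu.1 hv.1, by
          rw [(show Commute u v from hcomm u hu.1 v hv.1).mul_pow, hu.2, hv.2, one_mul]⟩
        inv_mem' := fun {u} hu => ⟨C.inv_mem hu.1, by rw [inv_pow, hu.2, inv_one]⟩ }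
    have hP : P ≤ R G p a := by
      refine CfsgLib.LocalEvenB.le_pCoreOf (fun x hx => hx.1.1)
        (fun x => ⟨1, Subtype.ext (by rw [pow_one]; exact x.2.2)⟩) fun h hh =>
          mem_normalizer_of_conj fun x hx => ⟨⟨?_, ?_⟩, by rw [conj_pow, hx.2, mul_one, mul_inv_cancel]⟩
      · exact (stabilizer G a).mul_mem ((stabilizer G a).mul_mem hh hx.1.1)
          ((stabilizer G a).inv_mem hh)
      · refine Subgroup.mem_centralizer_iff.2 fun s hs => ?_
        have h1 : h⁻¹ * s * h⁻¹⁻¹ ∈ R G p a := conj_R_mem p ((stabilizer G a).inv_mem hh) hs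
        have h2 := Subgroup.mem_centralizer_iff.1 hx.1.2 _ h1
        rw [inv_inv] at h2
        calc s * (h * x * h⁻¹) = h * ((h⁻¹ * s * h) * x) * h⁻¹ := by group
          _ = h * (x * (h⁻¹ * s * h)) * h⁻¹ := by rw [h2]
          _ = _ := by group
    have hb : R G p b ≤ P := fun s hs => ⟨⟨fixed_symm hep hH hab hRb hs,
      Subgroup.mem_centralizer_iff.2 fun r hr => commute_of_fixed hep hH hab hRb hr hs⟩,
      (elementary hep b).2 s hs⟩
    have h0 := inf_R_eq_bot (p := p) hep hH hab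
    rw [inf_eq_right.2 (hb.trans hP)] at h0
    refine hne (Subgroup.card_eq_one.1 ?_)
    rw [card_R p a b, h0, Subgroup.card_bot]
  set c0 : G := ⁅y, z⁆ with hc0
  have hc0C : c0 ∈ C := by
    rw [hc0, _root_.commutatorElement_def]
    exact C.mul_mem (C.mul_mem (C.mul_mem hy hz) (C.inv_mem hy)) (C.inv_mem hz)
  have hc0fix : ∀ w : Ω, ¬ R G p a ≤ stabilizer G w → c0 • w = w := fun w hw =>
    commutator_fix hep hH (fun h => hw (by rw [← h]; exact R_le p a)) hw hy hz
  -- a point moved by `R`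
  obtain ⟨c, hRc⟩ : ∃ c : Ω, ¬ R G p a ≤ stabilizer G c := by
    by_contra hall
    push Not at hall
    exact hne ((Subgroup.eq_bot_iff_forall _).2 fun r hr =>
      eq_of_smul_eq_smul (α := Ω) fun w => by rw [one_smul]; exact hall w hr)
  have hac : a ≠ c := fun h => hRc (h ▸ R_le p a)
  obtain ⟨hsc, hRca⟩ := semiregular_of_not_le hep hH hac hRc
  have hsa : R G p c ⊓ stabilizer G a = ⊥ :=
    (semiregular_of_not_le hep (stabilizer_ne_bot hH c) hac.symm hRca).1
  -- `c0` does not centralize `R c`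
  let L : Subgroup G := stabilizer G a ⊓ stabilizer G c ⊓
    Subgroup.centralizer (R G p a : Set G) ⊓ Subgroup.centralizer (R G p c : Set G)
  have hnorm : ∀ u v : Ω, ¬ R G p u ≤ stabilizer G v →
      stabilizer G u ≤ Subgroup.normalizer ((stabilizer G u ⊓ stabilizer G v ⊓
        Subgroup.centralizer (R G p u : Set G) ⊓ Subgroup.centralizer (R G p v : Set G) : Subgroup G) : Set G) := by
    intro u v huv h hh
    obtain ⟨k, hk, hkd⟩ := exists_factor hep (R_le p u) (le_normalizer_R p u) huv hh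
    have hdu : (k⁻¹ * h) • u = u := by
      rw [mul_smul, mem_stabilizer_iff.1 hh, inv_smul_eq_iff, mem_stabilizer_iff.1 (R_le p u hk)]
    rw [show h = k * (k⁻¹ * h) by group]
    refine Subgroup.mul_mem _ (mem_normalizer_of_conj fun x hx => ?_)
      (mem_normalizer_of_conj fun x hx => ?_)
    · rw [Subgroup.mem_centralizer_iff.1 hx.1.2 k hk, mul_inv_cancel_right]
      exact hx
    · have hD : k⁻¹ * h ∈ stabilizer G u ⊓ stabilizer G v := ⟨hdu, hkd⟩
      refine ⟨⟨(stabilizer G u ⊓ stabilizer G v).mul_mem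
        ((stabilizer G u ⊓ stabilizer G v).mul_mem hD hx.1.1)
        ((stabilizer G u ⊓ stabilizer G v).inv_mem hD), ?_⟩, ?_⟩
      all_goals refine Subgroup.mem_centralizer_iff.2 fun s hs => ?_
      · have h1 : (k⁻¹ * h)⁻¹ * s * (k⁻¹ * h)⁻¹⁻¹ ∈ R G p u :=
          conj_R_mem p ((stabilizer G u).inv_mem hdu) hs
        have h2 := Subgroup.mem_centralizer_iff.1 hx.1.2 _ h1
        rw [inv_inv] at h2
        calc s * ((k⁻¹ * h) * x * (k⁻¹ * h)⁻¹)
            = (k⁻¹ * h) * (((k⁻¹ * h)⁻¹ * s * (k⁻¹ * h)) * x) * (k⁻¹ * h)⁻¹ := by group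
          _ = (k⁻¹ * h) * (x * ((k⁻¹ * h)⁻¹ * s * (k⁻¹ * h))) * (k⁻¹ * h)⁻¹ := by rw [h2]
          _ = _ := by group
      · have h1 : (k⁻¹ * h)⁻¹ * s * (k⁻¹ * h)⁻¹⁻¹ ∈ R G p v :=
          conj_R_mem p ((stabilizer G v).inv_mem hkd) hs
        have h2 := Subgroup.mem_centralizer_iff.1 hx.2 _ h1
        rw [inv_inv] at h2
        calc s * ((k⁻¹ * h) * x * (k⁻¹ * h)⁻¹)
            = (k⁻¹ * h) * (((k⁻¹ * h)⁻¹ * s * (k⁻¹ * h)) * x) * (k⁻¹ * h)⁻¹ := by group
          _ = (k⁻¹ * h) * (x * ((k⁻¹ * h)⁻¹ * s * (k⁻¹ * h))) * (k⁻¹ * h)⁻¹ := by rw [h2]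
          _ = _ := by group
  have hL : L = ⊥ := by
    refine eq_bot_of_normalized hH hac (fun x hx => hx.1.1.1) (hnorm a c hRc) ?_
    have heq : L = stabilizer G c ⊓ stabilizer G a ⊓
        Subgroup.centralizer (R G p c : Set G) ⊓ Subgroup.centralizer (R G p a : Set G) := by
      simp only [L, inf_comm (stabilizer G a) (stabilizer G c)]
      exact inf_right_comm _ _ _
    rw [heq]
    exact hnorm c a hRca
  obtain ⟨t, ht, htne⟩ : ∃ t ∈ R G p c, c0 * t * c0⁻¹ ≠ t := by
    by_contra hcon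
    push Not at hcon
    have hm : c0 ∈ L := ⟨⟨⟨hc0C.1, hc0fix c hRc⟩, hc0C.2⟩, Subgroup.mem_centralizer_iff.2
      fun s hs => by
        have h1 := hcon s hs
        calc s * c0 = (c0 * s * c0⁻¹) * c0 := by rw [h1]
          _ = c0 * s := by group⟩
    rw [hL, Subgroup.mem_bot] at hm
    exact hyz hm
  have htR : c0 * t * c0⁻¹ ∈ R G p c := conj_R_mem p (hc0fix c hRc) ht
  have hta : R G p a ≤ stabilizer G (t • a) := by
    by_contra hn
    have h1 := hc0fix _ hn
    have h2 : (t⁻¹ * (c0 * t * c0⁻¹)) • a = a := by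
      rw [mul_smul, inv_smul_eq_iff]
      have h3 : c0⁻¹ • a = a := (stabilizer G a).inv_mem hc0C.1
      rw [mul_smul, mul_smul, h3, h1]
    have h4 : t⁻¹ * (c0 * t * c0⁻¹) ∈ R G p c ⊓ stabilizer G a :=
      ⟨Subgroup.mul_mem _ (Subgroup.inv_mem _ ht) htR, h2⟩
    rw [hsa, Subgroup.mem_bot, inv_mul_eq_one] at h4
    exact htne h4.symm
  have hane : a ≠ t • a := by
    intro h
    have h4 : t ∈ R G p c ⊓ stabilizer G a := ⟨ht, h.symm⟩
    rw [hsa, Subgroup.mem_bot] at h4
    exact htne (by rw [h4, mul_one, mul_inv_cancel])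
  have hback : R G p (t • a) ≤ stabilizer G a := fixed_symm hep hH hane hta
  set S : Subgroup G := stabilizer G (orbit (stabilizer G a) c) with hS
  have htS : t ∈ S := by
    rw [hS, mem_stabilizer_set_iff_smul_set_subset (Set.toFinite _)]
    rintro _ ⟨w, ⟨⟨h, hh⟩, rfl⟩, rfl⟩
    obtain ⟨r, hr, hrc⟩ := exists_factor hep (R_le p a) (le_normalizer_R p a) hRc hh
    refine ⟨⟨t * r * t⁻¹, hback (conj_mem_R_smul p hr)⟩, ?_⟩
    show (t * r * t⁻¹) • c = t • h • c
    have h5 : t⁻¹ • c = c := (stabilizer G c).inv_mem (R_le p c ht)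
    rw [mul_smul, mul_smul, h5]
    conv_rhs => rw [show h = r * (r⁻¹ * h) by group, mul_smul, hrc]
  have hAS : stabilizer G a ≤ S := by
    intro h hh
    rw [hS, mem_stabilizer_set_iff_smul_set_subset (Set.toFinite _)]
    rintro _ ⟨w, hw, rfl⟩
    exact CfsgLib.SuborbitKernel.smul_mem_orbit_of hh hw
  have hSne : S ≠ ⊤ := by
    intro htop
    obtain ⟨g, hg⟩ := exists_smul_eq G c a
    have hgS : g ∈ S := htop ▸ Subgroup.mem_top g
    rw [hS, mem_stabilizer_iff] at hgS
    have h1 : g • c ∈ g • orbit (stabilizer G a) c := ⟨c, mem_orbit_self c, rfl⟩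
    rw [hgS, hg] at h1
    obtain ⟨⟨h, hh⟩, hhc⟩ := h1
    exact hac (MulAction.injective h ((mem_stabilizer_iff.1 hh).trans hhc.symm))
  have hSeq : S = stabilizer G a := by
    rcases (MulAction.IsPreprimitive.isCoatom_stabilizer_of_isPreprimitive G a).le_iff.1 hAS with h | h
    · exact absurd h hSne
    · exact h
  exact hane (mem_stabilizer_iff.1 (hSeq ▸ htS)).symm

include hep in
theorem card_orbit {a b : Ω} (hH : stabilizer G a ≠ ⊥) (hab : a ≠ b) (hne : R G p a ≠ ⊥) :
    Nat.card (R G p a) = Nat.card (orbit (stabilizer G a) b) := by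
  have hsr := semiregular (p := p) hep hH hab
  have hn : ¬ R G p a ≤ stabilizer G b := fun h => hne (by rw [← hsr]; exact (inf_eq_left.2 h).symm)
  refine Nat.card_eq_of_bijective
    (fun r : R G p a => (⟨(r : G) • b, ⟨⟨r, R_le p a r.2⟩, rfl⟩⟩ : orbit (stabilizer G a) b))
    ⟨fun r s hrs => ?_, ?_⟩
  · have h1 : ((s : G)⁻¹ * r) • b = b := by
      rw [mul_smul, show (r : G) • b = (s : G) • b from congrArg Subtype.val hrs, inv_smul_smul]
    have h2 : (s : G)⁻¹ * r ∈ R G p a ⊓ stabilizer G b :=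
      ⟨Subgroup.mul_mem _ (Subgroup.inv_mem _ s.2) r.2, h1⟩
    rw [hsr, Subgroup.mem_bot, inv_mul_eq_one] at h2
    exact Subtype.ext h2.symm
  · rintro ⟨_, ⟨h, hh⟩, rfl⟩
    obtain ⟨r, hr, hrb⟩ := exists_factor hep (R_le p a) (le_normalizer_R p a) hn hh
    refine ⟨⟨r, hr⟩, Subtype.ext ?_⟩
    show r • b = h • b
    conv_rhs => rw [show h = r * (r⁻¹ * h) by group, mul_smul, hrb]

include hep in
theorem cent_comm {a : Ω} (hH : stabilizer G a ≠ ⊥) (hne : R G p a ≠ ⊥) {y z : G}
    (hy : y ∈ stabilizer G a ⊓ Subgroup.centralizer (R G p a : Set G))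
    (hz : z ∈ stabilizer G a ⊓ Subgroup.centralizer (R G p a : Set G)) : y * z = z * y := by
  refine commutatorElement_eq_one_iff_mul_comm.1 (eq_of_smul_eq_smul (α := Ω) fun w => ?_)
  rw [one_smul]
  by_cases haw : a = w
  · subst haw
    rw [_root_.commutatorElement_def]
    exact (stabilizer G a).mul_mem ((stabilizer G a).mul_mem ((stabilizer G a).mul_mem hy.1 hz.1)
      ((stabilizer G a).inv_mem hy.1)) ((stabilizer G a).inv_mem hz.1)
  · refine commutator_fix (p := p) hep hH haw (fun h => hne ?_) hy hz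
    rw [← semiregular (p := p) hep hH haw]
    exact (inf_eq_left.2 h).symm

include hep in
theorem eq_one_of_pow_eq_one_central {a : Ω} (hH : stabilizer G a ≠ ⊥)
    (hnp : ¬ (Nat.card (stabilizer G a)).Prime) {z : G} (hza : z • a = a)
    (hzp : z ^ p = 1) (hzc : ∀ h ∈ stabilizer G a, h * z = z * h) : z = 1 := by
  by_contra hz1
  have hzR : Subgroup.zpowers z ≤ R G p a := by
    refine CfsgLib.LocalEvenB.le_pCoreOf (Subgroup.zpowers_le.2 hza) ?_ fun h hh =>
      mem_normalizer_of_conj fun x hx => ?_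
    · rintro ⟨x, hx⟩
      obtain ⟨k, rfl⟩ := Subgroup.mem_zpowers_iff.1 hx
      refine ⟨1, Subtype.ext ?_⟩
      show (z ^ k) ^ p ^ 1 = 1
      rw [pow_one, ← zpow_natCast, ← zpow_mul, mul_comm, zpow_mul, zpow_natCast, hzp, one_zpow]
    · obtain ⟨k, rfl⟩ := Subgroup.mem_zpowers_iff.1 hx
      rw [((show Commute h z from hzc h hh).zpow_right k).eq, mul_inv_cancel_right]
      exact Subgroup.zpow_mem_zpowers z k
  have hne : R G p a ≠ ⊥ := fun h => hz1 (Subgroup.mem_bot.1 (h ▸ hzR (Subgroup.mem_zpowers z)))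
  have hzn : stabilizer G a ≤ Subgroup.normalizer (Subgroup.zpowers z : Set G) := fun h hh =>
    mem_normalizer_of_conj fun x hx => by
      obtain ⟨k, rfl⟩ := Subgroup.mem_zpowers_iff.1 hx
      rw [((show Commute h z from hzc h hh).zpow_right k).eq, mul_inv_cancel_right]
      exact Subgroup.zpow_mem_zpowers z k
  obtain ⟨b, hab⟩ := exists_ne a
  have hnot : ¬ Subgroup.zpowers z ≤ stabilizer G b := fun h => hz1 (Subgroup.mem_bot.1
    (semiregular (p := p) hep hH hab.symm ▸
      Subgroup.mem_inf.2 ⟨hzR (Subgroup.mem_zpowers z), h (Subgroup.mem_zpowers z)⟩))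
  have hRz : R G p a = Subgroup.zpowers z := by
    refine le_antisymm (fun r hr => ?_) hzR
    obtain ⟨k, hk, hkb⟩ := exists_factor hep (hzR.trans (R_le p a)) hzn hnot (R_le p a hr)
    have h1 : k⁻¹ * r ∈ R G p a ⊓ stabilizer G b :=
      ⟨Subgroup.mul_mem _ (Subgroup.inv_mem _ (hzR hk)) hr, hkb⟩
    rw [semiregular (p := p) hep hH hab.symm, Subgroup.mem_bot, inv_mul_eq_one] at h1
    exact h1 ▸ hk
  have hcentral : ∀ h ∈ stabilizer G a,
      h ∈ stabilizer G a ⊓ Subgroup.centralizer (R G p a : Set G) := by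
    refine fun h hh => ⟨hh, Subgroup.mem_centralizer_iff.2 fun r hr => ?_⟩
    rw [hRz] at hr
    obtain ⟨k, rfl⟩ := Subgroup.mem_zpowers_iff.1 hr
    exact ((show Commute h z from hzc h hh).zpow_right k).eq.symm
  have hab' : ∀ u ∈ stabilizer G a, ∀ v ∈ stabilizer G a, u * v = v * u := fun u hu v hv =>
    cent_comm (p := p) hep hH hne (hcentral u hu) (hcentral v hv)
  have hD : stabilizer G a ⊓ stabilizer G b = ⊥ := by
    refine eq_bot_of_normalized hH hab.symm inf_le_left
      (fun h hh => mem_normalizer_of_conj fun x hx => by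
        rw [hab' h hh x hx.1, mul_inv_cancel_right]; exact hx)
      (fun h hh => mem_normalizer_of_conj fun x hx => ?_)
    obtain ⟨g, hg⟩ := exists_smul_eq G a b
    have hgm : ∀ u ∈ stabilizer G b, g⁻¹ * u * g ∈ stabilizer G a := by
      intro u hu
      rw [mem_stabilizer_iff, mul_smul, mul_smul, hg, mem_stabilizer_iff.1 hu, inv_smul_eq_iff, hg]
    have h2 := hab' _ (hgm h hh) _ (hgm x hx.2)
    have h3 : h * x = x * h := by
      calc h * x = g * ((g⁻¹ * h * g) * (g⁻¹ * x * g)) * g⁻¹ := by group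
        _ = g * ((g⁻¹ * x * g) * (g⁻¹ * h * g)) * g⁻¹ := by rw [h2]
        _ = _ := by group
    rw [h3, mul_inv_cancel_right]
    exact hx
  have hA : stabilizer G a = Subgroup.zpowers z := by
    refine le_antisymm (fun h hh => ?_) (hzR.trans (R_le p a))
    obtain ⟨k, hk, hkb⟩ := exists_factor hep (hzR.trans (R_le p a)) hzn hnot hh
    have h1 : k⁻¹ * h ∈ stabilizer G a ⊓ stabilizer G b :=
      ⟨(stabilizer G a).mul_mem ((stabilizer G a).inv_mem (R_le p a (hzR hk))) hh, hkb⟩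
    rw [hD, Subgroup.mem_bot, inv_mul_eq_one] at h1
    exact h1 ▸ hk
  refine hnp ?_
  rw [hA, Nat.card_zpowers, orderOf_eq_prime hzp hz1]
  exact Fact.out

end CfsgLib.Perm.ExtremelyPrimitive
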