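import Cfsg.Agent.Lib.Perm.FewSylowTable
import Cfsg.Agent.Lib.Perm.SelfCentDegree

/-!
# Brauer's theorem on few Sylow subgroups: the numerical part

`two_cases`: if `n` is `Good` either `n = 1` and `t = 2`, or `e = 2` and `n + 1 = t`.
-/

set_option autoImplicit false

namespace CfsgLib.Perm.FewSylow

open Cfsg CfsgLib.Char
open scoped ComplexConjugate Classical

variable {G : Type*} [Group G] [Fintype G] [Fintype (Cfsg.IrrCharacter G)]
variable {p : ℕ} [Fact p.Prime] {P : Sylow p G} {a : G} {e t n : ℕ} {F : Frame P a e t n}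
variable {Xp Xm Y K : Finset (IrrCharacter G)} {c D : ℕ} {k : IrrCharacter G → ℕ}

namespace Table

variable (T : Table F Xp Xm Y K c D k)
include T

/-- The sums over the normalizer of the characters in `Xp` and `Y` vanish. -/
theorem sum_normalizer_eq_zero :
    (∀ χ ∈ Xp, ∑ g : Subgroup.normalizer ((P : Subgroup G) : Set G), (χ : G → ℂ) g = 0) ∧
      ∀ θ ∈ Y, ∑ g : Subgroup.normalizer ((P : Subgroup G) : Set G), (θ : G → ℂ) g = 0 := by
  set N := Subgroup.normalizer ((P : Subgroup G) : Set G)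
  have hnat : ∀ χ : IrrCharacter G, ∃ m : ℕ, ∑ g : N, (χ : G → ℂ) g = (Nat.card N : ℂ) * m :=
    fun χ => CharAverage.exists_sum_eq N (IsIrr.isCharacter χ.2)
  choose m hm using hnat
  obtain ⟨θ₀, hθ₀⟩ : Y.Nonempty := Finset.card_pos.1 (by rw [T.cardY]; exact F.t_pos)
  have hpC : (p : ℂ) ≠ 0 := Nat.cast_ne_zero.2 (Fact.out : p.Prime).ne_zero
  have hp' : ∀ χ ∈ Xp, ∑ g : N, (χ : G → ℂ) g =
      (p : ℂ) * ((n + 1 : ℕ) + ∑ v ∈ star (Subgroup.zpowers a), (χ : G → ℂ) v) := by
    intro χ hχ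
    rw [F.sum_normalizer (fun g h => IsIrr.isClassFunction χ.2 g h), sum_subgroup, T.one_p χ hχ,
      Finset.sum_congr rfl (fun x hx => T.x_p χ hχ x hx), Finset.sum_const, F.card_Pstar, nsmul_one]
    have : (e : ℂ) * t + 1 = p := by exact_mod_cast F.et
    push_cast
    linear_combination this
  have hY' : ∀ θ ∈ Y, ∑ g : N, (θ : G → ℂ) g =
      (p : ℂ) * ((c : ℂ) + ∑ v ∈ star (Subgroup.zpowers a), (θ : G → ℂ) v) := by
    intro θ hθ
    rw [F.sum_normalizer (fun g h => IsIrr.isClassFunction θ.2 g h), sum_subgroup, T.one_Y θ hθ,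
      T.x_sum θ hθ, mul_add]
  have hA1 : ((star (Subgroup.zpowers a)).card : ℂ) + 1 = e := by exact_mod_cast F.card_Astar
  have hcount : (e : ℂ) = Xp.card * ((n : ℂ) + 1) + c + 1 := by exact_mod_cast T.count
  have hzero : ∀ θ ∈ Y, (∀ χ ∈ Xp, m χ = 0) ∧ m θ = 0 := by
    intro θ hθ
    have h : ∑ χ ∈ Xp, ∑ g : N, (χ : G → ℂ) g + ∑ g : N, (θ : G → ℂ) g = 0 := by
      rw [Finset.sum_congr rfl hp', ← Finset.mul_sum, hY' θ hθ, ← mul_add, Finset.sum_add_distrib,
        Finset.sum_const, nsmul_eq_mul, Finset.sum_comm, add_add_add_comm, ← Finset.sum_add_distrib,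
        Finset.sum_congr rfl (fun v hv => T.v_rel θ hθ v hv), Finset.sum_const, nsmul_eq_mul]
      push_cast
      linear_combination -(p : ℂ) * hcount - (p : ℂ) * hA1
    simp only [hm, ← Finset.mul_sum, ← mul_add, ← Nat.cast_sum, ← Nat.cast_add] at h
    have h0 := (mul_eq_zero.1 h).resolve_left (Nat.cast_ne_zero.2 Nat.card_pos.ne')
    rw [Nat.cast_eq_zero, add_eq_zero] at h0
    exact ⟨fun χ hχ => Finset.sum_eq_zero_iff.1 h0.1 χ hχ, h0.2⟩
  exact ⟨fun χ hχ => by rw [hm, (hzero θ₀ hθ₀).1 χ hχ, Nat.cast_zero, mul_zero],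
    fun θ hθ => by rw [hm, (hzero θ hθ).2, Nat.cast_zero, mul_zero]⟩

/-- Every element of the complement is fused into `(n + 1) e / |C(u)|` of its elements. -/
theorem class_count {u : G} (hu : u ∈ star (Subgroup.zpowers a)) :
    Nat.card (Subgroup.centralizer ({u} : Set G)) *
      ((star (Subgroup.zpowers a)).filter fun v => IsConj v u).card = (n + 1) * e := by
  set N := Subgroup.normalizer ((P : Subgroup G) : Set G)
  set f : G → ℂ := fun g => ∑ χ : IrrCharacter G, (χ : G → ℂ) g * conj ((χ : G → ℂ) u) with hf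
  have hcf : ∀ g h : G, f (h * g * h⁻¹) = f g := fun g h =>
    Finset.sum_congr rfl fun χ _ => by rw [IsIrr.isClassFunction χ.2 g h]
  have hfval : ∀ g, f g = if IsConj g u then (Nat.card (Subgroup.centralizer ({u} : Set G)) : ℂ) else 0 := by
    intro g
    rw [hf]
    simp only
    rw [column_orthogonality g u]
    split_ifs with h
    · obtain ⟨w, hw⟩ := isConj_iff.1 h
      congr 1
      refine Nat.card_congr (((MulAut.conj w).toEquiv).subtypeEquiv fun y => ?_)
      simp only [Subgroup.mem_centralizer_singleton_iff, MulEquiv.toEquiv_eq_coe, MulEquiv.coe_toEquiv,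
        MulAut.conj_apply, ← hw]
      constructor
      · intro hy
        calc w * y * w⁻¹ * (w * g * w⁻¹) = w * (y * g) * w⁻¹ := by group
          _ = w * (g * y) * w⁻¹ := by rw [hy]
          _ = _ := by group
      · intro hy
        apply mul_left_cancel (a := w)
        apply mul_right_cancel (b := w⁻¹)
        calc w * (y * g) * w⁻¹ = w * y * w⁻¹ * (w * g * w⁻¹) := by group
          _ = _ := hy
          _ = w * (g * y) * w⁻¹ := by group
    · rfl
  have hL : ∑ g : N, f g = (p : ℂ) * ((Nat.card (Subgroup.centralizer ({u} : Set G)) *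
      ((star (Subgroup.zpowers a)).filter fun v => IsConj v u).card : ℕ) : ℂ) := by
    rw [F.sum_normalizer hcf, Finset.sum_eq_zero (f := fun x : (P : Subgroup G) => f x) fun x _ => by
      rw [hfval, if_neg]
      intro hc
      obtain ⟨w, hw⟩ := isConj_iff.1 hc
      have ho : orderOf u = orderOf (x : G) := by rw [← hw]; exact (MulAut.conj w).orderOf_eq _
      rcases eq_or_ne (x : G) 1 with h | h
      · rw [h, orderOf_one, orderOf_eq_one_iff] at ho
        exact (mem_star.1 hu).1 ho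
      · have h1 := orderOf_dvd_natCard (x : (P : Subgroup G))
        rw [← orderOf_submonoid, F.card] at h1
        rcases (Nat.dvd_prime Fact.out).1 h1 with h2 | h2
        · exact h (orderOf_eq_one_iff.1 h2)
        · exact F.regular_of_mem (mem_star.1 hu).2 (by rw [ho, h2]),
      zero_add]
    congr 1
    simp only [hfval]
    rw [← Finset.sum_filter, Finset.sum_const, nsmul_eq_mul, Nat.cast_mul, mul_comm]
  have hR : ∑ g : N, f g = (p : ℂ) * ((n + 1) * e : ℕ) := by
    simp only [hf]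
    rw [Finset.sum_comm]
    simp only [← Finset.sum_mul]
    obtain ⟨hz1, hz2⟩ := T.sum_normalizer_eq_zero
    rw [T.split, Finset.sum_eq_zero (s := Xp) (fun χ hχ => by rw [hz1 χ hχ, zero_mul]),
      Finset.sum_eq_zero (s := Xm) (fun χ hχ => by rw [T.v_m χ hχ u hu, map_zero, mul_zero]),
      Finset.sum_eq_zero (s := Y) (fun χ hχ => by rw [hz2 χ hχ, zero_mul]),
      Finset.sum_congr rfl (s₁ := K) (g := fun χ => (p : ℂ) * e * ((k χ ^ 2 : ℕ) : ℂ)) (fun χ hχ => by
        rw [F.sum_normalizer (fun g h => IsIrr.isClassFunction χ.2 g h), sum_subgroup, T.one_K χ hχ,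
          Finset.sum_eq_zero (fun x hx => T.x_K χ hχ x hx),
          Finset.sum_congr rfl (fun v hv => T.v_K χ hχ v hv), Finset.sum_const, nsmul_eq_mul,
          T.v_K χ hχ u hu, map_natCast]
        have hA1 : ((star (Subgroup.zpowers a)).card : ℂ) + 1 = e := by exact_mod_cast F.card_Astar
        push_cast
        linear_combination (p : ℂ) * (k χ : ℂ) * (k χ : ℂ) * hA1),
      ← Finset.mul_sum, ← Nat.cast_sum, T.sumK]
    simp only [trivChar_apply, map_one, mul_one, Finset.sum_const, Finset.card_univ, nsmul_eq_mul,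
      ← Nat.card_eq_fintype_card]
    rw [show Nat.card N = e * p from F.cardN]
    push_cast
    ring
  rw [hL] at hR
  exact_mod_cast mul_left_cancel₀ (Nat.cast_ne_zero.2 (Fact.out : p.Prime).ne_zero) hR

/-- The order of the normalizer of the complement. -/
theorem card_normalizer_zpowers :
    Nat.card (Subgroup.normalizer (Subgroup.zpowers a : Set G)) = (n + 1) * e := by
  set A := Subgroup.zpowers a
  have ha1 : a ≠ 1 := fun h => by
    have := F.ord; rw [h, orderOf_one] at this; have := F.two; omega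
  rw [← T.class_count (mem_star.2 ⟨ha1, Subgroup.mem_zpowers a⟩)]
  set S := (star A).filter fun v => IsConj v a
  have hmem : ∀ g : G, g ∈ Subgroup.normalizer (A : Set G) ↔ g * a * g⁻¹ ∈ S := by
    intro g
    constructor
    · intro hg
      refine Finset.mem_filter.2 ⟨mem_star.2 ⟨fun h => ha1 (by simpa using h),
        (Subgroup.mem_normalizer_iff.1 hg a).1 (Subgroup.mem_zpowers a)⟩, (isConj_iff.2 ⟨g, rfl⟩).symm⟩
    · intro hg
      have h1 : A.map (MulAut.conj g).toMonoidHom ≤ A := by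
        rw [MonoidHom.map_zpowers, Subgroup.zpowers_le]
        exact (mem_star.1 (Finset.mem_filter.1 hg).1).2
      have h2 : A.map (MulAut.conj g).toMonoidHom = A := Subgroup.eq_of_le_of_card_ge h1
        (le_of_eq (Subgroup.card_map_of_injective (MulAut.conj g).injective).symm)
      rw [Subgroup.mem_normalizer_iff]
      intro h
      constructor
      · intro hh
        exact h2.le ⟨h, hh, rfl⟩
      · intro hh
        obtain ⟨y, hy, hyh⟩ := h2.ge hh
        rwa [← (MulAut.conj g).injective hyh]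
  rw [Nat.card_congr (Equiv.subtypeEquivRight hmem)]
  let e' : {g : G // g * a * g⁻¹ ∈ S} ≃ Σ v : S, {g : G // g * a * g⁻¹ = v} :=
    { toFun := fun g => ⟨⟨_, g.2⟩, ⟨g.1, rfl⟩⟩
      invFun := fun q => ⟨q.2.1, by rw [q.2.2]; exact q.1.2⟩
      left_inv := fun g => rfl
      right_inv := fun q => by
        obtain ⟨⟨v, hv⟩, g, hg⟩ := q
        dsimp only at hg
        subst hg
        rfl }
  rw [Nat.card_congr e', Nat.card_sigma, Finset.sum_congr rfl (fun v _ => ?_), Finset.sum_const,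
    Finset.card_univ, Fintype.card_coe, smul_eq_mul, mul_comm]
  obtain ⟨g₀, hg₀⟩ := isConj_iff.1 (Finset.mem_filter.1 v.2).2.symm
  exact SelfCentDegree.card_conj_fiber a v g₀ hg₀

/-- Divisibility forces `n + 1 = t` and `c ≤ 1`. -/
theorem n_add_one : n + 1 = t ∧ c ≤ 1 := by
  have hp : p.Prime := Fact.out
  have het := F.et
  have he2 := F.two
  have hn0 := F.npos
  have hcount := T.count
  have hp5 : 5 ≤ p := by
    by_contra h5
    have := F.p_three
    have hp4 : p ≠ 4 := fun h => by rw [h] at hp; norm_num at hp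
    have hp3 : p = 3 := by omega
    have he : e = 2 := by have := F.e_lt; omega
    subst hp3 he
    have ht : t = 1 := by omega
    rcases Nat.eq_zero_or_pos Xp.card with h | h
    · rw [h, zero_mul, zero_add] at hcount
      rcases T.cases with ⟨h1, -⟩ | ⟨-, h1, -⟩ <;> rw [ht] at *
      · omega
      · have : c = 1 := by omega
        subst this
        omega
    · nlinarith
  have h1 : (n + 1) * e ∣ e * (p * (1 + n * p)) := by
    rw [← T.card_normalizer_zpowers, show e * (p * (1 + n * p)) = Nat.card G by rw [F.cardG]; ring]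
    exact Subgroup.card_subgroup_dvd_card _
  rw [mul_comm (n + 1) e] at h1
  have h2 : n + 1 ∣ p * (1 + n * p) := Nat.dvd_of_mul_dvd_mul_left (by omega) h1
  have hnp : n + 1 < p := by
    have hep := F.e_lt
    rcases T.cases with ⟨hc, -⟩ | ⟨hc, hct, -⟩
    · rw [hc, add_zero] at hcount
      have h6 : 1 * (n + 1) ≤ Xp.card * (n + 1) := Nat.mul_le_mul_right _ (Nat.pos_of_ne_zero fun h0 => by
        rw [h0, zero_mul] at hcount; omega)
      omega
    · have h6 : c * t < e * t := (Nat.mul_lt_mul_right F.t_pos).2 (by omega)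
      omega
  have hcop : Nat.Coprime (n + 1) p := ((hp.coprime_iff_not_dvd).2 fun h => by
    have := Nat.le_of_dvd (by omega) h; omega).symm
  have h3 : n + 1 ∣ 1 + n * p := hcop.dvd_of_dvd_mul_left h2
  have h4 : n + 1 ∣ e * t := by
    refine (Nat.dvd_add_right h3).1 ⟨p, ?_⟩
    subst het; ring
  rcases T.cases with ⟨hc, -⟩ | ⟨hc, hct, -⟩
  · refine ⟨?_, by omega⟩
    have hco : Nat.Coprime (n + 1) e := by
      rw [hcount, hc, add_zero, Nat.coprime_mul_right_add_right]
      exact Nat.coprime_one_right _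
    exact Nat.dvd_antisymm (hco.dvd_of_dvd_mul_left h4) T.dvd_t
  · rw [hct] at h4 hcount
    have h5 : c ∣ e := Nat.dvd_of_mul_dvd_mul_right F.t_pos h4
    have h6 : c ∣ 1 := by
      have h7 : e = c * (Xp.card * t + 1) + 1 := by rw [hcount]; ring
      rw [h7] at h5
      exact (Nat.dvd_add_right (dvd_mul_right c _)).1 h5
    have h8 : c = 1 := Nat.dvd_one.1 h6
    exact ⟨by rw [hct, h8, one_mul], h8.le⟩

/-- The square of an exceptional character of degree `e` forces `t ≤ 2`. -/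
theorem t_le_two_of_zero (hc : c = 0) (hnt : n + 1 = t) : t ≤ 2 := by
  have hp : p.Prime := Fact.out
  have het := F.et
  have he2 := F.two
  have hetC : (e : ℂ) * t + 1 = p := by exact_mod_cast het
  have hD : D = e := by
    rcases T.cases with ⟨-, h⟩ | ⟨h, -, -⟩
    · exact h
    · omega
  let f : IrrCharacter G → G → ℂ := fun θ g => (θ : G → ℂ) g * conj ((θ : G → ℂ) g)
  have hf : ∀ θ : IrrCharacter G, Cfsg.IsCharacter G (f θ) := fun θ =>
    IsChar.mul (IsIrr.isCharacter θ.2) (IsChar.conj (IsIrr.isCharacter θ.2))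
  have hnat : ∀ θ : IrrCharacter G, ∃ d : ℕ, ∑ x : (P : Subgroup G), f θ x = (p : ℂ) * d := fun θ => by
    obtain ⟨d, hd⟩ := CharAverage.exists_sum_eq (P : Subgroup G) (hf θ)
    exact ⟨d, by rw [hd, F.card]⟩
  choose d hd using hnat
  have hsum : ∑ θ ∈ Y, d θ = t * e := by
    have h : (p : ℂ) * ((∑ θ ∈ Y, d θ : ℕ) : ℂ) = (p : ℂ) * ((t * e : ℕ) : ℂ) := by
      rw [Nat.cast_sum, Finset.mul_sum, ← Finset.sum_congr rfl (fun θ _ => hd θ)]
      simp only [sum_subgroup, Finset.sum_add_distrib]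
      rw [Finset.sum_congr rfl (g := fun _ => (e : ℂ) * e) (fun θ hθ => by
          simp only [f]; rw [T.one_Y θ hθ, hD, map_natCast]),
        Finset.sum_comm, Finset.sum_congr rfl (fun x hx => T.x_Y x hx), Finset.sum_const, Finset.sum_const,
        T.cardY, F.card_Pstar, nsmul_eq_mul, nsmul_eq_mul]
      push_cast
      linear_combination (0 : ℂ) * hetC
    exact_mod_cast mul_left_cancel₀ (Nat.cast_ne_zero.2 hp.ne_zero) h
  obtain ⟨θ, hθ, hdθ⟩ : ∃ θ ∈ Y, e ≤ d θ := by
    by_contra hno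
    push Not at hno
    have : ∑ θ ∈ Y, d θ < ∑ _θ ∈ Y, e :=
      Finset.sum_lt_sum_of_nonempty (Finset.card_pos.1 (by rw [T.cardY]; exact F.t_pos)) hno
    rw [hsum, Finset.sum_const, T.cardY, smul_eq_mul] at this
    omega
  obtain ⟨m, hm⟩ := IsChar.exists_sum (hf θ)
  have hm1 : m (trivChar G) = 1 := by
    have h := classInner_sum_irr (fun χ => (m χ : ℂ)) (trivChar G)
    rw [← hm] at h
    have h1 : classInner (f θ) ((trivChar G : IrrCharacter G) : G → ℂ) = 1 := by
      rw [← classInner_irr_self θ]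
      simp only [classInner, trivChar_apply, map_one, mul_one, f]
    exact_mod_cast (h.symm.trans h1)
  have hP : ∀ χ : G → ℂ, ∑ x : (P : Subgroup G), χ x = χ 1 + ∑ x ∈ star (P : Subgroup G), χ x :=
    fun χ => sum_subgroup _ χ
  -- evaluate at the identity and on `P`
  have h1 : ((e * e : ℕ) : ℂ) = ((1 + (∑ χ ∈ Xp, m χ) * (1 + n * p) + (∑ χ ∈ Xm, m χ) * (e * t) +
      (∑ χ ∈ Y, m χ) * e + (∑ χ ∈ K, m χ * k χ) * p : ℕ) : ℂ) := by
    have h := congrFun hm 1
    simp only [f] at h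
    rw [T.one_Y θ hθ, hD, map_natCast, ← Nat.cast_mul, Finset.sum_apply, T.split] at h
    simp only [Pi.smul_apply, smul_eq_mul] at h
    rw [h, Finset.sum_congr rfl (s₁ := Xp) (fun χ hχ => by rw [T.one_p χ hχ]),
      Finset.sum_congr rfl (s₁ := Xm) (fun χ hχ => by rw [T.one_m χ hχ]),
      Finset.sum_congr rfl (s₁ := Y) (fun χ hχ => by rw [T.one_Y χ hχ, hD]),
      Finset.sum_congr rfl (s₁ := K) (fun χ hχ => by rw [T.one_K χ hχ]), hm1, trivChar_apply]
    push_cast
    simp only [Finset.sum_mul, mul_assoc, Nat.cast_one, mul_one, one_mul]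
  have h2 : (d θ : ℂ) = ((1 + (∑ χ ∈ Xp, m χ) * (n + 1) + ∑ χ ∈ K, m χ * k χ : ℕ) : ℂ) := by
    refine mul_left_cancel₀ (Nat.cast_ne_zero.2 hp.ne_zero : (p : ℂ) ≠ 0) ?_
    rw [← hd θ, hm]
    simp only [Finset.sum_apply, Pi.smul_apply, smul_eq_mul]
    rw [Finset.sum_comm, T.split, Finset.sum_congr rfl (s₁ := Xp) (g := fun χ => (p : ℂ) * ((m χ : ℂ) * (n + 1))) (fun χ hχ => by
        rw [← Finset.mul_sum, hP, T.one_p χ hχ, Finset.sum_congr rfl (fun x hx => T.x_p χ hχ x hx),
          Finset.sum_const, F.card_Pstar, nsmul_one]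
        push_cast
        linear_combination (m χ : ℂ) * hetC),
      Finset.sum_eq_zero (s := Xm) (fun χ hχ => by
        rw [← Finset.mul_sum, hP, T.one_m χ hχ, Finset.sum_congr rfl (fun x hx => T.x_m χ hχ x hx),
          Finset.sum_const, F.card_Pstar, nsmul_eq_mul]
        push_cast
        ring),
      Finset.sum_eq_zero (s := Y) (fun χ hχ => by
        rw [← Finset.mul_sum, hP, T.one_Y χ hχ, T.x_sum χ hχ, hc, Nat.cast_zero, mul_zero, mul_zero]),
      Finset.sum_congr rfl (s₁ := K) (g := fun χ => (p : ℂ) * ((m χ : ℂ) * k χ)) (fun χ hχ => by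
        rw [← Finset.mul_sum, hP, T.one_K χ hχ, Finset.sum_eq_zero (fun x hx => T.x_K χ hχ x hx)]
        push_cast
        ring),
      ← Finset.mul_sum, hm1]
    simp only [trivChar_apply, Nat.cast_one, one_mul, Finset.sum_const, Finset.card_univ, nsmul_eq_mul,
      mul_one, ← Nat.card_eq_fintype_card, F.card, ← Finset.mul_sum]
    push_cast
    simp only [← Finset.sum_mul]
    ring
  have h1' : e * e = _ := Nat.cast_inj.1 h1
  have h2' := Nat.cast_inj.1 h2
  set M := ∑ χ ∈ Xp, m χ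
  set L := ∑ χ ∈ K, m χ * k χ
  set F₀ := M * (n + 1) + L with hF₀
  have hF1 : e - 1 ≤ F₀ := by omega
  rw [hnt] at hF₀
  -- `e² - 1 ≥ (p - e) F₀`
  have hE : (p : ℤ) * F₀ ≤ (e : ℤ) * e - 1 + M * (e * t) := by
    have h1z : (e : ℤ) * e = 1 + M * (1 + n * p) + (∑ χ ∈ Xm, m χ : ℕ) * (e * t) +
        (∑ χ ∈ Y, m χ : ℕ) * e + L * p := by exact_mod_cast h1'
    have hz : (e : ℤ) * t + 1 = p := by exact_mod_cast het
    have hnz : (n : ℤ) + 1 = t := by exact_mod_cast hnt
    have hFz : (F₀ : ℤ) = M * t + L := by exact_mod_cast hF₀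
    have hA : (0 : ℤ) ≤ (∑ χ ∈ Xm, m χ : ℕ) * (e * t) := by positivity
    have hB : (0 : ℤ) ≤ (∑ χ ∈ Y, m χ : ℕ) * e := by positivity
    have key : (M : ℤ) * (1 + n * p) + M * (e * t) = p * (M * t) := by
      linear_combination (M : ℤ) * hz + (M : ℤ) * p * hnz
    rw [hFz, mul_add]
    linarith
  have hMF : (M : ℤ) * (e * t) ≤ e * F₀ := by
    have : M * t ≤ F₀ := by omega
    calc (M : ℤ) * (e * t) = e * ((M * t : ℕ) : ℤ) := by push_cast; ring
      _ ≤ e * F₀ := mul_le_mul_of_nonneg_left (by exact_mod_cast this) (by positivity)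
  by_contra ht
  have hz : (e : ℤ) * t + 1 = p := by exact_mod_cast het
  have h3 : ((p : ℤ) - e) * (e - 1) ≤ ((p : ℤ) - e) * F₀ :=
    mul_le_mul_of_nonneg_left (by omega) (by have := F.e_lt; omega)
  have h4 : ((p : ℤ) - e) * (e - 1) ≤ ((e : ℤ) + 1) * (e - 1) := by linarith
  have h5 : (p : ℤ) - e ≤ e + 1 := le_of_mul_le_mul_right h4 (by omega)
  have h6 : (e : ℤ) * 3 ≤ e * t := mul_le_mul_of_nonneg_left (by omega) (by positivity)
  omega

/-- An involution count forces `t ≤ 2`. -/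
theorem t_le_two_of_one (hc : c = 1) (hnt : n + 1 = t) (ha : 0 < Xp.card) : t ≤ 2 := by
  have hp : p.Prime := Fact.out
  have het := F.et
  have he2 := F.two
  have hcount := T.count
  rw [hc, hnt] at hcount
  by_contra ht
  push Not at ht
  set A := Subgroup.zpowers a with hA
  -- an involution of the complement
  have heven : 2 ∣ e := by
    rcases Nat.even_or_odd t with h | h
    · obtain ⟨j, hj⟩ := h
      exact ⟨Xp.card * j + 1, by rw [hcount, hj]; ring⟩
    · have h2 : Even (e * t) := by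
        rcases hp.eq_two_or_odd' with h2 | ⟨j, hj⟩
        · have := F.p_three; omega
        · exact ⟨j, by omega⟩
      exact even_iff_two_dvd.1 ((Nat.even_mul.1 h2).resolve_right (Nat.not_even_iff_odd.2 h))
  obtain ⟨w, hw⟩ := heven
  set z := a ^ w with hz
  have hzo : orderOf z = 2 := by
    rw [hz, orderOf_pow_of_dvd (by omega) ⟨2, by rw [F.ord, hw, mul_comm]⟩, F.ord, hw,
      Nat.mul_div_cancel _ (by omega)]
  have hz1 : z ≠ 1 := fun h => by rw [h, orderOf_one] at hzo; omega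
  have hzA : z ∈ A := Subgroup.pow_mem _ (Subgroup.mem_zpowers a) w
  have hzs : z ∈ star A := mem_star.2 ⟨hz1, hzA⟩
  have hzz : z * z = 1 := by rw [← pow_two, ← hzo, pow_orderOf_eq_one]
  have hone : ∀ v ∈ A, orderOf v = 2 → v = z := by
    intro v hv hv2
    by_contra hne
    have hd : Finset.card ({1, z, v} : Finset G) ≤ 2 := by
      haveI : IsCyclic A := ⟨⟨a, Subgroup.mem_zpowers a⟩, fun x => by
        obtain ⟨i, hi⟩ := Subgroup.mem_zpowers_iff.1 x.2
        exact ⟨i, Subtype.ext (by simpa using hi)⟩⟩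
      have h1 := IsCyclic.card_pow_eq_one_le (α := A) (n := 2) (by norm_num)
      refine le_trans ?_ h1
      rw [← Finset.card_map (Function.Embedding.subtype fun x => x ∈ A)]
      refine Finset.card_le_card fun x hx => ?_
      simp only [Finset.mem_map, Finset.mem_filter, Finset.mem_univ, true_and,
        Function.Embedding.coe_subtype]
      simp only [Finset.mem_insert, Finset.mem_singleton] at hx
      rcases hx with rfl | rfl | rfl
      · exact ⟨1, one_pow 2, rfl⟩
      · exact ⟨⟨_, hzA⟩, Subtype.ext (by simpa [pow_two] using hzz), rfl⟩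
      · exact ⟨⟨_, hv⟩, Subtype.ext (by simpa using (hv2 ▸ pow_orderOf_eq_one x : x ^ 2 = 1)), rfl⟩
    have hv1 : v ≠ 1 := fun h => by rw [h, orderOf_one] at hv2; omega
    simp [Ne.symm hz1, Ne.symm hv1, Ne.symm hne] at hd
  set Cz := Nat.card (Subgroup.centralizer ({z} : Set G))
  have hCz : Cz = t * e := by
    have h := T.class_count hzs
    rw [show (star A).filter (fun v => IsConj v z) = {z} from
      Finset.eq_singleton_iff_unique_mem.2 ⟨Finset.mem_filter.2 ⟨hzs, IsConj.refl z⟩, fun v hv => by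
        obtain ⟨h1, h2⟩ := Finset.mem_filter.1 hv
        obtain ⟨g, hg⟩ := isConj_iff.1 h2.symm
        exact hone v (mem_star.1 h1).2 (by rw [← hg, ← hzo]; exact ((MulAut.conj g).orderOf_eq z))⟩,
      Finset.card_singleton, mul_one, hnt] at h
    exact h
  obtain ⟨θ₀, hθ₀⟩ : Y.Nonempty := Finset.card_pos.1 (by rw [T.cardY]; exact F.t_pos)
  have hYv : ∀ θ ∈ Y, ∀ v ∈ star A, (θ : G → ℂ) v = (θ₀ : G → ℂ) v := fun θ hθ v hv =>
    T.v_agree θ hθ θ₀ hθ₀ v hv
  -- values at the involution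
  have hint : ∀ χ : IrrCharacter G, ∃ i : ℤ, (χ : G → ℂ) z = i := fun χ =>
    SelfCentDegree.exists_int_of_sq_eq_one χ hzz
  choose val hval using hint
  have hbX : ∀ χ ∈ Xp, val χ ^ 2 ≤ (t : ℤ) ^ 2 := fun χ hχ => by
    have h := T.v_p χ hχ z hzs
    rw [hval, Complex.norm_intCast, show (n : ℝ) + 1 = ((t : ℤ) : ℝ) by rw [← hnt]; push_cast; ring] at h
    rw [sq_le_sq, abs_of_nonneg (by positivity : (0 : ℤ) ≤ t)]
    exact_mod_cast h
  have hbY : val θ₀ ^ 2 ≤ 1 := by
    have h := T.v_Y θ₀ hθ₀ z hzs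
    rw [hval, Complex.norm_intCast, hc, Nat.cast_one] at h
    rw [sq_le_one_iff_abs_le_one]
    exact_mod_cast h
  have hsq : ∑ χ ∈ Xp, val χ ^ 2 + (t : ℤ) * val θ₀ ^ 2 + (1 + n) = (t : ℤ) * e := by
    have h := column_orthogonality z z
    rw [if_pos (IsConj.refl z), show Nat.card (Subgroup.centralizer ({z} : Set G)) = t * e from hCz,
      T.split, Finset.sum_eq_zero (s := Xm) (fun χ hχ => by rw [T.v_m χ hχ z hzs, zero_mul]),
      Finset.sum_congr rfl (s₁ := Xp) (g := fun χ => ((val χ ^ 2 : ℤ) : ℂ)) (fun χ _ => by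
        rw [hval, map_intCast]; push_cast; ring),
      Finset.sum_congr rfl (s₁ := Y) (g := fun _ => ((val θ₀ ^ 2 : ℤ) : ℂ)) (fun θ hθ => by
        rw [hYv θ hθ z hzs, hval, map_intCast]; push_cast; ring),
      Finset.sum_congr rfl (s₁ := K) (g := fun χ => ((k χ ^ 2 : ℕ) : ℂ)) (fun χ hχ => by
        rw [T.v_K χ hχ z hzs, map_natCast]; push_cast; ring),
      ← Nat.cast_sum, T.sumK, Finset.sum_const, T.cardY, trivChar_apply, map_one, nsmul_eq_mul] at h
    have h' : ((∑ χ ∈ Xp, val χ ^ 2 + (t : ℤ) * val θ₀ ^ 2 + (1 + n) : ℤ) : ℂ) = (((t : ℤ) * e : ℤ) : ℂ) := by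
      push_cast at h ⊢
      linear_combination h
    exact_mod_cast h'
  have hsqX : ∀ χ ∈ Xp, val χ ^ 2 = (t : ℤ) ^ 2 ∧ val θ₀ ^ 2 = 1 := by
    have h1 : ∑ χ ∈ Xp, val χ ^ 2 ≤ Xp.card * (t : ℤ) ^ 2 := by
      have := Finset.sum_le_sum hbX
      rwa [Finset.sum_const, nsmul_eq_mul] at this
    have h2 : (Xp.card : ℤ) * t ^ 2 + t = t * e - (1 + n) := by
      have hz' : (e : ℤ) = Xp.card * t + 1 + 1 := by exact_mod_cast hcount
      have hnz : (n : ℤ) + 1 = t := by exact_mod_cast hnt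
      rw [hz']; linear_combination hnz
    have h3 : (t : ℤ) * val θ₀ ^ 2 ≤ t := mul_le_of_le_one_right (by positivity) hbY
    have h4 : ∑ χ ∈ Xp, val χ ^ 2 = ∑ _χ ∈ Xp, (t : ℤ) ^ 2 := by
      rw [Finset.sum_const, nsmul_eq_mul]; linarith
    intro χ hχ
    exact ⟨(Finset.sum_eq_sum_iff_of_le hbX).1 h4 χ hχ,
      mul_left_cancel₀ (show (t : ℤ) ≠ 0 by omega) (by linarith)⟩
  obtain ⟨χ₁, hχ₁⟩ : Xp.Nonempty := Finset.card_pos.1 ha
  have hY1 : val θ₀ ^ 2 = 1 := (hsqX χ₁ hχ₁).2
  -- pairs of conjugates of `z` with product `a`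
  have ha1 : a ≠ 1 := fun h => by have := F.ord; rw [h, orderOf_one] at this; omega
  have has : a ∈ star A := mem_star.2 ⟨ha1, Subgroup.mem_zpowers a⟩
  set Ca := Nat.card (Subgroup.centralizer ({a} : Set G))
  set S := {q : G × G // q.1 * z * q.1⁻¹ * (q.2 * z * q.2⁻¹ * a) = 1}
  have hM : Nat.card S = n * e ^ 3 * t ^ 2 := by
    have h := CfsgLib.CharDegree.sum_three (G := G) z z a
    have htD : (t : ℂ) * D = (1 + n * p : ℕ) := by
      rcases T.cases with ⟨h0, -⟩ | ⟨-, -, h3⟩
      · omega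
      · rw [hc, one_mul] at h3
        have hDC : (D : ℂ) + e = p := by exact_mod_cast h3
        have hnC : (n : ℂ) + 1 = t := by exact_mod_cast hnt
        have hpC : (e : ℂ) * t + 1 = p := by exact_mod_cast het
        push_cast
        linear_combination (t : ℂ) * hDC - hpC - (p : ℂ) * hnC
    have hDne : (D : ℂ) ≠ 0 := fun h0 => by
      rw [h0, mul_zero, eq_comm, Nat.cast_eq_zero] at htD; omega
    have hne : ((1 + n * p : ℕ) : ℂ) ≠ 0 := Nat.cast_ne_zero.2 (by omega)
    have hpne : (p : ℂ) ≠ 0 := Nat.cast_ne_zero.2 hp.ne_zero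
    have hY1C : (val θ₀ : ℂ) ^ 2 = 1 := by exact_mod_cast hY1
    rw [T.split, Finset.sum_eq_zero (s := Xm) (fun χ hχ => by rw [T.v_m χ hχ z hzs]; simp),
      Finset.sum_congr rfl (s₁ := Xp)
        (g := fun χ : IrrCharacter G => (t : ℂ) ^ 2 / ((1 + n * p : ℕ) : ℂ) * (χ : G → ℂ) a) (fun χ hχ => by
          have h2 : (val χ : ℂ) ^ 2 = (t : ℂ) ^ 2 := by exact_mod_cast (hsqX χ hχ).1
          rw [hval, T.one_p χ hχ, ← h2]
          ring),
      Finset.sum_congr rfl (s₁ := Y) (g := fun _ => (θ₀ : G → ℂ) a / (D : ℂ)) (fun θ hθ => by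
          rw [T.one_Y θ hθ, hYv θ hθ z hzs, hYv θ hθ a has, hval]
          rw [show (val θ₀ : ℂ) * val θ₀ = 1 by rw [← pow_two]; exact hY1C, one_mul]),
      Finset.sum_congr rfl (s₁ := K) (g := fun χ => ((k χ ^ 2 : ℕ) : ℂ) / p) (fun χ hχ => by
          rw [T.v_K χ hχ z hzs, T.v_K χ hχ a has, T.one_K χ hχ]
          rcases Nat.eq_zero_or_pos (k χ) with h0 | h0
          · simp [h0]
          · have : (k χ : ℂ) ≠ 0 := Nat.cast_ne_zero.2 h0.ne'
            push_cast
            field_simp),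
      ← Finset.mul_sum, Finset.sum_const, T.cardY, ← Finset.sum_div, ← Nat.cast_sum, T.sumK,
      eq_sub_of_add_eq (T.v_rel θ₀ hθ₀ a has), nsmul_eq_mul] at h
    simp only [trivChar_apply, mul_one, add_zero] at h
    have hcard : (Nat.card G : ℂ) = e * p * (1 + n * p : ℕ) := by rw [F.cardG]; push_cast; ring
    have hkey : (Nat.card S : ℂ) = ((n * e ^ 3 * t ^ 2 : ℕ) : ℂ) := by
      rw [← h, hcard]
      have hd : (t : ℂ) * ((θ₀ : G → ℂ) a / D) = (t : ℂ) ^ 2 / ((1 + n * p : ℕ) : ℂ) * (θ₀ : G → ℂ) a := by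
        rw [← htD]; field_simp
      rw [hd]
      have hnC : (n : ℂ) + 1 = t := by exact_mod_cast hnt
      have hpC : (e : ℂ) * t + 1 = p := by exact_mod_cast het
      field_simp
      push_cast
      rw [← hnC] at hpC ⊢
      rw [← hpC]
      ring
    exact_mod_cast hkey
  have hbound : Nat.card S ≤ Ca * (Cz * Cz) := by
    let I := {i : G // i * i = 1 ∧ i * a * i⁻¹ = a⁻¹}
    have hI : Nat.card I ≤ Ca := by
      rcases isEmpty_or_nonempty I with hI | ⟨⟨i₀, hi₀⟩⟩
      · simp
      refine Nat.card_le_card_of_injective (fun i : I => (⟨i₀⁻¹ * i.1,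
        Subgroup.mem_centralizer_singleton_iff.2 ?_⟩ : Subgroup.centralizer ({a} : Set G))) ?_
      · calc i₀⁻¹ * i.1 * a = i₀⁻¹ * (i.1 * a * (i.1)⁻¹) * i.1 := by group
          _ = i₀⁻¹ * (i₀ * a * i₀⁻¹) * i.1 := by rw [i.2.2, hi₀.2]
          _ = a * (i₀⁻¹ * i.1) := by group
      · intro i j h
        exact Subtype.ext (mul_left_cancel (congrArg Subtype.val h))
    have hj : ∀ q : S, q.1.2 * z * q.1.2⁻¹ = q.1.1 * z * q.1.1⁻¹ * a⁻¹ ∧
        (q.1.1 * z * q.1.1⁻¹) * (q.1.1 * z * q.1.1⁻¹) = 1 ∧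
        q.1.1 * z * q.1.1⁻¹ * a * (q.1.1 * z * q.1.1⁻¹)⁻¹ = a⁻¹ := by
      rintro ⟨⟨g, h⟩, hgh⟩
      dsimp only at hgh ⊢
      have hi : g * z * g⁻¹ * (g * z * g⁻¹) = 1 := by
        calc g * z * g⁻¹ * (g * z * g⁻¹) = g * (z * z) * g⁻¹ := by group
          _ = 1 := by rw [hzz]; group
      have hjj : h * z * h⁻¹ * (h * z * h⁻¹) = 1 := by
        calc h * z * h⁻¹ * (h * z * h⁻¹) = h * (z * z) * h⁻¹ := by group
          _ = 1 := by rw [hzz]; group
      generalize g * z * g⁻¹ = i at *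
      generalize h * z * h⁻¹ = j at *
      have hi' : i⁻¹ = i := inv_eq_of_mul_eq_one_right hi
      have hj' : j⁻¹ = j := inv_eq_of_mul_eq_one_right hjj
      have h3 : j * a = i := (eq_inv_of_mul_eq_one_right hgh).trans hi'
      have h1 : j = i * a⁻¹ := eq_mul_inv_of_mul_eq h3
      refine ⟨h1, hi, ?_⟩
      have h2 : (i * a⁻¹)⁻¹ = i * a⁻¹ := by rw [← h1]; exact hj'
      rw [mul_inv_rev, inv_inv, hi'] at h2
      rw [hi', mul_assoc, h2, ← mul_assoc, hi, one_mul]
    let Φ : S → Σ i : I, {g : G // g * z * g⁻¹ = i.1} × {h : G // h * z * h⁻¹ = i.1 * a⁻¹} := fun q =>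
      ⟨⟨q.1.1 * z * q.1.1⁻¹, (hj q).2⟩, ⟨q.1.1, rfl⟩, ⟨q.1.2, (hj q).1⟩⟩
    have hΦ : Function.Injective Φ := by
      intro q r h
      exact Subtype.ext (congrArg (fun y : Σ i : I, {g : G // g * z * g⁻¹ = i.1} ×
        {h : G // h * z * h⁻¹ = i.1 * a⁻¹} => (y.2.1.1, y.2.2.1)) h)
    refine (Nat.card_le_card_of_injective Φ hΦ).trans ?_
    haveI := Fintype.ofFinite I
    rw [Nat.card_sigma]
    have hle : ∀ v : G, Nat.card {g : G // g * z * g⁻¹ = v} ≤ Cz := by
      intro v
      rcases isEmpty_or_nonempty {g : G // g * z * g⁻¹ = v} with h | ⟨⟨g₀, hg₀⟩⟩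
      · simp
      · exact (SelfCentDegree.card_conj_fiber z v g₀ hg₀).le
    refine (Finset.sum_le_sum fun i _ => ((Nat.card_prod _ _).le.trans (Nat.mul_le_mul (hle _) (hle _)))).trans ?_
    rw [Finset.sum_const, Finset.card_univ, ← Nat.card_eq_fintype_card, smul_eq_mul]
    exact Nat.mul_le_mul_right _ hI
  -- hence all classes in the complement are separate
  have hCa : Ca = t * e := by
    have h := T.class_count has
    rw [hnt] at h
    set mA := ((star A).filter fun v => IsConj v a).card with hmA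
    have hpos : 0 < mA := Finset.card_pos.2 ⟨a, Finset.mem_filter.2 ⟨has, IsConj.refl a⟩⟩
    have h1 : n * e ≤ Ca := by
      refine Nat.le_of_mul_le_mul_right ?_ (show 0 < (t * e) * (t * e) by positivity)
      rw [hM, hCz] at hbound
      calc n * e * (t * e * (t * e)) = n * e ^ 3 * t ^ 2 := by ring
        _ ≤ _ := hbound
    have hm1 : mA = 1 := by
      by_contra hne
      have h2 : Ca * 2 ≤ Ca * mA := Nat.mul_le_mul_left _ (by omega)
      have h3 : n * e * 2 ≤ t * e := by
        calc n * e * 2 ≤ Ca * 2 := Nat.mul_le_mul_right _ h1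
          _ ≤ t * e := h2.trans h.le
      rw [mul_right_comm] at h3
      have := Nat.le_of_mul_le_mul_right h3 (by omega)
      omega
    rw [hm1, mul_one] at h
    exact h
  have hsingle : ∀ v ∈ star A, ∀ u ∈ star A, IsConj v u → v = u := by
    intro v hv u hu hvu
    have h := T.class_count hu
    have hle : Ca ≤ Nat.card (Subgroup.centralizer ({u} : Set G)) := by
      refine Nat.le_of_dvd Nat.card_pos (Subgroup.card_dvd_of_le fun y hy => ?_)
      obtain ⟨i, hi⟩ := Subgroup.mem_zpowers_iff.1 (mem_star.1 hu).2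
      rw [Subgroup.mem_centralizer_singleton_iff] at hy ⊢
      rw [← hi]
      exact ((show Commute y a from hy).zpow_right i).eq
    set mu := ((star A).filter fun w => IsConj w u).card with hmu
    have hmu2 : mu ≤ 1 := by
      by_contra h2
      have h3 : (t * e) * 2 ≤ Nat.card (Subgroup.centralizer ({u} : Set G)) * mu :=
        Nat.mul_le_mul (hCa ▸ hle) (by omega)
      rw [h, hnt] at h3
      nlinarith
    exact Finset.card_le_one.1 hmu2 v (Finset.mem_filter.2 ⟨hv, hvu⟩) u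
      (Finset.mem_filter.2 ⟨hu, IsConj.refl u⟩)
  -- too many classes
  let φ : ↥(star A) → (Option ↥Xp → ℂ) := fun v o => o.elim 1 fun χ => (χ.1 : G → ℂ) v.1
  have hli : LinearIndependent ℂ φ := by
    rw [Fintype.linearIndependent_iff]
    intro g hg u
    have h0 : ∑ v, g v = 0 := by simpa [φ, Finset.sum_apply] using congrFun hg none
    have hX0 : ∀ χ ∈ Xp, ∑ v, g v * (χ : G → ℂ) v.1 = 0 := fun χ hχ => by
      simpa [φ, Finset.sum_apply] using congrFun hg (some ⟨χ, hχ⟩)
    have hall : ∑ χ : IrrCharacter G, (∑ v, g v * (χ : G → ℂ) v.1) * conj ((χ : G → ℂ) u.1) = 0 := by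
      rw [T.split, Finset.sum_eq_zero (s := Xp) (fun χ hχ => by rw [hX0 χ hχ, zero_mul]),
        Finset.sum_eq_zero (s := Xm) (fun χ hχ => by rw [T.v_m χ hχ u.1 u.2, map_zero, mul_zero]),
        Finset.sum_eq_zero (s := Y) (fun θ hθ => by
          rw [Finset.sum_congr rfl (g := fun v => -g v - ∑ χ ∈ Xp, g v * (χ : G → ℂ) v.1) fun v _ => by
            rw [← Finset.mul_sum]
            linear_combination (g v) * T.v_rel θ hθ v.1 v.2]
          rw [Finset.sum_sub_distrib, Finset.sum_comm, Finset.sum_eq_zero (s := Xp) hX0,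
            Finset.sum_neg_distrib, h0]
          simp),
        Finset.sum_eq_zero (s := K) (fun χ hχ => by
          rw [Finset.sum_congr rfl (g := fun v => g v * (k χ : ℂ)) fun v _ => by rw [T.v_K χ hχ v.1 v.2],
            ← Finset.sum_mul, h0, zero_mul, zero_mul])]
      simp only [trivChar_apply, mul_one, map_one, add_zero]
      exact h0
    simp only [Finset.sum_mul] at hall
    rw [Finset.sum_comm] at hall
    simp only [mul_assoc, ← Finset.mul_sum, column_orthogonality] at hall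
    rw [Finset.sum_eq_single u] at hall
    · rw [if_pos (IsConj.refl _)] at hall
      exact (mul_eq_zero.1 hall).resolve_right (Nat.cast_ne_zero.2 Nat.card_pos.ne')
    · intro v _ hne
      rw [if_neg (fun h => hne (Subtype.ext (hsingle v.1 v.2 u.1 u.2 h))), mul_zero]
    · simp
  have hle := hli.fintype_card_le_finrank
  rw [Module.finrank_fintype_fun_eq_card, Fintype.card_option, Fintype.card_coe, Fintype.card_coe] at hle
  have hA1 : (star A).card + 1 = e := F.card_Astar
  have : Xp.card * 3 ≤ Xp.card * t := Nat.mul_le_mul_left _ ht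
  omega

end Table

/-- The numerical conclusion. -/
theorem two_cases (F : Frame P a e t n) (hn : Good p n) :
    (n = 1 ∧ t = 2) ∨ (e = 2 ∧ n + 1 = t ∧ ∃ Xp Xm Y K c D k, Table F Xp Xm Y K c D k ∧
      Xp = ∅ ∧ c = 1) := by
  obtain ⟨Xp, Xm, Y, K, c, D, k, T⟩ := exists_table F hn
  obtain ⟨hnt, hc⟩ := T.n_add_one
  have hn0 := F.npos
  rcases Nat.eq_zero_or_pos c with h | h
  · exact Or.inl (by have := T.t_le_two_of_zero h hnt; omega)
  have hc1 : c = 1 := by omega
  rcases Nat.eq_zero_or_pos Xp.card with h0 | h0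
  · refine Or.inr ⟨?_, hnt, Xp, Xm, Y, K, c, D, k, T, Finset.card_eq_zero.1 h0, hc1⟩
    rw [T.count, h0, hc1]; simp
  · exact Or.inl (by have := T.t_le_two_of_one hc1 hnt h0; omega)

end CfsgLib.Perm.FewSylow
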