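import Cfsg.Prelude
import Mathlib.FieldTheory.Finite.GaloisField
import Mathlib.GroupTheory.Commutator.Basic
import Mathlib.Tactic

/-!
# Simple subgroups of semi-affine groups are abelian
-/

set_option autoImplicit false

namespace CfsgLib.Perm

open Cfsg

open scoped commutatorElement in
/-- A simple group in the semi-affine group of a finite field is abelian. -/
theorem comm_of_semiaffine {p n : ℕ} [Fact p.Prime] {G : Type*} [Group G] [IsSimpleGroup G]
    (f : G →* Equiv.Perm (GaloisField p n)) (hf : Function.Injective f)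
    (hmem : ∀ g, f g ∈ Cfsg.semiaffineGroup (GaloisField p n)) : IsMulCommutative G := by
  by_contra hna
  have htop : ⁅(⊤ : Subgroup G), (⊤ : Subgroup G)⁆ = ⊤ := by
    rw [← _root_.commutator_def]
    rcases IsSimpleGroup.eq_bot_or_eq_top_of_normal (_root_.commutator G) inferInstance with h | h
    · exact absurd ⟨⟨fun a b => commutatorElement_eq_one_iff_mul_comm.mp (Subgroup.mem_bot.mp (h ▸
        Subgroup.commutator_mem_commutator (Subgroup.mem_top a) (Subgroup.mem_top b)))⟩⟩ hna
    · exact h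
  let K := GaloisField p n
  have hφ : ∀ φ ψ : K ≃+* K, ∀ x, φ (ψ x) = ψ (φ x) := by
    intro φ ψ x
    let A : (K ≃+* K) → (K ≃ₐ[ZMod p] K) := fun e => AlgEquiv.ofRingEquiv (f := e) (fun r =>
      RingHom.congr_fun (Subsingleton.elim ((e : K →+* K).comp (algebraMap (ZMod p) K)) (algebraMap (ZMod p) K)) r)
    letI := IsCyclic.commGroup (α := K ≃ₐ[ZMod p] K)
    exact DFunLike.congr_fun (mul_comm (A φ) (A ψ)) x
  have hone : ∀ g : G, ∃ a : Kˣ, ∃ b : K, ∀ x, f g x = (a : K) * x + b := by
    have hsub : ⁅(⊤ : Subgroup G), (⊤ : Subgroup G)⁆ ≤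
        { carrier := {g | ∃ a : Kˣ, ∃ b : K, ∀ x, f g x = (a : K) * x + b}
          one_mem' := ⟨1, 0, fun x => by simp⟩
          mul_mem' := fun {g h} ⟨a, b, hg⟩ ⟨c, d, hh⟩ => ⟨a * c, a * d + b, fun x => by
            rw [map_mul, Equiv.Perm.mul_apply, hh, hg, Units.val_mul]; ring⟩
          inv_mem' := fun {g} ⟨a, b, hg⟩ => ⟨a⁻¹, -((↑a⁻¹ : K) * b), fun x => by
            apply (f g).injective
            rw [map_inv, Equiv.Perm.inv_def, Equiv.apply_symm_apply, hg, mul_add, mul_neg, ← mul_assoc,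
              ← mul_assoc, Units.mul_inv]
            ring⟩ } := by
      refine Subgroup.commutator_le.2 fun g _ h _ => ?_
      obtain ⟨a, b, φ, hg⟩ := hmem g
      obtain ⟨c, d, ψ, hh⟩ := hmem h
      refine ⟨(a * Units.map (φ : K →* K) c) * (c * Units.map (ψ : K →* K) a)⁻¹,
        (a : K) * φ d + b - (a : K) * φ c * ((↑(c * Units.map (ψ : K →* K) a)⁻¹ : K)) * ((c : K) * ψ b + d),
        fun y => ?_⟩
      obtain ⟨x, rfl⟩ := (f h * f g).surjective y
      rw [← Equiv.Perm.mul_apply, ← map_mul, ← map_mul,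
        show ⁅g, h⁆ * (h * g) = g * h by rw [commutatorElement_def]; group]
      have hu : (c : K) * ψ (a : K) ≠ 0 := mul_ne_zero c.ne_zero
        (fun e => a.ne_zero (ψ.injective (e.trans (map_zero ψ).symm)))
      simp only [map_mul, Equiv.Perm.mul_apply, hg, hh, map_add, Units.val_mul, Units.coe_map,
        Units.val_inv_eq_inv_val, MonoidHom.coe_coe, hφ φ ψ x]
      field_simp
      ring_nf
      rw [mul_inv_cancel_right₀ (fun e => a.ne_zero (ψ.injective (e.trans (map_zero ψ).symm)))]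
    intro g
    exact hsub (htop.ge (Subgroup.mem_top g))
  have htr : ∀ g : G, ∃ b : K, ∀ x, f g x = x + b := by
    have hsub : ⁅(⊤ : Subgroup G), (⊤ : Subgroup G)⁆ ≤
        { carrier := {g | ∃ b : K, ∀ x, f g x = x + b}
          one_mem' := ⟨0, fun x => by simp⟩
          mul_mem' := fun {g h} ⟨b, hg⟩ ⟨d, hh⟩ => ⟨d + b, fun x => by
            rw [map_mul, Equiv.Perm.mul_apply, hh, hg, add_assoc]⟩
          inv_mem' := fun {g} ⟨b, hg⟩ => ⟨-b, fun x => by
            apply (f g).injective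
            rw [map_inv, Equiv.Perm.inv_def, Equiv.apply_symm_apply, hg, neg_add_cancel_right]⟩ } := by
      refine Subgroup.commutator_le.2 fun g _ h _ => ?_
      obtain ⟨a, b, hg⟩ := hone g
      obtain ⟨c, d, hh⟩ := hone h
      refine ⟨(a : K) * d + b - ((c : K) * b + d), fun y => ?_⟩
      obtain ⟨x, rfl⟩ := (f h * f g).surjective y
      rw [← Equiv.Perm.mul_apply, ← map_mul, ← map_mul,
        show ⁅g, h⁆ * (h * g) = g * h by rw [commutatorElement_def]; group]
      simp only [map_mul, Equiv.Perm.mul_apply, hg, hh]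
      ring
    intro g
    exact hsub (htop.ge (Subgroup.mem_top g))
  refine hna ⟨⟨fun g h => hf (Equiv.ext fun x => ?_)⟩⟩
  obtain ⟨b, hg⟩ := htr g
  obtain ⟨d, hh⟩ := htr h
  simp only [map_mul, Equiv.Perm.mul_apply, hg, hh]
  ring

end CfsgLib.Perm
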