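import Cfsg.Agent.Lib.Perm.FewSylowMain
import Cfsg.Agent.Lib.Perm.PrimePlusOne
import Cfsg.Agent.Lib.Perm.ElemCentRecog
import Cfsg.Agent.Lib.Perm.SemiaffineSimple
import Cfsg.Agent.Lib.CharDegree.SelfCentralPrimeSubgroup

/-!
# Brauer's theorem on few Sylow subgroups: recognition
-/

set_option autoImplicit false

namespace CfsgLib.Perm.FewSylow

open Cfsg CfsgLib.Char Subgroup
open scoped _root_.Classical

variable {G : Type*} [Group G] [Fintype G] {p : ℕ} [Fact p.Prime]
variable {P : Sylow p G} {a : G} {e t n : ℕ}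

/-- The group is simple. -/
theorem isSimpleGroup (F : Frame P a e t n) (hn : Good p n) : IsSimpleGroup G := by
  have hp : p.Prime := Fact.out
  have hp3 := F.p_three
  haveI : Nontrivial (P : Subgroup G) :=
    Finite.one_lt_card_iff_nontrivial.1 (by rw [F.card]; exact hp.one_lt)
  obtain ⟨⟨x, hx⟩, hx1'⟩ := exists_ne (1 : (P : Subgroup G))
  have hx1 : x ≠ 1 := fun h => hx1' (Subtype.ext h)
  have hxo : orderOf x = p := by
    have h := orderOf_dvd_natCard (⟨x, hx⟩ : (P : Subgroup G))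
    rw [← orderOf_submonoid, F.card] at h
    exact ((Nat.dvd_prime hp).1 h).resolve_left fun h => hx1 (orderOf_eq_one_iff.1 h)
  have hz : zpowers x = (P : Subgroup G) :=
    eq_of_le_of_card_ge (zpowers_le.2 hx) (by rw [F.card, Nat.card_zpowers, hxo])
  have hCx : centralizer ({x} : Set G) = zpowers x := by rw [hz, F.cent x hx hx1]
  have : Nontrivial G := ⟨⟨x, 1, hx1⟩⟩
  refine { eq_bot_or_eq_top_of_normal := fun S hS => ?_ }
  haveI := hS
  by_cases hpS : p ∣ Nat.card S
  · right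
    have h := (CfsgLib.SelfCentralPrime.commutator_le hxo hCx S hpS).2
    rwa [F.perf, top_le_iff] at h
  have h1 := CfsgLib.SelfCentralPrime.card_modEq_one hxo hCx S hpS
  have h2 := CfsgLib.SelfCentralPrime.card_dvd_index hxo hCx S hpS
  have hidx : (normalizer (zpowers x : Set G)).index = 1 + n * p := by
    rw [hz, P.coe_coe, ← P.card_eq_index_normalizer, F.syl]
  rw [hidx] at h2
  obtain ⟨s, hs⟩ := h2
  left
  by_contra hne
  have hS1 : Nat.card S ≠ 1 := fun h => hne (eq_bot_of_card_eq S h)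
  have hmod : s % p = 1 := by
    have h4 := congrArg (· % p) hs
    simp only [Nat.mul_mod, h1, one_mul, Nat.mod_mod] at h4
    rw [← h4, Nat.add_mod, Nat.mul_mod, Nat.mod_self, mul_zero, Nat.zero_mod, add_zero, Nat.mod_mod,
      Nat.one_mod_eq_one.2 hp.ne_one]
  rcases eq_or_ne s 1 with hs1 | hs1
  · rw [hs1, mul_one] at hs
    have h5 := CfsgLib.SelfCentralPrime.commutator_le_sylow_count hxo hCx hidx S hs.symm
    have h6 : derivedSeries G 2 = ⊤ := by
      show ⁅derivedSeries G 1, derivedSeries G 1⁆ = ⊤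
      rw [derivedSeries_one, F.perf, ← _root_.commutator_def, F.perf]
    rw [h6, top_le_iff] at h5
    exact hpS (by rw [h5, card_top, F.cardG]; exact dvd_mul_of_dvd_left (dvd_mul_left p e) _)
  · obtain ⟨u, hu⟩ : ∃ u, Nat.card S = u * p + 1 :=
      ⟨Nat.card S / p, by rw [mul_comm, ← h1]; exact (Nat.div_add_mod _ _).symm⟩
    obtain ⟨h, hh⟩ : ∃ h, s = h * p + 1 :=
      ⟨s / p, by rw [mul_comm, ← hmod]; exact (Nat.div_add_mod _ _).symm⟩
    have hu0 : 0 < u := Nat.pos_of_ne_zero fun h0 => hS1 (by rw [hu, h0]; simp)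
    have hh0 : 0 < h := Nat.pos_of_ne_zero fun h0 => hs1 (by rw [hh, h0]; simp)
    rw [hu, hh] at hs
    refine hn (h * (u + 1)) u (Nat.mul_pos hh0 (by omega)) hu0 ?_
    have hn' : n = u * h * p + u + h := by
      refine Nat.eq_of_mul_eq_mul_right hp.pos ?_
      nlinarith
    rw [hn']; ring

/-- The case `n = 1`. -/
theorem iso_of_one (F : Frame P a e t 1) (ht : t = 2) [IsSimpleGroup G] :
    3 < p ∧ Nonempty (G ≃* Matrix.ProjectiveSpecialLinearGroup (Fin 2) (ZMod p)) := by
  classical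
  have hp : p.Prime := Fact.out
  have het := F.et
  have he2 := F.two
  have hG : ¬ IsMulCommutative G := not_comm_of_not_prime fun h => by
    rw [F.cardG] at h
    exact Nat.not_prime_mul (by nlinarith) (by omega) h
  haveI := Fintype.ofFinite (Sylow p G)
  have hn : Nat.card (Sylow p G) = p + 1 := by rw [F.syl]; omega
  let φ := MulAction.toPermHom G (Sylow p G)
  have hφ : Function.Injective φ := by
    rw [← MonoidHom.ker_eq_bot_iff]
    refine (φ.normal_ker.eq_bot_or_eq_top).resolve_right fun htop => ?_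
    obtain ⟨Q, R, hQR⟩ := (Finite.one_lt_card_iff_nontrivial.1 (by omega : 1 < Nat.card (Sylow p G))).exists_pair_ne
    obtain ⟨g, hg⟩ := MulAction.exists_smul_eq G Q R
    exact hQR ((Equiv.ext_iff.1 (htop ▸ Subgroup.mem_top g : g ∈ φ.ker) Q).symm.trans hg)
  let E := MonoidHom.ofInjective hφ
  have : MulAction.IsPretransitive φ.range (Sylow p G) := ⟨fun Q R => by
    obtain ⟨g, hg⟩ := MulAction.exists_smul_eq G Q R
    exact ⟨⟨φ g, g, rfl⟩, hg⟩⟩
  refine ⟨by subst ht; omega, ?_⟩
  rcases PrimePlusOne.classify (p := p) (d := e) hp (by rw [← Nat.card_eq_fintype_card, hn]) φ.range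
      (by rw [← Nat.card_congr E.toEquiv, F.cardG]; ring) F.e_lt with h | ⟨-, ⟨e'⟩⟩ | ⟨q, hq, -, -, ea, hea⟩
  · exfalso; rw [ht] at het; omega
  · exact ⟨E.trans e'⟩
  · haveI := Fact.mk Nat.prime_two
    refine absurd (comm_of_semiaffine (ea.permCongrHom.toMonoidHom.comp φ)
      (ea.permCongrHom.injective.comp hφ) fun g => ?_) hG
    have h2 := hea ⟨φ g, g, rfl⟩
    convert h2 using 1
    ext y; rfl

/-- The case `e = 2`. -/
theorem iso_of_two [Fintype (IrrCharacter G)] {F : Frame P a e t n} {Xp Xm Y K : Finset (IrrCharacter G)}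
    {c D : ℕ} {k : IrrCharacter G → ℕ} (T : Table F Xp Xm Y K c D k) (he : e = 2) (hnt : n + 1 = t)
    (hXp : Xp = ∅) (hc : c = 1) [IsSimpleGroup G] :
    ∃ m : ℕ, p = 2 ^ m + 1 ∧ 2 ≤ m ∧
      Nonempty (G ≃* Matrix.ProjectiveSpecialLinearGroup (Fin 2) (GaloisField 2 m)) := by
  classical
  have hp : p.Prime := Fact.out
  have het := F.et
  have hn0 := F.npos
  subst he
  have hDe : D + 2 = p := by
    rcases T.cases with ⟨h, -⟩ | ⟨-, -, h⟩
    · omega
    · rw [hc, one_mul] at h; exact h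
  have hz2 : orderOf a = 2 := F.ord
  have haz : a * a = 1 := by rw [← pow_two, ← hz2, pow_orderOf_eq_one]
  have ha1 : a ≠ 1 := fun h => by rw [h, orderOf_one] at hz2; omega
  have has : a ∈ star (zpowers a) := mem_star.2 ⟨ha1, mem_zpowers a⟩
  have hstar : star (zpowers a) = {a} := by
    refine (Finset.eq_of_subset_of_card_le (Finset.singleton_subset_iff.2 has) ?_).symm
    have := F.card_Astar
    rw [Finset.card_singleton]
    omega
  set Cz := Nat.card (centralizer ({a} : Set G))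
  have hCz : Cz = 2 * t := by
    have h := T.class_count has
    rw [hstar, Finset.filter_singleton, if_pos (IsConj.refl a), Finset.card_singleton, mul_one, hnt,
      mul_comm] at h
    exact h
  have hcardG : Nat.card G = (2 * t) * (p * D) := by
    rw [F.cardG]
    have h1 : 1 + n * p = t * D := by
      have h2 : t * (D + 2) = t * p := by rw [hDe]
      have h3 : (n + 1) * p = t * p := by rw [hnt]
      nlinarith
    rw [h1]; ring
  -- pairs of conjugates with product `a`
  set S := {q : G × G // q.1 * a * q.1⁻¹ * (q.2 * a * q.2⁻¹ * a) = 1}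
  have hM : Nat.card S = 2 * n * (2 * t) ^ 2 := by
    have h := CfsgLib.CharDegree.sum_three (G := G) a a a
    have hθ : ∀ θ ∈ Y, (θ : G → ℂ) a = -1 := fun θ hθ => by
      have := T.v_rel θ hθ a has
      rwa [hXp, Finset.sum_empty, zero_add] at this
    have hpne : (p : ℂ) ≠ 0 := Nat.cast_ne_zero.2 hp.ne_zero
    have hDne : (D : ℂ) ≠ 0 := Nat.cast_ne_zero.2 (by omega)
    rw [T.split, hXp, Finset.sum_empty,
      Finset.sum_eq_zero (s := Xm) (fun χ hχ => by rw [T.v_m χ hχ a has]; simp),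
      Finset.sum_congr rfl (s₁ := Y) (g := fun _ => -(1 : ℂ) / D) (fun θ hθ' => by
        rw [T.one_Y θ hθ', hθ θ hθ']; ring),
      Finset.sum_congr rfl (s₁ := K) (g := fun χ => ((k χ ^ 2 : ℕ) : ℂ) / p) (fun χ hχ => by
        rw [T.v_K χ hχ a has, T.one_K χ hχ]
        rcases Nat.eq_zero_or_pos (k χ) with h0 | h0
        · simp [h0]
        · have : (k χ : ℂ) ≠ 0 := Nat.cast_ne_zero.2 h0.ne'
          push_cast
          field_simp),
      Finset.sum_const, T.cardY, ← Finset.sum_div, ← Nat.cast_sum, T.sumK, hcardG] at h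
    simp only [trivChar_apply, mul_one, add_zero, nsmul_eq_mul] at h
    have hkey : (Nat.card S : ℂ) = ((2 * n * (2 * t) ^ 2 : ℕ) : ℂ) := by
      rw [← h]
      have h1 : (D : ℂ) + 2 = p := by exact_mod_cast hDe
      have h2 : (n : ℂ) + 1 = t := by exact_mod_cast hnt
      have h3 : (2 : ℂ) * t + 1 = p := by exact_mod_cast het
      push_cast
      field_simp
      have hD' : (D : ℂ) = 2 * t - 1 := by linear_combination h1 - h3
      rw [← h3, hD', ← h2]
      ring
    exact_mod_cast hkey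
  let I : Finset G := Finset.univ.filter fun i =>
    i ∈ centralizer ({a} : Set G) ∧ i ≠ 1 ∧ i ≠ a ∧ IsConj a i
  have hI : 2 * n ≤ I.card := by
    refine Nat.le_of_mul_le_mul_right ?_ (show 0 < Cz * Cz by have := F.t_pos; rw [hCz]; exact Nat.mul_pos (by omega) (by omega))
    calc 2 * n * (Cz * Cz) = Nat.card S := by rw [hM, hCz]; ring
      _ ≤ _ := ?_
    have hj : ∀ q : S, q.1.1 * a * q.1.1⁻¹ ∈ I ∧ q.1.2 * a * q.1.2⁻¹ = q.1.1 * a * q.1.1⁻¹ * a := by
      rintro ⟨⟨g, h⟩, hgh⟩
      dsimp only at hgh ⊢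
      have hi : g * a * g⁻¹ * (g * a * g⁻¹) = 1 := by
        calc g * a * g⁻¹ * (g * a * g⁻¹) = g * (a * a) * g⁻¹ := by group
          _ = 1 := by rw [haz]; group
      have hjj : h * a * h⁻¹ * (h * a * h⁻¹) = 1 := by
        calc h * a * h⁻¹ * (h * a * h⁻¹) = h * (a * a) * h⁻¹ := by group
          _ = 1 := by rw [haz]; group
      have hj1 : h * a * h⁻¹ ≠ 1 := fun e' => ha1 (conj_eq_one_iff.1 e')
      have hconj : IsConj a (g * a * g⁻¹) := isConj_iff.2 ⟨g, rfl⟩
      have hne1 : g * a * g⁻¹ ≠ 1 := fun e' => ha1 (conj_eq_one_iff.1 e')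
      generalize g * a * g⁻¹ = i at *
      generalize h * a * h⁻¹ = j at *
      have hi' : i⁻¹ = i := inv_eq_of_mul_eq_one_right hi
      have ha' : a⁻¹ = a := inv_eq_of_mul_eq_one_right haz
      have hj' : j⁻¹ = j := inv_eq_of_mul_eq_one_right hjj
      have h1 : j = i * a := by
        have h3 : j * a = i := (eq_inv_of_mul_eq_one_right hgh).trans hi'
        rw [← h3, mul_assoc, haz, mul_one]
      refine ⟨Finset.mem_filter.2 ⟨Finset.mem_univ _, ?_, hne1, ?_, hconj⟩, h1⟩
      · rw [mem_centralizer_singleton_iff]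
        rw [h1, mul_inv_rev, hi', ha'] at hj'
        exact hj'.symm
      · rintro rfl
        exact hj1 (h1.trans haz)
    let Φ : S → Σ i : I, {g : G // g * a * g⁻¹ = i.1} × {h : G // h * a * h⁻¹ = i.1 * a} := fun q =>
      ⟨⟨q.1.1 * a * q.1.1⁻¹, (hj q).1⟩, ⟨q.1.1, rfl⟩, ⟨q.1.2, (hj q).2⟩⟩
    have hΦ : Function.Injective Φ := by
      intro q r h
      exact Subtype.ext (congrArg (fun y : Σ i : I, {g : G // g * a * g⁻¹ = i.1} ×
        {h : G // h * a * h⁻¹ = i.1 * a} => (y.2.1.1, y.2.2.1)) h)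
    refine (Nat.card_le_card_of_injective Φ hΦ).trans ?_
    rw [Nat.card_sigma]
    have hle : ∀ v : G, Nat.card {g : G // g * a * g⁻¹ = v} ≤ Cz := by
      intro v
      rcases isEmpty_or_nonempty {g : G // g * a * g⁻¹ = v} with h | ⟨⟨g₀, hg₀⟩⟩
      · simp
      · exact (SelfCentDegree.card_conj_fiber a v g₀ hg₀).le
    refine (Finset.sum_le_sum fun i _ => ((Nat.card_prod _ _).le.trans (Nat.mul_le_mul (hle _) (hle _)))).trans ?_
    rw [Finset.sum_const, Finset.card_univ, Fintype.card_coe, smul_eq_mul]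
  have hall : ∀ y ∈ centralizer ({a} : Set G), y ≠ 1 → IsConj a y := by
    intro y hy hy1
    rcases eq_or_ne y a with rfl | hya
    · exact IsConj.refl _
    let J : Finset G := ((Finset.univ.filter fun i => i ∈ centralizer ({a} : Set G)).erase 1).erase a
    have hJ : J.card + 2 = Cz := by
      rw [Finset.card_erase_of_mem (Finset.mem_erase.2 ⟨ha1, Finset.mem_filter.2 ⟨Finset.mem_univ _,
        mem_centralizer_singleton_iff.2 rfl⟩⟩), Finset.card_erase_of_mem (by simp)]
      have h1 : (Finset.univ.filter fun i => i ∈ centralizer ({a} : Set G)).card = Cz := by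
        simp only [Cz, Nat.card_eq_fintype_card, Fintype.card_subtype]
      have := F.t_pos
      erw [h1]
      omega
    have hIJ : I ⊆ J := fun i hi => by
      simp only [I, J, Finset.mem_filter, Finset.mem_erase, Finset.mem_univ, true_and] at hi ⊢
      exact ⟨hi.2.2.1, hi.2.1, hi.1⟩
    have hIJeq : I = J := Finset.eq_of_subset_of_card_le hIJ (by omega)
    have hyJ : y ∈ I := by
      rw [hIJeq]
      simp only [J, Finset.mem_filter, Finset.mem_erase, Finset.mem_univ, true_and]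
      exact ⟨hya, hy1, hy⟩
    exact (Finset.mem_filter.1 hyJ).2.2.2.2
  have hexp : ∀ y ∈ centralizer ({a} : Set G), y ^ 2 = 1 := by
    intro y hy
    rcases eq_or_ne y 1 with rfl | hy1
    · exact one_pow 2
    · obtain ⟨g, hg⟩ := isConj_iff.1 (hall y hy hy1)
      rw [← hg, conj_pow, pow_two, haz, mul_one, mul_inv_cancel]
  haveI := Fact.mk Nat.prime_two
  have h2grp : IsPGroup 2 (centralizer ({a} : Set G)) := fun y =>
    ⟨1, Subtype.ext (by simpa using hexp y.1 y.2)⟩
  obtain ⟨m, hm⟩ := IsPGroup.iff_card.1 h2grp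
  have hm2 : 2 ^ m = 2 * t := by rw [← hm]; exact hCz
  have hm2' : 2 ≤ m := by
    by_contra h
    have : 2 ^ m ≤ 2 ^ 1 := Nat.pow_le_pow_right two_pos (by omega)
    omega
  refine ⟨m, by omega, hm2', ?_⟩
  have hcard2 : Nat.card G = 2 ^ m * (p * D) := by rw [hm2]; exact hcardG
  have hodd : ¬ 2 ∣ p * D := by
    intro h
    rcases Nat.prime_two.dvd_mul.1 h with h | h <;> omega
  have hT : ∀ Q : Sylow 2 G, Nat.card (Q : Subgroup G) = 2 ^ m := fun Q => sylow_card_eq Q hcard2 hodd
  obtain ⟨Q₀, hQ₀⟩ := h2grp.exists_le_sylow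
  have hQ₀eq : centralizer ({a} : Set G) = (Q₀ : Subgroup G) :=
    eq_of_le_of_card_ge hQ₀ (by rw [hT, hm])
  have hconjQ : ∀ y : G, (∃ i, orderOf y = 2 ^ i) →
      ∃ g : G, g⁻¹ * y * g ∈ centralizer ({a} : Set G) := by
    intro y ⟨i, hi⟩
    obtain ⟨Q, hQ⟩ := (IsPGroup.of_card (n := i) (G := zpowers y) (by rw [Nat.card_zpowers, hi])).exists_le_sylow
    obtain ⟨g, hg⟩ := MulAction.exists_smul_eq G Q₀ Q
    refine ⟨g, ?_⟩
    have hy : y ∈ (Q : Subgroup G) := hQ (mem_zpowers y)
    rw [← hg, Sylow.coe_subgroup_smul, mem_pointwise_smul_iff_inv_smul_mem, ← map_inv] at hy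
    rw [hQ₀eq]
    simpa using hy
  have hC : ∀ y : G, orderOf y = 2 → Nat.card (centralizer ({y} : Set G)) = 2 ^ m := by
    intro y hy
    obtain ⟨g, hg⟩ := hconjQ y ⟨1, by rw [hy, pow_one]⟩
    have hne : g⁻¹ * y * g ≠ 1 := fun h => by
      have : y = 1 := by
        calc y = g * (g⁻¹ * y * g) * g⁻¹ := by group
          _ = 1 := by rw [h]; group
      rw [this, orderOf_one] at hy; omega
    obtain ⟨w, hw⟩ := isConj_iff.1 (hall _ hg hne)
    rw [← hm]
    refine (Nat.card_congr (((MulAut.conj (g * w)).toEquiv).subtypeEquiv fun u => ?_)).symm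
    have hy' : y = g * w * a * (g * w)⁻¹ := by
      calc y = g * (g⁻¹ * y * g) * g⁻¹ := by group
        _ = _ := by rw [← hw]; group
    simp only [Subgroup.mem_centralizer_singleton_iff, MulEquiv.toEquiv_eq_coe, MulEquiv.coe_toEquiv,
      MulAut.conj_apply, hy']
    constructor
    · intro hu
      calc g * w * u * (g * w)⁻¹ * (g * w * a * (g * w)⁻¹) = g * w * (u * a) * (g * w)⁻¹ := by group
        _ = g * w * (a * u) * (g * w)⁻¹ := by rw [hu]
        _ = _ := by group
    · intro hu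
      apply mul_left_cancel (a := g * w)
      apply mul_right_cancel (b := (g * w)⁻¹)
      calc g * w * (u * a) * (g * w)⁻¹ = g * w * u * (g * w)⁻¹ * (g * w * a * (g * w)⁻¹) := by group
        _ = _ := hu
        _ = g * w * (a * u) * (g * w)⁻¹ := by group
  have h4 : ∀ y : G, orderOf y ≠ 4 := by
    intro y hy
    obtain ⟨g, hg⟩ := hconjQ y ⟨2, by rw [hy]; norm_num⟩
    have h := orderOf_dvd_of_pow_eq_one (hexp _ hg)
    rw [show g⁻¹ * y * g = MulAut.conj g⁻¹ y by simp, MulEquiv.orderOf_eq, hy] at h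
    exact absurd h (by decide)
  have hG : ¬ IsMulCommutative G := not_comm_of_not_prime fun h => by
    rw [hcard2] at h
    exact Nat.not_prime_mul (by omega) (by nlinarith [F.p_three]) h
  haveI := Fintype.ofFinite (GaloisField 2 m)
  exact nonempty_iso_psl_of_no_four hG hm2' hcard2 hodd hC h4 (F := GaloisField 2 m)
    (by rw [← Nat.card_eq_fintype_card, GaloisField.card 2 m (by omega)])

/-- Brauer's theorem for `n` not of the form `(h u p + u² + u + h) / (u + 1)`. -/
theorem brauer_good {G : Type*} [Group G] [Finite G] {p : ℕ} [Fact p.Prime] (P : Sylow p G)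
    (hP : Nat.card (P : Subgroup G) = p)
    (hC : centralizer ((P : Subgroup G) : Set G) = (P : Subgroup G)) (hperf : _root_.commutator G = ⊤)
    (hn : ∀ n, Nat.card (Sylow p G) = 1 + n * p → Good p n) :
    (∃ (F : Type) (_ : Field F) (_ : Fintype F), Fintype.card F = p ∧ 3 < p ∧
        Nonempty (G ≃* Matrix.ProjectiveSpecialLinearGroup (Fin 2) F)) ∨
      (∃ (m : ℕ) (F : Type) (_ : Field F) (_ : Fintype F), Fintype.card F = 2 ^ m ∧ p = 2 ^ m + 1 ∧
        3 < p ∧ Nonempty (G ≃* Matrix.ProjectiveSpecialLinearGroup (Fin 2) F)) := by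
  haveI := Fintype.ofFinite G
  haveI := Fintype.ofFinite (IrrCharacter G)
  haveI := Fact.mk Nat.prime_two
  obtain ⟨a, e, t, n, F⟩ := exists_frame P hP hC hperf
  have hn' : Good p n := hn n F.syl
  haveI := isSimpleGroup F hn'
  rcases two_cases F hn' with ⟨hn1, ht⟩ | ⟨he, hnt, Xp, Xm, Y, K, c, D, k, T, hXp, hc⟩
  · subst hn1
    obtain ⟨h3, hiso⟩ := iso_of_one F ht
    haveI : NeZero p := ⟨(Fact.out : p.Prime).ne_zero⟩
    exact Or.inl ⟨ZMod p, inferInstance, inferInstance, ZMod.card p, h3, hiso⟩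
  · obtain ⟨m, hm, hm2, hiso⟩ := iso_of_two T he hnt hXp hc
    haveI := Fintype.ofFinite (GaloisField 2 m)
    refine Or.inr ⟨m, GaloisField 2 m, inferInstance, inferInstance, ?_, hm, ?_, hiso⟩
    · rw [← Nat.card_eq_fintype_card, GaloisField.card 2 m (by omega)]
    · have : 2 ^ 2 ≤ 2 ^ m := Nat.pow_le_pow_right two_pos hm2
      omega


/-- Brauer's theorem. -/
theorem brauer {G : Type*} [Group G] [Finite G] {p : ℕ} [Fact p.Prime] (P : Sylow p G)
    (hP : Nat.card (P : Subgroup G) = p)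
    (hC : centralizer ((P : Subgroup G) : Set G) = (P : Subgroup G)) (hperf : _root_.commutator G = ⊤)
    (hn : 2 * Nat.card (Sylow p G) < (p + 1) * (p + 2)) :
    (∃ (F : Type) (_ : Field F) (_ : Fintype F), Fintype.card F = p ∧ 3 < p ∧
        Nonempty (G ≃* Matrix.ProjectiveSpecialLinearGroup (Fin 2) F)) ∨
      (∃ (m : ℕ) (F : Type) (_ : Field F) (_ : Fintype F), Fintype.card F = 2 ^ m ∧ p = 2 ^ m + 1 ∧
        3 < p ∧ Nonempty (G ≃* Matrix.ProjectiveSpecialLinearGroup (Fin 2) F)) := by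
  refine brauer_good P hP hC hperf fun n hsyl => good_of_lt ?_
  rw [hsyl] at hn
  nlinarith

end CfsgLib.Perm.FewSylow
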