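import Mathlib.GroupTheory.GroupAction.MultipleTransitivity
import Mathlib.Data.Fintype.Card

/-!
Multiple transitivity from transitivity of the pointwise stabilisers of small sets.
-/

namespace CfsgLib.Perm

variable {α : Type*} [Fintype α] [DecidableEq α]

/-- If for every `j`-set the pointwise stabiliser is transitive on the complement, and at least two
points lie outside, the group is `j + 1`-transitive. -/
theorem exists_smul_eq_of_fixing_transitive (G : Subgroup (Equiv.Perm α)) :
    ∀ (j : ℕ), j + 2 ≤ Fintype.card α →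
      (∀ Δ : Finset α, Δ.card = j → ∀ a b : α, a ∉ Δ → b ∉ Δ →
        ∃ g ∈ G, (∀ x ∈ Δ, g x = x) ∧ g a = b) →
      ∀ x y : Fin (j + 1) ↪ α, ∃ g ∈ G, ∀ i, g (x i) = y i := by
  intro j
  induction j with
  | zero =>
    intro _ h x y
    obtain ⟨g, hg, -, hgab⟩ := h ∅ rfl (x 0) (y 0) (Finset.notMem_empty _) (Finset.notMem_empty _)
    exact ⟨g, hg, fun i => by rw [Fin.fin_one_eq_zero i]; exact hgab⟩
  | succ j ih =>
    intro hn h x y
    have h' : ∀ Δ : Finset α, Δ.card = j → ∀ a b : α, a ∉ Δ → b ∉ Δ →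
        ∃ g ∈ G, (∀ x ∈ Δ, g x = x) ∧ g a = b := by
      intro Δ hΔ a b ha hb
      obtain ⟨c, hc⟩ : ∃ c, c ∉ insert a (insert b Δ) := by
        by_contra hcon
        push Not at hcon
        have h1 : (Finset.univ : Finset α) ⊆ insert a (insert b Δ) := fun z _ => hcon z
        have h2 := Finset.card_le_card h1
        have h3 := Finset.card_insert_le a (insert b Δ)
        have h4 := Finset.card_insert_le b Δ
        rw [Finset.card_univ] at h2
        omega
      simp only [Finset.mem_insert, not_or] at hc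
      obtain ⟨g, hg, hfix, hgab⟩ := h (insert c Δ)
        (by rw [Finset.card_insert_of_notMem hc.2.2, hΔ]) a b
        (by simp only [Finset.mem_insert, not_or]; exact ⟨Ne.symm hc.1, ha⟩)
        (by simp only [Finset.mem_insert, not_or]; exact ⟨Ne.symm hc.2.1, hb⟩)
      exact ⟨g, hg, fun z hz => hfix z (Finset.mem_insert_of_mem hz), hgab⟩
    obtain ⟨g, hg, hgx⟩ := ih (by omega) h' ((Fin.castSuccEmb).trans x) ((Fin.castSuccEmb).trans y)
    set Δ := Finset.univ.map ((Fin.castSuccEmb).trans y) with hΔ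
    have hmem : ∀ z : α, z ∈ Δ ↔ ∃ i : Fin (j + 1), y i.castSucc = z := by
      intro z
      simp [hΔ]
    have hy : y (Fin.last (j + 1)) ∉ Δ := by
      rw [hmem]
      rintro ⟨i, hi⟩
      exact (Fin.castSucc_lt_last i).ne (y.injective hi)
    have hx : g (x (Fin.last (j + 1))) ∉ Δ := by
      rw [hmem]
      rintro ⟨i, hi⟩
      have h2 : g (x i.castSucc) = y i.castSucc := hgx i
      exact (Fin.castSucc_lt_last i).ne (x.injective (g.injective (h2.trans hi)))
    obtain ⟨k, hk, hkfix, hkab⟩ := h Δ (by simp [hΔ]) _ _ hx hy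
    refine ⟨k * g, mul_mem hk hg, fun i => ?_⟩
    rw [Equiv.Perm.mul_apply]
    induction i using Fin.lastCases with
    | last => exact hkab
    | cast i =>
      have h2 : g (x i.castSucc) = y i.castSucc := hgx i
      rw [h2]
      exact hkfix _ ((hmem _).2 ⟨i, rfl⟩)

/-- The same, as `MulAction.IsMultiplyPretransitive`. -/
theorem isMultiplyPretransitive_of_fixing_transitive (G : Subgroup (Equiv.Perm α)) {j : ℕ}
    (hn : j + 2 ≤ Fintype.card α)
    (h : ∀ Δ : Finset α, Δ.card = j → ∀ a b : α, a ∉ Δ → b ∉ Δ →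
      ∃ g ∈ G, (∀ x ∈ Δ, g x = x) ∧ g a = b) :
    MulAction.IsMultiplyPretransitive G α (j + 1) := by
  rw [MulAction.isMultiplyPretransitive_iff]
  intro x y
  obtain ⟨g, hg, hgx⟩ := exists_smul_eq_of_fixing_transitive G j hn h x y
  exact ⟨⟨g, hg⟩, Function.Embedding.ext fun i => hgx i⟩

end CfsgLib.Perm
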