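import Mathlib
import Cfsg.Agent.Lib.Perm.ExtremelyPrimitiveSolvable

/-!
# Non-solvable pairs of elements of prime-power order

`Good p x y`: the order of `x * y` is not a power of `p` and `⟨x, y⟩` is not solvable.
* `good_of_hom`, `good_map`: transfer along homomorphisms;
* `not_isSolvable_of_two_three_five`: the `(2,3,5)` criterion;
* `exp_of_solvable_primitive`: a solvable primitive group on `ZMod (p ^ b)` containing the
  translation by one has `b = 1`, and its elements of `p`-power order have order dividing `p`.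
-/

set_option autoImplicit false
set_option linter.style.haveILetI false

namespace CfsgLib.Perm.FreePair

open Equiv MulAction Subgroup

/-- The product has order not a power of `p` and the pair generates a non-solvable subgroup. -/
def Good {G : Type*} [Group G] (p : ℕ) (x y : G) : Prop :=
  (¬ ∃ k : ℕ, orderOf (x * y) = p ^ k) ∧ ¬ Group.IsSolvable (closure ({x, y} : Set G))

variable {G H : Type*} [Group G] [Group H] {p : ℕ}

theorem good_of_hom (hp : p.Prime) (f : G →* H) {x y : G} (h : Good p (f x) (f y)) :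
    Good p x y := by
  constructor
  · rintro ⟨k, hk⟩
    obtain ⟨j, -, hj⟩ := (Nat.dvd_prime_pow hp).1 (hk ▸ orderOf_map_dvd f (x * y))
    exact h.1 ⟨j, by rw [← hj, map_mul]⟩
  · intro hs
    refine h.2 ?_
    have e : (closure ({x, y} : Set G)).map f = closure ({f x, f y} : Set H) := by
      rw [MonoidHom.map_closure, Set.image_pair]
    rw [← e]
    exact Group.isSolvable_of_surjective (f.subgroupMap_surjective _)

theorem good_map (f : G →* H) (hf : Function.Injective f) {x y : G} (h : Good p x y) :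
    Good p (f x) (f y) := by
  constructor
  · rintro ⟨k, hk⟩
    exact h.1 ⟨k, by rw [← hk, ← map_mul, orderOf_injective f hf]⟩
  · intro hs
    refine h.2 ?_
    have e : (closure ({x, y} : Set G)).map f = closure ({f x, f y} : Set H) := by
      rw [MonoidHom.map_closure, Set.image_pair]
    rw [← e] at hs
    exact Group.isSolvable_of_isSolvable_injective
      (f := ((closure ({x, y} : Set G)).equivMapOfInjective f hf).toMonoidHom)
      (MulEquiv.injective _)

theorem good_conj {x y : G} (h : Good p x y) (g : G) : Good p (g * x * g⁻¹) (g * y * g⁻¹) :=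
  good_map (MulAut.conj g).toMonoidHom (MulEquiv.injective _) h

theorem good_symm {x y : G} (h : Good p x y) : Good p y x := by
  constructor
  · rintro ⟨k, hk⟩
    refine h.1 ⟨k, ?_⟩
    rw [← hk, show x * y = MulAut.conj x (y * x) by simp [mul_assoc]]
    exact MulEquiv.orderOf_eq _ _
  · rw [Set.pair_comm]
    exact h.2

/-- A group with a nontrivial (2,3,5) pair is not solvable. -/
theorem not_isSolvable_of_two_three_five {S : Subgroup G} (z w : G) (hz : z ∈ S) (hw : w ∈ S)
    (h2 : z ^ 2 = 1) (h3 : w ^ 3 = 1) (h5 : (z * w) ^ 5 = 1) (hne : z * w ≠ 1) :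
    ¬ Group.IsSolvable S := by
  intro hS
  set K := closure ({z, w} : Set G)
  have hKS : K ≤ S := (closure_le _).2 (by simp [Set.pair_subset_iff, hz, hw])
  haveI : Group.IsSolvable K :=
    Group.isSolvable_of_isSolvable_injective (f := Subgroup.inclusion hKS) (inclusion_injective hKS)
  set z' : K := ⟨z, subset_closure (by simp)⟩
  set w' : K := ⟨w, subset_closure (by simp)⟩
  haveI : Nontrivial K := ⟨z' * w', 1, fun h => hne (congrArg Subtype.val h)⟩
  have hlt := Group.IsSolvable.commutator_lt_top_of_nontrivial K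
  refine hlt.ne ((eq_top_iff' _).2 fun g => ?_)
  set φ : K →* Abelianization K := Abelianization.of
  have e2 : φ z' ^ 2 = 1 := by rw [← map_pow, show z' ^ 2 = 1 from Subtype.ext h2, map_one]
  have e3 : φ w' ^ 3 = 1 := by rw [← map_pow, show w' ^ 3 = 1 from Subtype.ext h3, map_one]
  have e5 : (φ z' * φ w') ^ 5 = 1 := by
    rw [← map_mul, ← map_pow, show (z' * w') ^ 5 = 1 from Subtype.ext h5, map_one]
  have ew : φ w' = φ z' := by
    have h1 : φ z' * φ w' ^ 2 = 1 := by
      calc φ z' * φ w' ^ 2 = φ z' ^ (2 + 2 + 1) * φ w' ^ (3 + 2) := by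
            rw [pow_add, pow_add, e2, one_mul, one_mul, pow_one, pow_add, e3, one_mul]
        _ = (φ z' * φ w') ^ 5 := by rw [mul_pow]
        _ = 1 := e5
    calc φ w' = φ z' * φ w' ^ 2 * φ w' := by rw [h1, one_mul]
      _ = φ z' * φ w' ^ 3 := by rw [mul_assoc, ← pow_succ]
      _ = φ z' := by rw [e3, mul_one]
  have ez : φ z' = 1 := by
    have := e3
    rw [ew, pow_succ, e2, one_mul] at this
    exact this
  have hker : closure ({z, w} : Set G) ≤ φ.ker.map K.subtype := by
    rw [closure_le, Set.pair_subset_iff]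
    exact ⟨⟨z', ez, rfl⟩, ⟨w', ew.trans ez, rfl⟩⟩
  obtain ⟨g', hg', he⟩ := hker g.2
  rw [← Subtype.ext he, ← Abelianization.ker_of]
  exact hg'

/-- In a finite group of order `p ^ b` a nilpotent endomorphism has `b`-th power zero. -/
theorem pow_eq_zero_of_card {M : Type*} [AddCommGroup M] [Finite M] (hp : p.Prime) {b : ℕ}
    (hM : Nat.card M = p ^ b) (D : AddMonoid.End M) {K : ℕ} (hK : D ^ K = 0) : D ^ b = 0 := by
  have key : ∀ i, (∀ m, (D ^ i) m = 0) ∨
      ∃ j, j + i ≤ b ∧ Nat.card (D ^ i : M →+ M).range = p ^ j := by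
    intro i
    induction i with
    | zero =>
      obtain ⟨j, hj, hj'⟩ := (Nat.dvd_prime_pow hp).1
        (hM ▸ AddSubgroup.card_addSubgroup_dvd_card ((D ^ 0 : AddMonoid.End M) : M →+ M).range)
      exact Or.inr ⟨j, by omega, hj'⟩
    | succ i ih =>
      rcases ih with h | ⟨j, hj, hj'⟩
      · exact Or.inl fun m => by rw [pow_succ]; exact h (D m)
      have hle : (D ^ (i + 1) : M →+ M).range ≤ (D ^ i : M →+ M).range := by
        rintro _ ⟨m, rfl⟩
        exact ⟨D m, by rw [pow_succ]; rfl⟩
      obtain ⟨j', hj1, hj2⟩ := (Nat.dvd_prime_pow hp).1 (hj' ▸ AddSubgroup.card_dvd_of_le hle)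
      rcases Nat.lt_or_ge j' j with hlt | hge
      · exact Or.inr ⟨j', by omega, hj2⟩
      have heq : (D ^ (i + 1) : M →+ M).range = (D ^ i : M →+ M).range :=
        AddSubgroup.eq_of_le_of_card_ge hle (by rw [hj', hj2, show j' = j by omega])
      have hrep : ∀ t m, ∃ m', (D ^ i) m = (D ^ (i + t)) m' := by
        intro t
        induction t with
        | zero => exact fun m => ⟨m, rfl⟩
        | succ t iht =>
          intro m
          obtain ⟨m₁, hm₁⟩ : ∃ m₁, (D ^ (i + 1)) m₁ = (D ^ i) m := by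
            have : (D ^ i) m ∈ (D ^ (i + 1) : M →+ M).range := heq ▸ ⟨m, rfl⟩
            exact this
          obtain ⟨m₂, hm₂⟩ := iht m₁
          refine ⟨m₂, ?_⟩
          rw [← hm₁, pow_succ', show i + (t + 1) = (i + t) + 1 from rfl, pow_succ' D (i + t)]
          exact congrArg D hm₂
      refine Or.inl fun m => ?_
      rw [pow_succ]
      show (D ^ i) (D m) = 0
      obtain ⟨m₃, hm₃⟩ := hrep K (D m)
      rw [hm₃, add_comm, pow_add, hK, zero_mul]
      rfl
  refine DFunLike.ext _ _ fun m => ?_
  rcases key b with h | ⟨j, hj, hj'⟩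
  · exact h m
  have hbot : (D ^ b : M →+ M).range = ⊥ :=
    AddSubgroup.eq_bot_of_card_eq _ (by rw [hj', show j = 0 by omega, pow_zero])
  have : (D ^ b) m ∈ (D ^ b : M →+ M).range := ⟨m, rfl⟩
  rw [hbot, AddSubgroup.mem_bot] at this
  exact this

theorem succ_le_pow {p : ℕ} (hp : 3 ≤ p) {b : ℕ} (hb : 2 ≤ b) : b + 1 ≤ p ^ (b - 1) := by
  obtain ⟨k, rfl⟩ : ∃ k, b = k + 2 := ⟨b - 2, by omega⟩
  induction k with
  | zero => simpa using hp
  | succ k ih =>
    rw [show k + 1 + 2 - 1 = (k + 2 - 1) + 1 by omega, pow_succ]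
    have h1 := ih (by omega)
    have h2 := Nat.mul_le_mul_left (p ^ (k + 2 - 1)) hp
    omega

/-- A solvable primitive group of degree `p ^ b` containing a regular cyclic translation. -/
theorem exp_of_solvable_primitive (hp : p.Prime) (hp3 : 3 ≤ p) {b : ℕ} (hb : 1 ≤ b) {R : ℕ}
    [NeZero R] (hR : R = p ^ b) (A : Subgroup (Perm (ZMod R))) [Group.IsSolvable A]
    (hc : Equiv.addRight (1 : ZMod R) ∈ A) (hprim : IsPreprimitive A (ZMod R)) :
    ∀ v ∈ A, ∀ k, v ^ p ^ k = 1 → b = 1 ∧ (Equiv.addRight (1 : ZMod R) * v) ^ p = 1 := by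
  classical
  haveI : Fact p.Prime := ⟨hp⟩
  have hR1 : 1 < R := hR ▸ Nat.one_lt_pow (by omega) hp.one_lt
  haveI : Fact (1 < R) := ⟨hR1⟩
  set c : A := ⟨Equiv.addRight 1, hc⟩
  haveI : Nontrivial A := ⟨c, 1, fun h => one_ne_zero (α := ZMod R) (by
    simpa [c] using DFunLike.congr_fun (congrArg Subtype.val h) 0)⟩
  obtain ⟨N, hN, hNb, hNc, ⟨r, hr, hpg, hexp⟩, hbij, -, hcent⟩ :=
    ExtremelyPrimitive.exists_regular_normal hprim (0 : ZMod R)
  have hcardN : Nat.card N = p ^ b := by
    rw [Nat.card_eq_of_bijective _ hbij, Nat.card_zmod, hR]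
  haveI : Fact r.Prime := ⟨hr⟩
  have hrp : r = p := by
    obtain ⟨m, hm⟩ := IsPGroup.iff_card.1 hpg
    have h1 : p ∣ r ^ m := by rw [← hm, hcardN]; exact dvd_pow_self _ (by omega)
    exact ((Nat.prime_dvd_prime_iff_eq hp hr).1 (hp.dvd_of_dvd_pow h1)).symm
  subst hrp
  have hdec : ∀ g : A, ∃ n : N, ∃ h ∈ stabilizer A (0 : ZMod R), g = n * h := by
    intro g
    obtain ⟨n, hn⟩ := hbij.2 (g • (0 : ZMod R))
    simp only at hn
    exact ⟨n, (n : A)⁻¹ * g, mem_stabilizer_iff.2 (by rw [mul_smul, ← hn, inv_smul_smul]),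
      by group⟩
  have hreg : ∀ n ∈ N, n ∈ stabilizer A (0 : ZMod R) → n = 1 := by
    intro n hn hs
    have := @hbij.1 ⟨n, hn⟩ 1 (by simpa using mem_stabilizer_iff.1 hs)
    exact congrArg Subtype.val this
  letI : CommGroup N := { (inferInstance : Group N) with mul_comm := hNc.is_comm.comm }
  let φ : A →* AddMonoid.End (Additive N) :=
    { toFun := fun g => MonoidHom.toAdditive (MulAut.conjNormal g).toMonoidHom
      map_one' := DFunLike.ext _ _ fun m => by
        show Additive.ofMul (MulAut.conjNormal (1 : A) m.toMul) = m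
        rw [map_one]
        rfl
      map_mul' := fun g g' => DFunLike.ext _ _ fun m => by
        show Additive.ofMul (MulAut.conjNormal (g * g') m.toMul) =
          Additive.ofMul (MulAut.conjNormal g (MulAut.conjNormal g' m.toMul))
        rw [map_mul]
        rfl }
  have happ : ∀ (g : A) (n : N), ((φ g (Additive.ofMul n)).toMul : A) = g * n * g⁻¹ := fun g n =>
    MulAut.conjNormal_apply g n
  have hone : ∀ h ∈ stabilizer A (0 : ZMod R), φ h = 1 → h = 1 := by
    intro h hh he
    refine hcent h hh fun n hn => ?_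
    have := happ h ⟨n, hn⟩
    rw [he] at this
    exact (eq_mul_inv_iff_mul_eq.1 this).symm
  -- powers of a product
  have hpow : ∀ (n : N) (h : A) (i : ℕ), ((n : A) * h) ^ i =
      ((Finset.sum (Finset.range i) (fun j => φ h ^ j)) (Additive.ofMul n)).toMul * h ^ i := by
    intro n h i
    induction i with
    | zero => simp
    | succ i ih =>
      rw [pow_succ', ih, geom_sum_succ, pow_succ' h]
      set S := (Finset.sum (Finset.range i) fun j => φ h ^ j) (Additive.ofMul n) with hS
      have e1 : ((φ h * Finset.sum (Finset.range i) fun j => φ h ^ j) + 1) (Additive.ofMul n) =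
          φ h S + Additive.ofMul n := rfl
      rw [e1, toMul_add, Subgroup.coe_mul, toMul_ofMul]
      have e2 : ((φ h S).toMul : A) = h * (S.toMul : A) * h⁻¹ := happ h S.toMul
      rw [e2]
      have e3 : (n : A) * (h * (S.toMul : A) * h⁻¹) = h * (S.toMul : A) * h⁻¹ * n := by
        rw [← e2]
        exact congrArg Subtype.val (hNc.is_comm.comm n (φ h S).toMul)
      rw [← e3]
      group
  haveI : Nontrivial N := (Subgroup.nontrivial_iff_ne_bot N).2 hNb
  haveI : Nontrivial (AddMonoid.End (Additive N)) := ⟨1, 0, fun h => by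
    obtain ⟨n, hn⟩ := exists_ne (1 : N)
    exact hn (DFunLike.congr_fun h (Additive.ofMul n))⟩
  haveI : CharP (AddMonoid.End (Additive N)) r := (CharP.charP_iff_prime_eq_zero hp).2 (by
    refine DFunLike.ext _ _ fun m => ?_
    rw [AddMonoid.End.natCast_apply]
    show r • m = 0
    exact congrArg Additive.ofMul (Subtype.ext (hexp _ m.toMul.2) : m.toMul ^ r = 1))
  -- the stabilizer part of an element of `p`-power order
  have hker : ∀ (n : N) (h : A), h ∈ stabilizer A (0 : ZMod R) → ∀ k,
      ((n : A) * h) ^ r ^ k = 1 → (φ h - 1) ^ b = 0 := by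
    intro n h hh k he
    rw [hpow] at he
    have h1 : h ^ r ^ k = 1 := by
      refine hreg _ ?_ (pow_mem hh _)
      rw [eq_inv_of_mul_eq_one_right he]
      exact inv_mem (SetLike.coe_mem _)
    refine pow_eq_zero_of_card hp (by rwa [Nat.card_congr Additive.toMul]) _ (K := r ^ k) ?_
    rw [sub_pow_char_pow_of_commute r _ (Commute.one_right (φ h)), one_pow, ← map_pow, h1, map_one, sub_self]
  intro v hv k hvk
  obtain ⟨nc, hc', hhc, hce⟩ := hdec c
  have hcR : ∀ i : ℕ, c ^ i = 1 → R ∣ i := by
    intro i hi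
    have h1 : ∀ j : ℕ, ((c ^ j : A) : Perm (ZMod R)) 0 = (j : ZMod R) := by
      intro j
      induction j with
      | zero => simp
      | succ j ih => rw [pow_succ', Subgroup.coe_mul, Perm.mul_apply, ih]; simp [c]
    rw [← ZMod.natCast_eq_zero_iff i R]
    rw [← h1 i, hi]
    rfl
  have hcp : c ^ r ^ b = 1 := by
    refine Subtype.ext (Equiv.ext fun x => ?_)
    have h1 : ∀ j : ℕ, ((c ^ j : A) : Perm (ZMod R)) x = x + (j : ZMod R) := by
      intro j
      induction j with
      | zero => simp
      | succ j ih => rw [pow_succ', Subgroup.coe_mul, Perm.mul_apply, ih]; simp [c, add_assoc]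
    rw [h1, ← hR, ZMod.natCast_self, add_zero]
    rfl
  have hT := hker nc hc' hhc b (by rw [← hce, hcp])
  have hb1 : b = 1 := by
    by_contra hne
    set m := r ^ (b - 1)
    have hm : b + 1 ≤ m := succ_le_pow hp3 (by omega)
    have hTm : φ hc' ^ m = 1 := by
      rw [← sub_eq_zero]
      conv_lhs => rw [← one_pow (M := AddMonoid.End (Additive N)) m]
      rw [← sub_pow_char_pow_of_commute r _ (Commute.one_right (φ hc'))]
      exact pow_eq_zero_of_le (by omega) hT
    have hsum : (Finset.range m).sum (fun j => φ hc' ^ j) = (φ hc' - 1) ^ (m - 1) := by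
      letI := ZMod.algebra (AddMonoid.End (Additive N)) r
      have hpoly : (Finset.range m).sum (fun j => (Polynomial.X : Polynomial (ZMod r)) ^ j) =
          (Polynomial.X - 1) ^ (m - 1) := by
        have hne0 : (Polynomial.X - 1 : Polynomial (ZMod r)) ≠ 0 := Polynomial.X_sub_C_ne_zero 1
        refine mul_right_cancel₀ hne0 ?_
        rw [geom_sum_mul, ← pow_succ, show m - 1 + 1 = m by omega, sub_pow_char_pow, one_pow]
      simpa using congrArg (Polynomial.aeval (φ hc')) hpoly
    have hcm : c ^ m = 1 := by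
      rw [hce, hpow, hsum, pow_eq_zero_of_le (by omega) hT, hone _ (pow_mem hhc m) (by rw [map_pow, hTm])]
      simp
    have h1 := Nat.le_of_dvd (pow_pos hp.pos _) (hcR _ hcm)
    have h2 : r ^ (b - 1) < r ^ b := Nat.pow_lt_pow_right hp.one_lt (by omega)
    omega
  subst hb1
  refine ⟨rfl, ?_⟩
  obtain ⟨nv, hv', hhv, hve⟩ := hdec ⟨v, hv⟩
  have hTv := hker nv hv' hhv k (by rw [← hve]; exact Subtype.ext hvk)
  rw [pow_one, sub_eq_zero] at hT hTv
  have h1 := congrArg Subtype.val (show (c * ⟨v, hv⟩ : A) ^ r = 1 by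
    rw [hce, hve, hone _ hhc hT, hone _ hhv hTv, mul_one, mul_one]
    exact hexp _ (mul_mem nc.2 nv.2))
  exact h1

end CfsgLib.Perm.FreePair
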