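import Mathlib
import Cfsg.Agent.Lib.Perm.MultiTrans

/-!
The number of fixed points of a product of conjugates of two permutations is not constant over the
conjugates by even permutations.
-/

set_option autoImplicit false

namespace CfsgLib.Perm.ProductFixed

open Equiv MulAction

universe u

variable {α : Type u} [Fintype α] [DecidableEq α]

/-- The number of points where two permutations agree. -/
def agree (a b : Perm α) : ℕ := (Finset.univ.filter fun x => b x = a x).card

/-- The number of fixed points. -/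
def fixCard (a : Perm α) : ℕ := (Finset.univ.filter fun x => a x = x).card

theorem agree_conj (k a b : Perm α) : agree (k * a * k⁻¹) (k * b * k⁻¹) = agree a b := by
  unfold agree
  rw [← Finset.card_map k.toEmbedding (s := Finset.univ.filter fun x => b x = a x)]
  congr 1
  ext x
  simp only [Finset.mem_filter, Finset.mem_univ, true_and, Finset.mem_map_equiv]
  simp only [Perm.mul_apply, Perm.inv_def]
  exact k.injective.eq_iff

theorem fixCard_add_support (a : Perm α) : fixCard a + a.support.card = Fintype.card α := by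
  rw [fixCard, ← Finset.card_univ]
  exact Finset.card_filter_add_card_filter_not (fun x => a x = x)

theorem exists_alt_map {m : ℕ} (hm : m + 2 ≤ Fintype.card α) (x y : Fin m ↪ α) :
    ∃ g ∈ alternatingGroup α, ∀ i, g (x i) = y i := by
  have h := alternatingGroup.isMultiplyPretransitive α
  rw [Nat.card_eq_fintype_card] at h
  exact CfsgLib.Perm.ktrans_exists h (by omega) (by omega) x y

theorem exists_alt_pair (hn : 4 ≤ Fintype.card α) {x y x' y' : α} (h : x ≠ y) (h' : x' ≠ y') :
    ∃ g ∈ alternatingGroup α, g x = x' ∧ g y = y' := by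
  obtain ⟨g, hg, hg'⟩ := exists_alt_map (m := 2) (by omega)
    ⟨![x, y], by intro i j hij; fin_cases i <;> fin_cases j <;> simp_all [eq_comm]⟩
    ⟨![x', y'], by intro i j hij; fin_cases i <;> fin_cases j <;> simp_all [eq_comm]⟩
  exact ⟨g, hg, hg' 0, hg' 1⟩

/-- The total agreement over the conjugates by even permutations. -/
theorem sum_agree (hn : 4 ≤ Fintype.card α) (a b : Perm α) :
    Fintype.card α * (Fintype.card α - 1) *
        ∑ g : alternatingGroup α, agree a ((g : Perm α) * b * (g : Perm α)⁻¹) =
      Fintype.card (alternatingGroup α) *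
        (fixCard a * fixCard b * (Fintype.card α - 1) + a.support.card * b.support.card) := by
  classical
  let Z : α → α → Finset (alternatingGroup α) := fun x z =>
    Finset.univ.filter fun g : alternatingGroup α => ((g : Perm α) * b * (g : Perm α)⁻¹) x = z
  have hmove : ∀ {h : Perm α}, h ∈ alternatingGroup α → ∀ x z,
      (Z (h x) (h z)).card = (Z x z).card := by
    intro h hh x z
    refine (Finset.card_bij (fun g _ => (⟨h, hh⟩ * g : alternatingGroup α)) ?_ ?_ ?_).symm
    · intro g hg
      simp only [Z, Finset.mem_filter, Finset.mem_univ, true_and] at hg ⊢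
      simp only [Subgroup.coe_mul, mul_inv_rev,
        Perm.mul_apply, Perm.inv_def, Equiv.symm_apply_apply] at hg ⊢
      rw [hg]
    · exact fun g _ g' _ h => mul_left_cancel h
    · intro g hg
      refine ⟨(⟨h, hh⟩ : alternatingGroup α)⁻¹ * g, ?_, by group⟩
      simp only [Z, Finset.mem_filter, Finset.mem_univ, true_and] at hg ⊢
      simp only [Subgroup.coe_mul,
        InvMemClass.coe_inv, mul_inv_rev, inv_inv, Perm.mul_apply, Perm.inv_def, Equiv.symm_symm] at hg ⊢
      rw [hg, Equiv.symm_apply_apply]
  obtain ⟨x₀, y₀, hxy₀⟩ := Fintype.exists_pair_of_one_lt_card (α := α) (by omega)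
  set N₀ := (Z x₀ x₀).card
  set N₁ := (Z x₀ y₀).card
  set G := Fintype.card (alternatingGroup α)
  set n := Fintype.card α
  have h0 : ∀ x, (Z x x).card = N₀ := fun x => by
    obtain ⟨w, hw⟩ := Fintype.exists_ne_of_one_lt_card (by omega : 1 < Fintype.card α) x
    obtain ⟨h, hh, hhx, -⟩ := exists_alt_pair hn hxy₀ hw.symm
    rw [← hhx, hmove hh]
  have h1 : ∀ x z, x ≠ z → (Z x z).card = N₁ := fun x z hxz => by
    obtain ⟨h, hh, hhx, hhz⟩ := exists_alt_pair hn hxy₀ hxz
    rw [← hhx, ← hhz, hmove hh]
  have hrow : ∀ x, ∑ z, (Z x z).card = G := fun x => by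
    exact (Finset.card_eq_sum_card_fiberwise
      (s := (Finset.univ : Finset (alternatingGroup α))) (t := (Finset.univ : Finset α))
      (f := fun g : alternatingGroup α => ((g : Perm α) * b * (g : Perm α)⁻¹) x)
      fun g _ => Finset.mem_univ _).symm
  have hrow₀ : N₀ + (n - 1) * N₁ = G := by
    rw [← hrow x₀, ← Finset.add_sum_erase _ _ (Finset.mem_univ x₀),
      Finset.sum_congr rfl fun z hz => h1 x₀ z (Finset.ne_of_mem_erase hz).symm, Finset.sum_const,
      Finset.card_erase_of_mem (Finset.mem_univ x₀), Finset.card_univ, smul_eq_mul]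
  have hdiag : n * N₀ = G * fixCard b := by
    have e1 : ∑ x, (Z x x).card = n * N₀ := by
      rw [Finset.sum_congr rfl fun x _ => h0 x, Finset.sum_const, Finset.card_univ, smul_eq_mul]
    rw [← e1]
    simp only [Z, Finset.card_filter]
    rw [Finset.sum_comm]
    have : ∀ g : alternatingGroup α,
        (∑ x, if ((g : Perm α) * b * (g : Perm α)⁻¹) x = x then 1 else 0) = fixCard b := fun g => by
      rw [fixCard, Finset.card_filter, ← Equiv.sum_comp (g : Perm α)]
      refine Finset.sum_congr rfl fun x _ => ?_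
      simp [Perm.mul_apply]
    rw [Finset.sum_congr rfl fun g _ => this g, Finset.sum_const, Finset.card_univ, smul_eq_mul]
  have htot : ∑ g : alternatingGroup α, agree a ((g : Perm α) * b * (g : Perm α)⁻¹) =
      fixCard a * N₀ + a.support.card * N₁ := by
    simp only [agree, Finset.card_filter]
    rw [Finset.sum_comm]
    have : ∀ x, (∑ g : alternatingGroup α,
        if ((g : Perm α) * b * (g : Perm α)⁻¹) x = a x then 1 else 0) =
          if a x = x then N₀ else N₁ := fun x => by
      rw [← Finset.card_filter]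
      show (Z x (a x)).card = _
      split_ifs with hx
      · rw [hx, h0]
      · exact h1 x _ (Ne.symm hx)
    rw [Finset.sum_congr rfl fun x _ => this x, Finset.sum_ite, Finset.sum_const, Finset.sum_const]
    rfl
  have hb := fixCard_add_support b
  have e2 : n * (n - 1) * N₁ = G * b.support.card := by
    have e3 : n * N₀ + n * (n - 1) * N₁ = n * G := by rw [← hrow₀]; ring
    have e4 : G * fixCard b + G * b.support.card = n * G := by rw [← mul_add, hb]; ring
    omega
  rw [htot]
  calc n * (n - 1) * (fixCard a * N₀ + a.support.card * N₁)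
      = fixCard a * (n - 1) * (n * N₀) + a.support.card * (n * (n - 1) * N₁) := by ring
    _ = _ := by rw [hdiag, e2]; ring

theorem swap_strict {a b : Perm α} {p q : α} (hap : a p = p) (haq : a q ≠ q) (hbp : b p = p)
    (hbq : b q ≠ q) : agree a (swap p q * b * (swap p q)⁻¹) < agree a b := by
  have hpq : p ≠ q := fun h => haq (h ▸ hap)
  refine Finset.card_lt_card ((Finset.ssubset_iff_of_subset fun x hx => ?_).2 ⟨p, by simp [hap, hbp], ?_⟩)
  · simp only [Finset.mem_filter, Finset.mem_univ, true_and] at hx ⊢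
    simp only [Perm.mul_apply, swap_inv] at hx ⊢
    by_cases hxp : x = p
    · rw [hxp, hap, hbp]
    by_cases hxq : x = q
    · rw [hxq, swap_apply_right, hbp, swap_apply_left] at hx
      exact absurd hx.symm haq
    rw [swap_apply_of_ne_of_ne hxp hxq] at hx
    have h1 : b x ≠ p := fun h => hxp (b.injective (h.trans hbp.symm))
    by_cases h2 : b x = q
    · rw [h2, swap_apply_right] at hx
      exact absurd (a.injective (hap.trans hx)).symm hxp
    · rwa [swap_apply_of_ne_of_ne h1 h2] at hx
  · simp only [Finset.mem_filter, Finset.mem_univ, true_and]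
    simp only [Perm.mul_apply, swap_inv, swap_apply_left, hap]
    have h1 : b q ≠ p := fun h => hpq (b.injective (hbp.trans h.symm))
    rw [swap_apply_of_ne_of_ne h1 hbq]
    exact h1

theorem fin_five_odd_centralizer : ∀ b : Perm (Fin 5),
    (Finset.univ.filter fun x => b x = x).card = 1 →
      ∃ k : Perm (Fin 5), Perm.sign k = -1 ∧ k * b = b * k := by
  decide +kernel

omit [Fintype α] [DecidableEq α] in
theorem injective_three {a b c : α} (hab : a ≠ b) (hac : a ≠ c) (hbc : b ≠ c) :
    Function.Injective ![a, b, c] := by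
  intro i j h
  fin_cases i <;> fin_cases j <;> simp_all [eq_comm]

/-- Two disjoint edges of a permutation moving at least four points. -/
theorem exists_edges {a : Perm α} (ha : 4 ≤ a.support.card) :
    ∃ x u : α, Function.Injective ![x, a x, u, a u] := by
  obtain ⟨x, hx⟩ := Finset.card_pos.1 (by omega : 0 < a.support.card)
  obtain ⟨u, hu, hu'⟩ : ∃ u ∈ a.support, u ∉ ({x, a x, a⁻¹ x} : Finset α) := by
    by_contra h
    push Not at h
    have h1 := (Finset.card_le_card (fun u hu => h u hu : a.support ⊆ {x, a x, a⁻¹ x})).trans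
      Finset.card_le_three
    omega
  simp only [Finset.mem_insert, Finset.mem_singleton, not_or] at hu'
  obtain ⟨h1, h2, h3⟩ := hu'
  rw [Perm.mem_support] at hx hu
  have h4 : a u ≠ x := fun h => h3 (by rw [← h]; simp)
  have h5 : a u ≠ a x := fun h => h1 (a.injective h)
  refine ⟨x, u, fun i j hij => ?_⟩
  fin_cases i <;> fin_cases j <;> simp_all [eq_comm]

/-- The agreement is not constant over the conjugates by even permutations. -/
theorem not_constant (hn : 5 ≤ Fintype.card α) {a b : Perm α} (ha : a ≠ 1) (hb : b ≠ 1)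
    (hfive : Fintype.card α = 5 → fixCard b = 1 → ∃ k : Perm α, Perm.sign k = -1 ∧ k * b = b * k)
    (hfive' : Fintype.card α = 5 → fixCard a = 1 → ∃ k : Perm α, Perm.sign k = -1 ∧ k * a = a * k) :
    ∃ g ∈ alternatingGroup α, agree a (g * b * g⁻¹) ≠ agree a b := by
  classical
  by_contra hcon
  push Not at hcon
  set n := Fintype.card α
  set c := agree a b
  have hodd : ∀ k : Perm α, Perm.sign k = -1 → (k * b = b * k ∨ k * a = a * k) →
      ∀ g : Perm α, agree a (g * b * g⁻¹) = c := by
    intro k hk hkc g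
    rcases Int.units_eq_one_or (Perm.sign g) with hg | hg
    · exact hcon g (Perm.mem_alternatingGroup.2 hg)
    rcases hkc with hkb | hka
    · rw [← hcon (g * k) (Perm.mem_alternatingGroup.2 (by simp [hg, hk]))]
      congr 1
      rw [mul_inv_rev, show g * k * b * (k⁻¹ * g⁻¹) = g * (k * b * k⁻¹) * g⁻¹ by group, hkb,
        mul_inv_cancel_right]
    · rw [← hcon (k * g) (Perm.mem_alternatingGroup.2 (by simp [hg, hk]))]
      refine (agree_conj k a (g * b * g⁻¹)).symm.trans ?_
      rw [hka, mul_inv_cancel_right,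
        show k * (g * b * g⁻¹) * k⁻¹ = k * g * b * (k * g)⁻¹ by group]
  have hsA : 0 < a.support.card := Finset.card_pos.2 (Finset.nonempty_iff_ne_empty.2 fun h => ha (Perm.support_eq_empty_iff.1 h))
  have hsB : 2 ≤ b.support.card := Perm.two_le_card_support_of_ne_one hb
  have hsA2 : 2 ≤ a.support.card := Perm.two_le_card_support_of_ne_one ha
  have hfa := fixCard_add_support a
  have hfb := fixCard_add_support b
  have hswap : ∀ (d : Perm α), 2 ≤ fixCard d → ∃ k : Perm α, Perm.sign k = -1 ∧ k * d = d * k := by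
    intro d hd
    obtain ⟨u, v, hu, hv, huv⟩ := Finset.one_lt_card_iff.1 hd
    simp only [Finset.mem_filter, Finset.mem_univ, true_and] at hu hv
    refine ⟨swap u v, Perm.sign_swap huv, ?_⟩
    refine (Perm.Disjoint.commute fun x => ?_).eq
    by_cases hxu : x = u
    · exact Or.inr (hxu ▸ hu)
    by_cases hxv : x = v
    · exact Or.inr (hxv ▸ hv)
    exact Or.inl (swap_apply_of_ne_of_ne hxu hxv)
  -- both have fixed points and the classes do not split
  have hboth : 1 ≤ fixCard a → 1 ≤ fixCard b → 2 ≤ fixCard a ∨ 2 ≤ fixCard b → False := by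
    intro h1 h2 h3
    obtain ⟨k, hk, hkc⟩ : ∃ k : Perm α, Perm.sign k = -1 ∧ (k * b = b * k ∨ k * a = a * k) := by
      rcases h3 with h | h
      · obtain ⟨k, hk, hk'⟩ := hswap a h; exact ⟨k, hk, Or.inr hk'⟩
      · obtain ⟨k, hk, hk'⟩ := hswap b h; exact ⟨k, hk, Or.inl hk'⟩
    obtain ⟨p, hp⟩ := Finset.card_pos.1 h1
    obtain ⟨p', hp'⟩ := Finset.card_pos.1 h2
    simp only [Finset.mem_filter, Finset.mem_univ, true_and] at hp hp'
    obtain ⟨q, hq⟩ := Finset.card_pos.1 hsA
    obtain ⟨q', hq'⟩ := Finset.card_pos.1 (by omega : 0 < b.support.card)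
    rw [Perm.mem_support] at hq hq'
    obtain ⟨g, -, hg1, hg2⟩ := exists_alt_pair (by omega : 4 ≤ Fintype.card α)
      (fun h : p' = q' => hq' (h ▸ hp')) (fun h : p = q => hq (h ▸ hp))
    have hb1 : (g * b * g⁻¹) p = p := by rw [← hg1]; simp [hp']
    have hb2 : (g * b * g⁻¹) q ≠ q := by rw [← hg2]; simpa using hq'
    have h4 := swap_strict hp hq hb1 hb2
    rw [hodd k hk hkc g] at h4
    have h5 := hodd k hk hkc (swap p q * g)
    rw [show swap p q * g * b * (swap p q * g)⁻¹ = swap p q * (g * b * g⁻¹) * (swap p q)⁻¹ by group] at h5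
    omega
  -- the mean
  have hmean := sum_agree (α := α) (by omega) a b
  rw [Finset.sum_congr rfl fun (g : alternatingGroup α) _ => hcon g g.2, Finset.sum_const, Finset.card_univ,
    smul_eq_mul] at hmean
  have hc : n * (n - 1) * c = fixCard a * fixCard b * (n - 1) + a.support.card * b.support.card := by
    refine Nat.eq_of_mul_eq_mul_left (Fintype.card_pos (α := alternatingGroup α)) ?_
    rw [← hmean]
    ring
  obtain ⟨n', hn'⟩ : ∃ n', n = n' + 1 := ⟨n - 1, by omega⟩
  have hcases : c = 1 ∧ ((fixCard a = 0 ∧ fixCard b = 1) ∨ (fixCard a = 1 ∧ fixCard b = 0) ∨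
      (fixCard a = 1 ∧ fixCard b = 1)) := by
    rcases Nat.eq_zero_or_pos (fixCard a) with h0 | h1
    · rw [h0, zero_mul, zero_mul, zero_add, show a.support.card = n by omega, mul_assoc] at hc
      have h2 := Nat.eq_of_mul_eq_mul_left (by omega : 0 < n) hc
      rcases c with _ | _ | c
      · omega
      · omega
      · have := Nat.mul_le_mul_left (n - 1) (show 2 ≤ c + 1 + 1 by omega)
        omega
    rcases Nat.eq_zero_or_pos (fixCard b) with h0 | h2
    · rw [h0, mul_zero, zero_mul, zero_add, show b.support.card = n by omega, mul_comm a.support.card,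
        mul_assoc] at hc
      have h2 := Nat.eq_of_mul_eq_mul_left (by omega : 0 < n) hc
      rcases c with _ | _ | c
      · omega
      · omega
      · have := Nat.mul_le_mul_left (n - 1) (show 2 ≤ c + 1 + 1 by omega)
        omega
    have h3 : fixCard a = 1 ∧ fixCard b = 1 := by
      by_contra h
      exact hboth h1 h2 (by omega)
    refine ⟨?_, Or.inr (Or.inr h3)⟩
    rw [h3.1, h3.2, show a.support.card = n' by omega, show b.support.card = n' by omega, hn',
      Nat.add_sub_cancel, one_mul, one_mul, show n' + n' * n' = (n' + 1) * n' by ring] at hc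
    have hpos : 0 < (n' + 1) * n' := Nat.mul_pos (by omega) (by omega)
    exact Nat.eq_of_mul_eq_mul_left hpos (by rw [mul_one]; exact hc)
  obtain ⟨hc1, hcases⟩ := hcases
  have htwo : ∀ g : Perm α, agree a (g * b * g⁻¹) = c → ∀ x y, x ≠ y → (g * b * g⁻¹) x = a x →
      (g * b * g⁻¹) y = a y → False := by
    intro g hg x y hxy hx hy
    have h : 1 < agree a (g * b * g⁻¹) :=
      Finset.one_lt_card_iff.2 ⟨x, y, by simp only [Finset.mem_filter, Finset.mem_univ, true_and]; exact hx,
        by simp only [Finset.mem_filter, Finset.mem_univ, true_and]; exact hy, hxy⟩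
    omega
  rcases hcases with h | h | ⟨h1, h2⟩
  rotate_left 2
  · obtain ⟨p, hp⟩ := Finset.card_pos.1 (by omega : 0 < fixCard a)
    obtain ⟨p', hp'⟩ := Finset.card_pos.1 (by omega : 0 < fixCard b)
    simp only [Finset.mem_filter, Finset.mem_univ, true_and] at hp hp'
    obtain ⟨q, hq⟩ := Finset.card_pos.1 hsA
    obtain ⟨q', hq'⟩ := Finset.card_pos.1 (by omega : 0 < b.support.card)
    rw [Perm.mem_support] at hq hq'
    have n1 : p' ≠ q' := fun h => hq' (h ▸ hp')
    have n2 : p' ≠ b q' := fun h => n1 (b.injective (hp'.trans h))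
    have n1' : p ≠ q := fun h => hq (h ▸ hp)
    have n2' : p ≠ a q := fun h => n1' (a.injective (hp.trans h))
    obtain ⟨g, hg, hgx⟩ := exists_alt_map (m := 3) (by omega)
      ⟨_, injective_three n1 n2 (Ne.symm hq')⟩ ⟨_, injective_three n1' n2' (Ne.symm hq)⟩
    refine htwo g (hcon g hg) p q n1' ?_ ?_
    · rw [show p = g p' from (hgx 0).symm] at hp ⊢
      rw [hp]; simp [hp']
    · rw [show q = g q' from (hgx 1).symm]
      simp only [Perm.mul_apply, Perm.inv_def, Equiv.symm_apply_apply]
      have h2 : g (b q') = a q := hgx 2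
      have h1 : g q' = q := hgx 1
      rw [h2, h1]
  all_goals
    obtain ⟨x, u, he⟩ := exists_edges (a := a) (by omega)
    obtain ⟨x', u', he'⟩ := exists_edges (a := b) (by omega)
    obtain ⟨g, hgc, hgx⟩ : ∃ g : Perm α, agree a (g * b * g⁻¹) = c ∧
        ∀ i, g (![x', b x', u', b u'] i) = ![x, a x, u, a u] i := by
      by_cases h6 : 6 ≤ Fintype.card α
      · obtain ⟨g, hg, hgx⟩ := exists_alt_map (m := 4) (by omega) ⟨_, he'⟩ ⟨_, he⟩
        exact ⟨g, hcon g hg, hgx⟩
      have h5 : Fintype.card α = 5 := by omega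
      have := Equiv.Perm.isMultiplyPretransitive α 4
      obtain ⟨g, hg⟩ := MulAction.exists_smul_eq (Perm α) (⟨_, he'⟩ : Fin 4 ↪ α) ⟨_, he⟩
      have hgx : ∀ i, g (![x', b x', u', b u'] i) = ![x, a x, u, a u] i := fun i =>
        DFunLike.congr_fun hg i
      obtain ⟨k, hk, hkc⟩ : ∃ k : Perm α, Perm.sign k = -1 ∧ (k * b = b * k ∨ k * a = a * k) := by
        first
          | (have h' : fixCard b = 1 := by omega
             obtain ⟨k, hk, hk'⟩ := hfive h5 h'; exact ⟨k, hk, Or.inl hk'⟩)
          | (have h' : fixCard a = 1 := by omega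
             obtain ⟨k, hk, hk'⟩ := hfive' h5 h'; exact ⟨k, hk, Or.inr hk'⟩)
      exact ⟨g, hodd k hk hkc g, hgx⟩
    have e0 : g x' = x := hgx 0
    have e1 : g (b x') = a x := hgx 1
    have e2 : g u' = u := hgx 2
    have e3 : g (b u') = a u := hgx 3
    refine htwo g hgc x u (fun h => absurd (@he 0 2 h) (by decide)) ?_ ?_
    · conv_lhs => rw [← e0]
      simpa using e1
    · conv_lhs => rw [← e2]
      simpa using e3

/-- The same for fixed points of products, on `Fin n`. -/
theorem not_constant_fin {n : ℕ} (hn : 5 ≤ n) {a b : Perm (Fin n)} (ha : a ≠ 1) (hb : b ≠ 1) :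
    ∃ g ∈ alternatingGroup (Fin n), Nat.card (Function.fixedPoints ⇑(a * (g * b * g⁻¹))) ≠
      Nat.card (Function.fixedPoints ⇑(a * b)) := by
  have hfix : ∀ d : Perm (Fin n), Nat.card (Function.fixedPoints ⇑(a * d)) = agree a⁻¹ d := fun d => by
    rw [agree, ← Fintype.card_subtype, Nat.card_eq_fintype_card]
    refine Fintype.card_congr (Equiv.subtypeEquivRight fun x => ?_)
    show a (d x) = x ↔ d x = a.symm x
    rw [Equiv.eq_symm_apply]
  have key : ∀ d : Perm (Fin n), Fintype.card (Fin n) = 5 → fixCard d = 1 →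
      ∃ k : Perm (Fin n), Perm.sign k = -1 ∧ k * d = d * k := by
    intro d h5 h1
    rw [Fintype.card_fin] at h5
    subst h5
    exact fin_five_odd_centralizer d h1
  obtain ⟨g, hg, hne⟩ := not_constant (α := Fin n) (by rwa [Fintype.card_fin])
    (inv_ne_one.2 ha) hb (key b) (key a⁻¹)
  exact ⟨g, hg, by rwa [hfix, hfix]⟩

end CfsgLib.Perm.ProductFixed
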