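import Mathlib
import Cfsg.Agent.Lib.Perm.FreePairBase
import Cfsg.Agent.Lib.Perm.ProductFixed

/-!
# The translation of `ZMod (p ^ b)` and a second element of `p`-power order

For `p ^ b ≥ 5` and each sign `ε` some conjugate, by a permutation of sign `ε`, of a given
nontrivial `p`-power order permutation forms a good pair with the translation by one.
-/

set_option autoImplicit false

namespace CfsgLib.Perm.FreePair

open Equiv MulAction Subgroup
open CfsgLib.Perm.ProductFixed (exists_edges exists_alt_map)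
open scoped Pointwise

theorem exists_odd {α : Type*} [Fintype α] [DecidableEq α] (h : 2 ≤ Fintype.card α) :
    ∃ k : Perm α, Perm.sign k = -1 := by
  obtain ⟨x, y, hxy⟩ := Fintype.exists_pair_of_one_lt_card (α := α) (by omega)
  exact ⟨swap x y, Perm.sign_swap hxy⟩

theorem exists_map_sign {α : Type*} [Fintype α] [DecidableEq α] {m : ℕ}
    (hm : m + 2 ≤ Fintype.card α) (x y : Fin m ↪ α) (ε : ℤˣ) :
    ∃ g : Perm α, Perm.sign g = ε ∧ ∀ i, g (x i) = y i := by
  rcases Int.units_eq_one_or ε with rfl | rfl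
  · obtain ⟨g, hg, hg'⟩ := exists_alt_map hm x y
    exact ⟨g, Perm.mem_alternatingGroup.1 hg, hg'⟩
  obtain ⟨k, hk⟩ := exists_odd (α := α) (by omega)
  obtain ⟨g, hg, hg'⟩ := exists_alt_map hm (x.trans k.toEmbedding) y
  exact ⟨g * k, by rw [map_mul, Perm.mem_alternatingGroup.1 hg, hk, one_mul], fun i => hg' i⟩

theorem conj_apply {α : Type*} (σ v : Perm α) (x : α) : (σ * v * σ⁻¹) (σ x) = σ (v x) := by
  simp [Perm.mul_apply]

variable {p b R : ℕ}

theorem addRight_mem [NeZero R] {A : Subgroup (Perm (ZMod R))}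
    (hc : Equiv.addRight (1 : ZMod R) ∈ A) (k : ZMod R) : Equiv.addRight k ∈ A := by
  have : ∀ j : ℕ, Equiv.addRight (j : ZMod R) ∈ A := fun j => by
    induction j with
    | zero => convert one_mem A; ext x; simp
    | succ j ih =>
      convert mul_mem hc ih using 1
      ext x
      simp [Perm.mul_apply, add_assoc]
  simpa using this k.val

theorem natCast_ne_zero_of_lt {t : ℕ} (h0 : 0 < t) (ht : t < R) : (t : ZMod R) ≠ 0 := fun h =>
  absurd (Nat.le_of_dvd h0 ((ZMod.natCast_eq_zero_iff t R).1 h)) (by omega)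

/-- A criterion for primitivity of a group containing the translation. -/
theorem isPreprimitive_of_break (hp : p.Prime) (hp3 : 3 ≤ p) (hR : R = p ^ b) [NeZero R]
    (hpR : p ∣ R) {A : Subgroup (Perm (ZMod R))} (hc : Equiv.addRight (1 : ZMod R) ∈ A)
    (hbr : b = 1 ∨ ∃ v ∈ A,
      (v 0 = 1 ∧ ZMod.castHom hpR (ZMod p) (v ((p ^ (b - 1) : ℕ) : ZMod R)) ≠ 1) ∨
      (v 0 = 2 ∧ v ((p ^ (b - 1) : ℕ) : ZMod R) = ((p ^ (b - 1) : ℕ) : ZMod R))) :
    IsPreprimitive A (ZMod R) := by
  classical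
  haveI : Fact p.Prime := ⟨hp⟩
  set π := ZMod.castHom hpR (ZMod p)
  set s : ZMod R := ((p ^ (b - 1) : ℕ) : ZMod R)
  haveI : IsPretransitive A (ZMod R) := ⟨fun x y => ⟨⟨_, addRight_mem hc (y - x)⟩, by
    show x + (y - x) = y
    ring⟩⟩
  refine IsPreprimitive.of_isTrivialBlock_base (0 : ZMod R) fun {B} h0 hB => ?_
  by_contra hne
  simp only [IsTrivialBlock, not_or] at hne
  obtain ⟨hns, hnu⟩ := hne
  obtain ⟨x, hx, hx0⟩ : ∃ x ∈ B, x ≠ 0 := by
    by_contra h
    push Not at h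
    exact hns fun y hy z hz => (h y hy).trans (h z hz).symm
  have key : ∀ g h : Perm (ZMod R), g ∈ A → h ∈ A → ∀ y ∈ B, ∀ z ∈ B, g y = h z →
      ∀ w ∈ B, ∃ w' ∈ B, g w = h w' := by
    intro g h hg hh y hy z hz e w hw
    have he : (⟨g, hg⟩ : A) • B = (⟨h, hh⟩ : A) • B := by
      by_contra hne
      exact Set.disjoint_left.1 (hB hne) ⟨y, hy, rfl⟩ ⟨z, hz, e.symm⟩
    have hw' : (⟨g, hg⟩ : A) • w ∈ (⟨h, hh⟩ : A) • B := he ▸ ⟨w, hw, rfl⟩
    obtain ⟨w', hw', e'⟩ := hw'
    exact ⟨w', hw', e'.symm⟩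
  have hadd : ∀ y ∈ B, ∀ z ∈ B, z + y ∈ B := by
    intro y hy z hz
    obtain ⟨w', hw', e⟩ := key _ 1 (addRight_mem hc y) (one_mem _) 0 h0 y hy (by simp) z hz
    have e' : z + y = w' := e
    exact e' ▸ hw'
  have hmul : ∀ (t : ZMod R), ∀ y ∈ B, t * y ∈ B := by
    intro t y hy
    rw [← ZMod.natCast_zmod_val t]
    induction t.val with
    | zero => simpa using h0
    | succ j ih => rw [Nat.cast_succ, add_mul, one_mul]; exact hadd y hy _ ih
  have hπ : ∀ y ∈ B, π y = 0 := by
    intro y hy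
    by_contra hy0
    refine hnu (Set.eq_univ_of_forall fun z => ?_)
    have hcop : y.val.Coprime R := by
      suffices h : y.val.Coprime (p ^ b) from h.coprime_dvd_right (dvd_of_eq hR)
      refine Nat.Coprime.pow_right _ ((hp.coprime_iff_not_dvd.2 fun hd => hy0 ?_).symm)
      rw [← ZMod.natCast_zmod_val y, map_natCast, ZMod.natCast_eq_zero_iff]
      exact hd
    have h1 : z * (y.val : ZMod R)⁻¹ * y = z := by
      rw [mul_assoc, mul_comm _ y]
      conv_lhs => arg 2; arg 1; rw [← ZMod.natCast_zmod_val y]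
      rw [ZMod.coe_mul_inv_eq_one _ hcop, mul_one]
    rw [← h1]
    exact hmul _ y hy
  have hs : s ∈ B := by
    obtain ⟨e, m, hm, he⟩ := Nat.exists_eq_pow_mul_and_not_dvd
      (fun h => hx0 ((ZMod.val_eq_zero x).1 h)) p hp.ne_one
    have heb : e < b := by
      by_contra h
      have h2 : p ^ b ≤ x.val :=
        Nat.le_of_dvd (Nat.pos_of_ne_zero fun h => hx0 ((ZMod.val_eq_zero x).1 h))
          (he ▸ (pow_dvd_pow p (by omega)).trans (dvd_mul_right _ _))
      have := ZMod.val_lt x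
      rw [← hR] at h2
      omega
    have hcop : m.Coprime R := hR ▸ Nat.Coprime.pow_right _ ((hp.coprime_iff_not_dvd.2 hm).symm)
    have h1 : s = ((p ^ (b - 1 - e) : ℕ) : ZMod R) * (m : ZMod R)⁻¹ * x := by
      conv_rhs => rw [← ZMod.natCast_zmod_val x, he, Nat.cast_mul]
      rw [show ∀ a c d f : ZMod R, a * c * (d * f) = a * d * (f * c) from fun a c d f => by ring,
        ZMod.coe_mul_inv_eq_one _ hcop, mul_one, ← Nat.cast_mul, ← pow_add,
        show b - 1 - e + e = b - 1 by omega]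
    rw [h1]
    exact hmul _ x hx
  rcases hbr with rfl | ⟨v, hv, ⟨hv0, hvs⟩ | ⟨hv0, hvs⟩⟩
  · have := hπ s hs
    simp [s] at this
  · obtain ⟨w', hw', e⟩ := key v _ hv hc 0 h0 0 h0 (by simp [hv0]) s hs
    replace e : v s = w' + 1 := e
    exact hvs (by rw [e, map_add, hπ w' hw', zero_add, map_one])
  · obtain ⟨w', hw', e⟩ := key v 1 hv (one_mem _) s hs s hs (by simp [hvs]) 0 h0
    rw [hv0, Perm.coe_one, id] at e
    have h2 := hπ _ (e ▸ hw' : (2 : ZMod R) ∈ B)
    rw [map_ofNat, show (2 : ZMod p) = ((2 : ℕ) : ZMod p) by simp] at h2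
    exact natCast_ne_zero_of_lt (by omega) (by omega) h2

/-- A pair with the translation is good when it generates a primitive group and the product does
not have `p`-power order. -/
theorem good_of_primitive (hp : p.Prime) (hp3 : 3 ≤ p) (hb : 1 ≤ b) (hR : R = p ^ b) [NeZero R]
    (v : Perm (ZMod R)) {k : ℕ} (hv : v ^ p ^ k = 1)
    (hord : ¬ ∃ j : ℕ, orderOf (Equiv.addRight (1 : ZMod R) * v) = p ^ j)
    (hprim : IsPreprimitive (closure ({Equiv.addRight (1 : ZMod R), v} : Set (Perm (ZMod R))))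
      (ZMod R)) :
    Good p (Equiv.addRight (1 : ZMod R)) v := by
  refine ⟨hord, fun hs => ?_⟩
  haveI := hs
  obtain ⟨-, h⟩ := exp_of_solvable_primitive hp hp3 hb hR _ (subset_closure (by simp)) hprim v
    (subset_closure (by simp)) k hv
  obtain ⟨j, -, hj⟩ := (Nat.dvd_prime_pow hp).1
    ((pow_one p).symm ▸ orderOf_dvd_of_pow_eq_one h :
      orderOf (Equiv.addRight (1 : ZMod R) * v) ∣ p ^ 1)
  exact hord ⟨j, hj⟩

theorem not_pow_of_two_orbit {α : Type*} (hp : p.Prime) (hp3 : 3 ≤ p) {q : Perm α} {x y : α}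
    (h1 : q x = y) (h2 : q y = x) (hne : x ≠ y) : ¬ ∃ j : ℕ, orderOf q = p ^ j := by
  rintro ⟨j, hj⟩
  have h : ∀ t, (q ^ (2 * t)) x = x ∧ (q ^ (2 * t + 1)) x = y := fun t => by
    induction t with
    | zero => simp [h1]
    | succ t ih =>
      have e : (q ^ (2 * (t + 1))) x = x := by
        rw [show 2 * (t + 1) = (2 * t + 1) + 1 by omega, pow_succ', Perm.mul_apply, ih.2, h2]
      exact ⟨e, by rw [pow_succ', Perm.mul_apply, e, h1]⟩
  obtain ⟨t, ht⟩ := (hp.odd_of_ne_two (by omega)).pow (n := j)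
  refine hne ?_
  conv_lhs => rw [← Perm.one_apply (α := α) x, ← pow_orderOf_eq_one q, hj, ht]
  exact (h t).2

theorem fin_five_pair : ∀ v : Perm (ZMod 5), v ^ 5 = 1 → v ≠ 1 → ∀ ε : ℤˣ, ∃ σ : Perm (ZMod 5),
    Perm.sign σ = ε ∧ (Equiv.addRight (1 : ZMod 5) * (σ * v * σ⁻¹)) ^ 5 ≠ 1 := by
  decide +kernel

theorem injective_of_list {α : Type*} {m : ℕ} {f : Fin m → α}
    (h : ∀ i j, i < j → f i ≠ f j) : Function.Injective f := by
  intro i j e
  rcases lt_trichotomy i j with hlt | heq | hgt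
  · exact absurd e (h i j hlt)
  · exact heq
  · exact absurd e.symm (h j i hgt)

/-- Some conjugate of `v` by a permutation of sign `ε` is good with the translation. -/
theorem exists_good_translation (hp : p.Prime) (hp3 : 3 ≤ p) (hb : 1 ≤ b) (hR : R = p ^ b)
    (hR5 : 5 ≤ R) [NeZero R] {v : Perm (ZMod R)} (hv : v ≠ 1) {k : ℕ} (hvk : v ^ p ^ k = 1)
    (ε : ℤˣ) :
    ∃ σ : Perm (ZMod R), Perm.sign σ = ε ∧
      Good p (Equiv.addRight (1 : ZMod R)) (σ * v * σ⁻¹) := by
  classical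
  have hpR : p ∣ R := hR ▸ dvd_pow_self _ (by omega)
  haveI : Fact p.Prime := ⟨hp⟩
  have hσk : ∀ σ : Perm (ZMod R), (σ * v * σ⁻¹) ^ p ^ k = 1 := fun σ => by
    rw [conj_pow, hvk, mul_one, mul_inv_cancel]
  -- it suffices to have the order and a block breaker
  have reduce : ∀ σ : Perm (ZMod R), Perm.sign σ = ε →
      (¬ ∃ j : ℕ, orderOf (Equiv.addRight (1 : ZMod R) * (σ * v * σ⁻¹)) = p ^ j) →
      (b = 1 ∨
        ((σ * v * σ⁻¹) 0 = 1 ∧
          ZMod.castHom hpR (ZMod p) ((σ * v * σ⁻¹) ((p ^ (b - 1) : ℕ) : ZMod R)) ≠ 1) ∨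
        ((σ * v * σ⁻¹) 0 = 2 ∧ (σ * v * σ⁻¹) ((p ^ (b - 1) : ℕ) : ZMod R) =
          ((p ^ (b - 1) : ℕ) : ZMod R))) →
      ∃ σ : Perm (ZMod R), Perm.sign σ = ε ∧
        Good p (Equiv.addRight (1 : ZMod R)) (σ * v * σ⁻¹) := by
    intro σ hσ h1 h2
    refine ⟨σ, hσ, good_of_primitive hp hp3 hb hR _ (hσk σ) h1 ?_⟩
    refine isPreprimitive_of_break hp hp3 hR hpR (subset_closure (by simp)) ?_
    rcases h2 with h2 | h2
    · exact Or.inl h2
    · exact Or.inr ⟨_, subset_closure (by simp), h2⟩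
  have hcardR : Fintype.card (ZMod R) = R := ZMod.card R
  obtain hR5 | hR6 := hR5.eq_or_lt
  · subst hR5
    have hp5 : p = 5 := by
      have h1 : p ∣ 5 := hpR
      exact (Nat.prime_dvd_prime_iff_eq hp (by norm_num)).1 h1
    subst hp5
    have hb1 : b = 1 := Nat.pow_right_injective (le_refl 2 |>.trans (by omega))
      (show 5 ^ b = 5 ^ 1 by rw [← hR, pow_one])
    have hv5 : v ^ 5 = 1 := by
      obtain ⟨j, -, hj⟩ := (Nat.dvd_prime_pow hp).1 (orderOf_dvd_of_pow_eq_one hvk)
      have h2 : orderOf v ∣ 120 := by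
        have h := orderOf_dvd_card (x := v)
        rwa [Fintype.card_perm, hcardR] at h
      rw [hj] at h2
      have hj1 : j ≤ 1 := by
        by_contra h
        have : (5 : ℕ) ^ 2 ∣ 120 := (pow_dvd_pow 5 (by omega)).trans h2
        norm_num at this
      rw [← orderOf_dvd_iff_pow_eq_one, hj]
      exact (pow_dvd_pow 5 hj1).trans (by norm_num)
    obtain ⟨σ, hσ, hne⟩ := fin_five_pair v hv5 hv ε
    refine reduce σ hσ ?_ (Or.inl hb1)
    rintro ⟨j, hj⟩
    refine hne ?_
    have h2 : (5 : ℕ) ^ j ∣ 120 := by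
      rw [← hj]
      have h := orderOf_dvd_card (x := Equiv.addRight (1 : ZMod 5) * (σ * v * σ⁻¹))
      rwa [Fintype.card_perm, hcardR] at h
    have hj1 : j ≤ 1 := by
      by_contra h
      have : (5 : ℕ) ^ 2 ∣ 120 := (pow_dvd_pow 5 (by omega)).trans h2
      norm_num at this
    exact orderOf_dvd_iff_pow_eq_one.1
      ((hj ▸ (pow_dvd_pow 5 hj1).trans (by norm_num) :
        orderOf (Equiv.addRight (1 : ZMod 5) * (σ * v * σ⁻¹)) ∣ 5))
  have n1 : (1 : ZMod R) ≠ 0 := by simpa using natCast_ne_zero_of_lt (R := R) (t := 1) (by omega) (by omega)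
  have n2 : (2 : ZMod R) ≠ 0 := by simpa using natCast_ne_zero_of_lt (R := R) (t := 2) (by omega) (by omega)
  have n3 : (3 : ZMod R) ≠ 0 := by simpa using natCast_ne_zero_of_lt (R := R) (t := 3) (by omega) (by omega)
  set π := ZMod.castHom hpR (ZMod p)
  have hR9 : b ≠ 1 → 9 ≤ R := fun h => by
    have h1 : p ^ 2 ≤ R := hR ▸ Nat.pow_le_pow_right hp.pos (by omega)
    have h2 : 3 ^ 2 ≤ p ^ 2 := Nat.pow_le_pow_left hp3 2
    omega
  set s : ZMod R := ((p ^ (b - 1) : ℕ) : ZMod R)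
  have hs : b ≠ 1 → π s = 0 := fun h => by
    rw [map_natCast, ZMod.natCast_eq_zero_iff]
    exact dvd_pow_self _ (by omega)
  have hp1 : (1 : ZMod p) ≠ 0 := one_ne_zero
  have hp2 : (2 : ZMod p) ≠ 0 := by simpa using natCast_ne_zero_of_lt (R := p) (t := 2) (by omega) (by omega)
  have h21 : (2 : ZMod p) ≠ 1 := fun h => hp1 (by linear_combination h)
  by_cases hsupp : 4 ≤ v.support.card
  · obtain ⟨x, u, he⟩ := exists_edges hsupp
    have q01 : (0 : ZMod R) ≠ 1 := n1.symm
    have q02 : (0 : ZMod R) ≠ 2 := n2.symm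
    have q03 : (0 : ZMod R) ≠ -1 := fun h => n1 (by linear_combination h)
    have q12 : (1 : ZMod R) ≠ 2 := fun h => n1 (by linear_combination -h)
    have q13 : (1 : ZMod R) ≠ -1 := fun h => n2 (by linear_combination h)
    have q23 : (2 : ZMod R) ≠ -1 := fun h => n3 (by linear_combination h)
    have ht : Function.Injective ![(0 : ZMod R), 1, 2, -1] := by
      refine List.nodup_ofFn.1 ?_
      simp [q01, q02, q03, q12, q13, q23]
    have finish : ∀ σ : Perm (ZMod R), Perm.sign σ = ε → σ x = 0 → σ (v x) = 1 → σ u = 2 →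
        σ (v u) = -1 → (b = 1 ∨ π ((σ * v * σ⁻¹) s) ≠ 1) →
        ∃ σ : Perm (ZMod R), Perm.sign σ = ε ∧
          Good p (Equiv.addRight (1 : ZMod R)) (σ * v * σ⁻¹) := by
      intro σ hσ e0 e1 e2 e3 hb'
      have v0 : (σ * v * σ⁻¹) 0 = 1 := by rw [← e0, conj_apply, e1]
      have v2 : (σ * v * σ⁻¹) 2 = -1 := by rw [← e2, conj_apply, e3]
      refine reduce σ hσ (not_pow_of_two_orbit hp hp3 (x := (0 : ZMod R)) (y := 2) ?_ ?_ n2.symm)
        (hb'.imp id fun h => Or.inl ⟨v0, h⟩)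
      · rw [Perm.mul_apply, v0]; exact one_add_one_eq_two
      · rw [Perm.mul_apply, v2]; exact neg_add_cancel 1
    by_cases hb1 : b = 1
    · have hp7 : 7 ≤ R := by
        rw [hb1, pow_one] at hR
        by_contra h
        have h6 : p = 6 := by omega
        exact absurd (h6 ▸ hp) (by norm_num)
      obtain ⟨σ, hσ, hσ'⟩ := exists_map_sign (m := 4) (by omega) ⟨_, he⟩ ⟨_, ht⟩ ε
      exact finish σ hσ (hσ' 0) (hσ' 1) (hσ' 2) (hσ' 3) (Or.inl hb1)
    have h9 := hR9 hb1
    have hlt : 2 * p ^ (b - 1) < R := by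
      have h1 : R = p ^ (b - 1) * p := by rw [hR, ← pow_succ, show b - 1 + 1 = b by omega]
      rw [h1, mul_comm]
      exact Nat.mul_lt_mul_of_pos_left (by omega) (pow_pos hp.pos _)
    have s0 : s ≠ 0 := natCast_ne_zero_of_lt (pow_pos hp.pos _) (by omega)
    have s2 : s + s ≠ 0 := by
      have := natCast_ne_zero_of_lt (R := R) (t := 2 * p ^ (b - 1))
        (Nat.mul_pos (by omega) (pow_pos hp.pos _)) hlt
      rw [Nat.cast_mul, Nat.cast_ofNat, two_mul] at this
      exact this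
    have hsπ := hs hb1
    obtain ⟨e, he'⟩ : ∃ e, e ∉ Finset.univ.image ![x, v x, u, v u] := by
      by_contra h
      push Not at h
      have := (Finset.card_le_card (fun y _ => h y : (Finset.univ : Finset (ZMod R)) ⊆ _)).trans
        Finset.card_image_le
      simp only [Finset.card_univ, Fintype.card_fin] at this
      omega
    simp only [Finset.mem_image, Finset.mem_univ, true_and, not_exists] at he'
    have hπne : ∀ a z : ZMod R, π a ≠ 0 → π z = 0 → a ≠ z := fun a z ha hz h => ha (h ▸ hz)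
    have π1 : π 1 ≠ 0 := by rw [map_one]; exact hp1
    have π2 : π 2 ≠ 0 := by rw [map_ofNat]; exact hp2
    have π3 : π (-1) ≠ 0 := by rw [map_neg, map_one]; exact neg_ne_zero.2 hp1
    have hπss : π (s + s) = 0 := by rw [map_add, hsπ, add_zero]
    have r0 : (0 : ZMod R) ≠ s := s0.symm
    have r1 := hπne 1 s π1 hsπ
    have r2 := hπne 2 s π2 hsπ
    have r3 := hπne (-1) s π3 hsπ
    have t0 : (0 : ZMod R) ≠ s + s := s2.symm
    have t1 := hπne 1 (s + s) π1 hπss
    have t2 := hπne 2 (s + s) π2 hπss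
    have t3 := hπne (-1) (s + s) π3 hπss
    have t4 : s ≠ s + s := fun h => s0 (by linear_combination -h)
    have ht5 : Function.Injective ![(0 : ZMod R), 1, 2, -1, s] := by
      refine List.nodup_ofFn.1 ?_
      simp [q01, q02, q03, q12, q13, q23, r0, r1, r2, r3]
    have k0 : x ≠ e := he' 0
    have k1 : v x ≠ e := he' 1
    have k2 : u ≠ e := he' 2
    have k3 : v u ≠ e := he' 3
    have g01 : x ≠ v x := he.ne (show (0 : Fin 4) ≠ 1 by decide)
    have g02 : x ≠ u := he.ne (show (0 : Fin 4) ≠ 2 by decide)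
    have g03 : x ≠ v u := he.ne (show (0 : Fin 4) ≠ 3 by decide)
    have g12 : v x ≠ u := he.ne (show (1 : Fin 4) ≠ 2 by decide)
    have g13 : v x ≠ v u := he.ne (show (1 : Fin 4) ≠ 3 by decide)
    have g23 : u ≠ v u := he.ne (show (2 : Fin 4) ≠ 3 by decide)
    have hes : Function.Injective ![x, v x, u, v u, e] := by
      refine List.nodup_ofFn.1 ?_
      simp [g01, g02, g03, g12, g13, g23, k0, k1, k2, k3]
    by_cases hfresh : v e = e ∨ v e = x ∨ v e = u
    · obtain ⟨σ, hσ, hσ'⟩ := exists_map_sign (m := 5) (by omega) ⟨_, hes⟩ ⟨_, ht5⟩ ε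
      refine finish σ hσ (hσ' 0) (hσ' 1) (hσ' 2) (hσ' 3) (Or.inr ?_)
      rw [show s = σ e from (hσ' 4).symm, conj_apply]
      rcases hfresh with h | h | h <;> rw [h]
      · rw [show σ e = s from hσ' 4, hsπ]; exact hp1.symm
      · rw [show σ x = 0 from hσ' 0, map_zero]; exact hp1.symm
      · rw [show σ u = 2 from hσ' 2, map_ofNat]; exact h21
    simp only [not_or] at hfresh
    obtain ⟨f1, f2, f3⟩ := hfresh
    have hve : Function.Injective ![x, v x, u, v u, e, v e] := by
      refine List.nodup_ofFn.1 ?_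
      simp [g01, g02, g03, g12, g13, g23, k0, k1, k2, k3, Ne.symm f1, Ne.symm f2, Ne.symm f3,
        v.injective.ne k0, v.injective.ne k2]
    have ht6 : Function.Injective ![(0 : ZMod R), 1, 2, -1, s, s + s] := by
      refine List.nodup_ofFn.1 ?_
      simp [q01, q02, q03, q12, q13, q23, r0, r1, r2, r3, t0, t1, t2, t3, t4]
    obtain ⟨σ, hσ, hσ'⟩ := exists_map_sign (m := 6) (by omega) ⟨_, hve⟩ ⟨_, ht6⟩ ε
    refine finish σ hσ (hσ' 0) (hσ' 1) (hσ' 2) (hσ' 3) (Or.inr ?_)
    rw [show s = σ e from (hσ' 4).symm, conj_apply, show σ (v e) = s + s from hσ' 5, map_add, hsπ,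
      add_zero]
    exact hp1.symm
  have h3 : v.support.card = 3 := by
    have h1 := Perm.two_le_card_support_of_ne_one hv
    by_contra h
    obtain ⟨j, -, hj⟩ := (Nat.dvd_prime_pow hp).1 (orderOf_dvd_of_pow_eq_one hvk)
    have h2 : orderOf v = 2 := (Perm.card_support_eq_two.1 (by omega)).orderOf
    rw [h2] at hj
    rcases Nat.eq_zero_or_pos j with rfl | hj0
    · simp at hj
    · have : p ∣ 2 := hj ▸ dvd_pow_self _ (by omega)
      have := Nat.le_of_dvd (by omega) this
      omega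
  have h3c : Perm.IsThreeCycle v := card_support_eq_three_iff.1 h3
  have hp3' : p = 3 := by
    obtain ⟨j, -, hj⟩ := (Nat.dvd_prime_pow hp).1 (orderOf_dvd_of_pow_eq_one hvk)
    rw [h3c.orderOf] at hj
    rcases Nat.eq_zero_or_pos j with rfl | hj0
    · simp at hj
    · exact (Nat.prime_dvd_prime_iff_eq hp Nat.prime_three).1 (hj ▸ dvd_pow_self _ (by omega))
  have hb1 : b ≠ 1 := fun h => by rw [h, pow_one] at hR; omega
  have h9 := hR9 hb1
  obtain ⟨x, hx⟩ := Finset.card_pos.1 (by omega : 0 < v.support.card)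
  have hx' := Perm.mem_support.1 hx
  have hv3 : v (v (v x)) = x := by
    have h := pow_orderOf_eq_one v
    rw [h3c.orderOf] at h
    exact DFunLike.congr_fun h x
  have hne1 : v (v x) ≠ v x := fun h => hx' (v.injective h)
  have hne2 : v (v x) ≠ x := fun h => hx' (by rw [h] at hv3; exact hv3)
  have hinj := CfsgLib.Perm.ProductFixed.injective_three hx'.symm hne2.symm hne1.symm
  have hsupp3 : ∀ y, y ∈ v.support → y = x ∨ y = v x ∨ y = v (v x) := by
    have hsub : ({x, v x, v (v x)} : Finset (ZMod R)) ⊆ v.support := by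
      simp only [Finset.insert_subset_iff, Finset.singleton_subset_iff, Perm.apply_mem_support]
      exact ⟨hx, hx, hx⟩
    have heq := Finset.eq_of_subset_of_card_le hsub
      (by rw [h3, Finset.card_eq_three.2 ⟨_, _, _, hx'.symm, hne2.symm, hne1.symm, rfl⟩])
    intro y hy
    rw [← heq] at hy
    simpa using hy
  have ht : Function.Injective ![(0 : ZMod R), 2, 1] := by
    refine CfsgLib.Perm.ProductFixed.injective_three (fun h => n2 h.symm) (fun h => n1 h.symm) ?_
    exact fun h => n1 (by linear_combination h)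
  obtain ⟨σ, hσ, hσ'⟩ := exists_map_sign (m := 3) (by omega) ⟨_, hinj⟩ ⟨_, ht⟩ ε
  have e0 : σ x = 0 := hσ' 0
  have e1 : σ (v x) = 2 := hσ' 1
  have e2 : σ (v (v x)) = 1 := hσ' 2
  have v0 : (σ * v * σ⁻¹) 0 = 2 := by rw [← e0, conj_apply, e1]
  have v2 : (σ * v * σ⁻¹) 2 = 1 := by rw [← e1, conj_apply, e2]
  have v1 : (σ * v * σ⁻¹) 1 = 0 := by rw [← e2, conj_apply, hv3, e0]
  have vfix : ∀ y, y ≠ 0 → y ≠ 1 → y ≠ 2 → (σ * v * σ⁻¹) y = y := by
    intro y y0 y1 y2
    obtain ⟨z, rfl⟩ := σ.surjective y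
    rw [conj_apply]
    congr 1
    by_contra hz
    rcases hsupp3 z (Perm.mem_support.2 hz) with rfl | rfl | rfl
    · exact y0 e0
    · exact y2 e1
    · exact y1 e2
  have hsπ := hs hb1
  refine reduce σ hσ ?_ (Or.inr (Or.inr ⟨v0, vfix s ?_ ?_ ?_⟩))
  · rintro ⟨j, hj⟩
    set q := Equiv.addRight (1 : ZMod R) * (σ * v * σ⁻¹)
    have hfix : q.supportᶜ = {1, 2} := by
      ext y
      simp only [Finset.mem_compl, Perm.mem_support, not_not, Finset.mem_insert,
        Finset.mem_singleton]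
      rw [show q y = (σ * v * σ⁻¹) y + 1 from rfl]
      constructor
      · intro h
        by_contra hy
        simp only [not_or] at hy
        by_cases hy0 : y = 0
        · subst hy0
          rw [v0] at h
          exact n3 (by linear_combination h)
        · rw [vfix y hy0 hy.1 hy.2] at h
          exact n1 (by linear_combination h)
      · rintro (rfl | rfl)
        · rw [v1, zero_add]
        · rw [v2]; exact one_add_one_eq_two
    have h1 := Perm.card_compl_support_modEq (p := p) (n := j) (σ := q) (hj ▸ pow_orderOf_eq_one q)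
    rw [hfix, Finset.card_pair (fun h => n1 (by linear_combination -h)), hcardR] at h1
    have h2 : R % p = 0 := Nat.mod_eq_zero_of_dvd hpR
    rw [Nat.ModEq, h2, Nat.mod_eq_of_lt (by omega)] at h1
    omega
  · exact natCast_ne_zero_of_lt (pow_pos hp.pos _)
      (hR ▸ Nat.pow_lt_pow_right hp.one_lt (by omega))
  · intro h
    have := congrArg π h
    rw [hsπ, map_one] at this
    exact hp1 this.symm
  · intro h
    have := congrArg π h
    rw [hsπ, map_ofNat] at this
    exact hp2 this.symm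

end CfsgLib.Perm.FreePair
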