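import Mathlib
import Cfsg.Agent.Lib.Perm.FreePairBase

/-!
# Good pairs of elements of order three in degree five and six
-/

set_option autoImplicit false

namespace CfsgLib.Perm.FreePair

open Equiv Subgroup

def threeA5 : Perm (Fin 5) := swap 0 1 * swap 1 2
def threeA6 : Perm (Fin 6) := swap 0 1 * swap 1 2
def threeB6 : Perm (Fin 6) := swap 0 1 * swap 1 2 * (swap 3 4 * swap 4 5)

theorem class5 : ∀ x : Perm (Fin 5), x ^ 3 = 1 → x ≠ 1 →
    ∃ π : Perm (Fin 5), x = π * threeA5 * π⁻¹ := by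
  intro x h3 h1
  refine (isConj_iff.1 ?_).imp fun π h => h.symm
  rw [Perm.isConj_iff_cycleType_eq]
  revert x
  decide +kernel

theorem class6 : ∀ x : Perm (Fin 6), x ^ 3 = 1 → x ≠ 1 →
    (∃ π : Perm (Fin 6), x = π * threeA6 * π⁻¹) ∨ ∃ π : Perm (Fin 6), x = π * threeB6 * π⁻¹ := by
  intro x h3 h1
  suffices h : x.cycleType = threeA6.cycleType ∨ x.cycleType = threeB6.cycleType by
    refine h.imp ?_ ?_ <;> intro h' <;>
      exact (isConj_iff.1 (Perm.isConj_iff_cycleType_eq.2 h'.symm)).imp fun π e => e.symm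
  revert x
  decide +kernel

/-- The sign adjustment. -/
theorem good_signs {n : ℕ} {r s t k : Perm (Fin n)} (hk : Perm.sign k = -1) (hks : k * s = s * k)
    (h : Good 3 r (t * s * t⁻¹)) (π ρ : Perm (Fin n)) (ε : ℤˣ) :
    ∃ σ : Perm (Fin n), Perm.sign σ = ε ∧
      Good 3 (π * r * π⁻¹) (σ * (ρ * s * ρ⁻¹) * σ⁻¹) := by
  have hg : ∀ τ : Perm (Fin n), τ * s * τ⁻¹ = t * s * t⁻¹ →
      Good 3 (π * r * π⁻¹) ((π * τ * ρ⁻¹) * (ρ * s * ρ⁻¹) * (π * τ * ρ⁻¹)⁻¹) := fun τ hτ => by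
    have e : (π * τ * ρ⁻¹) * (ρ * s * ρ⁻¹) * (π * τ * ρ⁻¹)⁻¹ = π * (t * s * t⁻¹) * π⁻¹ := by
      rw [← hτ]; group
    rw [e]
    exact good_conj h π
  by_cases hs : Perm.sign (π * t * ρ⁻¹) = ε
  · exact ⟨_, hs, hg t rfl⟩
  refine ⟨π * (t * k) * ρ⁻¹, ?_, hg (t * k) (by
    rw [show t * k * s * (t * k)⁻¹ = t * (k * s * k⁻¹) * t⁻¹ by group, hks, mul_inv_cancel_right])⟩
  simp only [map_mul, hk] at hs ⊢
  rcases Int.units_eq_one_or ε with rfl | rfl
  · have := (Int.units_eq_one_or (Perm.sign π * Perm.sign t * Perm.sign ρ⁻¹)).resolve_left hs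
    rw [show Perm.sign π * (Perm.sign t * -1) * Perm.sign ρ⁻¹ =
      -(Perm.sign π * Perm.sign t * Perm.sign ρ⁻¹) by simp, this, neg_neg]
  · have := (Int.units_eq_one_or (Perm.sign π * Perm.sign t * Perm.sign ρ⁻¹)).resolve_right hs
    rw [show Perm.sign π * (Perm.sign t * -1) * Perm.sign ρ⁻¹ =
      -(Perm.sign π * Perm.sign t * Perm.sign ρ⁻¹) by simp, this]

theorem mem_pair_left {G : Type*} [Group G] (x y : G) : x ∈ closure ({x, y} : Set G) :=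
  subset_closure (by simp)

theorem mem_pair_right {G : Type*} [Group G] (x y : G) : y ∈ closure ({x, y} : Set G) :=
  subset_closure (by simp)

theorem not_three_pow {G : Type*} [Group G] {x : G} (q : ℕ) (hq : q.Coprime 3)
    (h : x ^ q = 1) (hne : x ≠ 1) : ¬ ∃ k : ℕ, orderOf x = 3 ^ k := by
  rintro ⟨k, hk⟩
  have h1 : orderOf x = 1 :=
    Nat.eq_one_of_dvd_coprimes (hq.pow_right k) (orderOf_dvd_of_pow_eq_one h) (hk ▸ dvd_refl _)
  exact hne (orderOf_eq_one_iff.1 h1)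

def t5 : Perm (Fin 5) := swap 1 3 * swap 2 4
def t6A : Perm (Fin 6) := swap 1 3 * swap 2 4
def t6AB : Perm (Fin 6) := swap 2 3
def t6BB : Perm (Fin 6) := swap 2 3 * swap 4 5

theorem good5 : Good 3 threeA5 (t5 * threeA5 * t5⁻¹) := by
  have ha := mem_pair_left threeA5 (t5 * threeA5 * t5⁻¹)
  have hb := mem_pair_right threeA5 (t5 * threeA5 * t5⁻¹)
  refine ⟨not_three_pow 5 (by norm_num) (by decide +kernel) (by decide +kernel), ?_⟩
  refine not_isSolvable_of_two_three_five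
    (threeA5⁻¹ * (t5 * threeA5 * t5⁻¹)⁻¹ * threeA5⁻¹ * (t5 * threeA5 * t5⁻¹))
    (t5 * threeA5 * t5⁻¹)⁻¹
    (mul_mem (mul_mem (mul_mem (inv_mem ha) (inv_mem hb)) (inv_mem ha)) hb) (inv_mem hb)
    ?_ ?_ ?_ ?_ <;> decide +kernel

theorem good6AA : Good 3 threeA6 (t6A * threeA6 * t6A⁻¹) := by
  have ha := mem_pair_left threeA6 (t6A * threeA6 * t6A⁻¹)
  have hb := mem_pair_right threeA6 (t6A * threeA6 * t6A⁻¹)
  refine ⟨not_three_pow 5 (by norm_num) (by decide +kernel) (by decide +kernel), ?_⟩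
  refine not_isSolvable_of_two_three_five
    (threeA6⁻¹ * (t6A * threeA6 * t6A⁻¹)⁻¹ * threeA6⁻¹ * (t6A * threeA6 * t6A⁻¹))
    (t6A * threeA6 * t6A⁻¹)⁻¹
    (mul_mem (mul_mem (mul_mem (inv_mem ha) (inv_mem hb)) (inv_mem ha)) hb) (inv_mem hb)
    ?_ ?_ ?_ ?_ <;> decide +kernel

theorem good6AB : Good 3 threeA6 (t6AB * threeB6 * t6AB⁻¹) := by
  have ha := mem_pair_left threeA6 (t6AB * threeB6 * t6AB⁻¹)
  have hb := mem_pair_right threeA6 (t6AB * threeB6 * t6AB⁻¹)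
  refine ⟨not_three_pow 4 (by norm_num) (by decide +kernel) (by decide +kernel), ?_⟩
  refine not_isSolvable_of_two_three_five
    (threeA6⁻¹ * (t6AB * threeB6 * t6AB⁻¹)⁻¹ * threeA6⁻¹ * (t6AB * threeB6 * t6AB⁻¹)⁻¹)
    threeA6⁻¹
    (mul_mem (mul_mem (mul_mem (inv_mem ha) (inv_mem hb)) (inv_mem ha)) (inv_mem hb)) (inv_mem ha)
    ?_ ?_ ?_ ?_ <;> decide +kernel

theorem good6BA : Good 3 threeB6 (t6AB * threeA6 * t6AB⁻¹) := by
  have ha := mem_pair_left threeB6 (t6AB * threeA6 * t6AB⁻¹)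
  have hb := mem_pair_right threeB6 (t6AB * threeA6 * t6AB⁻¹)
  refine ⟨not_three_pow 4 (by norm_num) (by decide +kernel) (by decide +kernel), ?_⟩
  refine not_isSolvable_of_two_three_five
    (threeB6⁻¹ * (t6AB * threeA6 * t6AB⁻¹)⁻¹ * threeB6⁻¹ * (t6AB * threeA6 * t6AB⁻¹)⁻¹)
    threeB6⁻¹
    (mul_mem (mul_mem (mul_mem (inv_mem ha) (inv_mem hb)) (inv_mem ha)) (inv_mem hb)) (inv_mem ha)
    ?_ ?_ ?_ ?_ <;> decide +kernel

theorem good6BB : Good 3 threeB6 (t6BB * threeB6 * t6BB⁻¹) := by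
  have ha := mem_pair_left threeB6 (t6BB * threeB6 * t6BB⁻¹)
  have hb := mem_pair_right threeB6 (t6BB * threeB6 * t6BB⁻¹)
  refine ⟨not_three_pow 5 (by norm_num) (by decide +kernel) (by decide +kernel), ?_⟩
  refine not_isSolvable_of_two_three_five
    (threeB6⁻¹ * (t6BB * threeB6 * t6BB⁻¹)⁻¹ * threeB6⁻¹ * (t6BB * threeB6 * t6BB⁻¹))
    (t6BB * threeB6 * t6BB⁻¹)⁻¹
    (mul_mem (mul_mem (mul_mem (inv_mem ha) (inv_mem hb)) (inv_mem ha)) hb) (inv_mem hb)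
    ?_ ?_ ?_ ?_ <;> decide +kernel

/-- Degree five and six. -/
theorem exists_good_small {m : ℕ} (hm : m = 5 ∨ m = 6) {x y : Perm (Fin m)} (hx : x ^ 3 = 1)
    (hx1 : x ≠ 1) (hy : y ^ 3 = 1) (hy1 : y ≠ 1) (ε : ℤˣ) :
    ∃ σ : Perm (Fin m), Perm.sign σ = ε ∧ Good 3 x (σ * y * σ⁻¹) := by
  rcases hm with rfl | rfl
  · obtain ⟨π, rfl⟩ := class5 x hx hx1
    obtain ⟨ρ, rfl⟩ := class5 y hy hy1
    exact good_signs (k := swap 3 4) (Perm.sign_swap (by decide)) (by decide +kernel) good5 π ρ ε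
  · rcases class6 x hx hx1 with ⟨π, rfl⟩ | ⟨π, rfl⟩ <;>
      rcases class6 y hy hy1 with ⟨ρ, rfl⟩ | ⟨ρ, rfl⟩
    · exact good_signs (k := swap 3 4) (Perm.sign_swap (by decide)) (by decide +kernel) good6AA π ρ ε
    · exact good_signs (k := swap 0 3 * swap 1 4 * swap 2 5) (by decide +kernel) (by decide +kernel)
        good6AB π ρ ε
    · exact good_signs (k := swap 3 4) (Perm.sign_swap (by decide)) (by decide +kernel) good6BA π ρ ε
    · exact good_signs (k := swap 0 3 * swap 1 4 * swap 2 5) (by decide +kernel) (by decide +kernel)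
        good6BB π ρ ε

end CfsgLib.Perm.FreePair
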