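import Mathlib
import Cfsg.Agent.Lib.Perm.FreePairCore
import Cfsg.Agent.Lib.Perm.FreePairSmall

/-!
# Free pairs of `p`-elements in alternating groups

For nontrivial permutations `a, b` of `p`-power order, `p` odd, of at least five points, some
conjugate of `b` by an even permutation forms a good pair with `a`.
-/

set_option autoImplicit false

namespace CfsgLib.Perm.FreePair

open Equiv Subgroup Function

variable {α : Type*} [Fintype α] [DecidableEq α]

/-- Transfer to an invariant set. -/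
theorem good_restrict {β : Type*} {p : ℕ} (hp : p.Prime) {S : Finset α}
    (e : β ≃ {x // x ∈ S}) {a b : Perm α} {A B : Perm β}
    (hA : ∀ k, a (e k) = e (A k)) (hB : ∀ k, b (e k) = e (B k)) (h : Good p A B) : Good p a b := by
  let K : Subgroup (Perm α) :=
    { carrier := {g | ∀ x, g x ∈ S ↔ x ∈ S}
      one_mem' := fun x => Iff.rfl
      mul_mem' := fun {g g'} hg hg' x => (hg (g' x)).trans (hg' x)
      inv_mem' := fun {g} hg x => by
        have := hg (g⁻¹ x)
        rw [← Perm.mul_apply, mul_inv_cancel, Perm.one_apply] at this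
        exact this.symm }
  let f : K →* Perm β :=
    { toFun := fun g => e.symm.permCongr (Perm.subtypePerm (g : Perm α) g.2)
      map_one' := by ext; simp
      map_mul' := fun g g' => by
        ext k
        simp only [Perm.mul_apply, Equiv.permCongr_apply, Equiv.symm_symm, Equiv.apply_symm_apply]
        rfl }
  have mem : ∀ (g : Perm α) (G : Perm β), (∀ k, g (e k) = e (G k)) → g ∈ K := by
    intro g G hG x
    constructor
    · intro hx
      obtain ⟨k, hk⟩ := e.surjective ⟨g x, hx⟩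
      have h1 : g x = g (e (G.symm k)) := by
        rw [hG, Equiv.apply_symm_apply, hk]
      rw [g.injective h1]
      exact (e _).2
    · intro hx
      obtain ⟨k, hk⟩ := e.surjective ⟨x, hx⟩
      have h1 : g x = e (G k) := by rw [← hG, hk]
      rw [h1]
      exact (e _).2
  have img : ∀ (g : Perm α) (G : Perm β) (hG : ∀ k, g (e k) = e (G k)), f ⟨g, mem g G hG⟩ = G := by
    intro g G hG
    ext k
    show e.symm ⟨g (e k), _⟩ = G k
    rw [Equiv.symm_apply_eq]
    exact Subtype.ext (hG k)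
  have hK : Good p (⟨a, mem a A hA⟩ : K) ⟨b, mem b B hB⟩ := by
    refine good_of_hom hp f ?_
    rw [img a A hA, img b B hB]
    exact h
  exact good_map K.subtype K.subtype_injective hK

/-- The conjugation between two invariant sets. -/
theorem exists_good_conj {β : Type*} [Fintype β] [DecidableEq β] {p : ℕ} (hp : p.Prime)
    {S T : Finset α} (eS : β ≃ {x // x ∈ S}) (eT : β ≃ {x // x ∈ T}) {a b : Perm α}
    {A B : Perm β} (hA : ∀ k, a (eS k) = eS (A k)) (hB : ∀ k, b (eT k) = eT (B k))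
    (core : ∀ ε : ℤˣ, ∃ σ : Perm β, Perm.sign σ = ε ∧ Good p A (σ * B * σ⁻¹)) :
    ∃ g ∈ alternatingGroup α, Good p a (g * b * g⁻¹) := by
  set g₀ : Perm α := (eT.symm.trans eS).extendSubtype
  obtain ⟨σ, hσ, hgood⟩ := core (Perm.sign g₀)
  refine ⟨σ.extendDomain eS * g₀, Perm.mem_alternatingGroup.2 ?_,
    good_restrict hp eS hA ?_ hgood⟩
  · rw [map_mul, Perm.sign_extendDomain, hσ, Int.units_mul_self]
  intro k
  have h0 : ∀ j, (σ.extendDomain eS * g₀) (eT j) = eS (σ j) := fun j => by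
    rw [Perm.mul_apply, show g₀ (eT j) = eS j by
      rw [Equiv.extendSubtype_apply_of_mem _ _ (eT j).2]; simp]
    exact Perm.extendDomain_apply_image σ eS j
  set g := σ.extendDomain eS * g₀
  have h1 : g⁻¹ (eS k) = eT (σ⁻¹ k) := by
    rw [Perm.inv_eq_iff_eq, h0]
    simp
  rw [Perm.mul_apply, Perm.mul_apply, h1, hB, h0, Perm.mul_apply, Perm.mul_apply]

/-- Invariant sets. -/
def Inv (a : Perm α) (S : Finset α) : Prop := ∀ x ∈ S, a x ∈ S

/-- The orbit size of a point. -/
noncomputable def per (a : Perm α) (x : α) : ℕ := minimalPeriod a x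

/-- The orbit of a point. -/
noncomputable def orb (a : Perm α) (x : α) : Finset α :=
  (Finset.range (per a x)).image fun i => a^[i] x

variable {a : Perm α}

theorem per_dvd {N : ℕ} (ha : a ^ N = 1) (x : α) : per a x ∣ N := by
  refine IsPeriodicPt.minimalPeriod_dvd ?_
  show a^[N] x = x
  rw [← Perm.coe_pow, ha, Perm.one_apply]

theorem per_pos (a : Perm α) (x : α) : 0 < per a x :=
  Nat.pos_of_dvd_of_pos (per_dvd (pow_orderOf_eq_one a) x) (orderOf_pos a)

theorem card_orb (a : Perm α) (x : α) : (orb a x).card = per a x := by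
  rw [orb, Finset.card_image_of_injOn, Finset.card_range]
  rw [Finset.coe_range]
  exact iterate_injOn_Iio_minimalPeriod

theorem iterate_mem_orb (a : Perm α) (x : α) (i : ℕ) : a^[i] x ∈ orb a x :=
  Finset.mem_image.2 ⟨i % per a x, Finset.mem_range.2 (Nat.mod_lt _ (per_pos a x)),
    iterate_mod_minimalPeriod_eq⟩

theorem inv_orb (a : Perm α) (x : α) : Inv a (orb a x) := by
  intro y hy
  obtain ⟨i, -, rfl⟩ := Finset.mem_image.1 hy
  rw [← iterate_succ_apply' (⇑a) i x]
  exact iterate_mem_orb a x _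

theorem Inv.iterate_mem {S : Finset α} (h : Inv a S) {x : α} (hx : x ∈ S) (i : ℕ) :
    a^[i] x ∈ S := by
  induction i with
  | zero => exact hx
  | succ i ih => rw [iterate_succ_apply']; exact h _ ih

theorem Inv.sdiff {S T : Finset α} (hT : Inv a T) (hS : Inv a S) : Inv a (T \ S) := by
  intro y hy
  rw [Finset.mem_sdiff] at hy ⊢
  refine ⟨hT y hy.1, fun h => hy.2 ?_⟩
  have hsub : S.map a.toEmbedding = S := Finset.eq_of_subset_of_card_le
    (fun z hz => by obtain ⟨w, hw, rfl⟩ := Finset.mem_map.1 hz; exact hS w hw)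
    (by rw [Finset.card_map])
  rw [← hsub, Finset.mem_map] at h
  obtain ⟨w, hw, e⟩ := h
  exact a.injective e ▸ hw

/-- An invariant subset of prescribed cardinality containing a moved point. -/
theorem exists_invariant {p k : ℕ} (hp : p.Prime) (ha : a ^ p ^ k = 1) :
    ∀ (T : Finset α), Inv a T → ∀ m, m ≤ T.card → (∀ x ∈ T, per a x ∣ m) →
      ∃ U : Finset α, Inv a U ∧ U ⊆ T ∧ U.card = m ∧
        (0 < m → (∃ y ∈ T, a y ≠ y) → ∃ z ∈ U, a z ≠ z) := by
  intro T
  induction T using Finset.strongInduction with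
  | H T ih =>
    intro hT m hm hdvd
    rcases Nat.eq_zero_or_pos m with rfl | hm0
    · exact ⟨∅, fun x hx => absurd hx (Finset.notMem_empty _), Finset.empty_subset _, rfl,
        fun h => absurd h (lt_irrefl 0)⟩
    obtain ⟨x, hx, hmax⟩ := Finset.exists_max_image T (per a) (Finset.card_pos.1 (by omega))
    have hle : per a x ≤ m := Nat.le_of_dvd hm0 (hdvd x hx)
    have horb : orb a x ⊆ T := fun y hy => by
      obtain ⟨i, -, rfl⟩ := Finset.mem_image.1 hy
      exact hT.iterate_mem hx i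
    have hd : ∀ y ∈ T, per a y ∣ per a x := fun y hy => by
      obtain ⟨i, -, hi⟩ := (Nat.dvd_prime_pow hp).1 (per_dvd ha x)
      obtain ⟨j, -, hj⟩ := (Nat.dvd_prime_pow hp).1 (per_dvd ha y)
      have := hmax y hy
      rw [hi, hj] at this ⊢
      exact pow_dvd_pow p ((Nat.pow_le_pow_iff_right hp.one_lt).1 this)
    have hxo : x ∈ orb a x := iterate_mem_orb a x 0
    have hss : T \ orb a x ⊂ T := Finset.ssubset_iff_of_subset Finset.sdiff_subset |>.2
      ⟨x, hx, fun h => (Finset.mem_sdiff.1 h).2 hxo⟩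
    obtain ⟨U, hU, hUs, hUc, -⟩ := ih _ hss (hT.sdiff (inv_orb a x)) (m - per a x)
      (by rw [Finset.card_sdiff_of_subset horb, card_orb]; omega)
      (fun y hy => Nat.dvd_sub (hdvd y (Finset.mem_sdiff.1 hy).1) (hd y (Finset.mem_sdiff.1 hy).1))
    refine ⟨orb a x ∪ U, ?_, Finset.union_subset horb (hUs.trans Finset.sdiff_subset), ?_, ?_⟩
    · intro y hy
      rcases Finset.mem_union.1 hy with h | h
      · exact Finset.mem_union_left _ (inv_orb a x y h)
      · exact Finset.mem_union_right _ (hU y h)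
    · rw [Finset.card_union_of_disjoint
        (Finset.disjoint_left.2 fun y hy hy' => (Finset.mem_sdiff.1 (hUs hy')).2 hy), card_orb, hUc]
      omega
    · rintro - ⟨y, hy, hay⟩
      refine ⟨x, Finset.mem_union_left _ hxo, fun h => hay ?_⟩
      have h1 : per a x = 1 := minimalPeriod_eq_one_iff_isFixedPt.2 h
      have h2 : per a y = 1 := Nat.eq_one_of_dvd_one (h1 ▸ hd y hy)
      exact minimalPeriod_eq_one_iff_isFixedPt.1 h2

theorem exists_restrict {β : Type*} {S : Finset α} (e : β ≃ {x // x ∈ S}) (hS : Inv a S) :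
    ∃ A : Perm β, (∀ k, a (e k) = e (A k)) ∧
      (∀ N : ℕ, a ^ N = 1 → A ^ N = 1) ∧ ((∃ z ∈ S, a z ≠ z) → A ≠ 1) := by
  classical
  have hiff : ∀ x, a x ∈ S ↔ x ∈ S := fun x => ⟨fun h => by
    have hsub : S.map a.toEmbedding = S := Finset.eq_of_subset_of_card_le
      (fun z hz => by obtain ⟨w, hw, rfl⟩ := Finset.mem_map.1 hz; exact hS w hw)
      (by rw [Finset.card_map])
    rw [← hsub, Finset.mem_map] at h
    obtain ⟨w, hw, e'⟩ := h
    exact a.injective e' ▸ hw, hS x⟩
  refine ⟨e.symm.permCongr (a.subtypePerm hiff), fun k => ?_, fun N hN => ?_, ?_⟩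
  · simp [Equiv.permCongr_apply]
  · have hpow : ∀ (n : ℕ) k,
        (a ^ n) (e k) = e ((e.symm.permCongr (a.subtypePerm hiff) ^ n) k) := by
      intro n
      induction n with
      | zero => simp
      | succ n ih =>
        intro k
        rw [pow_succ', Perm.mul_apply, ih, pow_succ', Perm.mul_apply]
        simp [Equiv.permCongr_apply]
    ext k
    have := hpow N k
    rw [hN, Perm.one_apply] at this
    exact (e.injective (Subtype.ext this)).symm
  · rintro ⟨z, hz, hne⟩ h
    refine hne ?_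
    have h1 := DFunLike.congr_fun h (e.symm ⟨z, hz⟩)
    simp only [Equiv.permCongr_apply, Equiv.symm_symm, Equiv.apply_symm_apply, Perm.one_apply,
      EmbeddingLike.apply_eq_iff_eq] at h1
    exact congrArg Subtype.val h1

/-- The case where the first permutation has an orbit of largest size. -/
theorem exists_good_of_max {p k l : ℕ} (hp : p.Prime) (hp3 : 3 ≤ p) (hn : 5 ≤ Fintype.card α)
    {a b : Perm α} (ha : a ^ p ^ k = 1) (hb : b ^ p ^ l = 1) (ha1 : a ≠ 1) (hb1 : b ≠ 1)
    (x : α) (hxa : ∀ y, per a y ≤ per a x) (hxb : ∀ y, per b y ≤ per a x) :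
    ∃ g ∈ alternatingGroup α, Good p a (g * b * g⁻¹) := by
  obtain ⟨za, hza⟩ : ∃ z, a z ≠ z := by
    by_contra h
    push Not at h
    exact ha1 (Equiv.ext h)
  obtain ⟨zb, hzb⟩ : ∃ z, b z ≠ z := by
    by_contra h
    push Not at h
    exact hb1 (Equiv.ext h)
  obtain ⟨i, -, hi⟩ := (Nat.dvd_prime_pow hp).1 (per_dvd ha x)
  have hi0 : 1 ≤ i := by
    by_contra h
    have h1 := hxa za
    rw [hi, show i = 0 by omega, pow_zero] at h1
    exact hza (minimalPeriod_eq_one_iff_isFixedPt.1
      (show per a za = 1 from le_antisymm h1 (per_pos a za)))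
  have hdvd : ∀ (c : Perm α) (j : ℕ), c ^ p ^ j = 1 → (∀ y, per c y ≤ per a x) →
      ∀ y, per c y ∣ per a x := fun c j hc hle y => by
    obtain ⟨j', -, hj'⟩ := (Nat.dvd_prime_pow hp).1 (per_dvd hc y)
    have := hle y
    rw [hi, hj'] at this ⊢
    exact pow_dvd_pow p ((Nat.pow_le_pow_iff_right hp.one_lt).1 this)
  have huniv : ∀ c : Perm α, Inv c Finset.univ := fun c y _ => Finset.mem_univ _
  by_cases hR5 : 5 ≤ per a x
  · haveI : NeZero (per a x) := ⟨(per_pos a x).ne'⟩
    obtain ⟨T, hT, -, hTc, hTm⟩ := exists_invariant hp hb Finset.univ (huniv b) (per a x)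
      (by rw [Finset.card_univ, ← card_orb]; exact Finset.card_le_univ _)
      (fun y _ => hdvd b l hb hxb y)
    have eT : ZMod (per a x) ≃ {z // z ∈ T} :=
      Fintype.equivOfCardEq (by rw [ZMod.card, Fintype.card_coe, hTc])
    have eS' : Bijective fun j : ZMod (per a x) =>
        (⟨a^[j.val] x, iterate_mem_orb a x _⟩ : {z // z ∈ orb a x}) := by
      rw [Fintype.bijective_iff_injective_and_card]
      refine ⟨fun j j' h => ZMod.val_injective _ ?_, by rw [ZMod.card, Fintype.card_coe, card_orb]⟩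
      exact iterate_injOn_Iio_minimalPeriod (ZMod.val_lt j) (ZMod.val_lt j')
        (congrArg Subtype.val h)
    obtain ⟨B, hB, hBN, hB1⟩ := exists_restrict eT hT
    refine exists_good_conj hp (Equiv.ofBijective _ eS') eT
      (A := Equiv.addRight (1 : ZMod (per a x))) ?_ hB
      (exists_good_translation hp hp3 hi0 hi hR5
        (hB1 (hTm (per_pos a x) ⟨zb, Finset.mem_univ _, hzb⟩)) (hBN _ hb))
    intro j
    show a (a^[j.val] x) = a^[(j + 1).val] x
    have h1 : a^[(j.val + 1) % per a x] x = a^[j.val + 1] x := iterate_mod_minimalPeriod_eq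
    have h2 : (j + 1).val = (j.val + 1) % per a x := by
      rw [← ZMod.val_natCast, Nat.cast_add, ZMod.natCast_zmod_val, Nat.cast_one]
    rw [h2, h1, iterate_succ_apply']
  -- all orbits have size one or three
  have hp3' : p = 3 ∧ per a x = 3 := by
    have h1 : p ^ 1 ≤ p ^ i := Nat.pow_le_pow_right hp.pos hi0
    have h2 : p ≠ 4 := fun h => absurd (h ▸ hp) (by norm_num)
    have hi1 : i = 1 := by
      by_contra h
      have : p ^ 2 ≤ p ^ i := Nat.pow_le_pow_right hp.pos (by omega)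
      have : 3 ^ 2 ≤ p ^ 2 := Nat.pow_le_pow_left hp3 2
      omega
    subst hi1
    rw [pow_one] at hi h1
    omega
  obtain ⟨rfl, hper⟩ := hp3'
  have hcube : ∀ (c : Perm α) (j : ℕ), c ^ 3 ^ j = 1 → (∀ y, per c y ≤ per a x) → c ^ 3 = 1 :=
    fun c j hc hle => by
      ext y
      rw [Perm.coe_pow, Perm.one_apply]
      obtain ⟨t, ht⟩ := hper ▸ hdvd c j hc hle y
      rw [ht]
      exact (isPeriodicPt_minimalPeriod c y).mul_const t
  have ha3 := hcube a k ha hxa
  have hb3 := hcube b l hb hxb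
  -- a common size five or six
  obtain ⟨m, hm, hsel⟩ : ∃ m, (m = 5 ∨ m = 6) ∧ ∀ (c : Perm α), c ^ 3 = 1 → (∃ z, c z ≠ z) →
      ∃ S : Finset α, Inv c S ∧ S.card = m ∧ ∃ z ∈ S, c z ≠ z := by
    by_cases h6 : 6 ≤ Fintype.card α
    · refine ⟨6, Or.inr rfl, fun c hc ⟨z, hz⟩ => ?_⟩
      obtain ⟨S, hS, -, hSc, hSm⟩ := exists_invariant (p := 3) (k := 1) Nat.prime_three
        (by rwa [pow_one]) Finset.univ (huniv c) 6 (by rw [Finset.card_univ]; exact h6)
        (fun y _ => (per_dvd hc y).trans (by norm_num))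
      exact ⟨S, hS, hSc, hSm (by norm_num) ⟨z, Finset.mem_univ _, hz⟩⟩
    · exact ⟨5, Or.inl rfl, fun c _ ⟨z, hz⟩ => ⟨Finset.univ, huniv c,
        by rw [Finset.card_univ]; omega, z, Finset.mem_univ _, hz⟩⟩
  obtain ⟨S, hS, hSc, hSm⟩ := hsel a ha3 ⟨za, hza⟩
  obtain ⟨T, hT, hTc, hTm⟩ := hsel b hb3 ⟨zb, hzb⟩
  have eS : Fin m ≃ {z // z ∈ S} :=
    Fintype.equivOfCardEq (by rw [Fintype.card_fin, Fintype.card_coe, hSc])
  have eT : Fin m ≃ {z // z ∈ T} :=
    Fintype.equivOfCardEq (by rw [Fintype.card_fin, Fintype.card_coe, hTc])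
  obtain ⟨A, hA, hAN, hA1⟩ := exists_restrict eS hS
  obtain ⟨B, hB, hBN, hB1⟩ := exists_restrict eT hT
  exact exists_good_conj hp eS eT hA hB
    (exists_good_small hm (hAN 3 ha3) (hA1 hSm) (hBN 3 hb3) (hB1 hTm))

/-- Free pairs. -/
theorem exists_good {p k l : ℕ} (hp : p.Prime) (hp3 : 3 ≤ p) (hn : 5 ≤ Fintype.card α)
    {a b : Perm α} (ha : a ^ p ^ k = 1) (hb : b ^ p ^ l = 1) (ha1 : a ≠ 1) (hb1 : b ≠ 1) :
    ∃ g ∈ alternatingGroup α, Good p a (g * b * g⁻¹) := by
  haveI : Nonempty α := Fintype.card_pos_iff.1 (by omega)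
  obtain ⟨x, hx⟩ := Finite.exists_max (per a)
  obtain ⟨y, hy⟩ := Finite.exists_max (per b)
  rcases le_total (per b y) (per a x) with h | h
  · exact exists_good_of_max hp hp3 hn ha hb ha1 hb1 x hx fun z => (hy z).trans h
  · obtain ⟨g, hg, hgood⟩ :=
      exists_good_of_max hp hp3 hn hb ha hb1 ha1 y hy fun z => (hx z).trans h
    refine ⟨g⁻¹, inv_mem hg, good_symm ?_⟩
    have := good_conj hgood g⁻¹
    rwa [inv_inv, show g⁻¹ * (g * a * g⁻¹) * g = a by group] at this

end CfsgLib.Perm.FreePair
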