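import Mathlib.Combinatorics.Enumerative.Bell
import Mathlib.Algebra.BigOperators.ModEq
import Mathlib.Data.Nat.Prime.Factorial
import Mathlib.Data.Nat.Choose.Lucas
import Mathlib.Data.Nat.Choose.Factorization
import Mathlib.Tactic

/-!
Binomial coefficients and block partition numbers with no small prime divisors, as needed for the
Hall subgroups of symmetric groups.
-/

set_option autoImplicit false

namespace CfsgLib.Perm.HallArith

open Nat Finset

theorem coprime_of {C x : ℕ} (h : ∀ p, p.Prime → p ∣ x → ¬p ∣ C) : Nat.Coprime C x :=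
  Nat.coprime_of_dvd fun p hp hC hx => h p hp hx hC

theorem prime_le_of_not_prime {x c p : ℕ} (hx : 0 < x) (hnp : ¬x.Prime) (h : x ≤ 2 * c)
    (hp : p.Prime) (hpx : p ∣ x) : p ≤ c := by
  obtain ⟨k, rfl⟩ := hpx
  rcases Nat.lt_or_ge k 2 with hk | hk
  · interval_cases k
    · simp at hx
    · exact absurd (by rwa [mul_one]) hnp
  · nlinarith

/-- If the prime divisors of `c + 1` do not divide `(c + d).choose d` then `d > c`. -/
theorem succ_false {c d : ℕ} (hd : 1 ≤ d) (hdc : d ≤ c)
    (h : ∀ p, p.Prime → p ∣ c + 1 → ¬p ∣ (c + d).choose d) : False := by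
  have h1 := Nat.choose_succ_right_eq (c + d) (d - 1)
  rw [Nat.sub_add_cancel hd, show c + d - (d - 1) = c + 1 by omega] at h1
  have h2 : c + 1 ∣ (c + d).choose d * d := ⟨(c + d).choose (d - 1), by rw [h1, mul_comm]⟩
  have := Nat.le_of_dvd hd ((coprime_of h).symm.dvd_of_dvd_mul_left h2)
  omega

/-- The odd numbers following an even number `c`. -/
def oddProd (c m : ℕ) : ℕ := ∏ i ∈ Finset.range m, (c + 2 * i + 1)

theorem asc_split (h m : ℕ) :
    (2 * h + 1).ascFactorial (2 * m) = oddProd (2 * h) m * 2 ^ m * (h + 1).ascFactorial m := by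
  induction m with
  | zero => simp [oddProd]
  | succ m ih =>
    rw [show 2 * (m + 1) = 2 * m + 1 + 1 by ring, Nat.ascFactorial_succ, Nat.ascFactorial_succ, ih,
      oddProd, oddProd, Finset.prod_range_succ, Nat.ascFactorial_succ, pow_succ]
    ring

theorem asc_mono {a b : ℕ} (hab : a < b) : ∀ {k : ℕ}, k ≠ 0 →
    a.ascFactorial k < b.ascFactorial k := by
  intro k
  induction k with
  | zero => exact fun h => absurd rfl h
  | succ k ih =>
    intro _
    rw [Nat.ascFactorial_succ, Nat.ascFactorial_succ]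
    rcases Nat.eq_zero_or_pos k with rfl | hk
    · simpa using hab
    · exact Nat.mul_lt_mul_of_lt_of_lt (by omega) (ih hk.ne')

/-- A binomial coefficient with no prime divisor at most `2h`. -/
theorem large_false {h m : ℕ} (hm : 2 ≤ m) (hmh : m < h)
    (hC : ∀ p, p.Prime → p ≤ 2 * h → ¬p ∣ (2 * h + (2 * m - 1)).choose (2 * m - 1)) : False := by
  set d := 2 * m - 1 with hd
  set C := (2 * h + d).choose d with hCdef
  have hasc : (2 * h + 1).ascFactorial (2 * m) = d ! * C * (2 * h + 2 * m) := by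
    rw [show 2 * m = d + 1 by omega, Nat.ascFactorial_succ, Nat.ascFactorial_eq_factorial_mul_choose,
      show 2 * h + 1 + d = 2 * h + (d + 1) by omega]
    ring
  have hsplit := asc_split h m
  rw [hasc] at hsplit
  set E := (h + 1).ascFactorial m with hE
  have hcE : Nat.Coprime C (2 ^ m * E) := by
    refine Nat.Coprime.mul_right (Nat.Coprime.pow_right _ (coprime_of fun p hp hp2 => ?_)) ?_
    · exact hC p hp (by have := Nat.le_of_dvd two_pos hp2; omega)
    · rw [hE, Nat.ascFactorial_eq_prod_range]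
      refine Nat.Coprime.prod_right fun i hi => coprime_of fun p hp hpi => hC p hp ?_
      have := Nat.le_of_dvd (by omega) hpi
      have := Finset.mem_range.1 hi
      omega
  have hCO : C ∣ oddProd (2 * h) m := by
    refine hcE.dvd_of_dvd_mul_right ⟨d ! * (2 * h + 2 * m), ?_⟩
    linarith
  -- the odd part of `m!`
  set M := m ! / 2 ^ (m !).factorization 2 with hM
  have hM2 : Nat.Coprime M 2 := (Nat.coprime_ordCompl Nat.prime_two (Nat.factorial_ne_zero m)).symm
  have hMdvd : M ∣ m ! := Nat.ordCompl_dvd _ _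
  have hMO : M ∣ oddProd (2 * h) m := by
    have hodd : Odd M := Nat.coprime_two_right.1 hM2
    obtain ⟨k, hk⟩ := hodd
    have hX : ∀ i, 2 * h + 2 * i + 1 ≡ 2 * (h + k + 1 + i) [MOD M] := by
      intro i
      have : 2 * (h + k + 1 + i) = 2 * h + 2 * i + 1 + M := by omega
      rw [this]
      exact (Nat.ModEq.symm (by simp [Nat.ModEq]))
    have h1 : oddProd (2 * h) m ≡ 2 ^ m * (h + k + 1).ascFactorial m [MOD M] := by
      rw [Nat.ascFactorial_eq_prod_range]
      have : 2 ^ m * ∏ i ∈ Finset.range m, (h + k + 1 + i) =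
          ∏ i ∈ Finset.range m, 2 * (h + k + 1 + i) := by
        rw [Finset.prod_mul_distrib, Finset.prod_const, Finset.card_range]
      rw [this]
      exact Nat.ModEq.prod fun i _ => hX i
    exact (Nat.ModEq.dvd_iff h1 dvd_rfl).2 (hMdvd.trans ((Nat.factorial_dvd_ascFactorial _ _).mul_left _))
  have hCM : Nat.Coprime C M := coprime_of fun p hp hpM => hC p hp (by
    have := (Nat.Prime.dvd_factorial hp).1 (hpM.trans hMdvd)
    omega)
  have hOpos : 0 < oddProd (2 * h) m := Finset.prod_pos fun i _ => by omega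
  have h1 : C * M ≤ oddProd (2 * h) m := Nat.le_of_dvd hOpos (hCM.mul_dvd_of_dvd_of_dvd hCO hMO)
  have hv : (m !).factorization 2 ≤ m - 1 := by
    have h1 : (m !).factorization 2 < m := by
      rw [Nat.factorization_def _ Nat.prime_two]
      exact padicValNat_factorial_lt_of_ne_zero 2 (by omega)
    omega
  have h2 : C * m ! ≤ 2 ^ (m - 1) * oddProd (2 * h) m := by
    calc C * m ! = 2 ^ (m !).factorization 2 * (C * M) := by
          conv_lhs => rw [← Nat.ordProj_mul_ordCompl_eq_self (m !) 2]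
          rw [hM]; ring
      _ ≤ 2 ^ (m - 1) * oddProd (2 * h) m :=
          Nat.mul_le_mul (Nat.pow_le_pow_right two_pos hv) h1
  obtain ⟨m', rfl⟩ : ∃ m', m = m' + 1 := ⟨m - 1, by omega⟩
  rw [show m' + 1 - 1 = m' by omega] at h2
  have h3 : E = (h + 1 + m') * (h + 1).ascFactorial m' := Nat.ascFactorial_succ ..
  have h4 : (m' + 1)! * (h + 1).ascFactorial m' ≤ d ! := by
    have hCpos : 0 < C := Nat.choose_pos (by omega)
    suffices hsuff : 2 * C * (h + 1 + m') * ((m' + 1)! * (h + 1).ascFactorial m') ≤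
        2 * C * (h + 1 + m') * d ! from Nat.le_of_mul_le_mul_left hsuff (by positivity)
    calc 2 * C * (h + 1 + m') * ((m' + 1)! * (h + 1).ascFactorial m')
        = 2 * E * (C * (m' + 1)!) := by rw [h3]; ring
      _ ≤ 2 * E * (2 ^ m' * oddProd (2 * h) (m' + 1)) := Nat.mul_le_mul_left _ h2
      _ = oddProd (2 * h) (m' + 1) * 2 ^ (m' + 1) * E := by ring
      _ = 2 * C * (h + 1 + m') * d ! := by rw [← hsplit]; ring
  have h5 : (m' + 1)! * (m' + 1 + 1).ascFactorial m' = d ! := by
    rw [Nat.factorial_mul_ascFactorial]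
    congr 1
    omega
  have h6 := asc_mono (show m' + 1 + 1 < h + 1 by omega) (show m' ≠ 0 by omega)
  have h7 := Nat.mul_lt_mul_of_pos_left h6 (Nat.factorial_pos (m' + 1))
  omega

/-- The middle binomial coefficient has an odd prime divisor at most `c`. -/
theorem central {h : ℕ} (hh : 2 ≤ h)
    (hC : ∀ p, p.Prime → p ≤ 2 * h → ¬p ∣ (4 * h - 1).choose (2 * h - 1)) : h = 2 := by
  set N := 4 * h - 1 with hN
  set C := N.choose (2 * h - 1) with hCdef
  have e1 := Nat.choose_succ_right_eq N (2 * h - 2)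
  have e2 := Nat.choose_succ_right_eq N (2 * h - 3)
  rw [show 2 * h - 2 + 1 = 2 * h - 1 by omega, show N - (2 * h - 2) = 2 * h + 1 by omega, ← hCdef] at e1
  rw [show 2 * h - 3 + 1 = 2 * h - 2 by omega, show N - (2 * h - 3) = 2 * (h + 1) by omega] at e2
  have hd : h + 1 ∣ C * ((2 * h - 1) * (2 * h - 2)) := ⟨N.choose (2 * h - 3) * 2 * (2 * h + 1), by
    calc C * ((2 * h - 1) * (2 * h - 2)) = (N.choose (2 * h - 2) * (2 * h - 2)) * (2 * h + 1) := by
          rw [← mul_assoc, e1]; ring
      _ = _ := by rw [e2]; ring⟩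
  have hco : Nat.Coprime C (h + 1) := coprime_of fun p hp hph => hC p hp (by
    have := Nat.le_of_dvd (by omega) hph
    omega)
  have h2 := hco.symm.dvd_of_dvd_mul_left hd
  have h12 : h + 1 ∣ 12 := by
    obtain ⟨k, hk⟩ := h2
    have h3 : ((h + 1 : ℕ) : ℤ) ∣ 12 := ⟨(k : ℤ) - (4 * h - 10), by
      have hk' := congrArg (Nat.cast : ℕ → ℤ) hk
      push_cast [Nat.cast_sub (show 1 ≤ 2 * h by omega), Nat.cast_sub (show 2 ≤ 2 * h by omega)] at hk' ⊢
      linarith⟩
    exact_mod_cast h3
  have := Nat.le_of_dvd (by norm_num) h12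
  have h11 : h ≤ 11 := by omega
  have hC2 : ¬2 ∣ (4 * h - 1).choose (2 * h - 1) := hC 2 Nat.prime_two (by omega)
  have key : ∀ n k : ℕ, 2 ∣ n.descFactorial k / k ! → 2 ∣ n.choose k := fun n k hnk => by
    rwa [Nat.choose_eq_descFactorial_div_factorial]
  interval_cases h
  all_goals first
    | rfl
    | exact absurd h12 (by decide)
    | exact absurd (key _ _ (by decide +kernel)) hC2

/-- All primes at most `c` avoid `(c + d).choose d`: only a prime `c + 1` or `4 + 3`. -/
theorem small_split {c d : ℕ} (hc : 2 ≤ c) (hd : 1 ≤ d) (hdc : d ≤ c)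
    (hC : ∀ p, p.Prime → p ≤ c → ¬p ∣ (c + d).choose d) :
    (d = 1 ∧ (c + 1).Prime) ∨ (c = 4 ∧ d = 3) := by
  have hc1 : (c + 1).Prime := by
    by_contra hnp
    exact succ_false hd hdc fun p hp hpx =>
      hC p hp (prime_le_of_not_prime (by omega) hnp (by omega) hp hpx)
  rcases Nat.lt_or_ge 1 d with hd2 | hd2
  swap
  · exact Or.inl ⟨by omega, hc1⟩
  right
  obtain ⟨h, rfl⟩ : ∃ h, c = 2 * h := by
    rcases hc1.eq_two_or_odd with h | h
    · omega
    · exact ⟨c / 2, by omega⟩
  have hdodd : d % 2 = 1 := by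
    by_contra hde
    have h1 : (2 * h + d).choose d * d = (2 * h + d) * (2 * h + d - 1).choose (d - 1) := by
      have := Nat.add_one_mul_choose_eq (2 * h + d - 1) (d - 1)
      rw [Nat.sub_add_cancel (by omega : 1 ≤ 2 * h + d), Nat.sub_add_cancel (by omega : 1 ≤ d)] at this
      exact this.symm
    have hco : Nat.Coprime ((2 * h + d).choose d) (2 * h + d) := coprime_of fun p hp hpx =>
      hC p hp (prime_le_of_not_prime (by omega) (fun hP => by
        rcases hP.eq_two_or_odd with h' | h' <;> omega) (by omega) hp hpx)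
    have := Nat.le_of_dvd (by omega) (hco.symm.dvd_of_dvd_mul_left ⟨_, h1⟩)
    omega
  obtain ⟨m, rfl⟩ : ∃ m, d = 2 * m - 1 := ⟨d / 2 + 1, by omega⟩
  rcases Nat.lt_or_ge m h with hmh | hmh
  · exact (large_false (by omega) hmh hC).elim
  obtain rfl : m = h := by omega
  rw [show 2 * m + (2 * m - 1) = 4 * m - 1 by omega] at hC
  obtain rfl := central (by omega) hC
  simp

theorem choose_pred_mul {p x y : ℕ} (hp : p.Prime) (hx : 0 < x) (hy : 0 < y) :
    (p * x - 1).choose (p * y - 1) ≡ (x - 1).choose (y - 1) [MOD p] := by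
  have := Fact.mk hp
  have hp1 := hp.one_lt
  have e : ∀ z, 0 < z → p * z - 1 = p - 1 + p * (z - 1) := fun z hz => by
    obtain ⟨z, rfl⟩ : ∃ w, z = w + 1 := ⟨z - 1, by omega⟩
    rw [Nat.mul_succ, Nat.add_sub_cancel]; omega
  refine (Choose.choose_modEq_choose_mod_mul_choose_div_nat (p := p)).trans ?_
  rw [e x hx, e y hy, Nat.add_mul_mod_self_left, Nat.add_mul_mod_self_left,
    Nat.add_mul_div_left _ _ hp.pos, Nat.add_mul_div_left _ _ hp.pos,
    Nat.mod_eq_of_lt (by omega : p - 1 < p), Nat.div_eq_of_lt (by omega : p - 1 < p)]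
  simp [Nat.ModEq.refl]

theorem choose_pred_pow_mul {p x y : ℕ} (hp : p.Prime) (hx : 0 < x) (hy : 0 < y) : ∀ j : ℕ,
    (p ^ j * x - 1).choose (p ^ j * y - 1) ≡ (x - 1).choose (y - 1) [MOD p]
  | 0 => by simp [Nat.ModEq.refl]
  | j + 1 => by
    rw [pow_succ', mul_assoc, mul_assoc]
    exact (choose_pred_mul hp (by have := hp.pos; positivity) (by have := hp.pos; positivity)).trans
      (choose_pred_pow_mul hp hx hy j)

/-- A prime at most the number of blocks divides the number of partitions unless the block size is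
a power of it. -/
theorem pow_of_not_dvd {p a b : ℕ} (hp : p.Prime) (ha : 0 < a) (hpb : p ≤ b)
    (h : ¬p ∣ Nat.uniformBell b a) : ∃ j, a = p ^ j := by
  have := Fact.mk hp
  obtain ⟨j, m, hm, rfl⟩ := Nat.exists_eq_pow_mul_and_not_dvd ha.ne' p hp.ne_one
  by_contra hne
  have hm0 : 0 < m := Nat.pos_of_ne_zero fun h0 => hm (h0 ▸ dvd_zero p)
  have hm1 : m ≠ 1 := fun h1 => hne ⟨j, by rw [h1, mul_one]⟩
  have hp1 := hp.one_lt
  -- a good index
  obtain ⟨i, hi1, hi, hdvd⟩ : ∃ i, 1 ≤ i ∧ i ≤ p ∧ p ∣ (i * m - 1).choose (m - 1) := by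
    set r := m % p with hr
    have hr0 : r ≠ 0 := fun h0 => hm (Nat.dvd_of_mod_eq_zero h0)
    have hrlt : r < p := Nat.mod_lt _ hp.pos
    by_cases hr1 : r = 1
    · refine ⟨p, hp.one_le, le_rfl, ?_⟩
      set c := m / p with hc
      have hmc : m = 1 + p * c := by rw [← hr1, hr, hc]; exact (Nat.mod_add_div m p).symm
      have hc0 : 0 < c := Nat.pos_of_ne_zero fun h0 => hm1 (by rw [hmc, h0]; simp)
      have h1 : (p * m - 1).choose (m - 1) ≡ (p * c).choose c [MOD p] := by
        refine (Choose.choose_modEq_choose_mod_mul_choose_div_nat (p := p)).trans ?_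
        rw [show p * m - 1 = p - 1 + p * (p * c) by rw [hmc, Nat.mul_add, mul_one]; omega,
          show m - 1 = p * c by omega, Nat.mul_mod_right, Nat.mul_div_cancel_left _ hp.pos,
          Nat.add_mul_div_left _ _ hp.pos, Nat.div_eq_of_lt (by omega : p - 1 < p)]
        simp [Nat.ModEq.refl]
      refine (Nat.ModEq.dvd_iff h1 dvd_rfl).2 ⟨(p * c - 1).choose (c - 1), ?_⟩
      have h2 := Nat.add_one_mul_choose_eq (p * c - 1) (c - 1)
      have : 0 < p * c := by positivity
      rw [Nat.sub_add_cancel (by omega : 1 ≤ p * c), Nat.sub_add_cancel hc0] at h2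
      exact Nat.eq_of_mul_eq_mul_right hc0 (by rw [← h2]; ring)
    · obtain ⟨i, hip, hi⟩ := Nat.exists_mul_mod_eq_one_of_coprime
        ((hp.coprime_iff_not_dvd.2 hm).symm) hp1
      have hi0 : 1 ≤ i := Nat.pos_of_ne_zero fun h0 => by simp [h0] at hi
      refine ⟨i, hi0, hip.le, ?_⟩
      have h1 := Choose.choose_modEq_choose_mod_mul_choose_div_nat (n := i * m - 1) (k := m - 1) (p := p)
      have hl : (i * m - 1) % p = 0 := by
        rw [← Nat.mod_add_div (i * m) p, show i * m % p = 1 by rw [mul_comm]; exact hi,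
          Nat.add_sub_cancel_left, Nat.mul_mod_right]
      have hl' : (m - 1) % p = r - 1 := by
        rw [show m - 1 = r - 1 + p * (m / p) by have := Nat.mod_add_div m p; omega,
          Nat.add_mul_mod_self_left, Nat.mod_eq_of_lt (by omega)]
      rw [hl, hl', Nat.choose_eq_zero_of_lt (by omega : 0 < r - 1), zero_mul] at h1
      exact Nat.modEq_zero_iff_dvd.1 h1
  apply h
  rw [Nat.uniformBell_eq]
  refine Dvd.dvd.trans ?_ (Finset.dvd_prod_of_mem _ (Finset.mem_range.2 (show i - 1 < b by omega)))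
  obtain ⟨i, rfl⟩ : ∃ w, i = w + 1 := ⟨i - 1, by omega⟩
  rw [Nat.add_sub_cancel, show i * (p ^ j * m) + p ^ j * m = p ^ j * ((i + 1) * m) by ring]
  exact (Nat.ModEq.dvd_iff (choose_pred_pow_mul hp (by positivity) hm0 j) dvd_rfl).2 hdvd

theorem uniformBell_two {a : ℕ} : Nat.uniformBell 2 a = (2 * a - 1).choose (a - 1) := by
  rw [Nat.uniformBell_eq, Finset.prod_range_succ, Finset.prod_range_succ, Finset.prod_range_zero]
  simp [← two_mul]

end CfsgLib.Perm.HallArith
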