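import Mathlib.GroupTheory.GroupAction.Jordan
import Mathlib.GroupTheory.GroupAction.Primitive
import Mathlib.GroupTheory.SpecificGroups.Alternating
import Mathlib.Tactic

/-!
A primitive group of degree at least nine with a Klein four-group on four letters contains the
alternating group.
-/

set_option autoImplicit false

namespace CfsgLib.Perm.HallQuad

open Equiv
open scoped Pointwise

variable {α : Type*} [Fintype α] [DecidableEq α]

/-- The three double transpositions on `Q` lie in `H`. -/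
def IsQuad (H : Subgroup (Perm α)) (Q : Finset α) : Prop :=
  Q.card = 4 ∧ ∀ a b c e, a ∈ Q → b ∈ Q → c ∈ Q → e ∈ Q →
    a ≠ b → a ≠ c → a ≠ e → b ≠ c → b ≠ e → c ≠ e → swap a b * swap c e ∈ H

theorem IsQuad.image {H : Subgroup (Perm α)} {Q : Finset α} (hQ : IsQuad H Q) {g : Perm α}
    (hg : g ∈ H) : IsQuad H (Q.image g) := by
  refine ⟨by rw [Finset.card_image_of_injective _ g.injective]; exact hQ.1, ?_⟩
  simp only [Finset.mem_image]
  rintro _ _ _ _ ⟨a, ha, rfl⟩ ⟨b, hb, rfl⟩ ⟨c, hc, rfl⟩ ⟨e, he, rfl⟩ hab hac hae hbc hbe hce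
  have h := H.mul_mem (H.mul_mem hg (hQ.2 a b c e ha hb hc he (fun h => hab (by rw [h]))
    (fun h => hac (by rw [h])) (fun h => hae (by rw [h])) (fun h => hbc (by rw [h]))
    (fun h => hbe (by rw [h])) (fun h => hce (by rw [h])))) (H.inv_mem hg)
  rwa [show g * (swap a b * swap c e) * g⁻¹ = (g * swap a b * g⁻¹) * (g * swap c e * g⁻¹) by group,
    ← Equiv.swap_apply_apply, ← Equiv.swap_apply_apply] at h

omit [Fintype α] in
theorem swap_swap_comm {a b c e : α} (hac : a ≠ c) (hae : a ≠ e) (hbc : b ≠ c) (hbe : b ≠ e) :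
    swap a b * swap c e = swap c e * swap a b := by
  ext x
  simp only [Perm.mul_apply, swap_apply_def]
  grind

variable {H : Subgroup (Perm α)}

/-- Without three-cycles two quads meet evenly. -/
theorem inter_even (h3 : ∀ g ∈ H, ¬g.IsThreeCycle) {Q R : Finset α} (hQ : IsQuad H Q)
    (hR : IsQuad H R) : (Q ∩ R).card = 0 ∨ (Q ∩ R).card = 2 ∨ (Q ∩ R).card = 4 := by
  have hle : (Q ∩ R).card ≤ 4 := hQ.1 ▸ Finset.card_le_card Finset.inter_subset_left
  have h1 : (Q ∩ R).card ≠ 1 := by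
    intro h1
    have hq : (Q \ R).card = 3 := by have := Finset.card_sdiff_add_card_inter Q R; rw [hQ.1] at this; omega
    have hr : (R \ Q).card = 3 := by
      have := Finset.card_sdiff_add_card_inter R Q; rw [hR.1, Finset.inter_comm] at this; omega
    obtain ⟨a, ha⟩ := Finset.card_eq_one.1 h1
    obtain ⟨b, c, e, hbc, hbe, hce, hbce⟩ := Finset.card_eq_three.1 hq
    obtain ⟨f, g, k, hfg, hfk, hgk, hfgk⟩ := Finset.card_eq_three.1 hr
    obtain ⟨haQ, haR⟩ := Finset.mem_inter.1 (ha ▸ Finset.mem_singleton_self a : a ∈ Q ∩ R)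
    have hmemQ : ∀ x ∈ ({b, c, e} : Finset α), x ∈ Q ∧ x ∉ R := fun x hx => Finset.mem_sdiff.1 (hbce ▸ hx)
    have hmemR : ∀ x ∈ ({f, g, k} : Finset α), x ∈ R ∧ x ∉ Q := fun x hx => Finset.mem_sdiff.1 (hfgk ▸ hx)
    obtain ⟨hbQ, hbR⟩ := hmemQ b (by simp)
    obtain ⟨hcQ, hcR⟩ := hmemQ c (by simp)
    obtain ⟨heQ, heR⟩ := hmemQ e (by simp)
    obtain ⟨hfR, hfQ⟩ := hmemR f (by simp)
    obtain ⟨hgR, hgQ⟩ := hmemR g (by simp)
    obtain ⟨hkR, hkQ⟩ := hmemR k (by simp)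
    have ne : ∀ {x y : α} {S : Finset α}, x ∈ S → y ∉ S → x ≠ y := fun hx hy h => hy (h ▸ hx)
    have hab : a ≠ b := ne haR hbR
    have hac : a ≠ c := ne haR hcR
    have hae : a ≠ e := ne haR heR
    have haf : a ≠ f := ne haQ hfQ
    have hag : a ≠ g := ne haQ hgQ
    have hak : a ≠ k := ne haQ hkQ
    set x := swap a b * swap c e with hxdef
    have hx : x ∈ H := hQ.2 a b c e haQ hbQ hcQ heQ hab hac hae hbc hbe hce
    have hy : swap a f * swap g k ∈ H := hR.2 a f g k haR hfR hgR hkR haf hag hak hfg hfk hgk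
    have hmem := H.mul_mem (H.mul_mem (H.mul_mem hx hy) (H.inv_mem hx)) hy
    have hxa : x a = b := by simp [hxdef, swap_apply_of_ne_of_ne hac hae]
    have hfix : ∀ z ∉ Q, x z = z := fun z hz => by
      simp [hxdef, swap_apply_of_ne_of_ne (ne hcQ hz).symm (ne heQ hz).symm,
        swap_apply_of_ne_of_ne (ne haQ hz).symm (ne hbQ hz).symm]
    rw [show x * (swap a f * swap g k) * x⁻¹ = (x * swap a f * x⁻¹) * (x * swap g k * x⁻¹) by group,
      ← Equiv.swap_apply_apply, ← Equiv.swap_apply_apply, hxa, hfix f hfQ, hfix g hgQ, hfix k hkQ,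
      swap_swap_comm hag hak hfg hfk, mul_assoc, ← mul_assoc (swap g k), swap_mul_self, one_mul,
      swap_comm b f, swap_comm a f] at hmem
    exact h3 _ hmem (Perm.isThreeCycle_swap_mul_swap_same (ne hbQ hfQ).symm haf.symm hab.symm)
  have h3' : (Q ∩ R).card ≠ 3 := by
    intro h1
    have hq : (Q \ R).card = 1 := by have := Finset.card_sdiff_add_card_inter Q R; rw [hQ.1] at this; omega
    have hr : (R \ Q).card = 1 := by
      have := Finset.card_sdiff_add_card_inter R Q; rw [hR.1, Finset.inter_comm] at this; omega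
    obtain ⟨e, he⟩ := Finset.card_eq_one.1 hq
    obtain ⟨f, hf⟩ := Finset.card_eq_one.1 hr
    obtain ⟨a, b, c, hab, hac, hbc, habc⟩ := Finset.card_eq_three.1 h1
    have hmem' : ∀ x ∈ ({a, b, c} : Finset α), x ∈ Q ∧ x ∈ R := fun x hx => Finset.mem_inter.1 (habc ▸ hx)
    obtain ⟨haQ, haR⟩ := hmem' a (by simp)
    obtain ⟨hbQ, hbR⟩ := hmem' b (by simp)
    obtain ⟨hcQ, hcR⟩ := hmem' c (by simp)
    obtain ⟨heQ, heR⟩ := Finset.mem_sdiff.1 (he ▸ Finset.mem_singleton_self e : e ∈ Q \ R)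
    obtain ⟨hfR, hfQ⟩ := Finset.mem_sdiff.1 (hf ▸ Finset.mem_singleton_self f : f ∈ R \ Q)
    have ne : ∀ {x y : α} {S : Finset α}, x ∈ S → y ∉ S → x ≠ y := fun hx hy h => hy (h ▸ hx)
    have hx := hQ.2 a b c e haQ hbQ hcQ heQ hab hac (ne haR heR) hbc (ne hbR heR) (ne hcR heR)
    have hy := hR.2 a b c f haR hbR hcR hfR hab hac (ne haQ hfQ) hbc (ne hbQ hfQ) (ne hcQ hfQ)
    have hmem := H.mul_mem hx hy
    rw [swap_swap_comm hac (ne haR heR) hbc (ne hbR heR), mul_assoc, ← mul_assoc (swap a b),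
      swap_mul_self, one_mul] at hmem
    exact h3 _ hmem (Perm.isThreeCycle_swap_mul_swap_same (ne hcR heR) (ne hcQ hfQ) (ne heQ hfQ))
  omega

/-- Rudio's separation, for a finite set and a subgroup. -/
theorem exists_sep (hH : MulAction.IsPreprimitive H α) {A : Finset α} (hA : A.Nonempty)
    (hA' : A ≠ Finset.univ) {a b : α} (hab : a ≠ b) :
    ∃ g ∈ H, a ∈ A.image g ∧ b ∉ A.image g := by
  have := hH
  obtain ⟨g, hga, hgb⟩ := MulAction.IsPreprimitive.exists_mem_smul_and_notMem_smul (G := H)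
    (A.finite_toSet) (by simpa using hA) (by simpa using hA') hab
  refine ⟨g, g.2, ?_, ?_⟩
  · obtain ⟨x, hx, rfl⟩ := hga
    exact Finset.mem_image_of_mem _ hx
  · intro hb
    obtain ⟨x, hx, rfl⟩ := Finset.mem_image.1 hb
    exact hgb ⟨x, hx, rfl⟩

/-- No proper set containing a quad is a union of translates or disjoint from each. -/
theorem closed_false (hH : MulAction.IsPreprimitive H α) {Q W : Finset α} {a b : α} (haQ : a ∈ Q)
    (hbQ : b ∈ Q) (hab : a ≠ b) (hQW : Q ⊆ W) (hW : W ≠ Finset.univ)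
    (hcl : ∀ g ∈ H, (Q.image g ∩ W).Nonempty → Q.image g ⊆ W) : False := by
  obtain ⟨g, hg, hga, hgb⟩ := exists_sep hH ⟨a, hQW haQ⟩ hW hab
  obtain ⟨x, hx, hxa⟩ := Finset.mem_image.1 hga
  refine hgb (Finset.mem_image.2 ⟨g⁻¹ b, ?_, by simp⟩)
  refine hcl g⁻¹ (H.inv_mem hg) ⟨x, Finset.mem_inter.2 ⟨?_, hx⟩⟩ (Finset.mem_image_of_mem _ hbQ)
  exact Finset.mem_image.2 ⟨a, haQ, by rw [← hxa]; simp⟩

omit [Fintype α] in
theorem card_inter_image {k : ℕ} {ι : Fin k → α} (hι : Function.Injective ι) (S : Finset α)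
    (I : Finset (Fin k)) :
    (S ∩ I.image ι).card = (I.filter fun i => decide (ι i ∈ S)).card := by
  rw [← Finset.card_image_of_injective _ hι]
  congr 1
  ext x
  simp only [Finset.mem_inter, Finset.mem_image, Finset.mem_filter, decide_eq_true_eq]
  constructor
  · rintro ⟨hxS, i, hi, rfl⟩
    exact ⟨i, ⟨hi, hxS⟩, rfl⟩
  · rintro ⟨i, ⟨hi, hiS⟩, rfl⟩
    exact ⟨hiS, i, hi, rfl⟩

omit [Fintype α] [DecidableEq α] in
theorem injective_seven {a b c d e f g : α} (hab : a ≠ b) (hac : a ≠ c) (had : a ≠ d) (hae : a ≠ e) (haf : a ≠ f) (hag : a ≠ g) (hbc : b ≠ c) (hbd : b ≠ d) (hbe : b ≠ e) (hbf : b ≠ f) (hbg : b ≠ g) (hcd : c ≠ d) (hce : c ≠ e) (hcf : c ≠ f) (hcg : c ≠ g) (hde : d ≠ e) (hdf : d ≠ f) (hdg : d ≠ g) (hef : e ≠ f) (heg : e ≠ g) (hfg : f ≠ g) :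
    Function.Injective ![a, b, c, d, e, f, g] := by
  intro i j hij
  fin_cases i <;> fin_cases j <;> simp_all

/-- The three generating words. -/
def Word (t : Fin 7 → Bool) : Prop :=
  (({0, 1, 2, 3} : Finset (Fin 7)).filter fun i => t i).card % 2 = 0 ∧
  (({0, 1, 4, 5} : Finset (Fin 7)).filter fun i => t i).card % 2 = 0 ∧
  (({0, 2, 4, 6} : Finset (Fin 7)).filter fun i => t i).card % 2 = 0

instance (t : Fin 7 → Bool) : Decidable (Word t) := by unfold Word; infer_instance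

theorem code_seven : ∀ t : Fin 7 → Bool, Word t →
    let k := (Finset.univ.filter fun i => t i).card
    k = 0 ∨ k = 3 ∨ k = 4 ∨ k = 7 := by
  decide +kernel

theorem code_eight : ∀ t : Fin 7 → Bool, Word t → (Finset.univ.filter fun i => t i).card = 3 →
    ∀ s : Fin 8 → Bool, Word (fun i => s i.castSucc) →
      ((Finset.univ.filter fun i : Fin 7 => t i && s i.castSucc).card + (s 7).toNat) % 2 = 0 →
      let k := (Finset.univ.filter fun i => s i).card
      k = 0 ∨ k = 4 ∨ k = 8 := by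
  decide +kernel

set_option maxHeartbeats 2000000 in
/-- A primitive group of degree at least nine containing a Klein four-group moving four letters. -/
theorem alternatingGroup_le_of_quad (hH : MulAction.IsPreprimitive H α) (hn : 9 ≤ Fintype.card α)
    {Q : Finset α} (hQ : IsQuad H Q) : alternatingGroup α ≤ H := by
  by_contra hA
  have h3 : ∀ g ∈ H, ¬g.IsThreeCycle := fun g hg hg3 =>
    hA (Perm.alternatingGroup_le_of_isPreprimitive_of_isThreeCycle_mem hH hg3 hg)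
  have huniv : ∀ W : Finset α, W.card ≤ 8 → W ≠ Finset.univ := fun W hW h => by
    rw [h, Finset.card_univ] at hW
    omega
  have heven := fun {A B : Finset α} (hA : IsQuad H A) (hB : IsQuad H B) => inter_even h3 hA hB
  obtain ⟨u₀, v₀, hu₀, hv₀, huv₀⟩ := Finset.one_lt_card_iff.1 (show 1 < Q.card by rw [hQ.1]; norm_num)
  obtain ⟨g₁, hg₁, hu₁, hv₁⟩ := exists_sep hH ⟨u₀, hu₀⟩ (huniv Q (by rw [hQ.1]; norm_num)) huv₀
  set Q₁ := Q.image g₁ with hQ₁def
  have hQ₁ : IsQuad H Q₁ := hQ.image hg₁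
  have h01 : (Q ∩ Q₁).card = 2 := by
    rcases heven hQ hQ₁ with h | h | h
    · rw [Finset.card_eq_zero] at h
      exact absurd (Finset.mem_inter.2 ⟨hu₀, hu₁⟩) (by rw [h]; simp)
    · exact h
    · have := Finset.eq_of_subset_of_card_le (Finset.inter_subset_left : Q ∩ Q₁ ⊆ Q) (by rw [hQ.1, h])
      exact absurd (Finset.mem_inter.1 (this.symm.subset hv₀ : v₀ ∈ Q ∩ Q₁)).2 hv₁
  obtain ⟨p₁, p₂, hp12, hp⟩ := Finset.card_eq_two.1 h01
  obtain ⟨hp₁Q, hp₁R⟩ := Finset.mem_inter.1 (hp ▸ Finset.mem_insert_self p₁ {p₂} : p₁ ∈ Q ∩ Q₁)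
  obtain ⟨hp₂Q, hp₂R⟩ := Finset.mem_inter.1
    (hp ▸ Finset.mem_insert_of_mem (Finset.mem_singleton_self p₂) : p₂ ∈ Q ∩ Q₁)
  obtain ⟨g₂, hg₂, h1R, h2R⟩ := exists_sep hH ⟨u₀, hu₀⟩ (huniv Q (by rw [hQ.1]; norm_num)) hp12
  set R := Q.image g₂ with hRdef
  have hR : IsQuad H R := hQ.image hg₂
  have hcard2 : ∀ A, IsQuad H A → p₁ ∈ A → p₂ ∈ A → (A ∩ R).card = 2 := fun A hA hp₁A hp₂A => by
    rcases heven hA hR with h | h | h
    · rw [Finset.card_eq_zero] at h
      exact absurd (Finset.mem_inter.2 ⟨hp₁A, h1R⟩) (by rw [h]; simp)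
    · exact h
    · have := Finset.eq_of_subset_of_card_le (Finset.inter_subset_left : A ∩ R ⊆ A) (by rw [hA.1, h])
      exact absurd (Finset.mem_inter.1 (this.symm.subset hp₂A : p₂ ∈ A ∩ R)).2 h2R
  -- the seven points
  obtain ⟨x, hx⟩ := Finset.card_eq_one.1 (show ((Q ∩ R).erase p₁).card = 1 by
    rw [Finset.card_erase_of_mem (Finset.mem_inter.2 ⟨hp₁Q, h1R⟩), hcard2 Q hQ hp₁Q hp₂Q])
  obtain ⟨y, hy⟩ := Finset.card_eq_one.1 (show ((Q₁ ∩ R).erase p₁).card = 1 by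
    rw [Finset.card_erase_of_mem (Finset.mem_inter.2 ⟨hp₁R, h1R⟩), hcard2 Q₁ hQ₁ hp₁R hp₂R])
  obtain ⟨hxp, hxQ, hxR⟩ : x ≠ p₁ ∧ x ∈ Q ∧ x ∈ R := by
    have := hx ▸ Finset.mem_singleton_self x
    simp only [Finset.mem_erase, Finset.mem_inter] at this
    exact ⟨this.1, this.2.1, this.2.2⟩
  obtain ⟨hyp, hyQ, hyR⟩ : y ≠ p₁ ∧ y ∈ Q₁ ∧ y ∈ R := by
    have := hy ▸ Finset.mem_singleton_self y
    simp only [Finset.mem_erase, Finset.mem_inter] at this
    exact ⟨this.1, this.2.1, this.2.2⟩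
  have hxp2 : x ≠ p₂ := fun h => h2R (h ▸ hxR)
  have hyp2 : y ≠ p₂ := fun h => h2R (h ▸ hyR)
  have hinQ : ∀ z, z ∈ Q → z ∈ Q₁ → z = p₁ ∨ z = p₂ := fun z h h' => by
    have := hp ▸ Finset.mem_inter.2 ⟨h, h'⟩
    simpa using this
  have hxQ₁ : x ∉ Q₁ := fun h => (hinQ x hxQ h).elim hxp hxp2
  have hyQ₀ : y ∉ Q := fun h => (hinQ y h hyQ).elim hyp hyp2
  obtain ⟨x', hx'⟩ := Finset.card_eq_one.1 (show (Q \ {p₁, p₂, x}).card = 1 by
    rw [Finset.card_sdiff_of_subset (by simp [Finset.insert_subset_iff, hp₁Q, hp₂Q, hxQ]), hQ.1,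
      Finset.card_eq_three.2 ⟨p₁, p₂, x, hp12, hxp.symm, hxp2.symm, rfl⟩])
  obtain ⟨y', hy'⟩ := Finset.card_eq_one.1 (show (Q₁ \ {p₁, p₂, y}).card = 1 by
    rw [Finset.card_sdiff_of_subset (by simp [Finset.insert_subset_iff, hp₁R, hp₂R, hyQ]), hQ₁.1,
      Finset.card_eq_three.2 ⟨p₁, p₂, y, hp12, hyp.symm, hyp2.symm, rfl⟩])
  obtain ⟨r, hr⟩ := Finset.card_eq_one.1 (show (R \ {p₁, x, y}).card = 1 by
    rw [Finset.card_sdiff_of_subset (by simp [Finset.insert_subset_iff, h1R, hxR, hyR]), hR.1,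
      Finset.card_eq_three.2 ⟨p₁, x, y, hxp.symm, hyp.symm, fun h => hxQ₁ (h ▸ hyQ), rfl⟩])
  obtain ⟨hx'Q, hx'1, hx'2, hx'x⟩ : x' ∈ Q ∧ x' ≠ p₁ ∧ x' ≠ p₂ ∧ x' ≠ x := by
    have := hx' ▸ Finset.mem_singleton_self x'
    simpa [not_or] using this
  obtain ⟨hy'Q, hy'1, hy'2, hy'y⟩ : y' ∈ Q₁ ∧ y' ≠ p₁ ∧ y' ≠ p₂ ∧ y' ≠ y := by
    have := hy' ▸ Finset.mem_singleton_self y'
    simpa [not_or] using this
  obtain ⟨hrR, hr1, hrx, hry⟩ : r ∈ R ∧ r ≠ p₁ ∧ r ≠ x ∧ r ≠ y := by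
    have := hr ▸ Finset.mem_singleton_self r
    simpa [not_or] using this
  have hrQ : r ∉ Q := fun h => hrx (by
    have := hx ▸ Finset.mem_erase.2 ⟨hr1, Finset.mem_inter.2 ⟨h, hrR⟩⟩
    simpa using this)
  have hrQ₁ : r ∉ Q₁ := fun h => hry (by
    have := hy ▸ Finset.mem_erase.2 ⟨hr1, Finset.mem_inter.2 ⟨h, hrR⟩⟩
    simpa using this)
  have hx'Q₁ : x' ∉ Q₁ := fun h => (hinQ x' hx'Q h).elim hx'1 hx'2
  let ι : Fin 7 → α := ![p₁, p₂, x, x', y, y', r]
  have ne : ∀ {u w : α} {A : Finset α}, u ∈ A → w ∉ A → u ≠ w := fun hu hw h => hw (h ▸ hu)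
  have hy'Q₀ : y' ∉ Q := fun h => (hinQ y' h hy'Q).elim hy'1 hy'2
  have hι : Function.Injective ι := injective_seven hp12 hxp.symm hx'1.symm hyp.symm hy'1.symm
    hr1.symm hxp2.symm hx'2.symm hyp2.symm hy'2.symm (ne hrR h2R).symm hx'x.symm (ne hxQ hyQ₀)
    (ne hxQ hy'Q₀) hrx.symm (ne hx'Q hyQ₀) (ne hx'Q hy'Q₀) (ne hx'Q hrQ) hy'y.symm hry.symm
    (ne hy'Q hrQ₁)
  have eQ : ({0, 1, 2, 3} : Finset (Fin 7)).image ι = Q := by
    refine Finset.eq_of_subset_of_card_le ?_ (by rw [Finset.card_image_of_injective _ hι, hQ.1]; rfl)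
    simp [ι, Finset.insert_subset_iff, hp₁Q, hp₂Q, hxQ, hx'Q]
  have eQ₁ : ({0, 1, 4, 5} : Finset (Fin 7)).image ι = Q₁ := by
    refine Finset.eq_of_subset_of_card_le ?_ (by rw [Finset.card_image_of_injective _ hι, hQ₁.1]; rfl)
    simp [ι, Finset.insert_subset_iff, hp₁R, hp₂R, hyQ, hy'Q]
  have eR : ({0, 2, 4, 6} : Finset (Fin 7)).image ι = R := by
    refine Finset.eq_of_subset_of_card_le ?_ (by rw [Finset.card_image_of_injective _ hι, hR.1]; rfl)
    simp [ι, Finset.insert_subset_iff, h1R, hxR, hyR, hrR]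
  have hword : ∀ A, IsQuad H A → Word fun i => decide (ι i ∈ A) := fun A hA => by
    refine ⟨?_, ?_, ?_⟩
    · rw [← card_inter_image hι, eQ]; rcases heven hA hQ with h | h | h <;> rw [h]
    · rw [← card_inter_image hι, eQ₁]; rcases heven hA hQ₁ with h | h | h <;> rw [h]
    · rw [← card_inter_image hι, eR]; rcases heven hA hR with h | h | h <;> rw [h]
  set U := Finset.univ.image ι with hUdef
  have hUcard : U.card = 7 := by rw [hUdef, Finset.card_image_of_injective _ hι]; rfl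
  obtain ⟨g₃, hg₃, hmeet, hnsub⟩ : ∃ g ∈ H, (Q.image g ∩ U).Nonempty ∧ ¬Q.image g ⊆ U := by
    by_contra hcon
    push Not at hcon
    refine closed_false hH hp₁Q hp₂Q hp12 ?_ (huniv U (by omega)) hcon
    rw [← eQ]; exact Finset.image_subset_image (Finset.subset_univ _)
  set S := Q.image g₃ with hSdef
  have hS : IsQuad H S := hQ.image hg₃
  have hSU : (S ∩ U).card = 3 := by
    have h1 := code_seven _ (hword S hS)
    simp only [← card_inter_image hι, ← hUdef] at h1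
    have h2 : (S ∩ U).card ≤ 4 := hS.1 ▸ Finset.card_le_card Finset.inter_subset_left
    have h3' : (S ∩ U).card ≠ 4 := fun h => hnsub (Finset.inter_eq_left.1
      (Finset.eq_of_subset_of_card_le Finset.inter_subset_left (by rw [hS.1, h])))
    have h4 := Finset.card_pos.2 hmeet
    omega
  obtain ⟨z, hz⟩ := Finset.card_eq_one.1 (show (S \ U).card = 1 by
    have := Finset.card_sdiff_add_card_inter S U; rw [hS.1, hSU] at this; omega)
  obtain ⟨hzS, hzU⟩ := Finset.mem_sdiff.1 (hz ▸ Finset.mem_singleton_self z : z ∈ S \ U)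
  let κ : Fin 8 → α := Fin.snoc ι z
  have hκ : Function.Injective κ := Fin.snoc_injective_iff.2 ⟨hι, fun ⟨i, hi⟩ =>
    hzU (hi ▸ Finset.mem_image_of_mem _ (Finset.mem_univ i))⟩
  have hκ' : ∀ i : Fin 7, κ i.castSucc = ι i := fun i => Fin.snoc_castSucc ..
  have hκ7 : κ 7 = z := Fin.snoc_last ..
  set W := Finset.univ.image κ with hWdef
  have hWcard : W.card = 8 := by rw [hWdef, Finset.card_image_of_injective _ hκ]; rfl
  have hUW : U ⊆ W := fun w hw => by
    obtain ⟨i, -, rfl⟩ := Finset.mem_image.1 hw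
    exact hκ' i ▸ Finset.mem_image_of_mem _ (Finset.mem_univ _)
  refine closed_false hH hp₁Q hp₂Q hp12 ?_ (huniv W hWcard.le) fun g hg hne => ?_
  · rw [← eQ]; exact (Finset.image_subset_image (Finset.subset_univ _)).trans hUW
  set T := Q.image g with hTdef
  have hT : IsQuad H T := hQ.image hg
  have hparity : ((Finset.univ.filter fun i : Fin 7 =>
      decide (ι i ∈ S) && decide (κ i.castSucc ∈ T)).card + (decide (κ 7 ∈ T)).toNat) % 2 = 0 := by
    have e1 : (Finset.univ.filter fun i : Fin 7 =>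
        decide (ι i ∈ S) && decide (κ i.castSucc ∈ T)).card = ((S ∩ T) ∩ U).card := by
      rw [hUdef, card_inter_image hι]
      congr 1
      ext i
      simp [hκ']
    have e2 : (decide (κ 7 ∈ T)).toNat = ((S ∩ T) \ U).card := by
      rw [hκ7, show (S ∩ T) \ U = {z} ∩ T by
        rw [← hz]; ext w; simp only [Finset.mem_sdiff, Finset.mem_inter]; tauto]
      by_cases hzT : z ∈ T <;> simp [hzT]
    rw [e1, e2, add_comm, Finset.card_sdiff_add_card_inter]
    rcases heven hS hT with h | h | h <;> rw [h]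
  have hs := code_eight _ (hword S hS) (by
      rw [← card_inter_image hι]; exact hSU)
    (fun i => decide (κ i ∈ T)) (by simp only [hκ']; exact hword T hT) hparity
  simp only [← card_inter_image hκ, ← hWdef] at hs
  have h1 := Finset.card_pos.2 hne
  have h2 : (T ∩ W).card ≤ 4 := hT.1 ▸ Finset.card_le_card Finset.inter_subset_left
  exact Finset.inter_eq_left.1 (Finset.eq_of_subset_of_card_le Finset.inter_subset_left
    (by rw [hT.1]; omega))

end CfsgLib.Perm.HallQuad
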