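import Cfsg.Agent.Lib.Perm.SylowNormalizer
import Mathlib.GroupTheory.SpecificGroups.Alternating.Simple
import Mathlib.GroupTheory.Perm.Cycle.Type
import Mathlib.GroupTheory.Transfer
import Mathlib.Tactic

/-!
The alternating groups of degree five, seven and eight have no transitive Hall subgroups for two
primes.
-/

set_option autoImplicit false

namespace CfsgLib.Perm.HallSmall

open Equiv Subgroup

theorem no_five {α : Type*} [Fintype α] [DecidableEq α] (hn : Fintype.card α = 5)
    (M : Subgroup (Perm α)) (hMA : M ≤ alternatingGroup α) : Nat.card M ≠ 20 := by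
  intro hM
  have hA : Nat.card (alternatingGroup α) = 60 := by
    have : Nontrivial α := Fintype.one_lt_card_iff_nontrivial.1 (by omega)
    have := two_mul_nat_card_alternatingGroup (α := α)
    rw [Nat.card_perm, Nat.card_eq_fintype_card (α := α), hn,
      show Nat.factorial 5 = 120 by rfl] at this
    omega
  have : IsSimpleGroup (alternatingGroup α) :=
    alternatingGroup.isSimpleGroup (by rw [Nat.card_eq_fintype_card, hn])
  set M' := M.subgroupOf (alternatingGroup α)
  have hM' : M'.index = 3 := by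
    have h := M'.card_mul_index
    rw [Nat.card_congr (subgroupOfEquivOfLe hMA).toEquiv, hM, hA] at h
    omega
  have h1 := CfsgLib.Perm.two_mul_card_dvd_factorial_index
    (CfsgLib.Perm.not_comm_of_not_prime (G := alternatingGroup α) (by rw [hA]; norm_num)) M'
    (fun h => by rw [h, index_top] at hM'; omega)
  rw [hA, hM'] at h1
  norm_num [Nat.factorial] at h1

theorem mem_zpowers_of_commute {α : Type*} [Fintype α] [DecidableEq α] {g y : Perm α}
    (hg : g.IsCycle) (hs : g.support = Finset.univ) (hy : Commute y g) : y ∈ zpowers g := by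
  obtain ⟨x₀, hx₀⟩ := hg.nonempty_support
  have hm : ∀ x, g x ≠ x := fun x => Perm.mem_support.1 (hs ▸ Finset.mem_univ x)
  obtain ⟨k, hk⟩ := hg.exists_zpow_eq (hm x₀) (hm (y x₀))
  refine ⟨k, Equiv.ext fun x => ?_⟩
  obtain ⟨j, rfl⟩ := hg.exists_zpow_eq (hm x₀) (hm x)
  show (g ^ k) ((g ^ j) x₀) = y ((g ^ j) x₀)
  rw [← Perm.mul_apply, ← zpow_add, add_comm, zpow_add, Perm.mul_apply, hk, ← Perm.mul_apply,
    ← Perm.mul_apply, (hy.zpow_right j).eq]

theorem no_seven {α : Type*} [Fintype α] [DecidableEq α] (hn : Fintype.card α = 7)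
    (M : Subgroup (Perm α)) (hMA : M ≤ alternatingGroup α) :
    Nat.card M ≠ 56 ∧ Nat.card M ≠ 280 := by
  suffices h : ∀ k, (k = 8 ∨ k = 40) → Nat.card M ≠ 7 * k from ⟨h 8 (Or.inl rfl), h 40 (Or.inr rfl)⟩
  intro k hk hM
  have : Fact (Nat.Prime 7) := ⟨by decide⟩
  let P : Sylow 7 M := default
  have hP : Nat.card (P : Subgroup M) = 7 := by
    rw [P.card_eq_multiplicity, hM]
    rcases hk with rfl | rfl <;>
      rw [Nat.factorization_mul (by norm_num) (by norm_num), Finsupp.add_apply,
        Nat.Prime.factorization_self (by decide), Nat.factorization_eq_zero_of_not_dvd (by decide)] <;>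
      rfl
  obtain ⟨g, hg⟩ := (isCyclic_of_prime_card hP).exists_generator
  have hgo : orderOf ((g : M) : Perm α) = 7 := by
    rw [Subgroup.orderOf_coe, Subgroup.orderOf_coe, orderOf_eq_card_of_forall_mem_zpowers hg, hP]
  have hcyc : ((g : M) : Perm α).IsCycle :=
    Perm.isCycle_of_prime_order'' (by rw [hn]; decide) (by rw [hgo, hn])
  have hsupp : ((g : M) : Perm α).support = Finset.univ :=
    Finset.eq_univ_of_card _ (by rw [← hcyc.orderOf, hgo, hn])
  have hC : centralizer ((P : Subgroup M) : Set M) ≤ P := by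
    intro y hy
    have hcomm : Commute ((y : M) : Perm α) ((g : M) : Perm α) :=
      (congrArg (Subtype.val : M → Perm α) (mem_centralizer_iff.1 hy g g.2)).symm
    obtain ⟨j, hj⟩ := mem_zpowers_of_commute hcyc hsupp hcomm
    have : y = ((g ^ j : (P : Subgroup M)) : M) := Subtype.ext (by simpa using hj.symm)
    rw [this]
    exact (g ^ j).2
  have hPC : (P : Subgroup M) ≤ centralizer ((P : Subgroup M) : Set M) := by
    have := isCyclic_of_prime_card hP
    let _ : CommGroup (P : Subgroup M) := IsCyclic.commGroup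
    intro x hx
    rw [mem_centralizer_iff]
    exact fun y hy => congrArg Subtype.val (mul_comm (⟨y, hy⟩ : (P : Subgroup M)) ⟨x, hx⟩)
  have hCeq : centralizer ((P : Subgroup M) : Set M) = P := le_antisymm hC hPC
  have h1 := CfsgLib.Perm.relIndex_centralizer_dvd_sub_one (P : Subgroup M) hP
  rw [hCeq] at h1
  have hN := card_mul_index ((P : Subgroup M).subgroupOf (normalizer ((P : Subgroup M) : Set M)))
  rw [Nat.card_congr (subgroupOfEquivOfLe (H := (P : Subgroup M)) le_normalizer).toEquiv, hP] at hN
  have hn7 := CfsgLib.Perm.card_normalizer_mul_card_sylow P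
  rw [← hN, hM, mul_assoc] at hn7
  have hk7 : (P : Subgroup M).relIndex (normalizer ((P : Subgroup M) : Set M)) *
      Nat.card (Sylow 7 M) = k := Nat.eq_of_mul_eq_mul_left (by norm_num) hn7
  have hmod := card_sylow_modEq_one 7 M
  have h6 := Nat.le_of_dvd (by norm_num) h1
  generalize hr : (P : Subgroup M).relIndex (normalizer ((P : Subgroup M) : Set M)) = r at *
  have hdiv : Nat.card (Sylow 7 M) ∣ k := Dvd.intro_left _ hk7
  unfold Nat.ModEq at hmod
  rcases hk with rfl | rfl
  swap
  · have hr6 : ∀ r < 7, ∀ s < 41, r ∣ 7 - 1 → r * s = 40 → s % 7 ≠ 1 % 7 := by decide +kernel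
    exact hr6 r (by omega) _ (by have := Nat.le_of_dvd (by norm_num) hdiv; omega) h1 hk7 hmod
  have hr6 : ∀ r < 7, ∀ s < 9, r ∣ 7 - 1 → r * s = 8 → s % 7 = 1 % 7 → r = 1 := by decide +kernel
  obtain rfl := hr6 r (by omega) _ (by have := Nat.le_of_dvd (by norm_num) hdiv; omega) h1 hk7 hmod
  -- normal complement of order eight
  have hNC : normalizer ((P : Subgroup M) : Set M) ≤ centralizer ((P : Subgroup M) : Set M) := by
    rw [hCeq]
    exact relIndex_eq_one.1 hr
  have hcompl := MonoidHom.ker_transferSylow_isComplement' P hNC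
  set K := (MonoidHom.transferSylow P hNC).ker
  have hK : Nat.card K = 8 := by
    have := hcompl.card_mul
    rw [hP, hM] at this
    omega
  have hconj : ∀ a b : M, a ∈ K → a ≠ 1 → b ∈ K → b ≠ 1 → orderOf a = orderOf b := by
    intro a b ha ha1 hb hb1
    let f : ↥(P : Subgroup M) → K := fun q =>
      ⟨(q : M) * a * (q : M)⁻¹, (inferInstance : K.Normal).conj_mem a ha q⟩
    have hf : Function.Injective f := fun q q' h => by
      have h' : (q : M) * a * (q : M)⁻¹ = (q' : M) * a * (q' : M)⁻¹ := congrArg Subtype.val h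
      by_contra hne
      have hd : ((q' : M)⁻¹ * q) ≠ 1 := fun h0 =>
        hne (Subtype.ext (inv_mul_eq_one.1 h0).symm)
      set s := (q' : M)⁻¹ * q with hs
      have hsa : s * a * s⁻¹ = a := by
        rw [hs]
        calc (q' : M)⁻¹ * q * a * ((q' : M)⁻¹ * q)⁻¹ = (q' : M)⁻¹ * ((q : M) * a * (q : M)⁻¹) * q' := by
              group
          _ = a := by rw [h']; group
      have hsP : s ∈ (P : Subgroup M) := mul_mem (inv_mem q'.2) q.2
      have hz : zpowers s = (P : Subgroup M) := by
        refine eq_of_le_of_card_ge (zpowers_le.2 hsP) (le_of_eq ?_)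
        have h7 := (Nat.dvd_prime (by decide : Nat.Prime 7)).1 (hP ▸ Subgroup.card_dvd_of_le (zpowers_le.2 hsP))
        rcases h7 with h7 | h7
        · rw [Nat.card_zpowers, orderOf_eq_one_iff] at h7; exact absurd h7 hd
        · rw [h7, hP]
      have haC : a ∈ centralizer ((P : Subgroup M) : Set M) := by
        rw [← hz, mem_centralizer_iff]
        rintro _ ⟨j, rfl⟩
        exact ((show Commute s a from mul_inv_eq_iff_eq_mul.1 hsa).zpow_left j).eq
      have : a ∈ K ⊓ (P : Subgroup M) := ⟨ha, hC haC⟩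
      rw [hcompl.disjoint.eq_bot] at this
      exact ha1 this
    have hr : Set.range f = {x : K | x ≠ 1} := by
      refine Set.eq_of_subset_of_ncard_le ?_ ?_
      · rintro _ ⟨q, rfl⟩ h
        exact ha1 (conj_eq_one_iff.1 (congrArg Subtype.val h))
      · rw [Set.ncard_range_of_injective hf, hP, show ({x : K | x ≠ 1} : Set K) = Set.univ \ {1} by ext; simp,
          Set.ncard_sdiff (Set.subset_univ _), Set.ncard_univ, hK, Set.ncard_singleton]
    obtain ⟨q, hq⟩ := hr.ge (show (⟨b, hb⟩ : K) ∈ {x : K | x ≠ 1} from fun h => hb1 (congrArg Subtype.val h))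
    have hb' : (q : M) * a * (q : M)⁻¹ = b := congrArg Subtype.val hq
    rw [← hb']
    exact (MulEquiv.orderOf_eq (MulAut.conj (q : M)) a).symm
  -- an element of order four
  let e : Fin 7 ≃ α := (Fintype.equivFinOfCardEq hn).symm
  let σ₀ : Perm (Fin 7) := swap 0 1 * swap 1 2 * swap 2 3 * swap 4 5
  let σ : Perm α := e.permCongrHom σ₀
  have hσA : σ ∈ alternatingGroup α := by
    rw [Perm.mem_alternatingGroup]
    show Perm.sign (e.permCongr σ₀) = 1
    rw [Perm.sign_permCongr]
    decide
  have hσo : orderOf σ = 4 := by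
    have h : orderOf σ₀ = 2 ^ (1 + 1) := orderOf_eq_prime_pow (by decide) (by decide)
    rw [MulEquiv.orderOf_eq e.permCongrHom, h]
    rfl
  have : Nontrivial α := Fintype.one_lt_card_iff_nontrivial.1 (by omega)
  have hA : Nat.card (alternatingGroup α) = 2520 := by
    have := two_mul_nat_card_alternatingGroup (α := α)
    rw [Nat.card_perm, Nat.card_eq_fintype_card (α := α), hn,
      show Nat.factorial 7 = 5040 by rfl] at this
    omega
  let KA : Subgroup (alternatingGroup α) := (K.map M.subtype).subgroupOf (alternatingGroup α)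
  have hKA : Nat.card KA = 8 := by
    rw [Nat.card_congr (subgroupOfEquivOfLe ((map_subtype_le K).trans hMA)).toEquiv,
      Subgroup.card_subtype, hK]
  have : Fact (Nat.Prime 2) := ⟨Nat.prime_two⟩
  let T : Sylow 2 (alternatingGroup α) := Sylow.ofCard KA (by
    rw [hKA, hA, show (2520 : ℕ) = 2 ^ 3 * 315 by rfl, Nat.factorization_mul (by norm_num) (by norm_num),
      Finsupp.add_apply, Nat.Prime.factorization_pow Nat.prime_two, Finsupp.single_eq_same,
      Nat.factorization_eq_zero_of_not_dvd (by decide)]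
    rfl)
  have hz : IsPGroup 2 (zpowers (⟨σ, hσA⟩ : alternatingGroup α)) :=
    IsPGroup.of_card (n := 2) (by rw [Nat.card_zpowers, Subgroup.orderOf_mk, hσo]; rfl)
  obtain ⟨T', hT'⟩ := hz.exists_le_sylow
  obtain ⟨c, hc⟩ := MulAction.exists_smul_eq (alternatingGroup α) T' T
  have hmem : c * ⟨σ, hσA⟩ * c⁻¹ ∈ KA := by
    have : MulAut.conj c ⟨σ, hσA⟩ ∈ ((c • T' : Sylow 2 (alternatingGroup α)) : Subgroup (alternatingGroup α)) :=
      ⟨_, hT' (mem_zpowers _), rfl⟩
    rw [hc] at this
    exact this
  obtain ⟨y, hyK, hy⟩ := hmem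
  have hy4 : orderOf y = 4 := by
    rw [← Subgroup.orderOf_coe y, show ((y : M) : Perm α) = (c : Perm α) * σ * (c : Perm α)⁻¹ from hy]
    exact (MulEquiv.orderOf_eq (MulAut.conj (c : Perm α)) σ).trans hσo
  have hy1 : y ≠ 1 := fun h => by rw [h, orderOf_one] at hy4; omega
  have hy2 : orderOf (y ^ 2) = 2 := by rw [orderOf_pow, hy4]; rfl
  have := hconj y (y ^ 2) hyK hy1 (pow_mem hyK 2) (fun h => by rw [h, orderOf_one] at hy2; omega)
  omega

/-- No even group of order `448` is transitive on eight letters. -/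
theorem no_eight {α : Type*} [Fintype α] [DecidableEq α] (hn : Fintype.card α = 8)
    (M : Subgroup (Perm α)) (hMA : M ≤ alternatingGroup α) [MulAction.IsPretransitive M α] :
    Nat.card M ≠ 448 := by
  intro hM
  obtain ⟨x⟩ : Nonempty α := Fintype.card_pos_iff.1 (by omega)
  set S := MulAction.stabilizer M x
  have hS : Nat.card S = 56 := by
    have h := S.card_mul_index
    rw [MulAction.index_stabilizer_of_transitive, Nat.card_eq_fintype_card (α := α), hn, hM] at h
    omega
  have hfix : ∀ g : S, ∀ y, y ≠ x ↔ ((g : M) : Perm α) y ≠ x := fun g y => by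
    have hg : ((g : M) : Perm α) x = x := g.2
    constructor <;> intro h h'
    · exact h (((g : M) : Perm α).injective (h'.trans hg.symm))
    · exact h (h' ▸ hg)
  let φ : S →* Perm {y // y ≠ x} :=
    { toFun := fun g => ((g : M) : Perm α).subtypePerm (fun y => (hfix g y).symm)
      map_one' := Equiv.ext fun y => Subtype.ext rfl
      map_mul' := fun a b => Equiv.ext fun y => Subtype.ext rfl }
  have hφ : Function.Injective φ := fun a b h => Subtype.ext (Subtype.ext (Equiv.ext fun y => by
    by_cases hy : y = x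
    · subst hy; exact (a.2 : ((a : M) : Perm α) y = y).trans (b.2 : ((b : M) : Perm α) y = y).symm
    · exact congrArg Subtype.val (Equiv.ext_iff.1 h ⟨y, hy⟩)))
  refine (no_seven (α := {y // y ≠ x}) ?_ φ.range ?_).1 ?_
  · rw [Fintype.card_subtype_compl, hn, Fintype.card_subtype_eq]
  · rintro _ ⟨g, rfl⟩
    rw [Perm.mem_alternatingGroup]
    show Perm.sign (((g : M) : Perm α).subtypePerm (fun y => (hfix g y).symm)) = 1
    refine (Perm.sign_subtypePerm (p := fun y => y ≠ x) _ (fun y => (hfix g y).symm)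
      (fun y hy (hyx : y = x) => hy (by rw [hyx]; exact g.2))).trans ?_
    exact Perm.mem_alternatingGroup.1 (hMA (g : M).2)
  · rw [← Nat.card_congr (MonoidHom.ofInjective hφ).toEquiv, hS]

end CfsgLib.Perm.HallSmall
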