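import Cfsg.Agent.Lib.Perm.HallArith
import Cfsg.Agent.Lib.Perm.HallQuad
import Cfsg.Agent.Lib.Perm.HallSmall
import Cfsg.Agent.Lib.Perm.Jordan
import Cfsg.Agent.Lib.ClassSizes.Jordan
import Cfsg.Prelude.Def_HallClasses
import Mathlib.GroupTheory.Perm.ViaEmbedding
import Mathlib.GroupTheory.Perm.List
import Mathlib.GroupTheory.Perm.Cycle.Concrete

/-!
Hall subgroups of symmetric and alternating groups: the classification, obtained by induction
along orbits and blocks.
-/

set_option autoImplicit false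

namespace CfsgLib.Perm.HallClass

open Equiv MulAction Cfsg
open scoped Pointwise

universe u

/-- Two primes of `π` are at most `n`. -/
def Two (π : Set ℕ) (n : ℕ) : Prop :=
  ∃ r s : ℕ, r.Prime ∧ s.Prime ∧ r ≠ s ∧ r ∈ π ∧ s ∈ π ∧ r ≤ n ∧ s ≤ n

/-- Some prime at most `n` lies outside `π`. -/
def NotAll (π : Set ℕ) (n : ℕ) : Prop := ∃ r : ℕ, r.Prime ∧ r ≤ n ∧ r ∉ π

/-- `n` is prime and `π` consists of the smaller primes. -/
def PrimeCase (π : Set ℕ) (n : ℕ) : Prop :=
  n.Prime ∧ ∀ r : ℕ, r.Prime → r ≤ n → (r ∈ π ↔ r < n)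

/-- `π` meets the primes up to `n` in two and three. -/
def TwoThree (π : Set ℕ) (n : ℕ) : Prop :=
  ∀ r : ℕ, r.Prime → r ≤ n → (r ∈ π ↔ (r = 2 ∨ r = 3))

/-- The arithmetical conclusion. -/
def Cls (π : Set ℕ) (n : ℕ) : Prop := PrimeCase π n ∨ ((n = 7 ∨ n = 8) ∧ TwoThree π n)

variable {π : Set ℕ} {α : Type u} [Fintype α] [DecidableEq α]

/-- The standard Hall subgroups. -/
def Shape (π : Set ℕ) (G H : Subgroup (Perm α)) : Prop :=
  (PrimeCase π (Fintype.card α) ∧ ∃ x : α, H = stabilizer (Perm α) x ⊓ G) ∨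
  ((Fintype.card α = 7 ∧ TwoThree π (Fintype.card α)) ∧
    ∃ Δ : Finset α, Δ.card = 4 ∧ H = stabilizer (Perm α) Δ ⊓ G) ∨
  ((Fintype.card α = 8 ∧ TwoThree π (Fintype.card α)) ∧
    ∃ Δ : Finset α, Δ.card = 4 ∧
      H = stabilizer (Perm α) ({Δ, Δᶜ} : Finset (Finset α)) ⊓ G)

theorem Shape.cls {G H : Subgroup (Perm α)} (h : Shape π G H) : Cls π (Fintype.card α) := by
  rcases h with ⟨h, -⟩ | ⟨⟨h, h'⟩, -⟩ | ⟨⟨h, h'⟩, -⟩
  · exact Or.inl h
  · exact Or.inr ⟨Or.inl h, h'⟩
  · exact Or.inr ⟨Or.inr h, h'⟩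

/-! ### Generalities -/

/-- The group is the symmetric or the alternating one. -/
def Good (G : Subgroup (Perm α)) : Prop := G = ⊤ ∨ G = alternatingGroup α

theorem Good.alt_le {G : Subgroup (Perm α)} (hG : Good G) : alternatingGroup α ≤ G := by
  rcases hG with rfl | rfl
  · exact le_top
  · exact le_rfl

theorem good_of_alt_le {R : Subgroup (Perm α)} (h : alternatingGroup α ≤ R) : Good R := by
  by_cases hR : R ≤ alternatingGroup α
  · exact Or.inr (le_antisymm hR h)
  left
  obtain ⟨g, hgR, hgA⟩ := SetLike.not_le_iff_exists.1 hR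
  refine eq_top_iff.2 fun x _ => ?_
  rw [Perm.mem_alternatingGroup] at hgA
  have hg : Perm.sign g = -1 := (Int.units_eq_one_or _).resolve_left hgA
  rcases Int.units_eq_one_or (Perm.sign x) with hx | hx
  · exact h (Perm.mem_alternatingGroup.2 hx)
  · have : g * x ∈ R := h (Perm.mem_alternatingGroup.2 (by simp [hg, hx]))
    simpa using R.mul_mem (R.inv_mem hgR) this

theorem card_alt_two (hn : 2 ≤ Fintype.card α) :
    2 * Nat.card (alternatingGroup α) = (Fintype.card α).factorial := by
  have : Nontrivial α := Fintype.one_lt_card_iff_nontrivial.1 hn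
  rw [two_mul_nat_card_alternatingGroup, Nat.card_perm, Nat.card_eq_fintype_card]

theorem card_dvd_factorial (H : Subgroup (Perm α)) : Nat.card H ∣ (Fintype.card α).factorial := by
  have := H.card_subgroup_dvd_card
  rwa [Nat.card_perm, Nat.card_eq_fintype_card (α := α)] at this

theorem prime_le_of_dvd {H : Subgroup (Perm α)} {p : ℕ} (hp : p.Prime) (h : p ∣ Nat.card H) :
    p ≤ Fintype.card α :=
  hp.dvd_factorial.1 (h.trans (card_dvd_factorial H))

theorem prime_dvd_card {G : Subgroup (Perm α)} (hG : Good G) (hn : 4 ≤ Fintype.card α) {p : ℕ}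
    (hp : p.Prime) (hpn : p ≤ Fintype.card α) : p ∣ Nat.card G := by
  refine Dvd.dvd.trans ?_ (Subgroup.card_dvd_of_le hG.alt_le)
  rcases hp.eq_two_or_odd with rfl | hodd
  · have h4 : 4 ∣ (Fintype.card α).factorial := Nat.dvd_factorial (by norm_num) hn
    have := card_alt_two (α := α) (by omega)
    omega
  · have h := hp.dvd_factorial.2 hpn
    rw [← card_alt_two (by omega)] at h
    exact (hp.dvd_mul.1 h).resolve_left fun h2 => by
      have := Nat.le_of_dvd two_pos h2
      have := hp.two_le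
      omega

variable {G H : Subgroup (Perm α)}

theorem prime_dvd_hall (hG : Good G) (hn : 4 ≤ Fintype.card α) (hH : IsPiHallOf π H G) {p : ℕ}
    (hp : p.Prime) (hpπ : p ∈ π) (hpn : p ≤ Fintype.card α) : p ∣ Nat.card H := by
  have h := Subgroup.card_mul_index (H.subgroupOf G)
  rw [Nat.card_congr (Subgroup.subgroupOfEquivOfLe hH.1).toEquiv] at h
  have := prime_dvd_card hG hn hp hpn
  rw [← h] at this
  exact (hp.dvd_mul.1 this).resolve_right (hH.2.2 p hp hpπ)

/-- A π-subgroup containing a Hall π-subgroup is equal to it. -/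
theorem eq_of_le (hH : IsPiHallOf π H G) {K : Subgroup (Perm α)} (hHK : H ≤ K)
    (hK : IsPiSubgroup π (K ⊓ G)) : H = K ⊓ G := by
  refine le_antisymm (le_inf hHK hH.1) (Subgroup.relIndex_eq_one.1 ?_)
  have h1 := Subgroup.relIndex_mul_relIndex H (K ⊓ G) G (le_inf hHK hH.1) inf_le_right
  by_contra hne
  obtain ⟨p, hp, hpd⟩ := Nat.exists_prime_and_dvd hne
  exact hH.2.2 p hp (hK p hp (hpd.trans (Subgroup.relIndex_dvd_card _ _)))
    (hpd.trans (Dvd.intro _ h1))

theorem prime_not_dvd_relIndex (hH : IsPiHallOf π H G) {K : Subgroup (Perm α)} (hHK : H ≤ K)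
    {p : ℕ} (hp : p.Prime) (hpπ : p ∈ π) : ¬p ∣ K.relIndex G := fun h =>
  hH.2.2 p hp hpπ (h.trans (Subgroup.relIndex_dvd_of_le_left G hHK))

/-- A `p`-subgroup of `G`, `p ∈ π`, is conjugate in `G` into a Hall subgroup. -/
theorem exists_conj_le (hH : IsPiHallOf π H G) {p : ℕ} (hp : p.Prime) (hpπ : p ∈ π)
    {K : Subgroup (Perm α)} (hKG : K ≤ G) (hK : IsPGroup p K) :
    ∃ g ∈ G, ∀ x ∈ K, g * x * g⁻¹ ∈ H := by
  have := Fact.mk hp
  set H' := H.subgroupOf G
  have hK' : IsPGroup p (K.subgroupOf G) :=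
    hK.of_equiv (Subgroup.subgroupOfEquivOfLe hKG).symm
  obtain ⟨q, hq⟩ : (fixedPoints (K.subgroupOf G) (G ⧸ H')).Nonempty :=
    hK'.nonempty_fixed_point_of_prime_not_dvd_card _ (hH.2.2 p hp hpπ)
  obtain ⟨c, rfl⟩ := Quotient.exists_rep q
  refine ⟨(c : Perm α)⁻¹, G.inv_mem c.2, fun x hx => ?_⟩
  have h : (⟨x, hKG hx⟩ : G) • (QuotientGroup.mk c : G ⧸ H') = QuotientGroup.mk c :=
    hq ⟨⟨x, hKG hx⟩, hx⟩
  rw [MulAction.Quotient.smul_mk, eq_comm, QuotientGroup.eq] at h
  simpa [H', Subgroup.mem_subgroupOf, mul_assoc] using h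

theorem stab_relIndex {β : Type*} [MulAction (Perm α) β] (z : β) (X : Subgroup (Perm α)) :
    (stabilizer (Perm α) z).relIndex X = (orbit X z).ncard :=
  (index_stabilizer X z)

theorem exists_alt_smul {s t : Finset α} (hst : s.card = t.card) (hs : 2 ≤ s.card) :
    ∃ g ∈ alternatingGroup α, g • s = t := by
  obtain ⟨g, hg⟩ : ∃ g : Perm α, g • s = t := by
    refine ⟨(Fintype.equivOfCardEq (α := {x // x ∈ s}) (β := {x // x ∈ t})
      (by simpa using hst)).extendSubtype, ?_⟩
    refine Finset.eq_of_subset_of_card_le ?_ (by rw [Finset.card_smul_finset, hst])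
    intro y hy
    obtain ⟨x, hx, rfl⟩ := Finset.mem_smul_finset.1 hy
    exact Equiv.extendSubtype_mem _ x hx
  rcases Int.units_eq_one_or (Perm.sign g) with h | h
  · exact ⟨g, Perm.mem_alternatingGroup.2 h, hg⟩
  obtain ⟨a, b, ha, hb, hab⟩ := Finset.one_lt_card_iff.1 hs
  refine ⟨g * swap a b, Perm.mem_alternatingGroup.2 (by simp [h, Perm.sign_swap hab]), ?_⟩
  rw [mul_smul]
  suffices swap a b • s = s by rw [this, hg]
  refine Finset.eq_of_subset_of_card_le ?_ (by rw [Finset.card_smul_finset])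
  intro y hy
  obtain ⟨x, hx, rfl⟩ := Finset.mem_smul_finset.1 hy
  rw [Perm.smul_def, swap_apply_def]
  split_ifs <;> assumption

/-- The index of a set stabilizer. -/
theorem stab_set_relIndex (hG : Good G) {s : Finset α} (hs : 2 ≤ s.card) :
    (stabilizer (Perm α) s).relIndex G = (Fintype.card α).choose s.card := by
  rw [stab_relIndex]
  have : orbit G s = ((Finset.univ : Finset α).powersetCard s.card : Set (Finset α)) := by
    ext t
    simp only [Finset.mem_coe, Finset.mem_powersetCard, Finset.subset_univ, true_and]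
    constructor
    · rintro ⟨g, rfl⟩
      exact Finset.card_smul_finset _ _
    · intro ht
      obtain ⟨g, hg, rfl⟩ := exists_alt_smul ht.symm hs
      exact ⟨⟨g, hG.alt_le hg⟩, rfl⟩
  rw [this, Set.ncard_coe_finset, Finset.card_powersetCard, Finset.card_univ]

/-- Restriction to an invariant set. -/
theorem restrict_hall {Δ : Finset α} {L : Subgroup (Perm α)}
    (hL : ∀ g ∈ alternatingGroup α, g.support ⊆ Δ → g ∈ L)
    (hLst : L ≤ stabilizer (Perm α) Δ) (hH : IsPiHallOf π H L) :
    ∃ R H₁ : Subgroup (Perm {x // x ∈ Δ}), Good R ∧ IsPiHallOf π H₁ R := by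
  have hmem : ∀ g : stabilizer (Perm α) Δ, ∀ x, (g : Perm α) x ∈ Δ ↔ x ∈ Δ := fun g x => by
    have h := Finset.smul_mem_smul_finset_iff (g : Perm α) (b := x) (s := Δ)
    rwa [(g.2 : (g : Perm α) • Δ = Δ)] at h
  let φ : stabilizer (Perm α) Δ →* Perm {x // x ∈ Δ} :=
    { toFun := fun g => (g : Perm α).subtypePerm (hmem g)
      map_one' := Equiv.ext fun y => Subtype.ext rfl
      map_mul' := fun a b => Equiv.ext fun y => Subtype.ext rfl }
  set L' := L.subgroupOf (stabilizer (Perm α) Δ)
  set H' := H.subgroupOf (stabilizer (Perm α) Δ)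
  refine ⟨L'.map φ, H'.map φ, good_of_alt_le fun σ hσ => ?_,
    Subgroup.map_mono (Subgroup.comap_mono hH.1), fun p hp hpd => ?_, fun p hp hpπ hpd => ?_⟩
  · have hs : (Perm.ofSubtype σ).support ⊆ Δ := fun x hx => by
      by_contra hxΔ
      exact Perm.mem_support.1 hx (Perm.ofSubtype_apply_of_not_mem σ hxΔ)
    have hmemL := hL (Perm.ofSubtype σ)
      (Perm.mem_alternatingGroup.2 (by rw [Perm.sign_ofSubtype]; exact Perm.mem_alternatingGroup.1 hσ))
      hs
    refine ⟨⟨Perm.ofSubtype σ, hLst hmemL⟩, hmemL, ?_⟩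
    exact Equiv.ext fun y => Subtype.ext (Perm.ofSubtype_apply_coe σ y)
  · refine hH.2.1 p hp ?_
    rw [← Nat.card_congr (Subgroup.subgroupOfEquivOfLe (hH.1.trans hLst)).toEquiv]
    exact hpd.trans (Subgroup.card_map_dvd _ _)
  · refine hH.2.2 p hp hpπ ?_
    rw [← Subgroup.relIndex_subgroupOf (L := stabilizer (Perm α) Δ) hLst]
    refine hpd.trans ?_
    rw [← Subgroup.relIndex_comap]
    exact Subgroup.relIndex_dvd_of_le_left _ (Subgroup.le_comap_map _ _)

/-! ### Primitive groups -/

theorem exists_cycle {p : ℕ} (hp2 : 2 ≤ p) (hodd : Odd p) (hpn : p ≤ Fintype.card α) :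
    ∃ σ : Perm α, σ ∈ alternatingGroup α ∧ σ.IsCycle ∧ σ.support.card = p := by
  obtain ⟨s, -, hs⟩ := Finset.exists_subset_card_eq
    (show p ≤ (Finset.univ : Finset α).card by rwa [Finset.card_univ])
  have hnd := Finset.nodup_toList s
  have hlen : s.toList.length = p := by rw [Finset.length_toList, hs]
  have hcyc : (s.toList.formPerm).IsCycle := List.isCycle_formPerm hnd (by omega)
  have hsupp : (s.toList.formPerm).support = s := by
    rw [List.support_formPerm_of_nodup _ hnd (fun x h => by rw [h] at hlen; simp at hlen; omega),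
      Finset.toList_toFinset]
  refine ⟨_, Perm.mem_alternatingGroup.2 ?_, hcyc, by rw [hsupp, hs]⟩
  rw [hcyc.sign, hsupp, hs, hodd.neg_one_pow, neg_neg]

theorem alt_of_cycle (hH : IsPiHallOf π H G) (hG : Good G) (hprim : IsPreprimitive H α) {p : ℕ}
    (hp : p.Prime) (hpπ : p ∈ π) (hp2 : p ≠ 2)
    (hpn : p + 3 ≤ Fintype.card α ∨ (p = 3 ∧ 3 ≤ Fintype.card α)) : alternatingGroup α ≤ H := by
  obtain ⟨σ, hσA, hσc, hσs⟩ := exists_cycle (α := α) hp.two_le (hp.odd_of_ne_two hp2) (by omega)
  have := Fact.mk hp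
  obtain ⟨g, -, hg⟩ := exists_conj_le hH hp hpπ (K := Subgroup.zpowers σ)
    (Subgroup.zpowers_le.2 (hG.alt_le hσA))
    (IsPGroup.of_card (n := 1) (by rw [Nat.card_zpowers, hσc.orderOf, hσs, pow_one]))
  have hmem := hg σ (Subgroup.mem_zpowers σ)
  have hcyc := hσc.conj (g := g)
  have hsupp : (g * σ * g⁻¹).support.card = p := by rw [Perm.card_support_conj, hσs]
  rcases hpn with hpn | ⟨rfl, -⟩
  · exact CfsgLib.ClassSizes.alternatingGroup_le_of_primeCycle H hprim hp hpn hcyc hsupp hmem
  · exact Perm.alternatingGroup_le_of_isPreprimitive_of_isThreeCycle_mem hprim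
      (card_support_eq_three_iff.1 hsupp) hmem

/-- The Klein four-group on four letters. -/
def klein : Subgroup (Perm (Fin 4)) where
  carrier := {g | Perm.sign g = 1 ∧ g * g = 1}
  one_mem' := ⟨map_one _, mul_one _⟩
  mul_mem' {a b} := by
    revert a b
    simp only [Set.mem_setOf_eq]
    decide +kernel
  inv_mem' {a} ha := by
    have : a⁻¹ = a := inv_eq_of_mul_eq_one_right ha.2
    rwa [this]

theorem viaEmbedding_swap (ι : Fin 4 ↪ α) (i j : Fin 4) :
    Perm.viaEmbeddingHom ι (swap i j) = swap (ι i) (ι j) := by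
  ext x
  by_cases hx : x ∈ Set.range ι
  · obtain ⟨k, rfl⟩ := hx
    rw [Perm.viaEmbeddingHom_apply, Perm.viaEmbedding_apply, ← ι.injective.swap_apply]
  · rw [Perm.viaEmbeddingHom_apply, Perm.viaEmbedding_apply_of_notMem _ _ _ hx,
      swap_apply_of_ne_of_ne (fun h => hx ⟨i, h.symm⟩) (fun h => hx ⟨j, h.symm⟩)]

theorem klein_mem : ∀ i j k l : Fin 4, i ≠ j → i ≠ k → i ≠ l → j ≠ k → j ≠ l → k ≠ l →
    Perm.sign (swap i j * swap k l) = 1 ∧ (swap i j * swap k l) * (swap i j * swap k l) = 1 := by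
  decide +kernel

theorem alt_of_two (hH : IsPiHallOf π H G) (hG : Good G) (hprim : IsPreprimitive H α) (h2 : 2 ∈ π)
    (hn : 9 ≤ Fintype.card α) : alternatingGroup α ≤ H := by
  obtain ⟨ι⟩ : Nonempty (Fin 4 ↪ α) :=
    Function.Embedding.nonempty_of_card_le (by rw [Fintype.card_fin]; omega)
  set K := klein.map (Perm.viaEmbeddingHom ι)
  have hKA : K ≤ alternatingGroup α := by
    rintro _ ⟨g, hg, rfl⟩
    rw [Perm.mem_alternatingGroup, Perm.viaEmbeddingHom_apply, Perm.viaEmbedding,
      Perm.sign_extendDomain]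
    exact hg.1
  have hK : IsPGroup 2 K := by
    refine IsPGroup.map (fun g => ⟨1, Subtype.ext ?_⟩) _
    rw [pow_one, SubgroupClass.coe_pow, pow_two]
    exact g.2.2
  have := Fact.mk Nat.prime_two
  obtain ⟨g, -, hg⟩ := exists_conj_le hH Nat.prime_two h2 (hKA.trans hG.alt_le) hK
  refine HallQuad.alternatingGroup_le_of_quad hprim hn (Q := Finset.univ.image fun i => g (ι i))
    ⟨by rw [Finset.card_image_of_injective (f := fun i => g (ι i)) Finset.univ (g.injective.comp ι.injective)]; rfl, ?_⟩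
  simp only [Finset.mem_image, Finset.mem_univ, true_and]
  rintro _ _ _ _ ⟨i, rfl⟩ ⟨j, rfl⟩ ⟨k, rfl⟩ ⟨l, rfl⟩ hij hik hil hjk hjl hkl
  have hmem := hg _ (Subgroup.mem_map_of_mem (Perm.viaEmbeddingHom ι)
    (show swap i j * swap k l ∈ klein from klein_mem i j k l (fun h => hij (by rw [h]))
      (fun h => hik (by rw [h])) (fun h => hil (by rw [h])) (fun h => hjk (by rw [h]))
      (fun h => hjl (by rw [h])) (fun h => hkl (by rw [h]))))
  rwa [map_mul, viaEmbedding_swap, viaEmbedding_swap,
    show g * (swap (ι i) (ι j) * swap (ι k) (ι l)) * g⁻¹ =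
      (g * swap (ι i) (ι j) * g⁻¹) * (g * swap (ι k) (ι l) * g⁻¹) by group,
    ← Equiv.swap_apply_apply, ← Equiv.swap_apply_apply] at hmem

theorem split_card {m k u w : ℕ} (hm0 : m ≠ 0) (h : m * k = u * w) (hmw : Nat.Coprime m w)
    (hku : Nat.Coprime k u) : m = u :=
  Nat.dvd_antisymm (hmw.dvd_of_dvd_mul_right (Dvd.intro _ h))
    (hku.symm.dvd_of_dvd_mul_right (Dvd.intro w h.symm) : u ∣ m)

/-- The intersection with the alternating group of a Hall subgroup. -/
theorem hall_inf_alt (hG : Good G) (hH : IsPiHallOf π H G) :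
    IsPiHallOf π (H ⊓ alternatingGroup α) (alternatingGroup α) := by
  refine ⟨inf_le_right, fun p hp hpd => hH.2.1 p hp (hpd.trans (Subgroup.card_dvd_of_le inf_le_left)),
    fun p hp hpπ hpd => ?_⟩
  rw [Subgroup.inf_relIndex_right] at hpd
  rcases hG with rfl | rfl
  swap
  · exact hH.2.2 p hp hpπ hpd
  refine hH.2.2 p hp hpπ ?_
  rw [Subgroup.relIndex_top_right]
  have hA : (alternatingGroup α).Normal := inferInstance
  have h1 : H.relIndex (alternatingGroup α) * (alternatingGroup α).index =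
      (alternatingGroup α).relIndex H * H.index := by
    rw [← Subgroup.inf_relIndex_right, Subgroup.relIndex_mul_index inf_le_right,
      ← Subgroup.inf_relIndex_left H, Subgroup.relIndex_mul_index inf_le_left]
  rcases Nat.lt_or_ge (Fintype.card α) 2 with hn | hn
  · have : Subsingleton α := Fintype.card_le_one_iff_subsingleton.1 (by omega)
    have : Subsingleton (Perm α) := ⟨fun a b => Equiv.ext fun x => Subsingleton.elim _ _⟩
    have := Subgroup.relIndex_dvd_card H (alternatingGroup α)
    rw [Nat.card_unique] at this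
    exact absurd (hpd.trans this) hp.not_dvd_one
  · have : Nontrivial α := Fintype.one_lt_card_iff_nontrivial.1 hn
    rw [alternatingGroup.index_eq_two] at h1
    have h2 := (alternatingGroup α).relIndex_dvd_index_of_normal (K := H)
    rw [alternatingGroup.index_eq_two] at h2
    rcases (Nat.dvd_prime Nat.prime_two).1 h2 with h3 | h3 <;> rw [h3] at h1
    · exact hpd.trans (Dvd.intro 2 (by omega : H.relIndex (alternatingGroup α) * 2 = H.index))
    · exact hpd.trans (by rw [show H.relIndex (alternatingGroup α) = H.index by omega])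

/-- In prime degree the normalizer of a Sylow subgroup is small. -/
theorem normalizer_dvd {p : ℕ} [Fact p.Prime] (hn : Fintype.card α = p) (M : Subgroup (Perm α))
    (P : Sylow p M) (hP : Nat.card (P : Subgroup M) = p) :
    Nat.card (Subgroup.normalizer ((P : Subgroup M) : Set M)) ∣ p * (p - 1) := by
  obtain ⟨g, hg⟩ := (isCyclic_of_prime_card hP).exists_generator
  have hgo : orderOf ((g : M) : Perm α) = p := by
    rw [Subgroup.orderOf_coe, Subgroup.orderOf_coe, orderOf_eq_card_of_forall_mem_zpowers hg, hP]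
  have hcyc : ((g : M) : Perm α).IsCycle :=
    Perm.isCycle_of_prime_order'' (by rw [hn]; exact Fact.out) (by rw [hgo, hn])
  have hsupp : ((g : M) : Perm α).support = Finset.univ :=
    Finset.eq_univ_of_card _ (by rw [← hcyc.orderOf, hgo, hn])
  have hC : Subgroup.centralizer ((P : Subgroup M) : Set M) ≤ P := by
    intro y hy
    have hcomm : Commute ((y : M) : Perm α) ((g : M) : Perm α) :=
      (congrArg (Subtype.val : M → Perm α) (Subgroup.mem_centralizer_iff.1 hy g g.2)).symm
    obtain ⟨j, hj⟩ := HallSmall.mem_zpowers_of_commute hcyc hsupp hcomm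
    have : y = ((g ^ j : ↥(P : Subgroup M)) : M) := Subtype.ext (by simpa using hj.symm)
    rw [this]
    exact (g ^ j).2
  have h1 := (Subgroup.relIndex_dvd_of_le_left (Subgroup.normalizer ((P : Subgroup M) : Set M)) hC).trans
    (CfsgLib.Perm.relIndex_centralizer_dvd_sub_one (P : Subgroup M) hP)
  have h2 := Subgroup.card_mul_index
    ((P : Subgroup M).subgroupOf (Subgroup.normalizer ((P : Subgroup M) : Set M)))
  rw [Nat.card_congr (Subgroup.subgroupOfEquivOfLe (H := (P : Subgroup M))
    Subgroup.le_normalizer).toEquiv, hP] at h2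
  rw [← h2]
  exact mul_dvd_mul_left p h1

theorem not_sq_dvd_factorial {p n : ℕ} (hp : p.Prime) (h : n < 2 * p) : ¬p ^ 2 ∣ n.factorial := by
  intro hd
  have h1 := (hp.pow_dvd_iff_le_factorization (Nat.factorial_ne_zero n)).1 hd
  have h2 : (n.factorial).factorization p = n / p := by
    have := Fact.mk hp
    rw [Nat.factorization_def _ hp, padicValNat_factorial (b := 2)]
    · simp
    · refine Nat.log_lt_of_lt_pow' two_ne_zero ?_
      nlinarith [hp.two_le]
  have h3 : n / p < 2 := (Nat.div_lt_iff_lt_mul hp.pos).2 h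
  omega

theorem odd_case (hH : IsPiHallOf π H G) (hG : Good G) {q : ℕ}
    (hn : Fintype.card α = q + 2) (hq : q.Prime) (hq5 : 5 ≤ q) (hn' : (q + 2).Prime)
    (hqπ : q ∈ π) (hnπ : q + 2 ∈ π) (honly : ∀ r, r.Prime → r ∈ π → r ≤ q + 2 → r = q ∨ r = q + 2) :
    False := by
  have := Fact.mk hn'
  have hdq := prime_dvd_hall hG (by omega) hH hq hqπ (by omega)
  have hdn := prime_dvd_hall hG (by omega) hH hn' hnπ (by omega)
  have hco : Nat.Coprime (q + 2) q := (Nat.coprime_primes hn' hq).2 (by omega)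
  obtain ⟨t, ht⟩ := hco.mul_dvd_of_dvd_of_dvd hdn hdq
  have hfac := card_dvd_factorial H
  rw [hn] at hfac
  have ht1 : t = 1 := by
    by_contra ht1
    obtain ⟨r, hr, hrt⟩ := Nat.exists_prime_and_dvd ht1
    have hrH : r ∣ Nat.card H := ht ▸ hrt.mul_left _
    have hrn := prime_le_of_dvd hr hrH
    rcases honly r hr (hH.2.1 r hr hrH) (by omega) with rfl | rfl
    · refine not_sq_dvd_factorial hr (by omega) (Dvd.dvd.trans ?_ hfac)
      rw [ht, pow_two]
      exact mul_dvd_mul (dvd_mul_left r _) hrt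
    · refine not_sq_dvd_factorial hr (by omega) (Dvd.dvd.trans ?_ hfac)
      rw [ht, pow_two]
      exact mul_dvd_mul (dvd_mul_right _ q) hrt
  rw [ht1, mul_one] at ht
  let P : Sylow (q + 2) H := default
  have hP : Nat.card (P : Subgroup H) = q + 2 := by
    rw [P.card_eq_multiplicity, ht, Nat.factorization_mul (by omega) (by omega), Finsupp.add_apply,
      Nat.Prime.factorization_self hn', Nat.factorization_eq_zero_of_not_dvd
        (fun h => by have := Nat.le_of_dvd hq.pos h; omega), add_zero, pow_one]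
  have hN := normalizer_dvd (by omega) H P hP
  have hmul := CfsgLib.Perm.card_normalizer_mul_card_sylow P
  rw [ht] at hmul
  have hmod := card_sylow_modEq_one (q + 2) H
  have hdvd : Nat.card (Sylow (q + 2) H) ∣ q := by
    have hc : Nat.Coprime (Nat.card (Sylow (q + 2) H)) (q + 2) := by
      refine (hn'.coprime_iff_not_dvd.2 fun h => ?_).symm
      have h0 : Nat.card (Sylow (q + 2) H) % (q + 2) = 0 := Nat.mod_eq_zero_of_dvd h
      rw [Nat.ModEq, h0, Nat.mod_eq_of_lt (by omega : 1 < q + 2)] at hmod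
      omega
    exact hc.dvd_of_dvd_mul_left (Dvd.intro_left _ hmul)
  have hle := Nat.le_of_dvd hq.pos hdvd
  rw [Nat.ModEq, Nat.mod_eq_of_lt (by omega : Nat.card (Sylow (q + 2) H) < q + 2),
    Nat.mod_eq_of_lt (by omega : 1 < q + 2)] at hmod
  rw [hmod, mul_one] at hmul
  rw [hmul] at hN
  have h := Nat.dvd_of_mul_dvd_mul_left (by omega) hN
  have h' := (Nat.dvd_add_right (dvd_refl q)).1 (by rwa [show q + 2 - 1 = q + 1 by omega] at h : q ∣ q + 1)
  exact hq.not_dvd_one h'

theorem primitive_false (h2 : Two π (Fintype.card α)) (hns : NotAll π (Fintype.card α))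
    (hG : Good G) (hH : IsPiHallOf π H G) (hprim : IsPreprimitive H α) : False := by
  obtain ⟨r, s, hr, hs, hrs, hrπ, hsπ, hrn, hsn⟩ := h2
  obtain ⟨t, ht, htn, htπ⟩ := hns
  have hne : ∀ {x y : ℕ}, x ∈ π → y ∉ π → x ≠ y := fun hx hy h => hy (h ▸ hx)
  have h5 : 5 ≤ Fintype.card α := by
    have h4 : ¬Nat.Prime 4 := by norm_num
    rcases hr.eq_two_or_odd with rfl | hro <;> rcases hs.eq_two_or_odd with rfl | hso <;>
      rcases ht.eq_two_or_odd with rfl | hto <;>
      (have := hr.two_le; have := hs.two_le; have := ht.two_le; have := hne hrπ htπ;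
        have := hne hsπ htπ; omega)
  have hA : ¬alternatingGroup α ≤ H := fun hle => htπ (hH.2.1 t ht
    ((prime_dvd_card (G := alternatingGroup α) (Or.inr rfl) (by omega) ht htn).trans
      (Subgroup.card_dvd_of_le hle)))
  have h3π : 3 ∉ π := fun h =>
    hA (alt_of_cycle hH hG hprim Nat.prime_three h (by norm_num) (Or.inr ⟨rfl, by omega⟩))
  have hbig : ∀ p, p.Prime → p ∈ π → p ≤ Fintype.card α → p ≠ 2 →
      5 ≤ p ∧ Fintype.card α ≤ p + 2 := by
    intro p hp hpπ hpn hp2
    have h4 : p ≠ 4 := fun h => by rw [h] at hp; norm_num at hp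
    have := hne hpπ h3π
    have := hp.two_le
    refine ⟨by omega, ?_⟩
    by_contra hlt
    exact hA (alt_of_cycle hH hG hprim hp hpπ hp2 (Or.inl (by omega)))
  by_cases hπ2 : 2 ∈ π
  · have h8 : Fintype.card α ≤ 8 := by
      by_contra hlt
      exact hA (alt_of_two hH hG hprim hπ2 (by omega))
    have := hprim.toIsPretransitive
    obtain ⟨x⟩ : Nonempty α := Fintype.card_pos_iff.1 (by omega)
    have hnH : Fintype.card α ∣ Nat.card H := by
      have h := (stabilizer H x).card_mul_index
      rw [index_stabilizer_of_transitive, Nat.card_eq_fintype_card (α := α)] at h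
      exact Dvd.intro_left _ h
    have h6 : Fintype.card α ≠ 6 := fun h =>
      h3π (hH.2.1 3 Nat.prime_three ((h ▸ (by norm_num : 3 ∣ 6) : 3 ∣ Fintype.card α).trans hnH))
    set M := H ⊓ alternatingGroup α
    have hM := hall_inf_alt hG hH
    have hmul : Nat.card M * M.relIndex (alternatingGroup α) = Nat.card (alternatingGroup α) := by
      rw [← Nat.card_congr (Subgroup.subgroupOfEquivOfLe (inf_le_right : M ≤ alternatingGroup α)).toEquiv]
      exact Subgroup.card_mul_index _
    have hA2 := card_alt_two (α := α) (by omega)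
    have hMco : ∀ w : ℕ, (∀ p, p.Prime → p ∣ w → p ∉ π) → Nat.Coprime (Nat.card M) w :=
      fun w hw => Nat.coprime_of_dvd fun p hp h1 h2 => hw p hp h2 (hM.2.1 p hp h1)
    have hkco : ∀ u : ℕ, (∀ p, p.Prime → p ∣ u → p ∈ π) →
        Nat.Coprime (M.relIndex (alternatingGroup α)) u :=
      fun u hu => Nat.coprime_of_dvd fun p hp h1 h2 => hM.2.2 p hp (hu p hp h2) h1
    have key : ∀ u w : ℕ, Nat.card (alternatingGroup α) = u * w →
        (∀ p, p.Prime → p ∣ w → p ∉ π) → (∀ p, p.Prime → p ∣ u → p ∈ π) → Nat.card M = u :=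
      fun u w h hw hu => split_card Nat.card_pos.ne' (hmul.trans h) (hMco w hw) (hkco u hu)
    obtain ⟨q, hq, hqπ, hqn, hq2⟩ : ∃ q, q.Prime ∧ q ∈ π ∧ q ≤ Fintype.card α ∧ q ≠ 2 := by
      rcases eq_or_ne r 2 with h | h
      · exact ⟨s, hs, hsπ, hsn, fun h' => hrs (h.trans h'.symm)⟩
      · exact ⟨r, hr, hrπ, hrn, h⟩
    obtain ⟨hq5, hqn'⟩ := hbig q hq hqπ hqn hq2
    have hpd : ∀ {N p : ℕ} (l : List ℕ), 0 < N → (∀ x ∈ Finset.range (N + 1), x.Prime → x ∣ N → x ∈ l) →
        p.Prime → p ∣ N → p ∈ l := fun l hN h hp hd =>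
      h _ (Finset.mem_range.2 (by have := Nat.le_of_dvd hN hd; omega)) hp hd
    rcases (show Fintype.card α = 5 ∨ Fintype.card α = 7 ∨ Fintype.card α = 8 by omega) with hn | hn | hn
    · rw [hn, show Nat.factorial 5 = 120 by rfl] at hA2
      obtain rfl : q = 5 := by omega
      refine HallSmall.no_five hn M inf_le_right (key 20 3 (by omega) (fun p hp hd => ?_) (fun p hp hd => ?_))
      · have := hpd [3] (by norm_num) (by decide +kernel) hp hd
        rw [List.mem_singleton.1 this]
        exact h3π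
      · have := hpd [2, 5] (by norm_num) (by decide +kernel) hp hd
        simp only [List.mem_cons, List.not_mem_nil, or_false] at this
        rcases this with rfl | rfl <;> assumption
    · rw [hn, show Nat.factorial 7 = 5040 by rfl] at hA2
      have h7π : 7 ∈ π := hH.2.1 7 (by norm_num) (hn ▸ hnH)
      by_cases h5π : 5 ∈ π
      · refine (HallSmall.no_seven hn M inf_le_right).2 (key 280 9 (by omega) (fun p hp hd => ?_) (fun p hp hd => ?_))
        · have := hpd [3] (by norm_num) (by decide +kernel) hp hd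
          rw [List.mem_singleton.1 this]
          exact h3π
        · have := hpd [2, 5, 7] (by norm_num) (by decide +kernel) hp hd
          simp only [List.mem_cons, List.not_mem_nil, or_false] at this
          rcases this with rfl | rfl | rfl <;> assumption
      · refine (HallSmall.no_seven hn M inf_le_right).1 (key 56 45 (by omega) (fun p hp hd => ?_) (fun p hp hd => ?_))
        · have := hpd [3, 5] (by norm_num) (by decide +kernel) hp hd
          simp only [List.mem_cons, List.not_mem_nil, or_false] at this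
          rcases this with rfl | rfl <;> assumption
        · have := hpd [2, 7] (by norm_num) (by decide +kernel) hp hd
          simp only [List.mem_cons, List.not_mem_nil, or_false] at this
          rcases this with rfl | rfl <;> assumption
    · rw [hn, show Nat.factorial 8 = 40320 by rfl] at hA2
      have h5π : 5 ∉ π := fun h => by
        have := hbig 5 (by norm_num) h (by omega) (by norm_num)
        omega
      obtain rfl : q = 7 := by
        have : q ≠ 5 := fun h => h5π (h ▸ hqπ)
        have : q ≠ 6 := fun h => by rw [h] at hq; norm_num at hq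
        have : q ≠ 8 := fun h => by rw [h] at hq; norm_num at hq
        omega
      have hMcard : Nat.card M = 448 := by
        refine key 448 45 (by omega) (fun p hp hd => ?_) (fun p hp hd => ?_)
        · have := hpd [3, 5] (by norm_num) (by decide +kernel) hp hd
          simp only [List.mem_cons, List.not_mem_nil, or_false] at this
          rcases this with rfl | rfl <;> assumption
        · have := hpd [2, 7] (by norm_num) (by decide +kernel) hp hd
          simp only [List.mem_cons, List.not_mem_nil, or_false] at this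
          rcases this with rfl | rfl <;> assumption
      have hnorm : (M.subgroupOf H).Normal := by
        rw [Subgroup.inf_subgroupOf_left]
        exact Subgroup.Normal.subgroupOf inferInstance H
      have htr : IsPretransitive (M.subgroupOf H) α := by
        refine CfsgLib.Perm.Jordan.isPretransitive_of_normal (G := H) _ fun hbot => ?_
        have h := Nat.card_congr (Subgroup.subgroupOfEquivOfLe (inf_le_left : M ≤ H)).toEquiv
        rw [hbot, Subgroup.card_bot, hMcard] at h
        norm_num at h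
      have : IsPretransitive M α := ⟨fun a b => by
        obtain ⟨g, hg⟩ := exists_smul_eq (M.subgroupOf H) a b
        exact ⟨⟨((g : H) : Perm α), g.2⟩, hg⟩⟩
      exact HallSmall.no_eight hn M inf_le_right hMcard
  · obtain ⟨hr5, hrn'⟩ := hbig r hr hrπ hrn fun h => hπ2 (h ▸ hrπ)
    obtain ⟨hs5, hsn'⟩ := hbig s hs hsπ hsn fun h => hπ2 (h ▸ hsπ)
    have hro := (hr.eq_two_or_odd).resolve_left fun h => hπ2 (h ▸ hrπ)
    have hso := (hs.eq_two_or_odd).resolve_left fun h => hπ2 (h ▸ hsπ)
    obtain ⟨q, hq, hq', hqπ, hqπ', hqn⟩ : ∃ q, q.Prime ∧ (q + 2).Prime ∧ q ∈ π ∧ q + 2 ∈ π ∧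
        Fintype.card α = q + 2 := by
      rcases Nat.lt_or_gt_of_ne hrs with h | h
      · have : s = r + 2 := by omega
        exact ⟨r, hr, this ▸ hs, hrπ, this ▸ hsπ, by omega⟩
      · have : r = s + 2 := by omega
        exact ⟨s, hs, this ▸ hr, hsπ, this ▸ hrπ, by omega⟩
    refine odd_case hH hG hqn hq ?_ hq' hqπ hqπ' fun x hx hxπ hxn => ?_
    · exact (hbig q hq hqπ (by omega) fun h => hπ2 (h ▸ hqπ)).1
    · obtain ⟨-, hxn'⟩ := hbig x hx hxπ (by omega) fun h => hπ2 (h ▸ hxπ)
      have hxo := (hx.eq_two_or_odd).resolve_left fun h => hπ2 (h ▸ hxπ)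
      have hqo := (hq.eq_two_or_odd).resolve_left fun h => hπ2 (h ▸ hqπ)
      omega

/-! ### Intransitive and imprimitive groups -/

/-- The induction hypothesis. -/
def IH (π : Set ℕ) (n : ℕ) : Prop :=
  ∀ (β : Type u) [Fintype β] [DecidableEq β], Fintype.card β < n →
    Two π (Fintype.card β) → NotAll π (Fintype.card β) →
    ∀ G H : Subgroup (Perm β), Good G → IsPiHallOf π H G → Cls π (Fintype.card β)

theorem invariant_case (ih : IH.{u} π (Fintype.card α)) (h2 : Two π (Fintype.card α))
    (hns : NotAll π (Fintype.card α)) (hG : Good G) (hH : IsPiHallOf π H G) {Δ : Finset α}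
    (hinv : H ≤ stabilizer (Perm α) Δ) (hc : Δᶜ.card ≤ Δ.card) (hd : 1 ≤ Δᶜ.card) :
    Shape π G H := by
  obtain ⟨r, s, hr, hs, hrs, hrπ, hsπ, hrn, hsn⟩ := h2
  have hcd : Δ.card + Δᶜ.card = Fintype.card α := Finset.card_add_card_compl Δ
  set c := Δ.card with hcdef
  set d := Δᶜ.card
  have hc2 : 2 ≤ c := by
    have := hr.two_le; have := hs.two_le; omega
  have hC : ∀ p, p.Prime → p ∈ π → ¬p ∣ (c + d).choose d := fun p hp hpπ h => by
    refine prime_not_dvd_relIndex hH hinv hp hpπ ?_
    rw [stab_set_relIndex hG (by omega), ← hcd, Nat.choose_symm_add]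
    exact h
  have hsmall : ∀ p, p.Prime → p ∈ π → p ≤ Fintype.card α → p ≤ c := fun p hp hpπ hpn => by
    by_contra hlt
    refine hC p hp hpπ ?_
    have h := hp.dvd_factorial.2 hpn
    rw [← hcd, ← Nat.choose_mul_factorial_mul_factorial (Nat.le_add_left d c),
      Nat.add_sub_cancel] at h
    rcases hp.dvd_mul.1 h with h | h
    · rcases hp.dvd_mul.1 h with h | h
      · exact h
      · exact absurd (hp.dvd_factorial.1 h) (by omega)
    · exact absurd (hp.dvd_factorial.1 h) (by omega)
  have hrc := hsmall r hr hrπ hrn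
  have hsc := hsmall s hs hsπ hsn
  by_cases hallc : ∀ p, p.Prime → p ≤ c → p ∈ π
  · rcases HallArith.small_split hc2 hd hc (fun p hp hpc => hC p hp (hallc p hp hpc)) with
      ⟨hd1, hprime⟩ | ⟨hc4, hd3⟩
    · have hn : Fintype.card α = c + 1 := by omega
      have hpc : PrimeCase π (Fintype.card α) := ⟨hn ▸ hprime, fun p hp hpn =>
        ⟨fun h => by have := hsmall p hp h hpn; omega, fun h => hallc p hp (by omega)⟩⟩
      obtain ⟨x, hx⟩ := Finset.card_eq_one.1 hd1
      refine Or.inl ⟨hpc, x, eq_of_le hH (fun g hg => ?_) ?_⟩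
      · have hg' : g • Δ = Δ := hinv hg
        have hxΔ : x ∉ Δ := Finset.mem_compl.1 (hx ▸ Finset.mem_singleton_self x)
        have : g x ∈ Δᶜ := Finset.mem_compl.2 fun h => hxΔ (by
          rw [← hg'] at h
          exact (Finset.smul_mem_smul_finset_iff g).1 h)
        rw [hx, Finset.mem_singleton] at this
        exact this
      · intro p hp hpd
        have hst : Nat.card (stabilizer (Perm α) x) = c.factorial := by
          have h := (stabilizer (Perm α) x).card_mul_index
          rw [index_stabilizer_of_transitive, Nat.card_perm, Nat.card_eq_fintype_card (α := α), hn,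
            Nat.factorial_succ, mul_comm] at h
          exact Nat.eq_of_mul_eq_mul_left (by omega) h
        have h := hp.dvd_factorial.1 (hst ▸ hpd.trans (Subgroup.card_dvd_of_le inf_le_left))
        exact hallc p hp h
    · have hn : Fintype.card α = 7 := by omega
      have h23 : TwoThree π (Fintype.card α) := fun p hp hpn => by
        constructor
        · intro h
          have := hsmall p hp h hpn
          have := hp.two_le
          have : p ≠ 4 := fun h => by rw [h] at hp; norm_num at hp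
          omega
        · rintro (rfl | rfl) <;> exact hallc _ hp (by omega)
      refine Or.inr (Or.inl ⟨⟨hn, h23⟩, Δ, hc4, eq_of_le hH hinv fun p hp hpd => ?_⟩)
      have hidx : (stabilizer (Perm α) Δ).relIndex ⊤ = 35 := by
        rw [stab_set_relIndex (Or.inl rfl) (by omega), hn, ← hcdef, hc4]; rfl
      rw [Subgroup.relIndex_top_right] at hidx
      have h := (stabilizer (Perm α) Δ).card_mul_index
      rw [hidx, Nat.card_perm, Nat.card_eq_fintype_card (α := α), hn,
        show Nat.factorial 7 = 5040 by rfl] at h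
      have hW : Nat.card (stabilizer (Perm α) Δ) = 2 ^ 4 * 3 ^ 2 := by omega
      have h' := hW ▸ hpd.trans (Subgroup.card_dvd_of_le inf_le_left)
      rcases hp.dvd_mul.1 h' with h' | h'
      · exact hallc p hp (by have := Nat.le_of_dvd two_pos (hp.dvd_of_dvd_pow h'); omega)
      · exact hallc p hp (by have := Nat.le_of_dvd three_pos (hp.dvd_of_dvd_pow h'); omega)
  exfalso
  push Not at hallc
  obtain ⟨R, H₁, hR, hH₁⟩ := restrict_hall (Δ := Δ) (L := stabilizer (Perm α) Δ ⊓ G) (H := H)
    (π := π) (fun g hg hgs => ⟨by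
      refine Finset.eq_of_subset_of_card_le ?_ (by rw [Finset.card_smul_finset])
      intro y hy
      obtain ⟨x, hx, rfl⟩ := Finset.mem_smul_finset.1 hy
      by_cases hgx : g x = x
      · rw [Perm.smul_def, hgx]; exact hx
      · exact hgs (Perm.apply_mem_support.2 (Perm.mem_support.2 hgx)), hG.alt_le hg⟩)
    inf_le_left ⟨le_inf hinv hH.1, hH.2.1, fun p hp hpπ h => hH.2.2 p hp hpπ (h.trans
      (Dvd.intro _ (Subgroup.relIndex_mul_relIndex H (stabilizer (Perm α) Δ ⊓ G) G
        (le_inf hinv hH.1) inf_le_right)))⟩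
  have hcard : Fintype.card {x // x ∈ Δ} = c := Fintype.card_coe Δ
  have hcls : Cls π c := hcard ▸ ih {x // x ∈ Δ} (by rw [hcard]; omega)
    (by rw [hcard]; exact ⟨r, s, hr, hs, hrs, hrπ, hsπ, hrc, hsc⟩) (by rw [hcard]; exact hallc)
    R H₁ hR hH₁
  refine HallArith.succ_false hd hc fun p hp hpc => hC p hp ?_
  rcases hcls with ⟨hcp, hπc⟩ | ⟨hc78, hπc⟩
  · have hc3 : c ≠ 2 := fun h => by
      have := (hπc r hr hrc).1 hrπ; have := hr.two_le; omega
    have hce : ¬(c + 1).Prime := fun h => by
      rcases h.eq_two_or_odd with h' | h' <;> rcases hcp.eq_two_or_odd with h'' | h'' <;> omega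
    obtain ⟨k, hk⟩ := hpc
    have hpc' : p < c := by
      rcases Nat.lt_or_ge k 2 with hk2 | hk2
      · interval_cases k
        · omega
        · exact absurd (by rw [hk, mul_one]; exact hp) hce
      · nlinarith
    exact (hπc p hp hpc'.le).2 hpc'
  · have hp23 : p = 2 ∨ p = 3 := by
      rcases hc78 with h | h <;> rw [h] at hpc
      · exact Or.inl ((Nat.prime_dvd_prime_iff_eq hp Nat.prime_two).1 (hp.dvd_of_dvd_pow (show p ∣ 2 ^ 3 from hpc)))
      · exact Or.inr ((Nat.prime_dvd_prime_iff_eq hp Nat.prime_three).1 (hp.dvd_of_dvd_pow (show p ∣ 3 ^ 2 from hpc)))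
    exact (hπc p hp (by rcases hp23 with rfl | rfl <;> omega)).2 hp23

theorem blocks_case (ih : IH.{u} π (Fintype.card α)) (h2 : Two π (Fintype.card α))
    (hG : Good G) (hH : IsPiHallOf π H G) [IsPretransitive H α]
    (hnprim : ¬IsPreprimitive H α) (hn : 2 ≤ Fintype.card α) : Shape π G H := by
  classical
  obtain ⟨B₀, hB₀, hB₀1, hB₀2⟩ : ∃ B : Set α, IsBlock H B ∧ ¬B.Subsingleton ∧ B ≠ Set.univ := by
    by_contra hcon
    push Not at hcon
    refine hnprim { toIsPretransitive := inferInstance, isTrivialBlock_of_isBlock := fun {B} hB => ?_ }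
    by_cases h : B.Subsingleton
    · exact Or.inl h
    · exact Or.inr (hcon B hB (Set.not_subsingleton_iff.1 h))
  set B := B₀.toFinset with hBdef
  have hBcoe : (B : Set α) = B₀ := Set.coe_toFinset B₀
  set a := B.card with hadef
  have ha2 : 2 ≤ a := by
    by_contra hlt
    exact hB₀1 (hBcoe ▸ fun x hx y hy => Finset.card_le_one.1 (by omega : B.card ≤ 1) x hx y hy)
  set 𝓑 : Finset (Finset α) := (Finset.univ : Finset ↥H).image fun h : ↥H => (h : Perm α) • B with h𝓑
  have hmem : ∀ h : H, (h : Perm α) • B ∈ 𝓑 := fun h =>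
    Finset.mem_image_of_mem _ (Finset.mem_univ h)
  have hBmem : B ∈ 𝓑 := by simpa using hmem 1
  have hcardP : ∀ P ∈ 𝓑, P.card = a := fun P hP => by
    obtain ⟨h, -, rfl⟩ := Finset.mem_image.1 hP
    exact Finset.card_smul_finset _ _
  have hdisj : ∀ P ∈ 𝓑, ∀ Q ∈ 𝓑, ∀ x, x ∈ P → x ∈ Q → P = Q := by
    intro P hP Q hQ x hxP hxQ
    obtain ⟨h, -, rfl⟩ := Finset.mem_image.1 hP
    obtain ⟨k, -, rfl⟩ := Finset.mem_image.1 hQ
    have hcoe : ∀ g : H, (((g : Perm α) • B : Finset α) : Set α) = g • B₀ := fun g => by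
      rw [Finset.coe_smul_finset, hBcoe]; rfl
    apply Finset.coe_injective
    rw [hcoe, hcoe]
    by_contra hne
    have := isBlock_iff_smul_eq_smul_or_disjoint.1 hB₀ h k
    rcases this with h' | h'
    · exact hne h'
    · exact Set.disjoint_left.1 h' ((hcoe h) ▸ Finset.mem_coe.2 hxP) ((hcoe k) ▸ Finset.mem_coe.2 hxQ)
  obtain ⟨x₀, hx₀⟩ : B.Nonempty := Finset.card_pos.1 (by omega)
  have hcover : ∀ x, ∃ P ∈ 𝓑, x ∈ P := fun x => by
    obtain ⟨g, hg⟩ := exists_smul_eq H x₀ x
    exact ⟨_, hmem g, Finset.mem_smul_finset.2 ⟨x₀, hx₀, hg⟩⟩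
  set b := 𝓑.card with hbdef
  have hab : b * a = Fintype.card α := by
    have h1 : (Finset.univ : Finset α) = 𝓑.biUnion fun P => P := by
      ext x
      simpa using hcover x
    rw [← Finset.card_univ, h1, Finset.card_biUnion fun P hP Q hQ hne => Finset.disjoint_left.2
      fun x hxP hxQ => hne (hdisj P hP Q hQ x hxP hxQ)]
    rw [Finset.sum_congr rfl hcardP, Finset.sum_const, smul_eq_mul]
  have hb2 : 2 ≤ b := by
    by_contra hlt
    refine hB₀2 (hBcoe ▸ ?_)
    ext x
    obtain ⟨P, hP, hxP⟩ := hcover x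
    rw [Finset.card_le_one.1 (by omega : 𝓑.card ≤ 1) P hP B hBmem] at hxP
    simp [hxP]
  set W := stabilizer (Perm α) 𝓑 with hW
  have hHW : H ≤ W := fun g hg => by
    refine Finset.eq_of_subset_of_card_le ?_ (by rw [Finset.card_smul_finset])
    intro P hP
    obtain ⟨Q, hQ, rfl⟩ := Finset.mem_smul_finset.1 hP
    obtain ⟨h, -, rfl⟩ := Finset.mem_image.1 hQ
    rw [smul_smul]
    exact hmem (⟨g, hg⟩ * h)
  have hWcard : Nat.card W ∣ a.factorial ^ b * b.factorial := by
    have hW' : ∀ (g : W) (P : {P // P ∈ 𝓑}), (g : Perm α) • (P : Finset α) ∈ 𝓑 := fun g P => by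
      have h : (g : Perm α) • (P : Finset α) ∈ (g : Perm α) • 𝓑 :=
        Finset.smul_mem_smul_finset P.2
      rwa [(g.2 : (g : Perm α) • 𝓑 = 𝓑)] at h
    let _ : MulAction W {P // P ∈ 𝓑} :=
      { smul := fun g P => ⟨(g : Perm α) • (P : Finset α), hW' g P⟩
        one_smul := fun P => Subtype.ext (one_smul (Perm α) (P : Finset α))
        mul_smul := fun g h P => Subtype.ext (mul_smul (g : Perm α) (h : Perm α) (P : Finset α)) }
    set ψ := toPermHom W {P // P ∈ 𝓑}
    have hker : ∀ (g : ψ.ker) (P : {P // P ∈ 𝓑}) (x : α),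
        ((g : W) : Perm α) x ∈ (P : Finset α) ↔ x ∈ (P : Finset α) := fun g P x => by
      have h1 : ((g : W) : Perm α) • (P : Finset α) = P :=
        congrArg Subtype.val (Equiv.ext_iff.1 (MonoidHom.mem_ker.1 g.2) P)
      have h2 := Finset.smul_mem_smul_finset_iff ((g : W) : Perm α) (b := x) (s := (P : Finset α))
      rwa [h1] at h2
    let χ : ψ.ker →* ((P : {P // P ∈ 𝓑}) → Perm {x // x ∈ (P : Finset α)}) :=
      { toFun := fun g P => ((g : W) : Perm α).subtypePerm (hker g P)
        map_one' := funext fun P => Equiv.ext fun y => Subtype.ext rfl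
        map_mul' := fun u v => funext fun P => Equiv.ext fun y => Subtype.ext rfl }
    have hχ : Function.Injective χ := fun u v h => Subtype.ext (Subtype.ext (Equiv.ext fun x => by
      obtain ⟨P, hP, hxP⟩ := hcover x
      exact congrArg Subtype.val (Equiv.ext_iff.1 (congrFun h ⟨P, hP⟩) ⟨x, hxP⟩)))
    have h1 := Subgroup.card_dvd_of_injective χ hχ
    rw [Nat.card_pi, Finset.prod_congr rfl (g := fun _ => a.factorial) fun P _ => by
      rw [Nat.card_perm, Nat.card_eq_fintype_card, Fintype.card_coe, hcardP P P.2],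
      Finset.prod_const, Finset.card_univ, Fintype.card_coe] at h1
    have h2 : ψ.ker.index ∣ b.factorial := by
      rw [Subgroup.index_ker]
      have := ψ.range.card_subgroup_dvd_card
      rwa [Nat.card_perm, Nat.card_eq_fintype_card (α := {P // P ∈ 𝓑}), Fintype.card_coe] at this
    rw [← ψ.ker.card_mul_index]
    exact mul_dvd_mul h1 h2
  have hN : Nat.uniformBell b a ∣ W.index := by
    have h1 := Nat.uniformBell_mul_eq b (show a ≠ 0 by omega)
    rw [hab] at h1
    have h2 := W.card_mul_index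
    rw [Nat.card_perm, Nat.card_eq_fintype_card (α := α)] at h2
    obtain ⟨t, ht⟩ := hWcard
    refine ⟨t, Nat.eq_of_mul_eq_mul_left (Nat.card_pos (α := W)) ?_⟩
    rw [h2, ← h1, mul_assoc, ht]
    ring
  have hsuppW : ∀ g : Perm α, g.support ⊆ B → g ∈ W ∧ g • B = B := by
    intro g hg
    have hfix : ∀ P ∈ 𝓑, g • P = P := fun P hP => by
      refine Finset.eq_of_subset_of_card_le ?_ (by rw [Finset.card_smul_finset])
      intro y hy
      obtain ⟨x, hx, rfl⟩ := Finset.mem_smul_finset.1 hy
      by_cases hgx : g x = x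
      · rw [Perm.smul_def, hgx]; exact hx
      · rw [hdisj P hP B hBmem x hx (hg (Perm.mem_support.2 hgx))]
        exact hg (Perm.apply_mem_support.2 (Perm.mem_support.2 hgx))
    refine ⟨Finset.eq_of_subset_of_card_le ?_ (by rw [Finset.card_smul_finset]), hfix B hBmem⟩
    intro P hP
    obtain ⟨Q, hQ, rfl⟩ := Finset.mem_smul_finset.1 hP
    rwa [hfix Q hQ]
  have hWindex : W.relIndex G = W.index := by
    rcases hG with rfl | rfl
    · exact Subgroup.relIndex_top_right W
    obtain ⟨u, v, hu, hv, huv⟩ := Finset.one_lt_card_iff.1 (show 1 < B.card by omega)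
    have hsw : swap u v ∈ W := (hsuppW _ fun x hx => by
      rw [Perm.support_swap huv, Finset.mem_insert, Finset.mem_singleton] at hx
      rcases hx with rfl | rfl <;> assumption).1
    have : Nontrivial α := ⟨u, v, huv⟩
    have h2 := (alternatingGroup α).relIndex_dvd_index_of_normal (K := W)
    rw [alternatingGroup.index_eq_two] at h2
    have h3 : (alternatingGroup α).relIndex W = 2 := by
      refine ((Nat.dvd_prime Nat.prime_two).1 h2).resolve_left fun h => ?_
      have := Perm.mem_alternatingGroup.1 (Subgroup.relIndex_eq_one.1 h hsw)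
      rw [Perm.sign_swap huv] at this
      exact absurd this (by decide)
    have h4 : W.relIndex (alternatingGroup α) * (alternatingGroup α).index =
        (alternatingGroup α).relIndex W * W.index := by
      rw [← Subgroup.inf_relIndex_right, Subgroup.relIndex_mul_index inf_le_right,
        ← Subgroup.inf_relIndex_left W, Subgroup.relIndex_mul_index inf_le_left]
    rw [h3, alternatingGroup.index_eq_two, mul_comm] at h4
    omega
  have hNco : ∀ p, p.Prime → p ∈ π → ¬p ∣ Nat.uniformBell b a := fun p hp hpπ h =>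
    prime_not_dvd_relIndex hH hHW hp hpπ (hWindex ▸ h.trans hN)
  -- the prime of the number of blocks
  obtain ⟨q, hq, hqb⟩ := Nat.exists_prime_and_dvd (show b ≠ 1 by omega)
  have hqπ : q ∈ π := by
    refine hH.2.1 q hq ((hqb.trans (Dvd.intro a hab)).trans ?_)
    have h := (stabilizer H x₀).card_mul_index
    rw [index_stabilizer_of_transitive, Nat.card_eq_fintype_card (α := α)] at h
    exact Dvd.intro_left _ h
  have hpow : ∀ p, p.Prime → p ∈ π → p ≤ b → ∃ j, a = p ^ j := fun p hp hpπ hpb =>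
    HallArith.pow_of_not_dvd hp (by omega) hpb (hNco p hp hpπ)
  have huniq : ∀ p, p.Prime → p ∈ π → p ≤ b → p = q := by
    intro p hp hpπ hpb
    obtain ⟨i, hi⟩ := hpow p hp hpπ hpb
    obtain ⟨j, hj⟩ := hpow q hq hqπ (Nat.le_of_dvd (by omega) hqb)
    have hi0 : i ≠ 0 := fun h => by rw [h, pow_zero] at hi; omega
    exact (Nat.prime_dvd_prime_iff_eq hp hq).1 (hp.dvd_of_dvd_pow (hj ▸ hi ▸ dvd_pow_self p hi0))
  obtain ⟨j, hj⟩ := hpow q hq hqπ (Nat.le_of_dvd (by omega) hqb)
  have hj0 : j ≠ 0 := fun h => by rw [h, pow_zero] at hj; omega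
  have hqa : q ≤ a := hj ▸ Nat.le_self_pow hj0 q
  have hle : ∀ p, p.Prime → p ∈ π → p ≤ Fintype.card α → p ≤ a := by
    intro p hp hpπ hpn
    by_contra hlt
    have h1 := hp.dvd_factorial.2 hpn
    rw [← hab, ← Nat.uniformBell_mul_eq b (show a ≠ 0 by omega)] at h1
    rcases hp.dvd_mul.1 h1 with h1 | h1
    · rcases hp.dvd_mul.1 h1 with h1 | h1
      · exact hNco p hp hpπ h1
      · exact hlt (hp.dvd_factorial.1 (hp.dvd_of_dvd_pow h1))
    · have := huniq p hp hpπ (hp.dvd_factorial.1 h1)
      omega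
  obtain ⟨r, s, hr, hs, hrs, hrπ, hsπ, hrn, hsn⟩ := h2
  have hra := hle r hr hrπ hrn
  have hsa := hle s hs hsπ hsn
  by_cases halla : ∀ p, p.Prime → p ≤ a → p ∈ π
  · have hb : b = 2 := by
      by_contra hne
      have h2' := huniq 2 Nat.prime_two (halla 2 Nat.prime_two ha2) hb2
      have h3a : 3 ≤ a := by
        have := hr.two_le; have := hs.two_le; omega
      have h3' := huniq 3 Nat.prime_three (halla 3 Nat.prime_three h3a) (by omega)
      omega
    have hq2 : q = 2 := by
      have := Nat.le_of_dvd (by omega) hqb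
      have := hq.two_le
      omega
    obtain ⟨h, hh⟩ : ∃ h, a = 2 * h :=
      ⟨2 ^ (j - 1), by rw [hj, hq2, ← pow_succ']; congr 1; omega⟩
    have hh2 : h = 2 := by
      refine HallArith.central ?_ fun p hp hpa hd => hNco p hp (halla p hp (by omega)) ?_
      · have := hr.two_le; have := hs.two_le; omega
      · rw [hb, HallArith.uniformBell_two, hh, show 2 * (2 * h) - 1 = 4 * h - 1 by omega]
        exact hd
    have ha4 : a = 4 := by omega
    have hn8 : Fintype.card α = 8 := by rw [← hab, hb, ha4]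
    have h23 : TwoThree π (Fintype.card α) := fun p hp hpn => by
      constructor
      · intro hpπ
        have := hle p hp hpπ hpn
        have := hp.two_le
        have : p ≠ 4 := fun h => by rw [h] at hp; norm_num at hp
        omega
      · rintro (rfl | rfl) <;> exact halla _ hp (by omega)
    refine Or.inr (Or.inr ⟨⟨hn8, h23⟩, B, ha4, ?_⟩)
    have h𝓑2 : 𝓑 = {B, Bᶜ} := by
      obtain ⟨u, v, huv, he⟩ := Finset.card_eq_two.1 (hbdef ▸ hb : 𝓑.card = 2)
      have hcompl : ∀ Q ∈ 𝓑, Q ≠ B → Q = Bᶜ := fun Q hQ hQB => by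
        ext x
        rw [Finset.mem_compl]
        refine ⟨fun hxQ hxB => hQB (hdisj Q hQ B hBmem x hxQ hxB), fun hxB => ?_⟩
        obtain ⟨P, hP, hxP⟩ := hcover x
        have hPB : P ≠ B := fun h => hxB (h ▸ hxP)
        rw [he, Finset.mem_insert, Finset.mem_singleton] at hP hQ hBmem
        grind
      rw [he] at hBmem hcompl ⊢
      rw [Finset.mem_insert, Finset.mem_singleton] at hBmem
      rcases hBmem with rfl | rfl
      · rw [hcompl v (by simp) huv.symm]
      · rw [hcompl u (by simp) huv, Finset.pair_comm]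
    rw [← h𝓑2]
    refine eq_of_le hH hHW fun p hp hpd => ?_
    have h1 := (hpd.trans (Subgroup.card_dvd_of_le inf_le_left)).trans hWcard
    rw [hb, ha4] at h1
    rcases hp.dvd_mul.1 h1 with h1 | h1
    · exact halla p hp (ha4 ▸ hp.dvd_factorial.1 (hp.dvd_of_dvd_pow h1))
    · exact halla p hp (by have := hp.dvd_factorial.1 h1; omega)
  exfalso
  push Not at halla
  set St := stabilizer (Perm α) B with hSt
  set L := St ⊓ (W ⊓ G)
  have horb : ∀ X : Subgroup (Perm α), H ≤ X → X ≤ W → orbit X B = (𝓑 : Set (Finset α)) := by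
    intro X hHX hXW
    ext P
    constructor
    · rintro ⟨g, rfl⟩
      have h : (g : Perm α) • B ∈ (g : Perm α) • 𝓑 := Finset.smul_mem_smul_finset hBmem
      rwa [(hXW g.2 : (g : Perm α) • 𝓑 = 𝓑)] at h
    · intro hP
      obtain ⟨h, -, rfl⟩ := Finset.mem_image.1 hP
      exact ⟨⟨h, hHX h.2⟩, rfl⟩
  have hrel : (St ⊓ H).relIndex L = H.relIndex (W ⊓ G) := by
    have e1 := Subgroup.relIndex_mul_relIndex (St ⊓ H) L (W ⊓ G)
      (le_inf inf_le_left (inf_le_right.trans (le_inf hHW hH.1))) inf_le_right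
    have e2 := Subgroup.relIndex_mul_relIndex (St ⊓ H) H (W ⊓ G) inf_le_right (le_inf hHW hH.1)
    rw [Subgroup.inf_relIndex_right, stab_relIndex, horb _ (le_inf hHW hH.1) inf_le_left] at e1
    rw [Subgroup.inf_relIndex_right, stab_relIndex, horb H le_rfl hHW, ← e1, mul_comm] at e2
    exact (Nat.eq_of_mul_eq_mul_right (by rw [Set.ncard_coe_finset]; omega) e2).symm
  obtain ⟨R, H₁, hR, hH₁⟩ := restrict_hall (Δ := B) (L := L) (H := St ⊓ H) (π := π)
    (fun g hg hgs => ⟨(hsuppW g hgs).2, (hsuppW g hgs).1, hG.alt_le hg⟩) inf_le_left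
    ⟨le_inf inf_le_left (inf_le_right.trans (le_inf hHW hH.1)),
      fun p hp hd => hH.2.1 p hp (hd.trans (Subgroup.card_dvd_of_le inf_le_right)),
      fun p hp hpπ hd => hH.2.2 p hp hpπ ((hrel ▸ hd).trans
        (Dvd.intro _ (Subgroup.relIndex_mul_relIndex H (W ⊓ G) G (le_inf hHW hH.1) inf_le_right)))⟩
  have hcard : Fintype.card {x // x ∈ B} = a := Fintype.card_coe B
  have hlt : a < Fintype.card α := by nlinarith
  have hcls : Cls π a := hcard ▸ ih {x // x ∈ B} (by rw [hcard]; exact hlt)
    (by rw [hcard]; exact ⟨r, s, hr, hs, hrs, hrπ, hsπ, hra, hsa⟩) (by rw [hcard]; exact halla)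
    R H₁ hR hH₁
  rcases hcls with ⟨hap, hπa⟩ | ⟨ha78, hπa⟩
  · have hqa' : q = a := ((Nat.prime_dvd_prime_iff_eq hq hap).1 (hj ▸ dvd_pow_self q hj0))
    have := (hπa q hq hqa).1 hqπ
    omega
  · have hq23 := (hπa q hq hqa).1 hqπ
    have hqd : q ∣ a := hj ▸ dvd_pow_self q hj0
    rcases ha78 with ha7 | ha8
    · rw [ha7] at hqd
      rcases hq23 with rfl | rfl <;> norm_num at hqd
    · obtain rfl : q = 2 := by
        rcases hq23 with rfl | rfl
        · rfl
        · rw [ha8] at hqd; norm_num at hqd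
      have h3π : 3 ∈ π := (hπa 3 Nat.prime_three (by omega)).2 (Or.inr rfl)
      have hb : b = 2 := by
        by_contra hne
        have := huniq 3 Nat.prime_three h3π (by omega)
        omega
      refine hNco 3 Nat.prime_three h3π ?_
      rw [hb, HallArith.uniformBell_two, ha8]
      decide +kernel

/-- The classification of Hall subgroups for two primes but not all. -/
theorem classify : ∀ (n : ℕ) (β : Type u) [Fintype β] [DecidableEq β], Fintype.card β = n →
    Two π (Fintype.card β) → NotAll π (Fintype.card β) →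
    ∀ G H : Subgroup (Perm β), Good G → IsPiHallOf π H G → Shape π G H := by
  intro n
  induction n using Nat.strong_induction_on with
  | _ n ihn =>
    intro β _ _ hβ h2 hns G H hG hH
    have ih : IH.{u} π (Fintype.card β) := fun γ _ _ hlt h2' hns' G' H' hG' hH' =>
      (ihn _ (hβ ▸ hlt) γ rfl h2' hns' G' H' hG' hH').cls
    by_cases htr : IsPretransitive H β
    · have hn2 : 2 ≤ Fintype.card β := by
        obtain ⟨r, s, hr, -, -, -, -, hrn, -⟩ := h2
        have := hr.two_le
        omega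
      by_cases hprim : IsPreprimitive H β
      · exact (primitive_false h2 hns hG hH hprim).elim
      · exact blocks_case ih h2 hG hH hprim hn2
    · have hn2 : Nonempty β := by
        by_contra h
        exact htr ⟨fun x => (h ⟨x⟩).elim⟩
      obtain ⟨x₀⟩ := hn2
      classical
      set Ω := (orbit H x₀).toFinset with hΩ
      have hinv : H ≤ stabilizer (Perm β) Ω := fun g hg => by
        refine Finset.eq_of_subset_of_card_le ?_ (by rw [Finset.card_smul_finset])
        intro y hy
        obtain ⟨z, hz, rfl⟩ := Finset.mem_smul_finset.1 hy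
        rw [hΩ, Set.mem_toFinset] at hz ⊢
        exact orbit_eq_iff.2 hz ▸ mem_orbit z (⟨g, hg⟩ : H)
      have hne : Ω ≠ Finset.univ := fun h => htr (by
        refine isPretransitive_iff_base (G := H) x₀ |>.2 fun y => ?_
        have : y ∈ Ω := h ▸ Finset.mem_univ y
        rw [hΩ, Set.mem_toFinset] at this
        exact this)
      have h1 : 1 ≤ Ωᶜ.card := Finset.card_pos.2 (by rwa [Finset.nonempty_iff_ne_empty, Ne,
        Finset.compl_eq_empty_iff])
      have h2' : 1 ≤ Ω.card := Finset.card_pos.2 ⟨x₀, by rw [hΩ, Set.mem_toFinset]; exact mem_orbit_self x₀⟩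
      rcases le_total Ωᶜ.card Ω.card with hle | hle
      · exact invariant_case ih h2 hns hG hH hinv hle h1
      · refine invariant_case ih h2 hns hG hH (Δ := Ωᶜ) (fun g hg => ?_) (by rwa [compl_compl])
          (by rwa [compl_compl])
        have hg' : g • Ω = Ω := hinv hg
        show g • Ωᶜ = Ωᶜ
        rw [Finset.compl_eq_univ_sdiff, Finset.smul_finset_sdiff, Finset.smul_finset_univ, hg']

/-- The classification, for a permutation group. -/
theorem shape_of_hall (hG : Good G) (h2 : Two π (Fintype.card α)) (hns : NotAll π (Fintype.card α))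
    (hH : IsPiHallOf π H G) : Shape π G H :=
  classify _ α rfl h2 hns G H hG hH

end CfsgLib.Perm.HallClass
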