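import Mathlib
import Cfsg.Agent.Lib.Perm.AltSubsetAux

/-! Groups transitive on tuples and homogeneous on the next two sizes: orders and stabilisers. -/

set_option autoImplicit false

open Equiv
open scoped Pointwise

namespace CfsgLib.Perm

variable {α : Type*} [Fintype α] [DecidableEq α]

/-- The elements of `G` leaving a finite set invariant. -/
def setStabIn (G : Subgroup (Equiv.Perm α)) (S : Finset α) : Subgroup (Equiv.Perm α) where
  carrier := {g | g ∈ G ∧ ∀ x, g x ∈ S ↔ x ∈ S}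
  one_mem' := ⟨G.one_mem, fun _ => Iff.rfl⟩
  mul_mem' := fun {g h} hg hh => ⟨G.mul_mem hg.1 hh.1, fun x => (hg.2 (h x)).trans (hh.2 x)⟩
  inv_mem' := fun {g} hg => ⟨G.inv_mem hg.1, fun x => by
    have := hg.2 (g⁻¹ x)
    rw [Equiv.Perm.inv_def, Equiv.apply_symm_apply] at this
    rw [Equiv.Perm.inv_def]; exact this.symm⟩

theorem mem_setStabIn {G : Subgroup (Equiv.Perm α)} {S : Finset α} {g : Equiv.Perm α} :
    g ∈ setStabIn G S ↔ g ∈ G ∧ ∀ x, g x ∈ S ↔ x ∈ S := Iff.rfl

/-- Membership in a set stabiliser needs one inclusion only. -/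
theorem mem_setStabIn_of {G : Subgroup (Equiv.Perm α)} {S : Finset α} {g : Equiv.Perm α} (hg : g ∈ G)
    (h : ∀ x ∈ S, g x ∈ S) : g ∈ setStabIn G S := by
  refine ⟨hg, fun x => ⟨fun hx => ?_, h x⟩⟩
  have he : S.image g = S := Finset.eq_of_subset_of_card_le
    (Finset.image_subset_iff.2 h) (by rw [Finset.card_image_of_injective _ g.injective])
  rw [← he, Finset.mem_image] at hx
  obtain ⟨y, hy, hyx⟩ := hx
  exact g.injective hyx ▸ hy

/-- The action of a set stabiliser on the set. -/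
def setRestrict (G : Subgroup (Equiv.Perm α)) (S : Finset α) : setStabIn G S →* Equiv.Perm S where
  toFun g := Equiv.Perm.subtypePerm (g : Equiv.Perm α) g.2.2
  map_one' := by ext x; rfl
  map_mul' g h := by ext x; rfl

theorem setRestrict_apply (G : Subgroup (Equiv.Perm α)) (S : Finset α) (g : setStabIn G S) (x : S) :
    (setRestrict G S g x : α) = (g : Equiv.Perm α) x := rfl

theorem setRestrict_injective {G : Subgroup (Equiv.Perm α)} {S : Finset α} (h : fixIn G S = ⊥) :
    Function.Injective (setRestrict G S) := by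
  rw [← MonoidHom.ker_eq_bot_iff, Subgroup.eq_bot_iff_forall]
  intro g hg
  have hm : (g : Equiv.Perm α) ∈ fixIn G S := mem_fixIn.2 ⟨g.2.1, fun x hx =>
    congrArg Subtype.val (DFunLike.congr_fun (MonoidHom.mem_ker.1 hg) (⟨x, hx⟩ : S))⟩
  rw [h, Subgroup.mem_bot] at hm
  exact Subtype.ext hm

/-- A homogeneous group moves any set of that size to any other. -/
theorem homog_exists {G : Subgroup (Equiv.Perm α)} {k : ℕ}
    (hh : MulAction.IsPretransitive G (Set.powersetCard α k)) {S T : Finset α} (hS : S.card = k)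
    (hT : T.card = k) : ∃ g ∈ G, S.image g = T := by
  obtain ⟨g, hg⟩ := MulAction.exists_smul_eq G (⟨S, hS⟩ : Set.powersetCard α k) ⟨T, hT⟩
  exact ⟨g, g.2, congrArg Subtype.val hg⟩

/-- The order of a homogeneous group. -/
theorem homog_card {G : Subgroup (Equiv.Perm α)} {k : ℕ}
    (hh : MulAction.IsPretransitive G (Set.powersetCard α k)) {S : Finset α} (hS : S.card = k) :
    Nat.card G = (Fintype.card α).choose k * Nat.card (setStabIn G S) := by
  rw [← (MulAction.stabilizer G (⟨S, hS⟩ : Set.powersetCard α k)).index_mul_card,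
    MulAction.index_stabilizer_of_transitive, Set.powersetCard.card, Nat.card_eq_fintype_card (α := α)]
  congr 1
  refine Nat.card_congr
    ⟨fun g => ⟨(g.1 : Equiv.Perm α), mem_setStabIn_of g.1.2 fun x hx => ?_⟩,
      fun g => ⟨⟨g.1, g.2.1⟩, Subtype.ext ?_⟩, fun g => rfl, fun g => rfl⟩
  · have h : S.image ((g.1 : Equiv.Perm α) : α → α) = S := congrArg Subtype.val g.2
    exact (Finset.ext_iff.1 h _).1 (Finset.mem_image_of_mem _ hx)
  · show S.image ((g : Equiv.Perm α) : α → α) = S
    exact Finset.eq_of_subset_of_card_le (Finset.image_subset_iff.2 fun x hx => (g.2.2 x).2 hx)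
      (by rw [Finset.card_image_of_injective _ (g : Equiv.Perm α).injective])

/-- The order of a multiply transitive group. -/
theorem ktrans_card {G : Subgroup (Equiv.Perm α)} {j : ℕ}
    (hG : MulAction.IsMultiplyPretransitive G α j) {X : Finset α} (hX : X.card = j) :
    Nat.card G * (Fintype.card α - j).factorial =
      (Fintype.card α).factorial * Nat.card (fixIn G X) := by
  have h1 := hG.index_of_fixingSubgroup_mul (s := (X : Set α)) (by rw [Set.ncard_coe_finset, hX])
  rw [Nat.card_eq_fintype_card (α := α)] at h1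
  rw [← h1, ← (fixingSubgroup G (X : Set α)).index_mul_card]
  have h2 : Nat.card (fixingSubgroup G (X : Set α)) = Nat.card (fixIn G X) :=
    Nat.card_congr
      ⟨fun g => ⟨(g.1 : Equiv.Perm α), mem_fixIn.2 ⟨g.1.2, fun x hx => (mem_fixingSubgroup_iff _).1 g.2 x hx⟩⟩,
        fun g => ⟨⟨g.1, (mem_fixIn.1 g.2).1⟩, (mem_fixingSubgroup_iff _).2 fun x hx => (mem_fixIn.1 g.2).2 x hx⟩,
        fun g => rfl, fun g => rfl⟩
  rw [h2]; ring

/-- Transitivity of the stabilisers of `j` points gives one more degree of transitivity. -/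
theorem ktrans_succ {G : Subgroup (Equiv.Perm α)} {j : ℕ}
    (hG : MulAction.IsMultiplyPretransitive G α j) (hj : j ≤ Fintype.card α)
    (h : ∀ X : Finset α, X.card = j → ∀ y ∉ X, ∀ z ∉ X, ∃ g ∈ fixIn G X, g y = z) :
    MulAction.IsMultiplyPretransitive G α (j + 1) := by
  refine ⟨fun x y => ?_⟩
  obtain ⟨g, hg, hgx⟩ := ktrans_exists hG hj le_rfl (Fin.castSuccEmb.trans x) (Fin.castSuccEmb.trans y)
  let X := Finset.univ.map (Fin.castSuccEmb.trans y)
  have hlast : ∀ i : Fin j, y i.castSucc ≠ g (x (Fin.last j)) := fun i e => by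
    have h1 : g (x i.castSucc) = y i.castSucc := hgx i
    rw [← h1] at e
    exact (Fin.castSucc_lt_last i).ne (x.injective (g.injective e))
  obtain ⟨t, ht, hty⟩ := h X (by simp [X]) (g (x (Fin.last j)))
    (fun hm => by
      obtain ⟨i, -, hi⟩ := Finset.mem_map.1 hm
      exact hlast i hi)
    (y (Fin.last j)) (fun hm => by
      obtain ⟨i, -, hi⟩ := Finset.mem_map.1 hm
      exact (Fin.castSucc_lt_last i).ne (y.injective hi))
  obtain ⟨htG, htX⟩ := mem_fixIn.1 ht
  refine ⟨⟨t * g, G.mul_mem htG hg⟩, Function.Embedding.ext fun i => ?_⟩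
  show (t * g) (x i) = y i
  induction i using Fin.lastCases with
  | last => rw [Equiv.Perm.mul_apply, hty]
  | cast i =>
    rw [Equiv.Perm.mul_apply, show g (x i.castSucc) = y i.castSucc from hgx i,
      htX (y i.castSucc) (Finset.mem_map.2 ⟨i, Finset.mem_univ _, rfl⟩)]

/-- An invariant set is partitioned into orbits. -/
theorem dvd_card_of_orbits {H : Subgroup (Equiv.Perm α)} {T : Finset α} {L : ℕ}
    (hT : ∀ h ∈ H, ∀ x ∈ T, h x ∈ T) (hL : ∀ x ∈ T, Nat.card (MulAction.orbit H x) = L) :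
    L ∣ T.card := by
  classical
  let o : α → Finset α := fun x => Finset.univ.filter fun c => c ∈ MulAction.orbit H x
  rw [Finset.card_eq_sum_card_image o T]
  refine Finset.dvd_sum fun O hO => ?_
  obtain ⟨x, hx, rfl⟩ := Finset.mem_image.1 hO
  refine dvd_of_eq ?_
  rw [← hL x hx, Nat.card_eq_fintype_card, ← Set.toFinset_card]
  congr 1
  ext c
  simp only [Set.mem_toFinset, Finset.mem_filter]
  constructor
  · intro hc
    obtain ⟨⟨g, hg⟩, rfl⟩ := hc
    refine ⟨hT g hg x hx, ?_⟩
    ext d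
    simp only [o, Finset.mem_filter, Finset.mem_univ, true_and]
    rw [MulAction.orbit_smul]
  · rintro ⟨hc, heq⟩
    have : c ∈ o c := by simp [o]
    rw [heq] at this
    simpa [o] using this

/-- The orbit of a point under the stabiliser of a set. -/
theorem orbit_fixIn_card {G : Subgroup (Equiv.Perm α)} (X : Finset α) (y : α) :
    Nat.card (MulAction.orbit (fixIn G X) y) * Nat.card (fixIn G (insert y X)) =
      Nat.card (fixIn G X) := by
  rw [← (MulAction.stabilizer (fixIn G X) y).index_mul_card, MulAction.index_stabilizer]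
  congr 1
  refine Nat.card_congr
    ⟨fun g => ⟨⟨g.1, mem_fixIn.2 ⟨(mem_fixIn.1 g.2).1, fun x hx => (mem_fixIn.1 g.2).2 x (Finset.mem_insert_of_mem hx)⟩⟩,
        (mem_fixIn.1 g.2).2 y (Finset.mem_insert_self _ _)⟩,
      fun g => ⟨g.1.1, mem_fixIn.2 ⟨(mem_fixIn.1 g.1.2).1, fun x hx => by
        rcases Finset.mem_insert.1 hx with rfl | hx
        · exact g.2
        · exact (mem_fixIn.1 g.1.2).2 x hx⟩⟩, fun g => rfl, fun g => rfl⟩

/-- A group `j`-transitive, homogeneous on `j + 1` and `j + 2` points but not `(j + 1)`-transitive has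
trivial stabilisers of `j + 1` points, and semiregular stabilisers of `j` points. -/
theorem homog_semiregular {G : Subgroup (Equiv.Perm α)} {j : ℕ}
    (hG : MulAction.IsMultiplyPretransitive G α j) (hj : j + 2 ≤ Fintype.card α)
    (hh1 : MulAction.IsPretransitive G (Set.powersetCard α (j + 1)))
    (hh2 : MulAction.IsPretransitive G (Set.powersetCard α (j + 2)))
    (hnt : ¬ MulAction.IsMultiplyPretransitive G α (j + 1)) :
    (∀ S : Finset α, S.card = j + 1 → fixIn G S = ⊥) ∧
      ∀ X : Finset α, X.card = j → Nat.card (fixIn G X) ∣ Fintype.card α - j ∧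
        Nat.card (fixIn G X) < Fintype.card α - j := by
  classical
  obtain ⟨X₀, hX₀, y₀, hy₀, z₀, hz₀, hyz⟩ : ∃ X : Finset α, X.card = j ∧ ∃ y ∉ X, ∃ z ∉ X,
      ∀ g ∈ fixIn G X, g y ≠ z := by
    by_contra hcon
    push Not at hcon
    exact hnt (ktrans_succ hG (by omega) hcon)
  have hd : ∀ k : ℕ, MulAction.IsPretransitive G (Set.powersetCard α k) → ∀ S T : Finset α,
      S.card = k → T.card = k → Nat.card (fixIn G S) = Nat.card (fixIn G T) := fun k hk S T hS hT => by
    obtain ⟨g, hg, hgS⟩ := homog_exists hk hS hT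
    exact fixIn_conj hg hgS
  have hins : ∀ y, y ∉ X₀ → (insert y X₀).card = j + 1 := fun y hy => by
    rw [Finset.card_insert_of_notMem hy, hX₀]
  have hinv : ∀ (Y : Finset α) g, g ∈ fixIn G Y → ∀ c ∉ Y, g c ∉ Y := fun Y g hg c hc h => by
    have h1 := (mem_fixIn.1 hg).2 _ h
    exact hc (g.injective h1 ▸ h)
  set d := Nat.card (fixIn G (insert y₀ X₀)) with hdd
  have hdpos : 0 < d := Nat.card_pos
  obtain ⟨L, hL⟩ : ∃ L, L = Nat.card (MulAction.orbit (fixIn G X₀) y₀) := ⟨_, rfl⟩
  have hK : L * d = Nat.card (fixIn G X₀) := by rw [hL, hdd, orbit_fixIn_card]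
  have horb : ∀ y ∉ X₀, Nat.card (MulAction.orbit (fixIn G X₀) y) = L := fun y hy => by
    have h1 := orbit_fixIn_card (G := G) X₀ y
    rw [hd (j + 1) hh1 _ (insert y₀ X₀) (hins y hy) (hins y₀ hy₀), ← hK] at h1
    exact Nat.eq_of_mul_eq_mul_right hdpos h1
  -- the orbits of the stabiliser of one more point
  set D := fixIn G (insert y₀ X₀) with hD
  have hDK : ∀ g ∈ D, g ∈ fixIn G X₀ := fun g hg => mem_fixIn.2 ⟨(mem_fixIn.1 hg).1,
    fun x hx => (mem_fixIn.1 hg).2 x (Finset.mem_insert_of_mem hx)⟩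
  have hins2 : ∀ c, c ∉ insert y₀ X₀ → (insert c (insert y₀ X₀)).card = j + 2 := fun c hc => by
    rw [Finset.card_insert_of_notMem hc, hins y₀ hy₀]
  obtain ⟨L', hL'⟩ : ∃ L', L' = Nat.card (MulAction.orbit D z₀) := ⟨_, rfl⟩
  have hz₁ : z₀ ∉ insert y₀ X₀ := by
    simp only [Finset.mem_insert, not_or]
    exact ⟨fun e => hyz 1 (Subgroup.one_mem _) e.symm, hz₀⟩
  have horb' : ∀ c ∉ insert y₀ X₀, Nat.card (MulAction.orbit D c) = L' := fun c hc => by
    have h1 := orbit_fixIn_card (G := G) (insert y₀ X₀) c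
    have h2 := orbit_fixIn_card (G := G) (insert y₀ X₀) z₀
    rw [hd (j + 2) hh2 _ (insert z₀ (insert y₀ X₀)) (hins2 c hc) (hins2 z₀ hz₁), ← h2] at h1
    rw [hL']
    exact Nat.eq_of_mul_eq_mul_right Nat.card_pos h1
  set O := Finset.univ.filter fun c => c ∈ MulAction.orbit (fixIn G X₀) y₀ with hO
  set O' := Finset.univ.filter fun c => c ∈ MulAction.orbit (fixIn G X₀) z₀ with hO'
  have hcardO : ∀ y, y ∉ X₀ → (Finset.univ.filter fun c => c ∈ MulAction.orbit (fixIn G X₀) y).card = L :=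
    fun y hy => by
      rw [← horb y hy, Nat.card_eq_fintype_card, ← Set.toFinset_card]
      congr 1
      ext c; simp
  have hOX : ∀ y, y ∉ X₀ → ∀ c, c ∈ MulAction.orbit (fixIn G X₀) y → c ∉ X₀ := by
    rintro y hy c ⟨⟨g, hg⟩, rfl⟩
    exact hinv X₀ g hg y hy
  have hstep : ∀ y, ∀ g ∈ D, ∀ c, c ∈ MulAction.orbit (fixIn G X₀) y →
      g c ∈ MulAction.orbit (fixIn G X₀) y := by
    rintro y g hg c ⟨⟨u, hu⟩, rfl⟩
    exact ⟨⟨g * u, Subgroup.mul_mem _ (hDK g hg) hu⟩, rfl⟩
  have h1 : L' ∣ (O.erase y₀).card := by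
    refine dvd_card_of_orbits (H := D) (fun g hg c hc => ?_) fun c hc => horb' c ?_
    · simp only [hO, Finset.mem_erase, Finset.mem_filter, Finset.mem_univ, true_and] at hc ⊢
      refine ⟨fun h => hc.1 (g.injective (h.trans ?_)), hstep y₀ g hg c hc.2⟩
      exact ((mem_fixIn.1 hg).2 y₀ (Finset.mem_insert_self _ _)).symm
    · simp only [hO, Finset.mem_erase, Finset.mem_filter, Finset.mem_univ, true_and] at hc
      simp only [Finset.mem_insert, not_or]
      exact ⟨hc.1, hOX y₀ hy₀ c hc.2⟩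
  have hy₀O : y₀ ∈ O := by simp [hO]
  rw [Finset.card_erase_of_mem hy₀O, hO, hcardO y₀ hy₀] at h1
  have h2 : L' ∣ O'.card := by
    refine dvd_card_of_orbits (H := D) (fun g hg c hc => ?_) fun c hc => horb' c ?_
    · simp only [hO', Finset.mem_filter, Finset.mem_univ, true_and] at hc ⊢
      exact hstep z₀ g hg c hc
    · simp only [hO', Finset.mem_filter, Finset.mem_univ, true_and] at hc
      simp only [Finset.mem_insert, not_or]
      refine ⟨?_, hOX z₀ hz₀ c hc⟩
      rintro rfl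
      obtain ⟨⟨g, hg⟩, hgc⟩ := hc
      exact hyz g⁻¹ (Subgroup.inv_mem _ hg) (by
        rw [Equiv.Perm.inv_eq_iff_eq]; exact hgc.symm)
  rw [hO', hcardO z₀ hz₀] at h2
  have hLpos : 0 < L := by
    rw [← hcardO y₀ hy₀, ← hO]
    exact Finset.card_pos.2 ⟨y₀, hy₀O⟩
  have hL'1 : L' = 1 := Nat.dvd_one.1 (by
    have := Nat.dvd_sub h2 h1
    rwa [show L - (L - 1) = 1 by omega] at this)
  have hDbot : D = ⊥ := by
    rw [Subgroup.eq_bot_iff_forall]
    intro g hg
    refine Equiv.ext fun c => ?_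
    by_cases hc : c ∈ insert y₀ X₀
    · exact (mem_fixIn.1 hg).2 c hc
    · obtain ⟨hsub, -⟩ := (Nat.card_eq_one_iff_unique.1 ((horb' c hc).trans hL'1))
      exact congrArg Subtype.val (hsub.elim
        ⟨g c, ⟨⟨g, hg⟩, rfl⟩⟩ ⟨c, MulAction.mem_orbit_self c⟩)
  have hd1 : d = 1 := by rw [hdd, hDbot, Subgroup.card_bot]
  refine ⟨fun S hS => Subgroup.card_eq_one.1 ((hd (j + 1) hh1 S _ hS (hins y₀ hy₀)).trans hd1), ?_⟩
  intro X hX
  have hKX : Nat.card (fixIn G X) = L := by
    have h3 := ktrans_card hG hX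
    have h4 := ktrans_card hG hX₀
    rw [h4] at h3
    rw [← Nat.eq_of_mul_eq_mul_left (Nat.factorial_pos _) h3, ← hK, hd1, mul_one]
  have hout : (Finset.univ \ X₀).card = Fintype.card α - j := by rw [Finset.card_univ_sdiff, hX₀]
  have hOsub : ∀ y, y ∉ X₀ →
      (Finset.univ.filter fun c => c ∈ MulAction.orbit (fixIn G X₀) y) ⊆ Finset.univ \ X₀ := by
    intro y hy c hc
    simp only [Finset.mem_filter, Finset.mem_sdiff, Finset.mem_univ, true_and] at hc ⊢
    exact hOX y hy c hc
  rw [hKX]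
  refine ⟨hout ▸ dvd_card_of_orbits (H := fixIn G X₀) (fun g hg c hc => ?_)
    (fun c hc => horb c (by simpa using hc)), ?_⟩
  · simp only [Finset.mem_sdiff, Finset.mem_univ, true_and] at hc ⊢
    exact hinv X₀ g hg c hc
  · rw [← hout, ← hcardO y₀ hy₀]
    refine Finset.card_lt_card (Finset.ssubset_iff_subset_ne.2 ⟨hOsub y₀ hy₀, fun h => ?_⟩)
    have hz : z₀ ∈ Finset.univ \ X₀ := by simp [hz₀]
    rw [← h] at hz
    obtain ⟨⟨g, hg⟩, hgz⟩ := (Finset.mem_filter.1 hz).2
    exact hyz g hg hgz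

/-- The orders of the set stabilisers. -/
theorem homog_equations {G : Subgroup (Equiv.Perm α)} {j : ℕ}
    (hG : MulAction.IsMultiplyPretransitive G α j) (hj : j + 2 ≤ Fintype.card α)
    (hh1 : MulAction.IsPretransitive G (Set.powersetCard α (j + 1)))
    (hh2 : MulAction.IsPretransitive G (Set.powersetCard α (j + 2)))
    {X S T : Finset α} (hX : X.card = j) (hS : S.card = j + 1) (hT : T.card = j + 2) :
    Nat.card (setStabIn G S) * (Fintype.card α - j) = (j + 1).factorial * Nat.card (fixIn G X) ∧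
      Nat.card (setStabIn G T) * (Fintype.card α - j - 1) = (j + 2) * Nat.card (setStabIn G S) := by
  set n := Fintype.card α with hn
  obtain ⟨m, hm⟩ : ∃ m, n - j = m + 1 := ⟨n - j - 1, by omega⟩
  have h1 := ktrans_card hG hX
  have hS' := homog_card hh1 hS
  have hT' := homog_card hh2 hT
  rw [← hn] at h1 hS' hT'
  have hC : 0 < n.choose (j + 1) := Nat.choose_pos (by omega)
  constructor
  · have h2 := Nat.choose_mul_factorial_mul_factorial (show j + 1 ≤ n by omega)
    rw [show n - (j + 1) = m by omega] at h2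
    rw [hS', hm, ← h2, Nat.factorial_succ] at h1
    rw [hm]
    refine Nat.eq_of_mul_eq_mul_left (Nat.mul_pos hC (Nat.factorial_pos m)) ?_
    linarith
  · refine Nat.eq_of_mul_eq_mul_left hC ?_
    have h3 := Nat.choose_succ_right_eq n (j + 1)
    rw [show n - j - 1 = n - (j + 1) by omega]
    calc n.choose (j + 1) * (Nat.card (setStabIn G T) * (n - (j + 1)))
        = (n.choose (j + 1) * (n - (j + 1))) * Nat.card (setStabIn G T) := by ring
      _ = (n.choose (j + 1 + 1) * Nat.card (setStabIn G T)) * (j + 2) := by rw [← h3]; ring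
      _ = (n.choose (j + 1) * Nat.card (setStabIn G S)) * (j + 2) := by rw [← hT', hS']
      _ = n.choose (j + 1) * ((j + 2) * Nat.card (setStabIn G S)) := by ring

end CfsgLib.Perm
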