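import Mathlib
import Cfsg.Agent.Lib.Perm.AltSubset
import Cfsg.Agent.Lib.Perm.HomogeneousAux

/-! The exceptional homogeneous groups, after Livingstone and Wagner. -/

set_option autoImplicit false

open Equiv

namespace CfsgLib.Perm

variable {α : Type*} [Fintype α] [DecidableEq α]

/-- The full symmetric group on a set of a homogeneous group gives transitivity on tuples. -/
theorem ktrans_of_sym {G : Subgroup (Equiv.Perm α)} {k : ℕ}
    (hh : MulAction.IsPretransitive G (Set.powersetCard α k)) {Δ : Finset α} (hΔ : Δ.card = k)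
    (hsym : ∀ σ : Equiv.Perm ↥Δ, ∃ g ∈ G, ∀ x : ↥Δ, g (x : α) = σ x) :
    MulAction.IsMultiplyPretransitive G α k := by
  classical
  suffices h : ∀ x y : Fin k ↪ α, ∃ g ∈ G, ∀ i, g (x i) = y i by
    exact ⟨fun x y => by
      obtain ⟨g, hg, hgi⟩ := h x y
      exact ⟨⟨g, hg⟩, Function.Embedding.ext hgi⟩⟩
  intro x y
  have hto : ∀ z : Fin k ↪ α, ∃ g ∈ G, ∀ i, g (z i) ∈ Δ := by
    intro z
    obtain ⟨g, hg, hgz⟩ := homog_exists hh (S := Finset.univ.map z) (by simp) hΔ
    exact ⟨g, hg, fun i => hgz ▸ Finset.mem_image_of_mem g (Finset.mem_map_of_mem _ (Finset.mem_univ i))⟩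
  obtain ⟨gx, hgx, hx⟩ := hto x
  obtain ⟨gy, hgy, hy⟩ := hto y
  let ex : Fin k → ↥Δ := fun i => ⟨gx (x i), hx i⟩
  let ey : Fin k → ↥Δ := fun i => ⟨gy (y i), hy i⟩
  have hex : Function.Bijective ex :=
    (Fintype.bijective_iff_injective_and_card ex).2
      ⟨fun i j h => x.injective (gx.injective (congrArg Subtype.val h)), by simp [hΔ]⟩
  have hey : Function.Bijective ey :=
    (Fintype.bijective_iff_injective_and_card ey).2
      ⟨fun i j h => y.injective (gy.injective (congrArg Subtype.val h)), by simp [hΔ]⟩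
  obtain ⟨g, hg, hgσ⟩ := hsym ((Equiv.ofBijective ex hex).symm.trans (Equiv.ofBijective ey hey))
  refine ⟨gy⁻¹ * g * gx, G.mul_mem (G.mul_mem (G.inv_mem hgy) hg) hgx, fun i => ?_⟩
  have h1 : g (gx (x i)) = gy (y i) := by
    have h2 := hgσ (ex i)
    rw [Equiv.trans_apply,
      show (Equiv.ofBijective ex hex).symm (ex i) = i from (Equiv.ofBijective ex hex).symm_apply_apply i] at h2
    exact h2
  rw [Equiv.Perm.mul_apply, Equiv.Perm.mul_apply, h1, Equiv.Perm.inv_def, Equiv.symm_apply_apply]

/-- Homogeneity spreads induced even permutations, and an odd one gives transitivity. -/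
theorem not_odd_of_alt {G : Subgroup (Equiv.Perm α)} {k : ℕ}
    (hh : MulAction.IsPretransitive G (Set.powersetCard α k))
    (hnt : ¬ MulAction.IsMultiplyPretransitive G α k) {Δ : Finset α} (hΔ : Δ.card = k)
    (halt : ∀ σ : Equiv.Perm ↥Δ, σ ∈ alternatingGroup ↥Δ → ∃ g ∈ G, ∀ x : ↥Δ, g (x : α) = σ x)
    {S : Finset α} (hS : S.card = k) {g : Equiv.Perm α} (hg : g ∈ G) (σ : Equiv.Perm ↥S)
    (hgσ : ∀ x : ↥S, g (x : α) = σ x) : Equiv.Perm.sign σ = 1 := by
  by_contra hodd
  refine hnt (ktrans_of_sym hh hS fun τ => ?_)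
  obtain ⟨t, ht, htS⟩ := homog_exists hh hS hΔ
  let e : ↥S ≃ ↥Δ :=
    (Equiv.ofBijective (fun x : ↥S => (⟨t x, htS ▸ Finset.mem_image_of_mem t x.2⟩ : ↥Δ))
      ((Fintype.bijective_iff_injective_and_card _).2
        ⟨fun x y h => Subtype.ext (t.injective (congrArg Subtype.val h)), by simp [hS, hΔ]⟩))
  have halt' : ∀ π : Equiv.Perm ↥S, Equiv.Perm.sign π = 1 → ∃ g ∈ G, ∀ x : ↥S, g (x : α) = π x := by
    intro π hπ
    obtain ⟨u, hu, hux⟩ := halt (e.permCongr π) (by
      rw [Equiv.Perm.mem_alternatingGroup, Equiv.Perm.sign_permCongr]; exact hπ)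
    refine ⟨t⁻¹ * u * t, G.mul_mem (G.mul_mem (G.inv_mem ht) hu) ht, fun x => ?_⟩
    have h1 : u (t x) = t (π x) := by
      have h2 := hux (e x)
      rw [Equiv.permCongr_apply, Equiv.symm_apply_apply] at h2
      exact h2
    rw [Equiv.Perm.mul_apply, Equiv.Perm.mul_apply, h1, Equiv.Perm.inv_def, Equiv.symm_apply_apply]
  rcases Int.units_eq_one_or (Equiv.Perm.sign τ) with h | h
  · exact halt' τ h
  · obtain ⟨u, hu, hux⟩ := halt' (τ * σ⁻¹) (by
      rw [map_mul, map_inv, h, (Int.units_eq_one_or _).resolve_left hodd]; decide)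
    refine ⟨u * g, G.mul_mem hu hg, fun x => ?_⟩
    rw [Equiv.Perm.mul_apply, hgσ x, hux (σ x), Equiv.Perm.mul_apply, Equiv.Perm.inv_def,
      Equiv.symm_apply_apply]

omit [Fintype α] in
/-- The permutation induced on an invariant set. -/
theorem exists_induced {S : Finset α} {g : Equiv.Perm α} (h : ∀ x, g x ∈ S ↔ x ∈ S) :
    ∃ σ : Equiv.Perm ↥S, ∀ x : ↥S, g (x : α) = σ x :=
  ⟨g.subtypePerm h, fun x => rfl⟩

omit [Fintype α] in
/-- The sign of a permutation acting on a set as a transposition. -/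
theorem sign_of_agree_swap {S : Finset α} {g : Equiv.Perm α} {a b : α} (ha : a ∈ S) (hb : b ∈ S)
    (hab : a ≠ b) (σ : Equiv.Perm ↥S) (hgσ : ∀ x : ↥S, g (x : α) = σ x)
    (hg : ∀ x ∈ S, g x = Equiv.swap a b x) : Equiv.Perm.sign σ = -1 := by
  have h : σ = Equiv.swap (⟨a, ha⟩ : ↥S) ⟨b, hb⟩ := by
    refine Equiv.ext fun x => Subtype.ext ?_
    rw [← hgσ x, hg x x.2, Equiv.swap_apply_def, Equiv.swap_apply_def]
    simp only [Subtype.ext_iff]
    split_ifs <;> rfl
  rw [h, Equiv.Perm.sign_swap (fun e => hab (congrArg Subtype.val e))]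

/-- A multiply transitive group with no odd permutation on any set of one more point does not exist
when at least four points are left over. -/
theorem no_odd_false {G : Subgroup (Equiv.Perm α)} {m : ℕ}
    (hG : MulAction.IsMultiplyPretransitive G α m) (hm : 4 ≤ m) (hn : m + 4 ≤ Fintype.card α)
    (hodd : ∀ S : Finset α, S.card = m + 1 → ∀ g ∈ G, ∀ σ : Equiv.Perm ↥S,
      (∀ x : ↥S, g (x : α) = σ x) → Equiv.Perm.sign σ = 1) : False := by
  classical
  have hB : InvFixLE G (m - 2) := by
    intro g hg hg2 hg1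
    by_contra hcon
    obtain ⟨a, ha⟩ : ∃ a, g a ≠ a := by
      by_contra h
      push Not at h
      exact hg1 (Equiv.ext h)
    have hgg : g (g a) = a := by rw [← Equiv.Perm.mul_apply, hg2, Equiv.Perm.one_apply]
    obtain ⟨P, hP, hPcard⟩ := Finset.exists_subset_card_eq (s := fixFinset g) (n := m - 1) (by omega)
    have haP : a ∉ P := fun h => ha (mem_fixFinset.1 (hP h))
    have hgaP : g a ∉ P := fun h => by
      have h1 := mem_fixFinset.1 (hP h)
      rw [hgg] at h1
      exact ha h1.symm
    set S := insert a (insert (g a) P) with hS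
    have hScard : S.card = m + 1 := by
      rw [hS, Finset.card_insert_of_notMem, Finset.card_insert_of_notMem hgaP, hPcard]
      · omega
      · simp only [Finset.mem_insert, not_or]
        exact ⟨fun e => ha e.symm, haP⟩
    have hsw : ∀ x ∈ S, g x = Equiv.swap a (g a) x := by
      intro x hx
      simp only [hS, Finset.mem_insert] at hx
      rcases hx with rfl | rfl | hx
      · rw [Equiv.swap_apply_left]
      · rw [Equiv.swap_apply_right, hgg]
      · rw [Equiv.swap_apply_of_ne_of_ne (fun e => haP (by rw [← e]; exact hx))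
          (fun e => hgaP (by rw [← e]; exact hx)),
          mem_fixFinset.1 (hP hx)]
    have haS : a ∈ S := Finset.mem_insert_self _ _
    have hgaS : g a ∈ S := Finset.mem_insert_of_mem (Finset.mem_insert_self _ _)
    obtain ⟨σ, hσ⟩ := exists_induced (S := S) (g := g) (mem_setStabIn_of hg fun x hx => by
      rw [hsw x hx, Equiv.swap_apply_def]
      split_ifs <;> assumption).2
    have h1 := hodd S hScard g hg σ hσ
    rw [sign_of_agree_swap haS hgaS (Ne.symm ha) σ hσ hsw] at h1
    exact absurd h1 (by decide)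
  -- an involution fixing exactly `m - 2` points
  obtain ⟨Θ, -, hΘ⟩ := Finset.exists_subset_card_eq (s := (Finset.univ : Finset α)) (n := m)
    (by rw [Finset.card_univ]; omega)
  obtain ⟨a, ha, b, hb, hab⟩ := Finset.one_lt_card.1 (show 1 < Θ.card by omega)
  obtain ⟨t, ht, ht2, -, htΘ⟩ := hB.exists_involution_lift hG (by omega) G.one_mem (one_mul _) (s := Θ)
    (by omega) hΘ.le (fun x hx => hx) (f := Equiv.swap a b)
    (fun x hx => by rw [Equiv.swap_apply_def]; split_ifs <;> assumption)
    (fun x _ => rfl) (fun x _ => Equiv.swap_apply_self a b x)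
  have ht1 : t ≠ 1 := fun h => hab (by
    have := htΘ a ha; rw [h, Equiv.swap_apply_left] at this; exact this)
  have htfix : (fixFinset t).card = m - 2 := by
    refine le_antisymm (hB t ht ht2 ht1) ?_
    have hsub : (Θ.erase a).erase b ⊆ fixFinset t := fun x hx => by
      simp only [Finset.mem_erase] at hx
      rw [mem_fixFinset, htΘ x hx.2.2, Equiv.swap_apply_of_ne_of_ne hx.2.1 hx.1]
    have := Finset.card_le_card hsub
    rw [Finset.card_erase_of_mem (Finset.mem_erase.2 ⟨Ne.symm hab, hb⟩), Finset.card_erase_of_mem ha, hΘ] at this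
    omega
  rcases Nat.lt_or_ge m 5 with hm4 | hm5
  · -- four points
    have hm4' : m = 4 := by omega
    subst hm4'
    obtain ⟨p⟩ : Nonempty (Fin 4 ↪ α) := Function.Embedding.nonempty_of_card_le
      (by rw [Fintype.card_fin]; omega)
    have h1 := Nat.odd_iff.1 (four_trans_inv hG (fun g hg h2 h3 => by
      have := hB g hg h2 h3; omega) (by omega) p).1
    have h2 := involution_fix_parity ht2
    omega
  -- three transpositions
  have htt : ∀ x, t (t x) = x := fun x => by rw [← Equiv.Perm.mul_apply, ht2, Equiv.Perm.one_apply]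
  set M := Finset.univ \ fixFinset t with hM
  have hMcard : 6 ≤ M.card := by rw [hM, Finset.card_univ_sdiff, htfix]; omega
  have hmemM : ∀ x, x ∈ M ↔ t x ≠ x := fun x => by simp [hM]
  obtain ⟨x₁, hx₁⟩ : M.Nonempty := Finset.card_pos.1 (by omega)
  obtain ⟨x₂, hx₂⟩ : (M \ {x₁, t x₁}).Nonempty := Finset.card_pos.1 (by
    have := Finset.le_card_sdiff ({x₁, t x₁} : Finset α) M
    have h2 : ({x₁, t x₁} : Finset α).card ≤ 2 := Finset.card_le_two
    omega)
  obtain ⟨x₃, hx₃⟩ : (M \ {x₁, t x₁, x₂, t x₂}).Nonempty := Finset.card_pos.1 (by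
    have := Finset.le_card_sdiff ({x₁, t x₁, x₂, t x₂} : Finset α) M
    have h2 : ({x₁, t x₁, x₂, t x₂} : Finset α).card ≤ 4 := Finset.card_le_four
    omega)
  simp only [Finset.mem_sdiff, Finset.mem_insert, Finset.mem_singleton, not_or, hmemM] at hx₁ hx₂ hx₃
  obtain ⟨hx₂m, h21, h21'⟩ := hx₂
  obtain ⟨hx₃m, h31, h31', h32, h32'⟩ := hx₃
  obtain ⟨P, hP, hPcard⟩ := Finset.exists_subset_card_eq (s := fixFinset t) (n := m - 5) (by omega)
  set six : Finset α := {x₁, t x₁, x₂, t x₂, x₃, t x₃} with hsix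
  have g21 : t x₂ ≠ x₁ := fun e => h21' (by rw [← e, htt])
  have g31 : t x₃ ≠ x₁ := fun e => h31' (by rw [← e, htt])
  have g32 : t x₃ ≠ x₂ := fun e => h32' (by rw [← e, htt])
  have hsixcard : six.card = 6 := by
    simp [hsix, Ne.symm hx₁, Ne.symm hx₂m, Ne.symm hx₃m, Ne.symm h21, Ne.symm h31, Ne.symm h32,
      Ne.symm g21, Ne.symm g31, Ne.symm g32, Ne.symm h21', Ne.symm h31', Ne.symm h32',
      fun e => h21 (t.injective e).symm, fun e => h31 (t.injective e).symm, fun e => h32 (t.injective e).symm]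
  have hsixM : ∀ x ∈ six, t x ≠ x := by
    intro x hx
    simp only [hsix, Finset.mem_insert, Finset.mem_singleton] at hx
    rcases hx with rfl | rfl | rfl | rfl | rfl | rfl
    all_goals first
      | assumption
      | (rw [htt]; exact Ne.symm (by assumption))
  have hdisj : Disjoint six P := Finset.disjoint_left.2 fun x hx hx' => hsixM x hx (mem_fixFinset.1 (hP hx'))
  set S := six ∪ P with hS
  have hScard : S.card = m + 1 := by rw [hS, Finset.card_union_of_disjoint hdisj, hsixcard, hPcard]; omega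
  have hstab : ∀ x, t x ∈ S ↔ x ∈ S := (mem_setStabIn_of ht fun x hx => by
    simp only [hS, Finset.mem_union] at hx ⊢
    rcases hx with hx | hx
    · left
      simp only [hsix, Finset.mem_insert, Finset.mem_singleton] at hx ⊢
      rcases hx with rfl | rfl | rfl | rfl | rfl | rfl <;> simp [htt]
    · right
      rw [mem_fixFinset.1 (hP hx)]; exact hx).2
  obtain ⟨σ, hσ⟩ := exists_induced hstab
  have hσsupp : σ.support.map (Function.Embedding.subtype _) = six := by
    ext x
    simp only [Finset.mem_map, Equiv.Perm.mem_support, Function.Embedding.coe_subtype]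
    constructor
    · rintro ⟨⟨y, hy⟩, hne, rfl⟩
      rcases Finset.mem_union.1 hy with h | h
      · exact h
      · exact absurd (Subtype.ext ((hσ ⟨y, hy⟩).symm.trans (mem_fixFinset.1 (hP h)))) hne
    · intro hx
      exact ⟨⟨x, Finset.mem_union_left _ hx⟩, fun e => hsixM x hx
        ((hσ ⟨x, Finset.mem_union_left _ hx⟩).trans (congrArg Subtype.val e)), rfl⟩
  have hσ2 : σ ^ 2 = 1 := by
    refine Equiv.ext fun x => Subtype.ext ?_
    rw [pow_two, Equiv.Perm.mul_apply, ← hσ, ← hσ, htt, Equiv.Perm.one_apply]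
  have hsupp : σ.support.card = 6 := by rw [← hsixcard, ← hσsupp, Finset.card_map]
  have hall : ∀ r ∈ σ.cycleType, r = 2 := fun r hr => by
    have h3 := Equiv.Perm.two_le_of_mem_cycleType hr
    have h4 := Nat.le_of_dvd (by norm_num)
      ((Equiv.Perm.dvd_of_mem_cycleType hr).trans (orderOf_dvd_of_pow_eq_one hσ2))
    omega
  have h1 := hodd S hScard t ht σ hσ
  have hrep := Multiset.eq_replicate_card.2 hall
  have hsum := Equiv.Perm.sum_cycleType σ
  rw [hrep, Multiset.sum_replicate, smul_eq_mul, hsupp] at hsum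
  rw [Equiv.Perm.sign_of_cycleType, hrep, Multiset.sum_replicate, Multiset.card_replicate, smul_eq_mul,
    hsum, show Multiset.card σ.cycleType = 3 by omega] at h1
  exact absurd h1 (by decide)

omit [DecidableEq α] in
/-- An element of a prime order dividing the order of a subgroup. -/
theorem exists_prime_order (H : Subgroup (Equiv.Perm α)) {p : ℕ} (hp : p.Prime) (h : p ∣ Nat.card H) :
    ∃ g ∈ H, g ^ p = 1 ∧ g ≠ 1 := by
  haveI := Fact.mk hp
  obtain ⟨g, hg⟩ := exists_prime_orderOf_dvd_card' p h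
  rw [← orderOf_submonoid] at hg
  refine ⟨g, g.2, by rw [← hg, pow_orderOf_eq_one], fun e => ?_⟩
  rw [e, orderOf_one] at hg
  exact hp.ne_one hg.symm

/-- An element of prime order leaving a set invariant bounds the order of its stabiliser. -/
theorem prime_dvd_setStab {G : Subgroup (Equiv.Perm α)} {S : Finset α} {g : Equiv.Perm α} {p : ℕ}
    (hp : p.Prime) (hg : g ∈ G) (hgp : g ^ p = 1) (hg1 : g ≠ 1) (hS : ∀ x ∈ S, g x ∈ S) :
    p ∣ Nat.card (setStabIn G S) := by
  haveI := Fact.mk hp
  have h := orderOf_dvd_natCard (⟨g, mem_setStabIn_of hg hS⟩ : setStabIn G S)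
  rwa [← orderOf_submonoid, orderOf_eq_prime hgp hg1] at h

/-- The order of the stabiliser of a set is the same for all sets of one size. -/
theorem setStab_card_eq {G : Subgroup (Equiv.Perm α)} {k : ℕ} (hk : k ≤ Fintype.card α)
    (hh : MulAction.IsPretransitive G (Set.powersetCard α k)) {S T : Finset α} (hS : S.card = k)
    (hT : T.card = k) : Nat.card (setStabIn G S) = Nat.card (setStabIn G T) := by
  have h1 := homog_card hh hS
  rw [homog_card hh hT] at h1
  exact (Nat.eq_of_mul_eq_mul_left (Nat.choose_pos hk) h1).symm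

/-- The case `k = 4`. -/
theorem homog_case_four {G : Subgroup (Equiv.Perm α)}
    (hG : MulAction.IsMultiplyPretransitive G α 2) (hn : 6 ≤ Fintype.card α)
    (hh1 : MulAction.IsPretransitive G (Set.powersetCard α 3))
    (hh2 : MulAction.IsPretransitive G (Set.powersetCard α 4))
    (hnt : ¬ MulAction.IsMultiplyPretransitive G α 3) : False := by
  classical
  obtain ⟨hfix, hK⟩ := homog_semiregular hG (by omega) hh1 hh2 hnt
  obtain ⟨T, -, hT⟩ := Finset.exists_subset_card_eq (s := (Finset.univ : Finset α)) (n := 4)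
    (by rw [Finset.card_univ]; omega)
  obtain ⟨S, -, hS⟩ := Finset.exists_subset_card_eq (s := (Finset.univ : Finset α)) (n := 3)
    (by rw [Finset.card_univ]; omega)
  obtain ⟨X, -, hX⟩ := Finset.exists_subset_card_eq (s := (Finset.univ : Finset α)) (n := 2)
    (by rw [Finset.card_univ]; omega)
  obtain ⟨e1, e2⟩ := homog_equations hG (by omega) hh1 hh2 hX hS hT
  obtain ⟨hLdvd, hLlt⟩ := hK X hX
  have ha6 : Nat.card (setStabIn G S) ∣ 6 := by
    have h := Subgroup.card_dvd_of_injective _ (setRestrict_injective (hfix S hS))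
    rwa [Nat.card_perm, Nat.card_eq_fintype_card (α := ↥S), Fintype.card_coe, hS] at h
  rw [show Nat.factorial (2 + 1) = 6 from rfl] at e1
  set a := Nat.card (setStabIn G S) with ha
  set b := Nat.card (setStabIn G T) with hb
  set L := Nat.card (fixIn G X) with hL
  have hale : a ≤ 6 := Nat.le_of_dvd (by norm_num) ha6
  have hmove : ∀ p : ℕ, p.Prime → p ∣ L → ∃ g ∈ G, g ^ p = 1 ∧ g ≠ 1 ∧ (∀ x ∈ X, g x = x) ∧
      ∃ y, g y ≠ y := by
    intro p hp hpL
    obtain ⟨g, hg, hgp, hg1⟩ := exists_prime_order _ hp hpL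
    refine ⟨g, (mem_fixIn.1 hg).1, hgp, hg1, (mem_fixIn.1 hg).2, ?_⟩
    by_contra h
    push Not at h
    exact hg1 (Equiv.ext h)
  have h2a : 2 ∣ L → 2 ∣ a := by
    intro h
    obtain ⟨g, hg, hg2, hg1, hgX, y, hy⟩ := hmove 2 Nat.prime_two h
    obtain ⟨x, hx⟩ : X.Nonempty := Finset.card_pos.1 (by omega)
    have hgy : g (g y) = y := by rw [← Equiv.Perm.mul_apply, ← pow_two, hg2, Equiv.Perm.one_apply]
    have hS' : ({x, y, g y} : Finset α).card = 3 := by
      have e1 : x ≠ y := fun e => hy (by rw [← e]; exact hgX x hx)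
      have e2 : x ≠ g y := fun e => hy (g.injective (by rw [← e]; exact hgX x hx))
      simp [e1, e2, Ne.symm hy]
    rw [ha, setStab_card_eq (by omega) hh1 hS hS']
    refine prime_dvd_setStab Nat.prime_two hg hg2 hg1 fun c hc => ?_
    simp only [Finset.mem_insert, Finset.mem_singleton] at hc ⊢
    rcases hc with rfl | rfl | rfl
    exacts [Or.inl (hgX _ hx), Or.inr (Or.inr rfl), Or.inr (Or.inl hgy)]
  have h3a : 3 ∣ L → 3 ∣ a := by
    intro h
    obtain ⟨g, hg, hg3, hg1, -, y, hy⟩ := hmove 3 Nat.prime_three h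
    have hgy : g (g (g y)) = y := by
      rw [← Equiv.Perm.mul_apply, ← Equiv.Perm.mul_apply, show g * g * g = g ^ 3 by
        rw [pow_succ, pow_two], hg3, Equiv.Perm.one_apply]
    have hS' : ({y, g y, g (g y)} : Finset α).card = 3 := by
      have e2 : y ≠ g (g y) := fun e => hy (by conv_rhs => rw [← hgy, ← e])
      have e3 : g y ≠ g (g y) := fun e => hy (g.injective e).symm
      simp [Ne.symm hy, e2, e3]
    rw [ha, setStab_card_eq (by omega) hh1 hS hS']
    refine prime_dvd_setStab Nat.prime_three hg hg3 hg1 fun c hc => ?_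
    simp only [Finset.mem_insert, Finset.mem_singleton] at hc ⊢
    rcases hc with rfl | rfl | rfl
    exacts [Or.inr (Or.inl rfl), Or.inr (Or.inr rfl), Or.inl hgy]
  obtain ⟨q, hq⟩ : ∃ q, Fintype.card α - 2 - 1 = q := ⟨_, rfl⟩
  rw [show Fintype.card α - 2 = q + 1 by omega] at e1 hLlt
  rw [hq] at e2
  have hapos : 0 < a := Nat.card_pos
  have hbq : q ≤ 4 * a := Nat.le_of_dvd (by omega) ⟨b, by linarith⟩
  have h2a' : ¬ 2 ∣ L ∨ 2 ∣ a := imp_iff_not_or.1 h2a
  have h3a' : ¬ 3 ∣ L ∨ 3 ∣ a := imp_iff_not_or.1 h3a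
  clear hmove h2a h3a
  interval_cases a
  all_goals (try omega)
  all_goals interval_cases q
  all_goals omega

/-- A 2-subgroup of permutations of five points fixes one of them. -/
theorem two_group_fix {G : Subgroup (Equiv.Perm α)} {T : Finset α} (hT : T.card = 5) {b : ℕ}
    (hb : Nat.card (setStabIn G T) = 2 ^ b) : ∃ x ∈ T, ∀ g ∈ setStabIn G T, g x = x := by
  classical
  haveI := Fact.mk Nat.prime_two
  let act : MulAction (setStabIn G T) T := MulAction.compHom T (setRestrict G T)
  haveI := Fintype.ofFinite (MulAction.fixedPoints (setStabIn G T) T)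
  have hP : IsPGroup 2 (setStabIn G T) := IsPGroup.of_card hb
  have h := hP.card_modEq_card_fixedPoints T
  rw [Nat.card_eq_fintype_card, Fintype.card_coe, hT] at h
  have hne : Nat.card (MulAction.fixedPoints (setStabIn G T) T) ≠ 0 := fun e => by
    rw [e] at h
    exact absurd h (by decide)
  obtain ⟨⟨x, hx⟩⟩ := (Nat.card_ne_zero.1 hne).1
  exact ⟨x, x.2, fun g hg => congrArg Subtype.val (hx ⟨g, hg⟩)⟩

set_option maxHeartbeats 1000000 in
/-- The case `k = 5`. -/
theorem homog_case_five {G : Subgroup (Equiv.Perm α)}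
    (hG : MulAction.IsMultiplyPretransitive G α 3) (hn : 7 ≤ Fintype.card α)
    (hh1 : MulAction.IsPretransitive G (Set.powersetCard α 4))
    (hh2 : MulAction.IsPretransitive G (Set.powersetCard α 5))
    (hnt : ¬ MulAction.IsMultiplyPretransitive G α 4) :
    Fintype.card α = 9 ∧ (Nat.card G = 504 ∨ Nat.card G = 1512) := by
  classical
  obtain ⟨hfix, hK⟩ := homog_semiregular hG (by omega) hh1 hh2 hnt
  obtain ⟨T, -, hT⟩ := Finset.exists_subset_card_eq (s := (Finset.univ : Finset α)) (n := 5)
    (by rw [Finset.card_univ]; omega)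
  obtain ⟨S, -, hS⟩ := Finset.exists_subset_card_eq (s := (Finset.univ : Finset α)) (n := 4)
    (by rw [Finset.card_univ]; omega)
  obtain ⟨X, -, hX⟩ := Finset.exists_subset_card_eq (s := (Finset.univ : Finset α)) (n := 3)
    (by rw [Finset.card_univ]; omega)
  obtain ⟨e1, e2⟩ := homog_equations hG (by omega) hh1 hh2 hX hS hT
  obtain ⟨hLdvd, hLlt⟩ := hK X hX
  have hcard := ktrans_card hG hX
  have ha24 : ∀ U : Finset α, U.card = 4 → Nat.card (setStabIn G U) ∣ 24 := fun U hU => by
    have h := Subgroup.card_dvd_of_injective _ (setRestrict_injective (hfix U hU))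
    rwa [Nat.card_perm, Nat.card_eq_fintype_card (α := ↥U), Fintype.card_coe, hU] at h
  rw [show Nat.factorial (3 + 1) = 24 from rfl] at e1
  set a := Nat.card (setStabIn G S) with ha
  set b := Nat.card (setStabIn G T) with hb
  set L := Nat.card (fixIn G X) with hL
  have hsame : ∀ U : Finset α, U.card = 4 → Nat.card (setStabIn G U) = a := fun U hU =>
    setStab_card_eq (by omega) hh1 hU hS
  have hfix3 : InvFixLE G 3 := by
    intro g hg hg2 hg1
    by_contra hcon
    obtain ⟨U, hU, hUcard⟩ := Finset.exists_subset_card_eq (s := fixFinset g) (n := 4) (by omega)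
    have : g ∈ fixIn G U := mem_fixIn.2 ⟨hg, fun x hx => mem_fixFinset.1 (hU hx)⟩
    rw [hfix U hUcard, Subgroup.mem_bot] at this
    exact hg1 this
  -- an involution interchanging two pairs
  obtain ⟨z, hz, hz2, hz1⟩ : ∃ z ∈ G, z ^ 2 = 1 ∧ z ≠ 1 := by
    obtain ⟨x, hx, y, hy, hxy⟩ := Finset.one_lt_card.1 (show 1 < X.card by omega)
    obtain ⟨g, hg, hgX⟩ := ktrans_exists_finset hG (by omega) X hX.le (Equiv.swap x y)
      (Equiv.injective _).injOn
    obtain ⟨m, hm, i, hi⟩ := exists_odd_pow_two g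
    have h2 := pow_apply_agree (s := (X : Set α)) (fun c hc => hgX c hc)
      (fun c hc => by
        rw [Equiv.swap_apply_def]; split_ifs <;> assumption)
      (fun c _ => Equiv.swap_apply_self x y c) hm
    have hne : g ^ m ≠ 1 := fun e => hxy (by
      have := h2 x hx; rw [e, Equiv.swap_apply_left] at this; exact this)
    have hmem : g ^ m ∈ G := G.pow_mem hg m
    have h2dvd : 2 ∣ Nat.card G := by
      obtain ⟨r, -, hr⟩ := (Nat.dvd_prime_pow Nat.prime_two).1 (orderOf_dvd_of_pow_eq_one hi)
      rcases r with _ | r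
      · exact absurd (orderOf_eq_one_iff.1 (by rw [hr, pow_zero])) hne
      · have h5 := orderOf_dvd_natCard (⟨g ^ m, hmem⟩ : G)
        rw [← orderOf_submonoid] at h5
        refine dvd_trans ?_ h5
        rw [hr, pow_succ']
        exact dvd_mul_right 2 _
    exact exists_prime_order G Nat.prime_two h2dvd
  have hzz : ∀ x, z (z x) = x := fun x => by
    rw [← Equiv.Perm.mul_apply, ← pow_two, hz2, Equiv.Perm.one_apply]
  obtain ⟨y₁, hy₁, y₂, hy₂, h21, h21'⟩ :
      ∃ y₁, z y₁ ≠ y₁ ∧ ∃ y₂, z y₂ ≠ y₂ ∧ y₂ ≠ y₁ ∧ y₂ ≠ z y₁ := by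
    obtain ⟨y₁, hy₁⟩ : ∃ y, z y ≠ y := by
      by_contra h
      push Not at h
      exact hz1 (Equiv.ext h)
    obtain ⟨y₂, -, hy₂⟩ := Finset.exists_mem_notMem_of_card_lt_card (t := Finset.univ)
      (s := insert y₁ (insert (z y₁) (fixFinset z))) (by
        have h1 := hfix3 z hz (by rw [← pow_two]; exact hz2) hz1
        have h2 := Finset.card_insert_le y₁ (insert (z y₁) (fixFinset z))
        have h3 := Finset.card_insert_le (z y₁) (fixFinset z)
        rw [Finset.card_univ]; omega)
    simp only [Finset.mem_insert, mem_fixFinset, not_or] at hy₂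
    exact ⟨y₁, hy₁, y₂, hy₂.2.2, hy₂.1, hy₂.2.1⟩
  set Q : Finset α := {y₁, z y₁, y₂, z y₂} with hQ
  have hQcard : Q.card = 4 := by
    have e4 : y₁ ≠ z y₂ := fun e => h21' (by rw [e, hzz])
    simp [hQ, Ne.symm hy₁, Ne.symm hy₂, Ne.symm h21, Ne.symm h21', e4, fun e => h21 (z.injective e).symm]
  have hQmove : ∀ x ∈ Q, z x ≠ x := fun x hx => by
    simp only [hQ, Finset.mem_insert, Finset.mem_singleton] at hx
    rcases hx with rfl | rfl | rfl | rfl
    exacts [hy₁, fun e => hy₁ (z.injective e), hy₂, fun e => hy₂ (z.injective e)]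
  have hzQ : ∀ x ∈ Q, z x ∈ Q := fun x hx => by
    simp only [hQ, Finset.mem_insert, Finset.mem_singleton] at hx ⊢
    rcases hx with rfl | rfl | rfl | rfl <;> simp [hzz]
  have h2a : 2 ∣ a := hsame Q hQcard ▸ prime_dvd_setStab Nat.prime_two hz hz2 hz1 hzQ
  -- order six is impossible
  have hne6 : a ≠ 6 := by
    intro h6
    haveI := Fact.mk Nat.prime_three
    haveI := Fact.mk Nat.prime_two
    set H := setStabIn G Q with hH
    have hH6 : Nat.card H = 6 := (hsame Q hQcard).trans h6
    obtain ⟨c, hc⟩ := exists_prime_orderOf_dvd_card' (G := H) 3 (by rw [hH6]; norm_num)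
    have hidx : (Subgroup.zpowers c).index = 2 := by
      have h1 := (Subgroup.zpowers c).card_mul_index
      rw [Nat.card_zpowers, hc, hH6] at h1
      omega
    have hnorm := Subgroup.normal_of_index_eq_two hidx
    have hρ := setRestrict_injective (hfix Q hQcard)
    set γ := setRestrict G Q c with hγ
    have hγ3 : γ ^ 3 ^ 1 = 1 := by rw [pow_one, hγ, ← map_pow, ← hc, pow_orderOf_eq_one, map_one]
    have hγ1 : γ ≠ 1 := fun e => by
      have : c = 1 := hρ (e.trans (map_one _).symm)
      rw [this, orderOf_one] at hc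
      norm_num at hc
    have hfixc := Equiv.Perm.card_compl_support_modEq hγ3
    rw [Fintype.card_coe, hQcard] at hfixc
    have hpos := Equiv.Perm.two_le_card_support_of_ne_one hγ1
    have hcompl := Finset.card_compl γ.support
    rw [Fintype.card_coe, hQcard] at hcompl
    have hone : γ.supportᶜ.card = 1 := by
      have hh : γ.supportᶜ.card % 3 = 1 := hfixc
      omega
    obtain ⟨p, hp⟩ := Finset.card_eq_one.1 hone
    have hγp : γ p = p := by
      have : p ∈ γ.supportᶜ := by rw [hp]; exact Finset.mem_singleton_self p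
      simpa using this
    let zH : H := ⟨z, mem_setStabIn_of hz hzQ⟩
    have hconj : zH * c * zH⁻¹ ∈ Subgroup.zpowers c := hnorm.conj_mem c (Subgroup.mem_zpowers c) zH
    obtain ⟨i, hi⟩ := Subgroup.mem_zpowers_iff.1 hconj
    set ζ := setRestrict G Q zH with hζ
    have h1 : ζ * γ * ζ⁻¹ = γ ^ i := by rw [hζ, hγ, ← map_inv, ← map_mul, ← map_mul, ← hi, map_zpow]
    have h2 : γ (ζ⁻¹ p) = ζ⁻¹ p := by
      have h3 := DFunLike.congr_fun h1 p
      rw [Equiv.Perm.mul_apply, Equiv.Perm.mul_apply, Equiv.Perm.zpow_apply_eq_self_of_apply_eq_self hγp] at h3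
      apply ζ.injective
      rw [h3, Equiv.Perm.inv_def, Equiv.apply_symm_apply]
    have h4 : ζ⁻¹ p ∈ γ.supportᶜ := by simpa using h2
    rw [hp, Finset.mem_singleton, Equiv.Perm.inv_eq_iff_eq] at h4
    exact hQmove p p.2 (congrArg Subtype.val h4).symm
  -- involutions and elements of order three fixing three points
  have hmove : ∀ p : ℕ, p.Prime → p ∣ L → ∃ g ∈ G, g ^ p = 1 ∧ g ≠ 1 ∧ (∀ x ∈ X, g x = x) ∧
      ∃ y, g y ≠ y ∧ y ∉ X := by
    intro p hp hpL
    obtain ⟨g, hg, hgp, hg1⟩ := exists_prime_order _ hp hpL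
    obtain ⟨y, hy⟩ : ∃ y, g y ≠ y := by
      by_contra h
      push Not at h
      exact hg1 (Equiv.ext h)
    exact ⟨g, (mem_fixIn.1 hg).1, hgp, hg1, (mem_fixIn.1 hg).2, y, hy, fun h => hy ((mem_fixIn.1 hg).2 y h)⟩
  obtain ⟨x₀, x₁, x₂, h01, h02, h12, rfl⟩ := Finset.card_eq_three.1 hX
  have h3a : 3 ∣ L → 3 ∣ a := by
    intro h
    obtain ⟨g, hg, hg3, hg1, hgX, y, hy, hyX⟩ := hmove 3 Nat.prime_three h
    have hgy : g (g (g y)) = y := by
      rw [← Equiv.Perm.mul_apply, ← Equiv.Perm.mul_apply, show g * g * g = g ^ 3 by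
        rw [pow_succ, pow_two], hg3, Equiv.Perm.one_apply]
    have hx₀ : g x₀ = x₀ := hgX x₀ (by simp)
    have hU : ({x₀, y, g y, g (g y)} : Finset α).card = 4 := by
      have e2 : y ≠ g (g y) := fun e => hy (by conv_rhs => rw [← hgy, ← e])
      have e3 : g y ≠ g (g y) := fun e => hy (g.injective e).symm
      have f1 : x₀ ≠ y := fun e => hy (e ▸ hx₀)
      have f2 : x₀ ≠ g y := fun e => f1 (g.injective (hx₀.trans e))
      have f3 : x₀ ≠ g (g y) := fun e => f2 (g.injective (hx₀.trans e))
      simp [Ne.symm hy, e2, e3, f1, f2, f3]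
    rw [← hsame _ hU]
    refine prime_dvd_setStab Nat.prime_three hg hg3 hg1 fun c hc => ?_
    simp only [Finset.mem_insert, Finset.mem_singleton] at hc ⊢
    rcases hc with rfl | rfl | rfl | rfl
    exacts [Or.inl hx₀, Or.inr (Or.inr (Or.inl rfl)), Or.inr (Or.inr (Or.inr rfl)), Or.inr (Or.inl hgy)]
  have hne12 : 2 ∣ L → a ≠ 12 := by
    intro h h12a
    obtain ⟨g, hg, hg2, hg1, hgX, y, hy, hyX⟩ := hmove 2 Nat.prime_two h
    have hgy : g (g y) = y := by rw [← Equiv.Perm.mul_apply, ← pow_two, hg2, Equiv.Perm.one_apply]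
    have hx₀ : g x₀ = x₀ := hgX x₀ (by simp)
    have hx₁ : g x₁ = x₁ := hgX x₁ (by simp)
    set U : Finset α := {x₀, x₁, y, g y} with hU
    have hUcard : U.card = 4 := by
      have f1 : x₀ ≠ y := fun e => hy (e ▸ hx₀)
      have f2 : x₁ ≠ y := fun e => hy (e ▸ hx₁)
      have f3 : x₀ ≠ g y := fun e => f1 (g.injective (hx₀.trans e))
      have f4 : x₁ ≠ g y := fun e => f2 (g.injective (hx₁.trans e))
      simp [hU, h01, Ne.symm hy, f1, f2, f3, f4]
    have hsw : ∀ c ∈ U, g c = Equiv.swap y (g y) c := by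
      intro c hc
      simp only [hU, Finset.mem_insert, Finset.mem_singleton] at hc
      rcases hc with rfl | rfl | rfl | rfl
      · rw [hx₀, Equiv.swap_apply_of_ne_of_ne]
        · exact fun e => hy (e ▸ hx₀)
        · exact fun e => hy (by rw [← g.injective (hx₀.trans e)]; exact hx₀)
      · rw [hx₁, Equiv.swap_apply_of_ne_of_ne]
        · exact fun e => hy (e ▸ hx₁)
        · exact fun e => hy (by rw [← g.injective (hx₁.trans e)]; exact hx₁)
      · rw [Equiv.swap_apply_left]
      · rw [Equiv.swap_apply_right, hgy]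
    have hyU : y ∈ U := by simp [hU]
    have hgyU : g y ∈ U := by simp [hU]
    let gH : setStabIn G U := ⟨g, mem_setStabIn_of hg fun c hc => by
      rw [hsw c hc, Equiv.swap_apply_def]; split_ifs <;> assumption⟩
    have hidx : (setRestrict G U).range.index = 2 := by
      have h1 := (setRestrict G U).range.card_mul_index
      rw [← Nat.card_congr (MonoidHom.ofInjective (setRestrict_injective (hfix U hUcard))).toEquiv,
        hsame U hUcard, h12a, Nat.card_perm, Nat.card_eq_fintype_card (α := ↥U), Fintype.card_coe, hUcard,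
        show Nat.factorial 4 = 24 from rfl] at h1
      omega
    have hmem : setRestrict G U gH ∈ alternatingGroup ↥U := by
      rw [← Equiv.Perm.eq_alternatingGroup_of_index_eq_two hidx]
      exact ⟨gH, rfl⟩
    rw [Equiv.Perm.mem_alternatingGroup,
      sign_of_agree_swap hyU hgyU (Ne.symm hy) _ (fun c => (setRestrict_apply G U gH c).symm) hsw] at hmem
    exact absurd hmem (by decide)
  -- an element of order seven in degree 24
  have hne24 : Fintype.card α = 24 → L ≠ 7 := by
    intro h24 h7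
    haveI : Fact (Nat.Prime 23) := ⟨by norm_num⟩
    haveI := hG
    have hG1 : MulAction.IsMultiplyPretransitive G α 1 :=
      MulAction.isMultiplyPretransitive_of_le (n := 3) (by norm_num) (by rw [Nat.card_eq_fintype_card]; omega)
    have hA := ktrans_card hG1 (Finset.card_singleton x₀)
    rw [h24, h7] at hcard
    rw [h24] at hA
    have hAcard : Nat.card (fixIn G {x₀}) = 23 * 154 := by
      norm_num [Nat.factorial] at hcard hA ⊢
      omega
    set A := fixIn G {x₀} with hAdef
    obtain ⟨P, hPn⟩ : ∃ P : Sylow 23 A, Nat.card P = 23 ∧ Nat.card (Sylow 23 A) = 1 := by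
      let P : Sylow 23 A := Classical.arbitrary _
      have hfac : (23 * 154).factorization 23 = 1 := by
        rw [Nat.factorization_mul (by norm_num) (by norm_num), Finsupp.add_apply,
          Nat.Prime.factorization_self (by norm_num), Nat.factorization_eq_zero_of_not_dvd (by norm_num)]
      have hPcard : Nat.card P = 23 := by
        rw [P.card_eq_multiplicity, hAcard, hfac, pow_one]
      refine ⟨P, hPcard, ?_⟩
      have h1 := card_sylow_modEq_one 23 A
      have h2 := P.card_dvd_index
      have h3 : (P : Subgroup A).index = 154 := by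
        have h := (P : Subgroup A).card_mul_index
        rw [show Nat.card (P : Subgroup A) = 23 from hPcard, hAcard] at h
        omega
      rw [h3] at h2
      have key : ∀ d ∈ Nat.divisors 154, d % 23 = 1 → d = 1 := by decide
      exact key _ (Nat.mem_divisors.2 ⟨h2, by norm_num⟩) h1
    obtain ⟨hPcard, hn23⟩ := hPn
    obtain ⟨hsub, -⟩ := Nat.card_eq_one_iff_unique.1 hn23
    have hnormal : (P : Subgroup A).Normal := P.normal_of_subsingleton
    obtain ⟨u, hu⟩ := exists_prime_orderOf_dvd_card' (G := (P : Subgroup A)) 23 (by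
      rw [show Nat.card (P : Subgroup A) = 23 from hPcard])
    obtain ⟨y, hyG, hy7, hy1, hyX, -⟩ := hmove 7 (by norm_num) (by rw [h7])
    have hyx₀ : y x₀ = x₀ := hyX x₀ (by simp)
    let yA : A := ⟨y, mem_fixIn.2 ⟨hyG, fun c hc => by rw [Finset.mem_singleton.1 hc, hyx₀]⟩⟩
    have hmem : yA * (u : A) * yA⁻¹ ∈ (P : Subgroup A) := hnormal.conj_mem _ u.2 yA
    have hgen : Subgroup.zpowers u = ⊤ := by
      refine Subgroup.eq_top_of_card_eq _ ?_
      rw [Nat.card_zpowers, hu, show Nat.card (P : Subgroup A) = 23 from hPcard]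
    obtain ⟨i, hi⟩ := (mem_powers_iff_mem_zpowers.2 (hgen ▸ Subgroup.mem_top
      (⟨_, hmem⟩ : (P : Subgroup A))) : _ ∈ Submonoid.powers u)
    set v : Equiv.Perm α := ((u : A) : Equiv.Perm α) with hv
    have hvo : orderOf v = 23 := by rw [hv, orderOf_submonoid, orderOf_submonoid, hu]
    have hconj : y * v * y⁻¹ = v ^ i :=
      (congrArg (fun t : (P : Subgroup A) => ((t : A) : Equiv.Perm α)) hi).symm
    have hiter : ∀ r : ℕ, y ^ r * v * (y ^ r)⁻¹ = v ^ (i ^ r) := by
      intro r
      induction r with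
      | zero => simp
      | succ r ih =>
        rw [pow_succ' y, show y * y ^ r * v * (y * y ^ r)⁻¹ = y * (y ^ r * v * (y ^ r)⁻¹) * y⁻¹ by group,
          ih, ← conj_pow, hconj, ← pow_mul, ← pow_succ']
    have h7i := hiter 7
    rw [hy7, one_mul, inv_one, mul_one] at h7i
    have hi7 : i ^ 7 % 23 = 1 := by
      have h' : v ^ 1 = v ^ (i ^ 7) := by rw [pow_one]; exact h7i
      rw [pow_eq_pow_iff_modEq, hvo] at h'
      exact h'.symm
    have hi1 : i % 23 = 1 := by
      have h' : (i % 23) ^ 7 % 23 = 1 := by rw [← Nat.pow_mod]; exact hi7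
      have hlt : i % 23 < 23 := Nat.mod_lt _ (by norm_num)
      revert h' hlt
      generalize i % 23 = j
      intro h' hlt
      interval_cases j <;> first | rfl | (norm_num at h')
    have hcomm : y * v = v * y := by
      rw [← mul_inv_eq_iff_eq_mul, hconj, ← pow_mod_orderOf, hvo, hi1, pow_one]
    have hvx₀ : v x₀ = x₀ := (mem_fixIn.1 (u : A).2).2 x₀ (Finset.mem_singleton_self _)
    have hvG : v ∈ G := (mem_fixIn.1 (u : A).2).1
    have hyfix : fixFinset y = {x₀, x₁, x₂} := by
      refine (Finset.eq_of_subset_of_card_le (fun c hc => mem_fixFinset.2 (hyX c hc)) ?_).symm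
      by_contra hcon
      rw [hX, not_le] at hcon
      obtain ⟨U, hU, hUcard⟩ := Finset.exists_subset_card_eq (s := fixFinset y) (n := 4) (by omega)
      have : y ∈ fixIn G U := mem_fixIn.2 ⟨hyG, fun c hc => mem_fixFinset.1 (hU hc)⟩
      rw [hfix U hUcard, Subgroup.mem_bot] at this
      exact hy1 this
    haveI := Fact.mk (show Nat.Prime 23 by norm_num)
    have hv23 : v ^ 23 ^ 1 = 1 := by rw [pow_one, ← hvo, pow_orderOf_eq_one]
    have hmod := Equiv.Perm.card_compl_support_modEq hv23
    rw [h24] at hmod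
    have hv1 : v ≠ 1 := fun e => by rw [e, orderOf_one] at hvo; norm_num at hvo
    have hv2 : v ^ 2 ≠ 1 := fun e => by
      have := orderOf_dvd_of_pow_eq_one e
      rw [hvo] at this
      norm_num at this
    have hx₁y : v x₁ ∈ fixFinset y := mem_fixFinset.2 (by
      rw [← Equiv.Perm.mul_apply, hcomm, Equiv.Perm.mul_apply, hyX x₁ (by simp)])
    have hsq : (v ^ 2) x₁ = x₁ ∨ (v ^ 3) x₁ = x₁ := by
      have h2y : v (v x₁) ∈ fixFinset y := mem_fixFinset.2 (by
        rw [← Equiv.Perm.mul_apply, hcomm, Equiv.Perm.mul_apply, mem_fixFinset.1 hx₁y])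
      rw [hyfix] at hx₁y h2y
      simp only [Finset.mem_insert, Finset.mem_singleton] at hx₁y h2y
      rcases hx₁y with h | h | h
      · exact absurd (v.injective (h.trans hvx₀.symm)) (Ne.symm h01)
      · exact Or.inl (by rw [pow_two, Equiv.Perm.mul_apply, h, h])
      · rcases h2y with h' | h' | h'
        · exact absurd (v.injective (v.injective (h'.trans (by rw [hvx₀, hvx₀])))) (Ne.symm h01)
        · exact Or.inl (by rw [pow_two, Equiv.Perm.mul_apply, h'])
        · exact absurd (v.injective (h'.trans h.symm)) (by rw [h]; exact Ne.symm h12)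
    have hvfix : v x₁ = x₁ := by
      have h23 : ∀ r : ℕ, (v ^ r) x₁ = x₁ → ∀ s : ℕ, r * s % 23 = 1 → v x₁ = x₁ := by
        intro r hr s hs
        have h := Equiv.Perm.pow_apply_eq_self_of_apply_eq_self hr s
        rwa [← pow_mul, ← pow_mod_orderOf, hvo, hs, pow_one] at h
      rcases hsq with h | h
      · exact h23 2 h 12 (by norm_num)
      · exact h23 3 h 8 (by norm_num)
    have h2sub : ({x₀, x₁} : Finset α) ⊆ fixFinset v := by
      intro c hc
      simp only [Finset.mem_insert, Finset.mem_singleton] at hc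
      rcases hc with rfl | rfl
      exacts [mem_fixFinset.2 hvx₀, mem_fixFinset.2 hvfix]
    have hle := Finset.card_le_card h2sub
    rw [Finset.card_pair h01, show fixFinset v = v.supportᶜ by ext c; simp] at hle
    have hsupp : v.supportᶜ.card < 24 := by
      rw [Finset.card_compl, h24]
      have := Equiv.Perm.two_le_card_support_of_ne_one hv1
      omega
    have hmod' : v.supportᶜ.card % 23 = 1 := hmod
    omega
  -- degree nine with stabilisers of order eight
  have hne8 : Fintype.card α = 9 → a = 8 → L = 2 → False := by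
    intro h9 h8 hL2
    have hb8 : b = 8 := by rw [h8, h9] at e2; omega
    obtain ⟨g, hg, hg2, hg1, hgX, y, hy, hyX⟩ := hmove 2 Nat.prime_two (by rw [hL2])
    have hgy : g (g y) = y := by rw [← Equiv.Perm.mul_apply, ← pow_two, hg2, Equiv.Perm.one_apply]
    obtain ⟨x, hxT, hxfix⟩ := two_group_fix (G := G) hT (b := 3) (by rw [← hb]; omega)
    -- each quadruple has a point fixed by its stabiliser
    have hspec : ∀ U : Finset α, U.card = 4 →
        ∃ c ∉ U, ∀ h ∈ setStabIn G U, h c = c ∧ h ∈ setStabIn G (insert c U) := by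
      intro U hU
      have hT' : (T.erase x).card = 4 := by rw [Finset.card_erase_of_mem hxT, hT]
      have hle : setStabIn G T ≤ setStabIn G (T.erase x) := fun h hh =>
        mem_setStabIn_of hh.1 fun c hc => Finset.mem_erase.2
          ⟨fun e => (Finset.mem_erase.1 hc).1 (h.injective (e.trans (hxfix h hh).symm)),
            (hh.2 c).2 (Finset.mem_of_mem_erase hc)⟩
      have heq : setStabIn G T = setStabIn G (T.erase x) :=
        Subgroup.eq_of_le_of_card_ge hle (by rw [hsame _ hT', ← hb, hb8, h8])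
      obtain ⟨t, ht, htU⟩ := homog_exists hh1 hT' hU
      have hnot : t x ∉ U := fun h => by
        rw [← htU, Finset.mem_image] at h
        obtain ⟨c, hc, hcx⟩ := h
        exact (Finset.mem_erase.1 hc).1 (t.injective hcx)
      refine ⟨t x, hnot, fun h hh => ?_⟩
      have h1 : t⁻¹ * h * t ∈ setStabIn G (T.erase x) :=
        mem_setStabIn_of (G.mul_mem (G.mul_mem (G.inv_mem ht) hh.1) ht) fun c hc => by
          have h2 : h (t c) ∈ U := (hh.2 _).2 (htU ▸ Finset.mem_image_of_mem t hc)
          rw [← htU, Finset.mem_image] at h2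
          obtain ⟨d, hd, hdc⟩ := h2
          rw [Equiv.Perm.mul_apply, Equiv.Perm.mul_apply, ← hdc, Equiv.Perm.inv_def, Equiv.symm_apply_apply]
          exact hd
      rw [← heq] at h1
      have h3 := hxfix _ h1
      rw [Equiv.Perm.mul_apply, Equiv.Perm.mul_apply, Equiv.Perm.inv_eq_iff_eq] at h3
      refine ⟨h3, mem_setStabIn_of hh.1 fun c hc => ?_⟩
      rcases Finset.mem_insert.1 hc with rfl | hc
      · rw [h3]; exact Finset.mem_insert_self _ _
      · exact Finset.mem_insert_of_mem ((hh.2 c).2 hc)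
    have hfixg : fixFinset g = {x₀, x₁, x₂} := by
      refine (Finset.eq_of_subset_of_card_le (fun c hc => mem_fixFinset.2 (hgX c hc)) ?_).symm
      rw [hX]
      exact hfix3 g hg (by rw [← pow_two]; exact hg2) hg1
    set V : Finset α := {x₀, x₁, x₂, y, g y} with hV
    have hx₀ : g x₀ = x₀ := hgX x₀ (by simp)
    have hx₁ : g x₁ = x₁ := hgX x₁ (by simp)
    have hx₂ : g x₂ = x₂ := hgX x₂ (by simp)
    have hgyX : g y ∉ ({x₀, x₁, x₂} : Finset α) := fun h => by
      have h1 := hgX _ h
      rw [hgy] at h1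
      exact hy h1.symm
    simp only [Finset.mem_insert, Finset.mem_singleton, not_or] at hyX hgyX
    have hVcard : V.card = 5 := by
      simp [hV, h01, h02, h12, Ne.symm hyX.1, Ne.symm hyX.2.1, Ne.symm hyX.2.2, Ne.symm hgyX.1,
        Ne.symm hgyX.2.1, Ne.symm hgyX.2.2, Ne.symm hy]
    -- its stabiliser fixes both missing points
    have hkey : ∀ c ∈ ({x₁, x₂} : Finset α), ∀ h ∈ setStabIn G V, h c = c := by
      intro c hc
      have hcV : c ∈ V := by
        simp only [Finset.mem_insert, Finset.mem_singleton] at hc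
        rcases hc with rfl | rfl <;> simp [hV]
      have hcfix : g c = c := by
        simp only [Finset.mem_insert, Finset.mem_singleton] at hc
        rcases hc with rfl | rfl
        exacts [hx₁, hx₂]
      obtain ⟨d, hd, hdfix⟩ := hspec (V.erase c) (by rw [Finset.card_erase_of_mem hcV, hVcard])
      have hgs : g ∈ setStabIn G (V.erase c) := mem_setStabIn_of hg fun e he => by
        simp only [Finset.mem_erase] at he ⊢
        refine ⟨fun h => he.1 (g.injective (h.trans hcfix.symm)), ?_⟩
        have he2 := he.2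
        simp only [hV, Finset.mem_insert, Finset.mem_singleton] at he2 ⊢
        rcases he2 with rfl | rfl | rfl | rfl | rfl <;> simp [hx₀, hx₁, hx₂, hgy]
      have hdc : d = c := by
        have h1 : d ∈ fixFinset g := mem_fixFinset.2 (hdfix g hgs).1
        rw [hfixg] at h1
        by_contra hne
        refine hd (Finset.mem_erase.2 ⟨hne, ?_⟩)
        simp only [Finset.mem_insert, Finset.mem_singleton] at h1
        rcases h1 with rfl | rfl | rfl <;> simp [hV]
      have hins : insert d (V.erase c) = V := by rw [hdc, Finset.insert_erase hcV]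
      have hle : setStabIn G (V.erase c) ≤ setStabIn G V := fun h hh => hins ▸ (hdfix h hh).2
      have heq : setStabIn G (V.erase c) = setStabIn G V :=
        Subgroup.eq_of_le_of_card_ge hle (by
          rw [hsame (V.erase c) (by rw [Finset.card_erase_of_mem hcV, hVcard]),
            setStab_card_eq (by omega) hh2 hVcard hT, ← hb, hb8, h8])
      intro h hh
      rw [← heq] at hh
      rw [← hdc]
      exact (hdfix h hh).1
    set W : Finset α := {x₀, y, g y} with hW
    have hWcard : W.card = 3 := by simp [hW, Ne.symm hyX.1, Ne.symm hgyX.1, Ne.symm hy]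
    have hWinv : ∀ h ∈ setStabIn G V, ∀ c ∈ W, h c ∈ W := by
      intro h hh c hc
      have hcV : c ∈ V := by
        simp only [hW, Finset.mem_insert, Finset.mem_singleton] at hc
        rcases hc with rfl | rfl | rfl <;> simp [hV]
      have h1 : h c ∈ V := (hh.2 c).2 hcV
      have h2 : ∀ e ∈ ({x₁, x₂} : Finset α), h c ≠ e := fun e he heq => by
        have h3 : c = e := h.injective (heq.trans (hkey e he h hh).symm)
        simp only [hW, Finset.mem_insert, Finset.mem_singleton] at hc
        simp only [Finset.mem_insert, Finset.mem_singleton] at he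
        rcases hc with rfl | rfl | rfl <;> rcases he with rfl | rfl
        exacts [h01 h3, h02 h3, hyX.2.1 h3, hyX.2.2 h3, hgyX.2.1 h3, hgyX.2.2 h3]
      simp only [hV, Finset.mem_insert, Finset.mem_singleton] at h1
      simp only [hW, Finset.mem_insert, Finset.mem_singleton]
      rcases h1 with h1 | h1 | h1 | h1 | h1
      · exact Or.inl h1
      · exact absurd h1 (h2 x₁ (by simp))
      · exact absurd h1 (h2 x₂ (by simp))
      · exact Or.inr (Or.inl h1)
      · exact Or.inr (Or.inr h1)
    let emb : setStabIn G V →* setStabIn G W :=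
      { toFun := fun h => ⟨h.1, mem_setStabIn_of h.2.1 (hWinv h.1 h.2)⟩
        map_one' := rfl
        map_mul' := fun _ _ => rfl }
    let ψ := (setRestrict G W).comp emb
    have hψ : Function.Injective ψ := by
      rw [← MonoidHom.ker_eq_bot_iff, Subgroup.eq_bot_iff_forall]
      intro h hh
      have h1 : ∀ c ∈ insert x₁ W, (h : Equiv.Perm α) c = c := by
        intro c hc
        rcases Finset.mem_insert.1 hc with rfl | hc
        · exact hkey _ (by simp) _ h.2
        · exact congrArg Subtype.val (DFunLike.congr_fun (MonoidHom.mem_ker.1 hh) (⟨c, hc⟩ : W))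
      have h2 : (h : Equiv.Perm α) ∈ fixIn G (insert x₁ W) := mem_fixIn.2 ⟨h.2.1, h1⟩
      rw [hfix _ (by
        rw [Finset.card_insert_of_notMem, hWcard]
        simp [hW, Ne.symm h01, Ne.symm hyX.2.1, Ne.symm hgyX.2.1]), Subgroup.mem_bot] at h2
      exact Subtype.ext h2
    have h := Subgroup.card_dvd_of_injective ψ hψ
    rw [Nat.card_perm, Nat.card_eq_fintype_card (α := ↥W), Fintype.card_coe, hWcard,
      setStab_card_eq (by omega) hh2 hVcard hT, ← hb, hb8] at h
    exact absurd h (by decide)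
  -- arithmetic
  have ha24' : a ∣ 24 := ha24 S hS
  have hale : a ≤ 24 := Nat.le_of_dvd (by norm_num) ha24'
  obtain ⟨q, hq⟩ : ∃ q, Fintype.card α - 3 - 1 = q := ⟨_, rfl⟩
  have hn' : Fintype.card α = q + 4 := by omega
  rw [show Fintype.card α - 3 = q + 1 by omega] at e1 hLlt
  rw [hq] at e2
  suffices h : q = 5 ∧ (L = 1 ∨ L = 3) by
    obtain ⟨rfl, hL13⟩ := h
    refine ⟨by omega, ?_⟩
    rw [hn'] at hcard
    norm_num [Nat.factorial] at hcard
    rw [← Nat.card_eq_fintype_card] at hcard
    rcases hL13 with hL13 | hL13 <;> rw [hL13] at hcard <;> omega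
  have hapos : 0 < a := Nat.card_pos
  have hbq : q ≤ 5 * a := Nat.le_of_dvd (by omega) ⟨b, by linarith⟩
  have h3a' : ¬ 3 ∣ L ∨ 3 ∣ a := imp_iff_not_or.1 h3a
  have hne12' : ¬ 2 ∣ L ∨ a ≠ 12 := imp_iff_not_or.1 hne12
  have hne24' : Fintype.card α ≠ 24 ∨ L ≠ 7 := imp_iff_not_or.1 hne24
  have hne8' : Fintype.card α ≠ 9 ∨ a ≠ 8 ∨ L ≠ 2 := by
    by_contra h
    push Not at h
    exact hne8 h.1 h.2.1 h.2.2
  clear hmove h3a hne12 hne24 hne8 hsame hfix hK ha24 hcard
  interval_cases a
  all_goals (try omega)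
  all_goals interval_cases q
  all_goals omega

/-- The case `k = 3`. -/
theorem homog_case_three {G : Subgroup (Equiv.Perm α)}
    (hG : MulAction.IsMultiplyPretransitive G α 1) (hn : 4 ≤ Fintype.card α)
    (hh1 : MulAction.IsPretransitive G (Set.powersetCard α 2))
    (hh2 : MulAction.IsPretransitive G (Set.powersetCard α 3))
    (hnt : ¬ MulAction.IsMultiplyPretransitive G α 2) : False := by
  classical
  obtain ⟨a₀, b₀, hab₀⟩ := Fintype.exists_pair_of_one_lt_card (show 1 < Fintype.card α by omega)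
  let R : α → α → Prop := fun a b => ∃ g ∈ G, g a₀ = a ∧ g b₀ = b
  have hRne : ∀ a b, R a b → a ≠ b := by
    rintro a b ⟨g, -, rfl, rfl⟩
    exact fun e => hab₀ (g.injective e)
  have htot : ∀ a b, a ≠ b → R a b ∨ R b a := by
    intro a b hab
    obtain ⟨g, hg, hgi⟩ := homog_exists hh1 (S := {a₀, b₀}) (Finset.card_pair hab₀)
      (T := {a, b}) (Finset.card_pair hab)
    have h1 : g a₀ ∈ ({a, b} : Finset α) := hgi ▸ Finset.mem_image_of_mem g (by simp)
    have h2 : g b₀ ∈ ({a, b} : Finset α) := hgi ▸ Finset.mem_image_of_mem g (by simp)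
    simp only [Finset.mem_insert, Finset.mem_singleton] at h1 h2
    rcases h1 with h1 | h1 <;> rcases h2 with h2 | h2
    · exact absurd (g.injective (h1.trans h2.symm)) hab₀
    · exact Or.inl ⟨g, hg, h1, h2⟩
    · exact Or.inr ⟨g, hg, h1, h2⟩
    · exact absurd (g.injective (h1.trans h2.symm)) hab₀
  have hasym : ∀ a b, R a b → ¬ R b a := by
    rintro a b ⟨g, hg, rfl, rfl⟩ ⟨k, hk, hka, hkb⟩
    -- `g⁻¹ k` interchanges the base pair
    refine hnt (ktrans_of_sym hh1 (Δ := {a₀, b₀}) (Finset.card_pair hab₀) (lift_of_swaps ?_))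
    have hs : SwapLift G ({a₀, b₀} : Finset α) a₀ b₀ := by
      refine ⟨g⁻¹ * k, G.mul_mem (G.inv_mem hg) hk, fun x hx => ?_⟩
      simp only [Finset.mem_insert, Finset.mem_singleton] at hx
      rcases hx with rfl | rfl
      · rw [Equiv.swap_apply_left, Equiv.Perm.mul_apply, hka, Equiv.Perm.inv_def, Equiv.symm_apply_apply]
      · rw [Equiv.swap_apply_right, Equiv.Perm.mul_apply, hkb, Equiv.Perm.inv_def, Equiv.symm_apply_apply]
    intro u hu v hv huv
    simp only [Finset.mem_insert, Finset.mem_singleton] at hu hv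
    rcases hu with rfl | rfl <;> rcases hv with rfl | rfl
    · exact absurd rfl huv
    · exact hs
    · obtain ⟨t, ht, htx⟩ := hs
      exact ⟨t, ht, fun x hx => by rw [Equiv.swap_comm]; exact htx x hx⟩
    · exact absurd rfl huv
  have hRinv : ∀ g ∈ G, ∀ a b, R a b → R (g a) (g b) := by
    rintro g hg a b ⟨k, hk, rfl, rfl⟩
    exact ⟨g * k, G.mul_mem hg hk, rfl, rfl⟩
  -- all triangles are cyclic or none is
  have hcyc : ∀ a b c d e f, R a b → R b c → R c a → d ≠ e → d ≠ f → e ≠ f → R d e → R d f → False := by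
    intro a b c d e f hab hbc hca hde hdf hef hRde hRdf
    have h3 : ({a, b, c} : Finset α).card = 3 := by
      simp [hRne a b hab, hRne b c hbc, Ne.symm (hRne c a hca)]
    have h3' : ({d, e, f} : Finset α).card = 3 := by simp [hde, hdf, hef]
    obtain ⟨g, hg, hgi⟩ := homog_exists hh2 h3 h3'
    have hd : d ∈ ({a, b, c} : Finset α).image g := by rw [hgi]; simp
    have hsrc : ∀ x ∈ ({a, b, c} : Finset α), ∃ y ∈ ({a, b, c} : Finset α), R y x := by
      intro x hx
      simp only [Finset.mem_insert, Finset.mem_singleton] at hx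
      rcases hx with rfl | rfl | rfl
      exacts [⟨c, by simp, hca⟩, ⟨a, by simp, hab⟩, ⟨b, by simp, hbc⟩]
    obtain ⟨x, hx, hxd⟩ := Finset.mem_image.1 hd
    obtain ⟨y, hy, hyx⟩ := hsrc x hx
    have h1 := hRinv g hg y x hyx
    rw [hxd] at h1
    have h2 : g y ∈ ({d, e, f} : Finset α) := hgi ▸ Finset.mem_image_of_mem g hy
    simp only [Finset.mem_insert, Finset.mem_singleton] at h2
    rcases h2 with h2 | h2 | h2 <;> rw [h2] at h1
    · exact hRne d d h1 rfl
    · exact hasym d e hRde h1
    · exact hasym d f hRdf h1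
  by_cases hex : ∃ a b c, R a b ∧ R b c ∧ R c a
  · -- some point beats two others
    obtain ⟨a, b, c, hab, hbc, hca⟩ := hex
    obtain ⟨d, -, hd⟩ := Finset.exists_mem_notMem_of_card_lt_card (t := Finset.univ)
      (s := ({a, b, c} : Finset α)) (by
        have h : ({a, b, c} : Finset α).card ≤ 3 := Finset.card_le_three
        rw [Finset.card_univ]; omega)
    simp only [Finset.mem_insert, Finset.mem_singleton, not_or] at hd
    rcases htot a d (Ne.symm hd.1) with h1 | h1
    · exact hcyc a b c a b d hab hbc hca (hRne a b hab) (Ne.symm hd.1) (Ne.symm hd.2.1) hab h1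
    rcases htot b d (Ne.symm hd.2.1) with h2 | h2
    · exact hcyc a b c b c d hab hbc hca (hRne b c hbc) (Ne.symm hd.2.1) (Ne.symm hd.2.2) hbc h2
    · exact hcyc a b c d a b hab hbc hca hd.1 hd.2.1 (hRne a b hab) h1 h2
  · -- a transitive tournament has no transitive group
    push Not at hex
    have htrans : ∀ a b c, R a b → R b c → R a c := fun a b c h1 h2 =>
      (htot a c (fun e => hasym a b h1 (e ▸ h2))).resolve_right (hex a b c h1 h2)
    let out : α → Finset α := fun a => Finset.univ.filter fun b => R a b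
    have hout : ∀ g ∈ G, ∀ a, (out (g a)).card = (out a).card := fun g hg a => by
      refine (Finset.card_equiv g fun b => ?_).symm
      simp only [out, Finset.mem_filter, Finset.mem_univ, true_and]
      refine ⟨hRinv g hg a b, fun h => ?_⟩
      have := hRinv g⁻¹ (G.inv_mem hg) _ _ h
      simpa using this
    have hR₀ : R a₀ b₀ := ⟨1, G.one_mem, rfl, rfl⟩
    have hlt : (out b₀).card < (out a₀).card := by
      refine Finset.card_lt_card (Finset.ssubset_iff_subset_ne.2 ⟨fun x hx => ?_, fun e => ?_⟩)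
      · simp only [out, Finset.mem_filter, Finset.mem_univ, true_and] at hx ⊢
        exact htrans a₀ b₀ x hR₀ hx
      · have : b₀ ∈ out b₀ := by rw [e]; simp [out, hR₀]
        simp only [out, Finset.mem_filter] at this
        exact hRne _ _ this.2 rfl
    obtain ⟨g, hg, hgab⟩ := ktrans_exists_finset hG (by omega) {a₀} (by simp) (fun _ => b₀)
      (by simp)
    have := hout g hg a₀
    rw [hgab a₀ (by simp)] at this
    omega

end CfsgLib.Perm
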