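import Mathlib
import Cfsg.Agent.Lib.Perm.CentralizerRing

/-!
# Orbital operators

* `orbOp`: the 0/1 operator of the orbital of a pair; symmetry, integrality of eigenvalues.
-/

set_option autoImplicit false
set_option linter.all false

namespace CfsgLib.Perm.OrbitalOp

open MulAction Module CfsgLib.Perm.CentralizerRing

variable {G : Type*} [Group G] [Fintype G] {Ω : Type*} [Fintype Ω] [DecidableEq Ω] [MulAction G Ω]

/-- The orbital of `(a, b)`. -/
def Rel (G : Type*) [Group G] [MulAction G Ω] (a b x y : Ω) : Prop := ∃ g : G, g • a = x ∧ g • b = y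

theorem rel_smul_iff (a b x y : Ω) (g : G) : Rel G a b (g • x) (g • y) ↔ Rel G a b x y := by
  constructor
  · rintro ⟨k, hk, hk'⟩
    exact ⟨g⁻¹ * k, by rw [mul_smul, hk, inv_smul_smul], by rw [mul_smul, hk', inv_smul_smul]⟩
  · rintro ⟨k, hk, hk'⟩
    exact ⟨g * k, by rw [mul_smul, hk], by rw [mul_smul, hk']⟩

open Classical in
/-- Its integer matrix. -/
noncomputable def orbMat (G : Type*) [Group G] [MulAction G Ω] (a b : Ω) : Matrix Ω Ω ℤ :=
  fun x y => if Rel G a b x y then 1 else 0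

/-- Its operator. -/
noncomputable def orbOp (G : Type*) [Group G] [MulAction G Ω] (a b : Ω) : (Ω → ℂ) →ₗ[ℂ] (Ω → ℂ) :=
  Matrix.toLin' ((orbMat G a b).map (Int.castRingHom ℂ))

open Classical in
theorem orbOp_apply (a b : Ω) (v : Ω → ℂ) (x : Ω) :
    orbOp G a b v x = ∑ y, (if Rel G a b x y then (1 : ℂ) else 0) * v y := by
  simp [orbOp, orbMat, Matrix.toLin'_apply, Matrix.mulVec, dotProduct, apply_ite (Int.cast : ℤ → ℂ)]

open Classical in
theorem isEquivariant_orbOp (a b : Ω) :
    IsEquivariant (Cfsg.permRep ℂ G Ω) (Cfsg.permRep ℂ G Ω) (orbOp G a b) := by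
  intro g
  refine LinearMap.ext fun v => funext fun x => ?_
  show orbOp G a b (Cfsg.permRep ℂ G Ω g v) x = orbOp G a b v (g⁻¹ • x)
  rw [orbOp_apply, orbOp_apply, ← Equiv.sum_comp (MulAction.toPerm g)]
  refine Finset.sum_congr rfl fun y _ => ?_
  show (if Rel G a b x (g • y) then (1 : ℂ) else 0) * v (g⁻¹ • g • y) = _
  rw [inv_smul_smul]
  congr 1
  refine if_congr ?_ rfl rfl
  conv_lhs => rw [← rel_smul_iff a b x (g • y) g⁻¹, inv_smul_smul]

open Classical in
theorem card_row [IsPretransitive G Ω] (a b x : Ω) :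
    (Finset.univ.filter fun y => Rel G a b x y).card = Nat.card (orbit (stabilizer G a) b) := by
  obtain ⟨g, rfl⟩ := exists_smul_eq G a x
  rw [Nat.card_coe_set_eq]
  have h : (Finset.univ.filter fun y => Rel G a b (g • a) y : Set Ω) =
      (fun y => g • y) '' orbit (stabilizer G a) b := by
    ext y
    simp only [Finset.coe_filter, Finset.mem_univ, true_and, Set.mem_setOf_eq, Set.mem_image]
    constructor
    · rintro ⟨k, hk, hk'⟩
      refine ⟨(g⁻¹ * k) • b, ⟨⟨g⁻¹ * k, ?_⟩, rfl⟩, ?_⟩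
      · rw [mem_stabilizer_iff, mul_smul, hk, inv_smul_smul]
      · rw [mul_smul, smul_inv_smul, hk']
    · rintro ⟨z, ⟨⟨k, hk⟩, rfl⟩, rfl⟩
      exact ⟨g * k, by rw [mul_smul, (hk : k • a = a)], mul_smul g k b⟩
  rw [← Set.ncard_coe_finset, h, Set.ncard_image_of_injective _ (MulAction.injective g)]

theorem orbOp_one [IsPretransitive G Ω] (a b : Ω) :
    orbOp G a b (fun _ => 1) = (Nat.card (orbit (stabilizer G a) b) : ℂ) • fun _ => (1 : ℂ) := by
  classical
  funext x
  rw [orbOp_apply, ← card_row a b x]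
  simp [Finset.sum_boole]

theorem trace_orbOp {a b : Ω} (hab : b ≠ a) : LinearMap.trace ℂ _ (orbOp G a b) = 0 := by
  classical
  rw [orbOp, Matrix.trace_toLin'_eq]
  refine Finset.sum_eq_zero fun x _ => ?_
  have : ¬ Rel G a b x x := fun ⟨g, h1, h2⟩ => hab (MulAction.injective g (h2.trans h1.symm))
  simp [orbMat, this]

theorem isIntegral_of_hasEigenvalue {a b : Ω} {μ : ℂ} (h : Module.End.HasEigenvalue (orbOp G a b) μ) :
    IsIntegral ℤ μ := by
  rw [Module.End.hasEigenvalue_iff_isRoot_charpoly, orbOp, Matrix.charpoly_toLin', Matrix.charpoly_map] at h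
  refine ⟨(orbMat G a b).charpoly, Matrix.charpoly_monic _, ?_⟩
  rwa [Polynomial.IsRoot.def, Polynomial.eval_map] at h

open Classical in
theorem trace_eq_sum_finrank {V : Type*} [AddCommGroup V] [Module ℂ V] [FiniteDimensional ℂ V]
    (T : Module.End ℂ V) (s : Finset ℂ) (hs : ∀ μ, T.HasEigenvalue μ → μ ∈ s) :
    LinearMap.trace ℂ V T = ∑ μ ∈ s, μ * (finrank ℂ (T.maxGenEigenspace μ) : ℂ) := by
  have hint : DirectSum.IsInternal T.maxGenEigenspace :=
    DirectSum.isInternal_submodule_of_iSupIndep_of_iSup_eq_top T.independent_maxGenEigenspace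
      T.iSup_maxGenEigenspace_eq_top
  have hmaps : ∀ μ, Set.MapsTo T (T.maxGenEigenspace μ) (T.maxGenEigenspace μ) := fun μ =>
    Module.End.mapsTo_maxGenEigenspace_of_comm rfl μ
  have hne : ∀ μ, T.maxGenEigenspace μ ≠ ⊥ → μ ∈ s := fun μ h =>
    hs μ (Module.End.HasUnifEigenvalue.lt zero_lt_one (k := ⊤) h)
  have hfin : {μ : ℂ | T.maxGenEigenspace μ ≠ ⊥}.Finite := s.finite_toSet.subset hne
  rw [LinearMap.trace_eq_sum_trace_restrict' hint hfin hmaps]
  refine Finset.sum_subset_zero_on_sdiff ?_ (fun μ hμ => ?_) (fun μ _ => ?_)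
  · intro μ hμ
    exact hne μ (hfin.mem_toFinset.1 hμ)
  · rw [Finset.mem_sdiff, hfin.mem_toFinset, Set.mem_setOf_eq, not_not] at hμ
    rw [hμ.2, finrank_bot]
    simp
  · have hnil : IsNilpotent ((T - algebraMap ℂ _ μ).restrict
        (fun x hx => (T.maxGenEigenspace μ).sub_mem (hmaps μ hx)
          ((T.maxGenEigenspace μ).smul_mem μ hx)) : Module.End ℂ (T.maxGenEigenspace μ)) := by
      convert Module.End.isNilpotent_restrict_maxGenEigenspace_sub_algebraMap T μ using 1
    have h0 := (LinearMap.isNilpotent_trace_of_isNilpotent hnil).eq_zero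
    have : (T.restrict (hmaps μ) : Module.End ℂ (T.maxGenEigenspace μ)) =
        ((T - algebraMap ℂ _ μ).restrict
          (fun x hx => (T.maxGenEigenspace μ).sub_mem (hmaps μ hx)
            ((T.maxGenEigenspace μ).smul_mem μ hx))) + μ • LinearMap.id := by
      refine LinearMap.ext fun x => Subtype.ext ?_
      simp
      rfl
    rw [this, map_add, h0, map_smul, LinearMap.trace_id, zero_add, smul_eq_mul]

/-- The generalised eigenspace of an equivariant map as a subrepresentation. -/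
noncomputable def genSubrep {T : (Ω → ℂ) →ₗ[ℂ] (Ω → ℂ)}
    (hT : IsEquivariant (Cfsg.permRep ℂ G Ω) (Cfsg.permRep ℂ G Ω) T) (μ : ℂ) :
    Subrepresentation (Cfsg.permRep ℂ G Ω) where
  toSubmodule := Module.End.maxGenEigenspace T μ
  apply_mem_toSubmodule g v hv :=
    Module.End.mapsTo_maxGenEigenspace_of_comm (hT g : Commute T (Cfsg.permRep ℂ G Ω g)) μ hv

end CfsgLib.Perm.OrbitalOp
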