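import Cfsg.Prelude.Def_Perm
import Cfsg.Agent.Lib.Perm.PrimeNormalizer
import Cfsg.Agent.S0674

/-!
# Insoluble groups of prime degree with half of the affine normaliser

* `exists_square_scalings`: the coordinates in which the squares act by multiplication.
* `card_two_point_orbits_le_four`: a two point stabiliser has at most four orbits.
-/

set_option autoImplicit false

namespace CfsgLib.Perm.NeumannRank

open MulAction CfsgLib.Perm.PrimeNormalizer

variable {G Ω : Type*} [Group G] [Finite G] [MulAction G Ω] [FaithfulSMul G Ω] {p : ℕ}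
  [hp : Fact p.Prime]

theorem isSquare_or_neg (hp3 : p % 4 = 3) (d : ZMod p) : IsSquare d ∨ IsSquare (-d) := by
  by_cases hd : d = 0
  · exact Or.inl (hd ▸ IsSquare.zero)
  have hc : ringChar (ZMod p) ≠ 2 := by
    rw [ZMod.ringChar_zmod_n]
    omega
  have hodd : Odd (p / 2) := Nat.odd_iff.2 (by omega)
  rcases FiniteField.pow_dichotomy hc hd with h | h <;> rw [ZMod.card] at h
  · exact Or.inl ((ZMod.euler_criterion p hd).2 h)
  · exact Or.inr ((ZMod.euler_criterion p (neg_ne_zero.2 hd)).2 (by rw [hodd.neg_pow, h, neg_neg]))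

omit [FaithfulSMul G Ω] in
theorem card_fintype_of_nat_card [Fintype Ω] (hΩ : Nat.card Ω = p) : Fintype.card Ω = p := by
  rw [← hΩ, Nat.card_eq_fintype_card]

/-- If the normaliser of a Sylow `p`-subgroup has order `p (p - 1) / 2`, every non-zero square acts
as a multiplication in suitable coordinates. -/
theorem exists_square_scalings [IsPretransitive G Ω] (hΩ : Nat.card Ω = p) (hp2 : p ≠ 2)
    (P : Sylow p G)
    (hN : 2 * Nat.card (Subgroup.normalizer ((P : Subgroup G) : Set G)) = p * (p - 1)) :
    ∃ (e : ZMod p ≃ Ω) (σ : G), (∀ i, σ • e i = e (i + 1)) ∧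
      ∀ s : ZMod p, IsSquare s → s ≠ 0 → ∃ g : G, ∀ i, g • e i = e (s * i) := by
  classical
  haveI : Finite Ω := Nat.finite_of_card_ne_zero (by rw [hΩ]; exact hp.out.ne_zero)
  haveI := Fintype.ofFinite Ω
  let H : Subgroup (Equiv.Perm Ω) := (MulAction.toPermHom G Ω).range
  haveI : IsPretransitive H Ω := ⟨fun a b => by
    obtain ⟨g, hg⟩ := exists_smul_eq G a b
    exact ⟨⟨_, g, rfl⟩, hg⟩⟩
  obtain ⟨e, ⟨σ', σ, rfl⟩, hσ⟩ :=
    CfsgLib.Perm.PrimeDegree.exists_coords (p := p) (card_fintype_of_nat_card hΩ) (G := H)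
  replace hσ : ∀ i, σ • e i = e (i + 1) := hσ
  refine ⟨e, σ, hσ, ?_⟩
  set q := coordHom (G := G) e with hq
  have hqσ : ∀ (n : ℕ) i, q (σ ^ n) i = i + n := coordHom_pow e hσ
  have hσp : σ ^ p = 1 := coordHom_injective e (Equiv.ext fun i => by rw [hqσ]; simp)
  have hσ1 : σ ≠ 1 := fun h => one_ne_zero (α := ZMod p) (by
    have := hqσ 1 0
    rw [h, one_pow, map_one] at this
    simpa using this.symm)
  have hoσ : orderOf σ = p := orderOf_eq_prime hσp hσ1
  have hG2 : ¬ p ^ 2 ∣ Nat.card G := by
    intro h
    have h1 : Nat.card G ∣ Nat.card (Equiv.Perm Ω) :=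
      Subgroup.card_dvd_of_injective (MulAction.toPermHom G Ω) MulAction.toPerm_injective
    have h2 := h.trans h1
    rw [Nat.card_perm, hΩ, ← Nat.mul_factorial_pred hp.out.ne_zero, pow_two] at h2
    have := hp.out.dvd_factorial.1 (Nat.dvd_of_mul_dvd_mul_left hp.out.pos h2)
    have := hp.out.pos
    omega
  obtain ⟨Q, hQ⟩ := (IsPGroup.of_card (p := p) (G := Subgroup.zpowers σ) (n := 1)
    (by rw [Nat.card_zpowers, hoσ, pow_one])).exists_le_sylow
  have hQe : Subgroup.zpowers σ = (Q : Subgroup G) := by
    refine Subgroup.eq_of_le_of_card_ge hQ ?_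
    rw [Nat.card_zpowers, hoσ, Q.card_eq_multiplicity]
    calc p ^ (Nat.card G).factorization p ≤ p ^ 1 := Nat.pow_le_pow_right hp.out.pos (by
          by_contra hlt
          exact hG2 ((hp.out.pow_dvd_iff_le_factorization Nat.card_pos.ne').2 (by omega)))
      _ = p := pow_one p
  set N := Subgroup.normalizer ((Subgroup.zpowers σ : Subgroup G) : Set G) with hNdef
  have hNc : 2 * Nat.card N = p * (p - 1) := by
    rw [← hN]
    congr 1
    rw [hNdef, hQe]
    refine Nat.eq_of_mul_eq_mul_left
      (show 0 < Nat.card (Sylow p G) from Nat.card_pos) ?_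
    nth_rw 1 [Sylow.card_eq_index_normalizer Q]
    nth_rw 1 [Sylow.card_eq_index_normalizer P]
    exact (Subgroup.index_mul_card (Subgroup.normalizer ((Q : Subgroup G) : Set G))).trans
      (Subgroup.index_mul_card (Subgroup.normalizer ((P : Subgroup G) : Set G))).symm
  have haff : ∀ g : N, ∀ i, q (g : G) i = (q (g : G) 1 - q (g : G) 0) * i + q (g : G) 0 := by
    intro g
    obtain ⟨k, hk⟩ : ∃ k : ℕ, σ ^ k = (g : G) * σ * (g : G)⁻¹ := by
      have h := (Subgroup.mem_normalizer_iff.1 g.2 σ).1 (Subgroup.mem_zpowers σ)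
      rwa [← mem_powers_iff_mem_zpowers] at h
    have hstep : ∀ i, q (g : G) (i + 1) = q (g : G) i + k := by
      intro i
      have h1 : σ ^ k * (g : G) = (g : G) * σ := by rw [hk, inv_mul_cancel_right]
      have h2 := congrArg (fun x => q x i) h1
      simp only [map_mul, Equiv.Perm.mul_apply] at h2
      rw [hqσ] at h2
      rw [h2]
      congr 1
      simpa using (hqσ 1 i).symm
    have hn : ∀ n : ℕ, q (g : G) (n : ZMod p) = q (g : G) 0 + n * k := by
      intro n
      induction n with
      | zero => simp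
      | succ n ih => rw [Nat.cast_succ, hstep, ih]; ring
    intro i
    have h1 := hn i.val
    have h2 := hn 1
    rw [ZMod.natCast_zmod_val] at h1
    rw [Nat.cast_one, one_mul] at h2
    rw [h1, h2]
    ring
  let A : N →* (ZMod p)ˣ :=
    MonoidHom.toHomUnits
      { toFun := fun g => q (g : G) 1 - q (g : G) 0
        map_one' := by simp
        map_mul' := fun g h => by
          simp only [Subgroup.coe_mul, map_mul, Equiv.Perm.mul_apply]
          rw [haff g (q (h : G) 1), haff g (q (h : G) 0)]
          ring }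
  have hA : ∀ g : N, ((A g : (ZMod p)ˣ) : ZMod p) = q (g : G) 1 - q (g : G) 0 := fun g => rfl
  have hker : A.ker ≤ (Subgroup.zpowers σ).subgroupOf N := by
    intro g hg
    rw [MonoidHom.mem_ker, Units.ext_iff, hA, Units.val_one] at hg
    rw [Subgroup.mem_subgroupOf]
    refine Subgroup.mem_zpowers_iff.2 ⟨((q (g : G) 0).val : ℕ), ?_⟩
    rw [zpow_natCast]
    refine coordHom_injective e (Equiv.ext fun i => ?_)
    show q (σ ^ _) i = q (g : G) i
    rw [hqσ, haff g i, hg, ZMod.natCast_zmod_val]
    ring
  have hkc : Nat.card A.ker ≤ p := by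
    refine (Nat.card_mono (Set.toFinite _) hker).trans (le_of_eq ?_)
    rw [← hoσ, ← Nat.card_zpowers]
    exact Nat.card_congr (Subgroup.subgroupOfEquivOfLe Subgroup.le_normalizer).toEquiv
  have hrange : p - 1 ≤ 2 * Nat.card A.range := by
    have h1 : Nat.card N = Nat.card A.range * Nat.card A.ker := by
      rw [← Subgroup.index_ker A, mul_comm, Subgroup.card_mul_index]
    rw [h1] at hNc
    refine Nat.le_of_mul_le_mul_right (c := p) ?_ hp.out.pos
    calc (p - 1) * p = 2 * (Nat.card A.range * Nat.card A.ker) := by rw [hNc, mul_comm]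
      _ ≤ 2 * (Nat.card A.range * p) := by gcongr
      _ = _ := by ring
  intro s hs hs0
  have hmem : Units.mk0 s hs0 ∈ A.range := by
    obtain ⟨k, hk⟩ := hp.out.even_sub_one hp2
    haveI : IsCyclic (ZMod p)ˣ := inferInstance
    have hcU : Nat.card (ZMod p)ˣ = p - 1 := by
      rw [Nat.card_eq_fintype_card, ZMod.card_units]
    by_cases htop : A.range = ⊤
    · rw [htop]; trivial
    have hrc : Nat.card A.range = k := by
      obtain ⟨c, hc⟩ := A.range.card_subgroup_dvd_card
      rw [hcU] at hc
      have hne : c ≠ 1 := fun h => htop (Subgroup.eq_top_of_card_eq _ (by rw [hcU, hc, h, mul_one]))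
      have h0 : 0 < Nat.card A.range := Nat.card_pos
      have hpp := hp.out.two_le
      rcases c with _ | _ | _ | c
      · omega
      · exact absurd rfl hne
      · omega
      · have : Nat.card A.range * 3 ≤ Nat.card A.range * (c + 1 + 1 + 1) :=
          Nat.mul_le_mul_left _ (by omega)
        omega
    have hk0 : 0 < k := by have := hp.out.two_le; omega
    let S : Finset (ZMod p)ˣ := Finset.univ.filter fun x => x ^ k = 1
    have hS : (A.range : Set (ZMod p)ˣ).toFinset ⊆ S := fun x hx => by
      rw [Set.mem_toFinset] at hx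
      refine Finset.mem_filter.2 ⟨Finset.mem_univ _, ?_⟩
      rw [← hrc]
      exact congrArg Subtype.val (pow_card_eq_one' (x := (⟨x, hx⟩ : A.range)))
    have hSc : S.card ≤ k := IsCyclic.card_pow_eq_one_le hk0
    have heq : (A.range : Set (ZMod p)ˣ).toFinset = S := Finset.eq_of_subset_of_card_le hS (by
      rw [Set.toFinset_card, ← Nat.card_eq_fintype_card]
      exact hSc.trans (le_of_eq hrc.symm))
    have hsS : Units.mk0 s hs0 ∈ S := by
      refine Finset.mem_filter.2 ⟨Finset.mem_univ _, Units.ext ?_⟩
      rw [Units.val_pow_eq_pow_val, Units.val_mk0, Units.val_one]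
      have := (ZMod.euler_criterion p hs0).1 hs
      rwa [show k = p / 2 by omega]
    rw [← heq, Set.mem_toFinset] at hsS
    exact hsS
  obtain ⟨g, hg⟩ := hmem
  refine ⟨σ ^ (-(q (g : G) 0)).val * (g : G), fun i => ?_⟩
  rw [← coordHom_apply e (σ ^ (-(q (g : G) 0)).val * (g : G)), map_mul, Equiv.Perm.mul_apply]
  congr 1
  show q (σ ^ _) (q (g : G) i) = s * i
  rw [hqσ, haff g i, ZMod.natCast_zmod_val, ← hA, hg, Units.val_mk0]
  ring

/-- **Neumann.** In an insoluble group of prime degree `p` whose Sylow normaliser has order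
`p (p - 1) / 2`, a two point stabiliser has at most four orbits. -/
theorem card_two_point_orbits_le_four [IsPretransitive G Ω] (hΩ : Nat.card Ω = p)
    (hins : ¬ Group.IsSolvable G) (hp3 : p % 4 = 3) (P : Sylow p G)
    (hN : 2 * Nat.card (Subgroup.normalizer ((P : Subgroup G) : Set G)) = p * (p - 1))
    (h2 : IsMultiplyPretransitive G Ω 2) {a b : Ω} (hab : a ≠ b) :
    Nat.card (orbitRel.Quotient ↥(stabilizer G a ⊓ stabilizer G b) Ω) ≤ 4 := by
  classical
  haveI : Finite Ω := Nat.finite_of_card_ne_zero (by rw [hΩ]; exact hp.out.ne_zero)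
  haveI := Fintype.ofFinite Ω
  rw [is_two_pretransitive_iff] at h2
  obtain ⟨e, σ, hσ, hsc⟩ := exists_square_scalings hΩ (by omega) P hN
  -- a permutation group with the same image, for the irreducibility of the heart
  let H : Subgroup (Equiv.Perm Ω) := (MulAction.toPermHom G Ω).range
  haveI : IsPretransitive H Ω := ⟨fun x y => by
    obtain ⟨g, hg⟩ := exists_smul_eq G x y
    exact ⟨⟨_, g, rfl⟩, hg⟩⟩
  have hH : ¬ Group.IsSolvable H := fun h => hins (by
    haveI := h
    exact Group.isSolvable_of_isSolvable_injective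
      (f := (MonoidHom.ofInjective (f := MulAction.toPermHom G Ω) MulAction.toPerm_injective).toMonoidHom)
      (MonoidHom.ofInjective (f := MulAction.toPermHom G Ω) MulAction.toPerm_injective).injective)
  set S := stabilizer G a ⊓ stabilizer G b with hSdef
  set Q := orbitRel.Quotient S Ω with hQdef
  let mk : Ω → Q := fun z => Quotient.mk (orbitRel S Ω) z
  have hmk : ∀ (g g' : G) (x y z : Ω), g • x = a → g • y = b → g' • x = a → g' • y = b →
      mk (g • z) = mk (g' • z) := by
    intro g g' x y z h1 h2' h3 h4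
    refine Quotient.sound ⟨⟨g * g'⁻¹, mem_stabilizer_iff.2 ?_, mem_stabilizer_iff.2 ?_⟩, ?_⟩
    · nth_rw 1 [← h3]; rw [mul_smul, inv_smul_smul, h1]
    · nth_rw 1 [← h4]; rw [mul_smul, inv_smul_smul, h2']
    · show (g * g'⁻¹) • g' • z = g • z
      rw [mul_smul, inv_smul_smul]
  choose tr htra htrb using fun (x y : Ω) (h : x ≠ y) => h2 h hab
  let T : (Q → ZMod p) → Ω → Ω → Ω → ZMod p := fun c x y z =>
    if h : x ≠ y then c (mk (tr x y h • z)) else 0
  have hT0 : ∀ c x z, T c x x z = 0 := fun c x z => dif_neg fun h => h rfl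
  have hTinv : ∀ c (g : G) x y z, T c (g • x) (g • y) (g • z) = T c x y z := by
    intro c g x y z
    by_cases hxy : x = y
    · rw [hxy, hT0, hT0]
    have hg : g • x ≠ g • y := fun h => hxy (MulAction.injective g h)
    simp only [T, dif_pos hg, dif_pos (Ne.intro hxy)]
    congr 1
    rw [← mul_smul]
    exact hmk _ _ x y z (by rw [mul_smul, htra]) (by rw [mul_smul, htrb]) (htra x y hxy) (htrb x y hxy)
  have hTadd : ∀ c c' x y z, T (c + c') x y z = T c x y z + T c' x y z := fun c c' x y z => by
    by_cases h : x = y <;> simp [T, h]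
  have hTsmul : ∀ (r : ZMod p) c x y z, T (r • c) x y z = r * T c x y z := fun r c x y z => by
    by_cases h : x = y <;> simp [T, h]
  let L : (Q → ZMod p) → (Ω → ZMod p) → Ω → Ω → ZMod p := fun c f x y => ∑ z, T c x y z * f z
  have hLg : ∀ c f (g : G) x y, L c (fun z => f (g • z)) x y = L c f (g • x) (g • y) := by
    intro c f g x y
    show ∑ z, T c x y z * f (g • z) = ∑ z, T c (g • x) (g • y) z * f z
    rw [← Equiv.sum_comp (MulAction.toPerm g) fun z => T c (g • x) (g • y) z * f z]
    exact Finset.sum_congr rfl fun z _ => by rw [MulAction.toPerm_apply, hTinv]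
  let u : Ω → ZMod p := fun z => e.symm z
  let Φ : (Q → ZMod p) →ₗ[ZMod p] (Fin 4 → ZMod p) :=
    { toFun := fun c => ![L c (fun _ => 1) (e 0) (e 1), L c u (e 0) (e 1), L c u (e 0) (e (-1)),
        T c (e 0) (e 1) (e 0)]
      map_add' := fun c c' => by
        funext i
        fin_cases i <;> simp [L, hTadd, add_mul, Finset.sum_add_distrib]
      map_smul' := fun r c => by
        funext i
        fin_cases i <;> simp [L, hTsmul, Finset.mul_sum, mul_assoc] }
  have hinj : Function.Injective Φ := by
    rw [injective_iff_map_eq_zero]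
    intro c hc
    have hc0 : L c (fun _ => 1) (e 0) (e 1) = 0 := congrFun hc 0
    have hc1 : L c u (e 0) (e 1) = 0 := congrFun hc 1
    have hc2 : L c u (e 0) (e (-1)) = 0 := congrFun hc 2
    have hc3 : T c (e 0) (e 1) (e 0) = 0 := congrFun hc 3
    have hne01 : e 0 ≠ e 1 := fun h => zero_ne_one (e.injective h)
    have hone : ∀ x y, L c (fun _ => 1) x y = 0 := by
      intro x y
      by_cases hxy : x = y
      · simp [L, hxy, hT0]
      obtain ⟨g, rfl, rfl⟩ := h2 hne01 hxy
      rw [← hLg c (fun _ => 1) g]
      exact hc0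
    have hu : ∀ x y, L c u x y = 0 := by
      have htr : ∀ (n : ℕ) i j, L c u (e (i + n)) (e (j + n)) = L c u (e i) (e j) := by
        intro n i j
        have h := hLg c u (σ ^ n) (e i) (e j)
        rw [← coordHom_apply, ← coordHom_apply, coordHom_pow e hσ, coordHom_pow e hσ] at h
        rw [← h]
        have hu' : (fun z => u (σ ^ n • z)) = fun z => u z + (n : ZMod p) := by
          funext z
          obtain ⟨k, rfl⟩ := e.surjective z
          rw [← coordHom_apply, coordHom_pow e hσ]
          simp [u]
        rw [hu']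
        show ∑ z, T c (e i) (e j) z * (u z + (n : ZMod p)) = ∑ z, T c (e i) (e j) z * u z
        simp only [mul_add, Finset.sum_add_distrib, ← Finset.sum_mul]
        have := hone (e i) (e j)
        simp only [L, mul_one] at this
        rw [this, zero_mul, add_zero]
      have hsq : ∀ s : ZMod p, IsSquare s → s ≠ 0 → ∀ i j,
          L c u (e (s * i)) (e (s * j)) = s * L c u (e i) (e j) := by
        intro s hs hs0 i j
        obtain ⟨g, hg⟩ := hsc s hs hs0
        have h := hLg c u g (e i) (e j)
        rw [hg, hg] at h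
        rw [← h]
        have hu' : (fun z => u (g • z)) = fun z => s * u z := by
          funext z
          obtain ⟨k, rfl⟩ := e.surjective z
          simp [u, hg]
        rw [hu']
        show ∑ z, T c (e i) (e j) z * (s * u z) = s * ∑ z, T c (e i) (e j) z * u z
        rw [Finset.mul_sum]
        exact Finset.sum_congr rfl fun z _ => by ring
      have h0 : ∀ d, L c u (e 0) (e d) = 0 := by
        intro d
        by_cases hd : d = 0
        · simp [L, hd, hT0]
        rcases isSquare_or_neg hp3 d with h | h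
        · have := hsq d h hd 0 1
          rwa [mul_zero, mul_one, hc1, mul_zero] at this
        · have := hsq (-d) h (neg_ne_zero.2 hd) 0 (-1)
          rwa [mul_zero, neg_mul_neg, mul_one, hc2, mul_zero] at this
      intro x y
      obtain ⟨i, rfl⟩ := e.surjective x
      obtain ⟨j, rfl⟩ := e.surjective y
      have := htr i.val 0 (j - i)
      rw [ZMod.natCast_zmod_val, zero_add, sub_add_cancel] at this
      rw [this, h0]
    -- the kernel is a subrepresentation containing a non-constant function
    let K : Submodule (ZMod p) (Ω → ZMod p) :=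
      { carrier := {f | (∑ z, f z = 0) ∧ ∀ x y, L c f x y = 0}
        zero_mem' := ⟨by simp, fun x y => by simp [L]⟩
        add_mem' := fun {f f'} hf hf' => ⟨by simp [Finset.sum_add_distrib, hf.1, hf'.1], fun x y => by
          have h1 := hf.2 x y
          have h2 := hf'.2 x y
          simp only [L] at h1 h2 ⊢
          simp [mul_add, Finset.sum_add_distrib, h1, h2]⟩
        smul_mem' := fun r f hf => ⟨by simp [← Finset.mul_sum, hf.1], fun x y => by
          have h1 := hf.2 x y
          simp only [L] at h1 ⊢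
          simp [mul_left_comm, ← Finset.mul_sum, h1]⟩ }
    let W : Subrepresentation (Cfsg.permRep (ZMod p) H Ω) :=
      { toSubmodule := K
        apply_mem_toSubmodule := fun h f hf => by
          obtain ⟨_, g, rfl⟩ := h
          refine ⟨?_, fun x y => ?_⟩
          · show ∑ z, f ((MulAction.toPermHom G Ω g)⁻¹ z) = 0
            rw [← map_inv]
            exact (Equiv.sum_comp (MulAction.toPerm g⁻¹) f).trans hf.1
          · show L c (fun z => f ((MulAction.toPermHom G Ω g)⁻¹ z)) x y = 0
            rw [← map_inv]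
            exact (hLg c f g⁻¹ x y).trans (hf.2 _ _) }
    have hp5 : 3 ≤ p := by omega
    have hsum1 : ∑ _z : Ω, (1 : ZMod p) = 0 := by
      simp [card_fintype_of_nat_card hΩ]
    have hsumu : ∑ z, u z = 0 := by
      rw [← Equiv.sum_comp e]
      simp only [u, Equiv.symm_apply_apply]
      simpa using FiniteField.sum_pow_lt_card_sub_one (ZMod p) 1 (by rw [ZMod.card]; omega)
    have hle₁ : (Cfsg.permConstants (ZMod p) H Ω).toSubmodule ≤ W.toSubmodule :=
      Submodule.span_le.2 (Set.singleton_subset_iff.2 ⟨hsum1, hone⟩)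
    have hle₂ : W.toSubmodule ≤ (Cfsg.permSumZero (ZMod p) H Ω).toSubmodule := fun f hf => hf.1
    rcases Cfsg.Agent.S0674.result (card_fintype_of_nat_card hΩ) H hH W hle₁ hle₂ with h | h
    · exfalso
      have huW : u ∈ W.toSubmodule := ⟨hsumu, hu⟩
      rw [h] at huW
      obtain ⟨r, hr⟩ := Submodule.mem_span_singleton.1 huW
      have r0 := congrFun hr (e 0)
      have r1 := congrFun hr (e 1)
      simp only [u, Equiv.symm_apply_apply, Pi.smul_apply, smul_eq_mul, mul_one] at r0 r1
      exact zero_ne_one (r0.symm.trans r1)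
    have hflat : ∀ x y z w, T c x y z = T c x y w := by
      intro x y z w
      have hmem : (Pi.single z 1 - Pi.single w 1 : Ω → ZMod p) ∈ W.toSubmodule := by
        rw [h]
        show ∑ v, (Pi.single z (1 : ZMod p) - Pi.single w 1 : Ω → ZMod p) v = 0
        simp
      have := hmem.2 x y
      simp only [L] at this
      simp [mul_sub, Finset.sum_sub_distrib, Pi.single_apply, sub_eq_zero] at this
      exact this
    funext t
    obtain ⟨z, rfl⟩ := Quotient.exists_rep t
    obtain ⟨g, hga, hgb⟩ := h2 hne01 hab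
    have h1 : T c a b z = c (mk z) := by
      simp only [T, dif_pos hab]
      congr 1
      rw [hmk (tr a b hab) 1 a b z (htra a b hab) (htrb a b hab) (one_smul _ _) (one_smul _ _), one_smul]
    show c (mk z) = 0
    rw [← h1, hflat a b z (g • e 0)]
    nth_rw 1 [← hga]
    rw [← hgb, hTinv, hc3]
  haveI : Fintype Q := Fintype.ofFinite Q
  have h := LinearMap.finrank_le_finrank_of_injective hinj
  rw [Module.finrank_fintype_fun_eq_card, Module.finrank_fintype_fun_eq_card, Fintype.card_fin] at h
  rwa [Nat.card_eq_fintype_card]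

end CfsgLib.Perm.NeumannRank
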