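import Mathlib

/-!
# Netto triples over a field in which `-1` is not a square

`mid a i j` is the third point on the line through `i` and `j`. The collinearity `Pasch a w` holds for
some triangle `0, 1, w` and fails for another one.
-/

set_option autoImplicit false

namespace CfsgLib.Perm.NeumannNetto

variable {F : Type*} [Field F]

open scoped Classical in
/-- The third point of the Netto line through `i` and `j`. -/
noncomputable def mid (a i j : F) : F :=
  i + (j - i) * (if IsSquare (j - i) then a else 1 - a)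

theorem mid_of_isSquare (a : F) {i j : F} (h : IsSquare (j - i)) : mid a i j = i + (j - i) * a := by
  rw [mid, if_pos h]

theorem mid_of_not_isSquare (a : F) {i j : F} (h : ¬ IsSquare (j - i)) :
    mid a i j = i + (j - i) * (1 - a) := by
  rw [mid, if_neg h]

theorem mid_self (a i : F) : mid a i i = i := by simp [mid]

/-- The relation between the triangle `0, 1, w` and its two iterated middle triangles. -/
def Pasch (a w : F) : Prop :=
  mid a (mid a (mid a 0 1) (mid a 0 w)) (mid a (mid a 0 w) (mid a 1 w)) = 1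

variable (hdich : ∀ d : F, IsSquare d ∨ IsSquare (-d)) (hneg : ¬ IsSquare (-1 : F))

include hneg in
theorem not_isSquare_neg {x : F} (hx : x ≠ 0) (h : IsSquare x) : ¬ IsSquare (-x) := fun h' => hneg (by
  have := h'.mul h.inv
  rwa [neg_mul, mul_inv_cancel₀ hx] at this)

include hdich in
theorem sign_cases (q : F) : IsSquare q ∨ IsSquare (-q) := hdich q

variable {a : F} (ha : a ^ 2 - a + 1 = 0) (hna : ¬ IsSquare a)

include hdich hna in
theorem isSquare_omega : IsSquare (-a) := (hdich a).resolve_left hna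

include hdich ha hna in
theorem isSquare_omega_sq : IsSquare (a - 1) := by
  have h := (isSquare_omega hdich hna).mul (isSquare_omega hdich hna)
  rwa [show (-a) * (-a) = a - 1 by linear_combination ha] at h

include hdich hneg ha hna in
theorem exists_three_squares (h2 : (2 : F) ≠ 0) (h3 : (3 : F) ≠ 0) (h7 : (7 : F) ≠ 0) :
    ∃ z : F, z ≠ 0 ∧ z + 1 ≠ 0 ∧ z + (a - 1) ≠ 0 ∧
      IsSquare z ∧ IsSquare (z + 1) ∧ IsSquare (z + (a - 1)) := by
  have ha0 : a ≠ 0 := fun h => one_ne_zero (α := F) (by rw [h] at ha; linear_combination ha)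
  have hw : IsSquare (-a) := isSquare_omega hdich hna
  have hw2 : IsSquare (a - 1) := isSquare_omega_sq hdich ha hna
  have hw20 : a - 1 ≠ 0 := fun h => one_ne_zero (α := F) (by linear_combination ha - a * h)
  have hq3 : a - 2 ≠ 0 := fun h => h3 (by linear_combination ha - (a + 1) * h)
  have hq7 : a - 3 ≠ 0 := fun h => h7 (by linear_combination ha - (a + 2) * h)
  have hq7' : 2 * a - 3 ≠ 0 := fun h => h7 (by linear_combination 4 * ha - (2 * a + 1) * h)
  have hw0 : -a ≠ 0 := neg_ne_zero.2 ha0
  rcases hdich (2 : F) with t2 | t2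
  · rcases hdich (a - 2) with t3 | t3
    · rcases hdich (2 * a - 3) with s7 | s7
      · exact ⟨a - 2, hq3, by rwa [show a - 2 + 1 = a - 1 by ring],
          by rwa [show a - 2 + (a - 1) = 2 * a - 3 by ring], t3,
          by rwa [show a - 2 + 1 = a - 1 by ring], by rwa [show a - 2 + (a - 1) = 2 * a - 3 by ring]⟩
      rcases hdich (a - 3) with t7 | t7
      · exact ⟨a - 3, hq7, by rwa [show a - 3 + 1 = a - 2 by ring],
          by rw [show a - 3 + (a - 1) = 2 * (a - 2) by ring]; exact mul_ne_zero h2 hq3, t7,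
          by rwa [show a - 3 + 1 = a - 2 by ring],
          by rw [show a - 3 + (a - 1) = 2 * (a - 2) by ring]; exact t2.mul t3⟩
      · have e1 : -1 - 2 * a = -a * -(a - 3) := by linear_combination -ha
        have e3 : -1 - 2 * a + (a - 1) = -a * -(2 * a - 3) := by linear_combination -2 * ha
        refine ⟨-1 - 2 * a, e1 ▸ mul_ne_zero hw0 (neg_ne_zero.2 hq7), ?_,
          e3 ▸ mul_ne_zero hw0 (neg_ne_zero.2 hq7'), e1 ▸ hw.mul t7, ?_, e3 ▸ hw.mul s7⟩
        · rw [show -1 - 2 * a + 1 = 2 * -a by ring]; exact mul_ne_zero h2 hw0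
        · rw [show -1 - 2 * a + 1 = 2 * -a by ring]; exact t2.mul hw
    · rcases hdich (a - 3) with t7 | t7
      · rcases hdich (2 * a - 3) with s7 | s7
        · have e1 : 1 - 3 * a = (a - 1) * (2 * a - 3) := by linear_combination -2 * ha
          have e2 : 1 - 3 * a + 1 = (a - 1) * (a - 3) := by linear_combination -ha
          refine ⟨1 - 3 * a, e1 ▸ mul_ne_zero hw20 hq7', e2 ▸ mul_ne_zero hw20 hq7, ?_,
            e1 ▸ hw2.mul s7, e2 ▸ hw2.mul t7, ?_⟩
          · rw [show 1 - 3 * a + (a - 1) = 2 * -a by ring]; exact mul_ne_zero h2 hw0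
          · rw [show 1 - 3 * a + (a - 1) = 2 * -a by ring]; exact t2.mul hw
        · have e1 : -2 - a = -a * -(2 * a - 3) := by linear_combination -2 * ha
          have e2 : -2 - a + 1 = -a * -(a - 2) := by linear_combination -ha
          have e3 : -2 - a + (a - 1) = -a * ((a - 2) * (a - 2)) := by
            linear_combination (a - 3) * ha
          exact ⟨-2 - a, e1 ▸ mul_ne_zero hw0 (neg_ne_zero.2 hq7'),
            e2 ▸ mul_ne_zero hw0 (neg_ne_zero.2 hq3), e3 ▸ mul_ne_zero hw0 (mul_ne_zero hq3 hq3),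
            e1 ▸ hw.mul s7, e2 ▸ hw.mul t3, e3 ▸ hw.mul (IsSquare.mul_self (a - 2))⟩
      · refine ⟨2 - a, ?_, ?_, ?_, ?_, ?_, ?_⟩
        · rw [show 2 - a = -(a - 2) by ring]; exact neg_ne_zero.2 hq3
        · rw [show 2 - a + 1 = -(a - 3) by ring]; exact neg_ne_zero.2 hq7
        · rw [show 2 - a + (a - 1) = 1 by ring]; exact one_ne_zero
        · rwa [show 2 - a = -(a - 2) by ring]
        · rwa [show 2 - a + 1 = -(a - 3) by ring]
        · rw [show 2 - a + (a - 1) = 1 by ring]; exact IsSquare.one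
  · rcases hdich (a - 2) with t3 | t3
    · have e1 : 1 - 2 * a = (a - 1) * (a - 2) := by linear_combination -ha
      refine ⟨1 - 2 * a, e1 ▸ mul_ne_zero hw20 hq3, ?_, ?_, e1 ▸ hw2.mul t3, ?_, ?_⟩
      · rw [show 1 - 2 * a + 1 = -2 * (a - 1) by ring]; exact mul_ne_zero (neg_ne_zero.2 h2) hw20
      · rw [show 1 - 2 * a + (a - 1) = -a by ring]; exact hw0
      · rw [show 1 - 2 * a + 1 = -2 * (a - 1) by ring]; exact t2.mul hw2
      · rwa [show 1 - 2 * a + (a - 1) = -a by ring]
    · have e1 : -a - 1 = -a * -(a - 2) := by linear_combination -ha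
      refine ⟨-a - 1, e1 ▸ mul_ne_zero hw0 (neg_ne_zero.2 hq3), ?_, ?_, e1 ▸ hw.mul t3, ?_, ?_⟩
      · rwa [show -a - 1 + 1 = -a by ring]
      · rw [show -a - 1 + (a - 1) = -2 by ring]; exact neg_ne_zero.2 h2
      · rwa [show -a - 1 + 1 = -a by ring]
      · rwa [show -a - 1 + (a - 1) = -2 by ring]

include hdich hneg ha hna in
/-- A triangle on which the relation holds. -/
theorem exists_pasch (h2 : (2 : F) ≠ 0) (h3 : (3 : F) ≠ 0) (h7 : (7 : F) ≠ 0) :
    ∃ w : F, w ≠ 0 ∧ w ≠ 1 ∧ w ≠ a ∧ Pasch a w := by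
  have hw2 : IsSquare (a - 1) := isSquare_omega_sq hdich ha hna
  have hw20 : a - 1 ≠ 0 := fun h => one_ne_zero (α := F) (by linear_combination ha - a * h)
  have hbar : ¬ IsSquare (1 - a) := by
    have := not_isSquare_neg hneg hw20 hw2
    rwa [neg_sub] at this
  obtain ⟨z, hz, hz1, hz3, sz, sz1, sz3⟩ := exists_three_squares hdich hneg ha hna h2 h3 h7
  refine ⟨z + 1, hz1, fun h => hz (by linear_combination h), fun h => hna (h ▸ sz1), ?_⟩
  have e01 : mid a 0 1 = a := by
    rw [mid_of_isSquare a (by simp)]; ring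
  have e0w : mid a 0 (z + 1) = (z + 1) * a := by
    rw [mid_of_isSquare a (by simpa using sz1)]; ring
  have e1w : mid a 1 (z + 1) = 1 + z * a := by
    rw [mid_of_isSquare a (by simpa using sz)]; ring
  have hnu : ¬ IsSquare ((z + 1) * a - a) := fun h => hna (by
    have := h.mul sz.inv
    rwa [show ((z + 1) * a - a) * z⁻¹ = a * (z * z⁻¹) by ring, mul_inv_cancel₀ hz, mul_one] at this)
  have eu : mid a a ((z + 1) * a) = a + z := by
    rw [mid_of_not_isSquare a hnu]; linear_combination -z * ha
  have ev : mid a ((z + 1) * a) (1 + z * a) = (z + 1) * a + (1 - a) * (1 - a) := by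
    rw [mid_of_not_isSquare a (by rwa [show 1 + z * a - (z + 1) * a = 1 - a by ring])]; ring
  have hd : IsSquare ((z + 1) * a + (1 - a) * (1 - a) - (a + z)) := by
    have h := hw2.mul sz3
    rwa [show (a - 1) * (z + (a - 1)) = (z + 1) * a + (1 - a) * (1 - a) - (a + z) by ring] at h
  unfold Pasch
  rw [e01, e0w, e1w, eu, ev, mid_of_isSquare a hd]
  linear_combination (z + a - 1) * ha

include hdich hneg ha hna in
/-- A triangle on which the relation fails. -/
theorem not_pasch (h3 : (3 : F) ≠ 0) : 1 - a ≠ 0 ∧ 1 - a ≠ 1 ∧ 1 - a ≠ a ∧ ¬ Pasch a (1 - a) := by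
  have ha0 : a ≠ 0 := fun h => one_ne_zero (α := F) (by rw [h] at ha; linear_combination ha)
  have hw : IsSquare (-a) := isSquare_omega hdich hna
  have hw2 : IsSquare (a - 1) := isSquare_omega_sq hdich ha hna
  have hw20 : a - 1 ≠ 0 := fun h => one_ne_zero (α := F) (by linear_combination ha - a * h)
  have hbar : ¬ IsSquare (1 - a) := by
    have := not_isSquare_neg hneg hw20 hw2
    rwa [neg_sub] at this
  refine ⟨fun h => hw20 (by linear_combination -h), fun h => ha0 (by linear_combination -h),
    fun h => h3 (by linear_combination 4 * ha + (2 * a - 1) * h), fun hP => ?_⟩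
  have e01 : mid a 0 1 = a := by
    rw [mid_of_isSquare a (by simp)]; ring
  have e0w : mid a 0 (1 - a) = -a := by
    rw [mid_of_not_isSquare a (by simpa using hbar)]; linear_combination ha
  have e1w : mid a 1 (1 - a) = 2 - a := by
    rw [mid_of_isSquare a (by rwa [show 1 - a - 1 = -a by ring])]; linear_combination -ha
  unfold Pasch at hP
  rw [e01, e0w, e1w] at hP
  have ha1 : a + 1 ≠ 0 := fun h => h3 (by linear_combination ha - (a - 2) * h)
  by_cases t2 : IsSquare (2 : F)
  · have eu : mid a a (-a) = a - 2 * a ^ 2 := by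
      rw [mid_of_isSquare a (by rw [show -a - a = 2 * -a by ring]; exact t2.mul hw)]; ring
    have ev : mid a (-a) (2 - a) = a := by
      rw [mid_of_isSquare a (by rwa [show 2 - a - -a = 2 by ring])]; ring
    have hd : IsSquare (a - (a - 2 * a ^ 2)) := by
      rw [show a - (a - 2 * a ^ 2) = 2 * (-a * -a) by ring]; exact t2.mul (hw.mul hw)
    rw [eu, ev, mid_of_isSquare a hd] at hP
    exact ha1 (by linear_combination 2 * a * ha - hP)
  · have h20 : (2 : F) ≠ 0 := fun h => t2 (h ▸ IsSquare.zero)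
    have hn : ∀ {s : F}, s ≠ 0 → IsSquare s → ¬ IsSquare (2 * s) := fun hs0 hs h => t2 (by
      have := h.mul hs.inv
      rwa [mul_assoc, mul_inv_cancel₀ hs0, mul_one] at this)
    have eu : mid a a (-a) = a - 2 := by
      rw [mid_of_not_isSquare a (by rw [show -a - a = 2 * -a by ring]; exact hn (neg_ne_zero.2 ha0) hw)]
      linear_combination 2 * ha
    have ev : mid a (-a) (2 - a) = 2 - 3 * a := by
      rw [mid_of_not_isSquare a (by rwa [show 2 - a - -a = 2 by ring])]; ring
    have hd : ¬ IsSquare (2 - 3 * a - (a - 2)) := by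
      rw [show 2 - 3 * a - (a - 2) = -((2 * 2) * (a - 1)) by ring]
      exact not_isSquare_neg hneg (mul_ne_zero (mul_ne_zero h20 h20) hw20)
        ((IsSquare.mul_self 2).mul hw2)
    rw [eu, ev, mid_of_not_isSquare a hd] at hP
    exact ha1 (mul_left_cancel₀ h3 (by linear_combination 4 * ha - hP))

end CfsgLib.Perm.NeumannNetto
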