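import Cfsg.Agent.Lib.Perm.NeumannRank
import Cfsg.Agent.Lib.Perm.NeumannNetto

/-!
# The point stabiliser of an insoluble group of prime degree with half of the affine normaliser

A block system of the point stabiliser gives a system of lines on the points. The translations and
the square scalings make it a Netto triple system, whose automorphisms are not transitive on triangles.
-/

set_option autoImplicit false

namespace CfsgLib.Perm.NeumannPrimitive

open MulAction CfsgLib.Perm.PrimeNormalizer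

variable {G Ω : Type*} [Group G] [Finite G] [MulAction G Ω] {p : ℕ} [hp : Fact p.Prime]

/-- A system of lines, invariant under `G`, with one orbit on triangles. -/
structure Lines (G : Type*) [Group G] {Ω : Type*} [MulAction G Ω] (L : Ω → Ω → Finset Ω) (m : ℕ) :
    Prop where
  left : ∀ x y, x ≠ y → x ∈ L x y
  right : ∀ x y, x ≠ y → y ∈ L x y
  swap : ∀ x y, x ≠ y → L y x = L x y
  eq_of_mem : ∀ x y z, x ≠ y → z ∈ L x y → z ≠ x → L x z = L x y
  smul_mem : ∀ (g : G) x y z, z ∈ L x y → g • z ∈ L (g • x) (g • y)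
  card : ∀ x y, x ≠ y → (L x y).card = m
  triangles : ∀ x y z z', x ≠ y → z ∉ L x y → z' ∉ L x y → ∃ g : G, g • x = x ∧ g • y = y ∧ g • z = z'

open scoped Classical in
/-- A block system of a point stabiliser yields lines. -/
theorem exists_lines [Fintype Ω] (hodd : Odd (Fintype.card Ω)) (h2 : IsMultiplyPretransitive G Ω 2)
    (h4 : ∀ a b : Ω, a ≠ b → Nat.card (orbitRel.Quotient ↥(stabilizer G a ⊓ stabilizer G b) Ω) ≤ 4)
    (α : Ω) (B : Set Ω) (hαB : α ∉ B) {b₁ b₂ w : Ω} (hb₁ : b₁ ∈ B) (hb₂ : b₂ ∈ B) (hb : b₁ ≠ b₂)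
    (hwα : w ≠ α) (hwB : w ∉ B)
    (hblock : ∀ k : G, k • α = α → ∀ y ∈ B, k • y ∈ B → ∀ z ∈ B, k • z ∈ B) :
    ∃ (L : Ω → Ω → Finset Ω) (m : ℕ), 3 ≤ m ∧ m < Fintype.card Ω ∧ Lines G L m := by
  rw [is_two_pretransitive_iff] at h2
  let R : Ω → Ω → Ω → Prop := fun x y z => ∃ g : G, g • x = α ∧ g • y ∈ B ∧ g • z ∈ B
  let L : Ω → Ω → Finset Ω := fun x y => insert x (Finset.univ.filter fun z => R x y z)
  have hmemL : ∀ x y z, z ∈ L x y ↔ z = x ∨ R x y z := fun x y z => by simp [L]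
  have hB : ∀ y ∈ B, α ≠ y := fun y hy h => hαB (h ▸ hy)
  have hrefl : ∀ x y, x ≠ y → R x y y := fun x y hxy => by
    obtain ⟨g, h1, h2'⟩ := h2 hxy (hB b₁ hb₁)
    exact ⟨g, h1, h2' ▸ hb₁, h2' ▸ hb₁⟩
  have hne : ∀ {x y z}, R x y z → z ≠ x := by
    rintro x y z ⟨g, h1, -, h3⟩ rfl
    exact hαB (h1 ▸ h3)
  have hsym : ∀ {x y z}, R x y z → R x z y := fun ⟨g, h1, h2', h3⟩ => ⟨g, h1, h3, h2'⟩
  have htrans : ∀ {x y z v}, R x y z → R x z v → R x y v := by
    rintro x y z v ⟨g, h1, h2', h3⟩ ⟨g', h1', h2'', h3'⟩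
    refine ⟨g, h1, h2', ?_⟩
    have := hblock (g * g'⁻¹) (by nth_rw 1 [← h1']; rw [mul_smul, inv_smul_smul, h1]) _ h2''
      (by rw [mul_smul, inv_smul_smul]; exact h3) _ h3'
    rwa [mul_smul, inv_smul_smul] at this
  have hRg : ∀ (g : G) x y z, R x y z → R (g • x) (g • y) (g • z) := by
    rintro g x y z ⟨k, h1, h2', h3⟩
    exact ⟨k * g⁻¹, by rw [mul_smul, inv_smul_smul, h1], by rw [mul_smul, inv_smul_smul]; exact h2',
      by rw [mul_smul, inv_smul_smul]; exact h3⟩
  have hLg : ∀ (g : G) x y z, z ∈ L x y → g • z ∈ L (g • x) (g • y) := by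
    intro g x y z hz
    rcases (hmemL x y z).1 hz with rfl | h
    · exact (hmemL _ _ _).2 (Or.inl rfl)
    · exact (hmemL _ _ _).2 (Or.inr (hRg g x y z h))
  have himg : ∀ (g : G) x y, L (g • x) (g • y) = (L x y).image (g • ·) := by
    intro g x y
    ext z
    rw [Finset.mem_image]
    refine ⟨fun hz => ⟨g⁻¹ • z, ?_, smul_inv_smul g z⟩, fun ⟨v, hv, e⟩ => e ▸ hLg g x y v hv⟩
    have := hLg g⁻¹ _ _ _ hz
    rwa [inv_smul_smul, inv_smul_smul] at this
  have hα₁ := hB b₁ hb₁
  have hLB : ∀ z, z ∈ L α b₁ ↔ z = α ∨ z ∈ B := by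
    intro z
    rw [hmemL]
    refine or_congr_right ⟨fun ⟨g, h1, h2', h3⟩ => ?_, fun hz => ⟨1, one_smul _ _, by rwa [one_smul],
      by rwa [one_smul]⟩⟩
    have := hblock g⁻¹ (inv_smul_eq_iff.2 h1.symm) _ h2' (by rw [inv_smul_smul]; exact hb₁) _ h3
    rwa [inv_smul_smul] at this
  have hcard : ∀ x y, x ≠ y → (L x y).card = (L α b₁).card := by
    intro x y hxy
    obtain ⟨g, rfl, rfl⟩ := h2 hα₁ hxy
    rw [himg, Finset.card_image_of_injective _ (MulAction.injective g)]
  have hm3 : 3 ≤ (L α b₁).card := by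
    have hs : ({α, b₁, b₂} : Finset Ω) ⊆ L α b₁ := by
      intro v hv
      simp only [Finset.mem_insert, Finset.mem_singleton] at hv
      rcases hv with rfl | rfl | rfl
      · exact (hLB _).2 (Or.inl rfl)
      · exact (hLB _).2 (Or.inr hb₁)
      · exact (hLB _).2 (Or.inr hb₂)
    refine le_trans (le_of_eq ?_) (Finset.card_le_card hs)
    rw [Finset.card_insert_of_notMem (by simp [hα₁, hB b₂ hb₂]), Finset.card_pair hb]
  have hwL : w ∉ L α b₁ := fun h => by
    rcases (hLB w).1 h with h | h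
    · exact hwα h
    · exact hwB h
  have hmlt : (L α b₁).card < Fintype.card Ω :=
    Finset.card_lt_univ_of_notMem hwL
  -- the two-point stabiliser has just two orbits on the other points
  set S := stabilizer G α ⊓ stabilizer G b₁ with hS
  let mk : Ω → orbitRel.Quotient S Ω := fun z => Quotient.mk (orbitRel S Ω) z
  have hmk : ∀ z z', mk z = mk z' → ∃ s : G, s • α = α ∧ s • b₁ = b₁ ∧ s • z' = z := by
    intro z z' h
    obtain ⟨⟨s, hs1, hs2⟩, hs⟩ := Quotient.exact h
    exact ⟨s, hs1, hs2, hs⟩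
  have hsame : ∀ z z', z ≠ α → z ≠ b₁ → z' ≠ α → z' ≠ b₁ → (z ∈ L α b₁ ↔ z' ∈ L α b₁) →
      mk z = mk z' := by
    intro z z' hzα hzb hzα' hzb' hiff
    by_contra hmkne
    obtain ⟨v, hvα, hvb, hv⟩ : ∃ v, v ≠ α ∧ v ≠ b₁ ∧ ¬ (v ∈ L α b₁ ↔ z ∈ L α b₁) := by
      by_cases hz : z ∈ L α b₁
      · exact ⟨w, hwα, fun h => hwB (h ▸ hb₁), fun h => hwL (h.2 hz)⟩
      · exact ⟨b₂, (hB b₂ hb₂).symm, hb.symm, fun h => hz (h.1 ((hLB _).2 (Or.inr hb₂)))⟩
    have hfix : ∀ x y, (x = α ∨ x = b₁) → mk y = mk x → y = x := by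
      intro x y hx h
      obtain ⟨s, h1, h2', h3⟩ := hmk y x h
      rcases hx with rfl | rfl
      · rw [← h3, h1]
      · rw [← h3, h2']
    have hinv : ∀ x y, mk x = mk y → (x ∈ L α b₁ ↔ y ∈ L α b₁) := by
      intro x y h
      obtain ⟨s, h1, h2', h3⟩ := hmk x y h
      rw [← h3]
      conv_lhs => rw [← h1, ← h2']
      rw [himg, Finset.mem_image]
      exact ⟨fun ⟨u, hu, e⟩ => MulAction.injective s e ▸ hu, fun hu => ⟨y, hu, rfl⟩⟩
    haveI := Fintype.ofFinite (orbitRel.Quotient S Ω)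
    have hc : ({mk α, mk b₁, mk z, mk z', mk v} : Finset (orbitRel.Quotient S Ω)).card = 5 := by
      have n1 : mk α ≠ mk b₁ := fun h => hα₁ (hfix b₁ α (Or.inr rfl) h)
      have n2 : ∀ y, y ≠ α → mk α ≠ mk y := fun y hy h => hy (hfix α y (Or.inl rfl) h.symm)
      have n3 : ∀ y, y ≠ b₁ → mk b₁ ≠ mk y := fun y hy h => hy (hfix b₁ y (Or.inr rfl) h.symm)
      have n4 : mk z ≠ mk v := fun h => hv (hinv _ _ h).symm
      have n5 : mk z' ≠ mk v := fun h => hv ((hinv _ _ h).symm.trans hiff.symm)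
      rw [Finset.card_insert_of_notMem (by simp [n1, n2 z hzα, n2 z' hzα', n2 v hvα]),
        Finset.card_insert_of_notMem (by simp [n3 z hzb, n3 z' hzb', n3 v hvb]),
        Finset.card_insert_of_notMem (by simp [hmkne, n4]), Finset.card_pair n5]
    have h5 := Finset.card_le_univ ({mk α, mk b₁, mk z, mk z', mk v} :
      Finset (orbitRel.Quotient S Ω))
    rw [hc, ← Nat.card_eq_fintype_card] at h5
    exact absurd (h5.trans (h4 α b₁ hα₁)) (by norm_num)
  have hswap₁ : L b₁ α = L α b₁ := by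
    have hl : ∀ x y, x ≠ y → x ∈ L x y ∧ y ∈ L x y := fun x y h =>
      ⟨(hmemL _ _ _).2 (Or.inl rfl), (hmemL _ _ _).2 (Or.inr (hrefl x y h))⟩
    have hinv : ∀ x y, mk x = mk y → y ∈ L b₁ α → x ∈ L b₁ α := by
      intro x y h hy
      obtain ⟨s, h1, h2', h3⟩ := hmk x y h
      have := hLg s _ _ _ hy
      rwa [h1, h2', h3] at this
    have hc := hcard b₁ α hα₁.symm
    by_cases hsub : L α b₁ ⊆ L b₁ α
    · exact (Finset.eq_of_subset_of_card_le hsub hc.le).symm
    exfalso
    obtain ⟨t, ht, htn⟩ := Finset.not_subset.1 hsub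
    have hdisj : L b₁ α ∩ L α b₁ = {α, b₁} := by
      ext v
      simp only [Finset.mem_inter, Finset.mem_insert, Finset.mem_singleton]
      constructor
      · rintro ⟨hv', hv⟩
        by_contra hne'
        push Not at hne'
        refine htn (hinv t v (hsame t v ?_ ?_ hne'.1 hne'.2 (iff_of_true ht hv)) hv')
        · exact fun e => htn (e ▸ (hl b₁ α hα₁.symm).2)
        · exact fun e => htn (e ▸ (hl b₁ α hα₁.symm).1)
      · rintro (rfl | rfl)
        · exact ⟨(hl _ _ hα₁.symm).2, (hl _ _ hα₁).1⟩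
        · exact ⟨(hl _ _ hα₁.symm).1, (hl _ _ hα₁).2⟩
    obtain ⟨n, hn, hnn⟩ : ∃ n ∈ L b₁ α, n ∉ L α b₁ := by
      by_contra! h
      have := Finset.card_le_card (Finset.subset_inter (Finset.Subset.refl (L b₁ α)) h)
      rw [hdisj, Finset.card_pair hα₁, hc] at this
      omega
    have hun : L b₁ α ∪ L α b₁ = Finset.univ := by
      refine Finset.eq_univ_iff_forall.2 fun v => ?_
      rw [Finset.mem_union]
      by_contra! hv
      refine hv.1 (hinv v n (hsame v n ?_ ?_ ?_ ?_ (iff_of_false hv.2 hnn)) hn)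
      · exact fun e => hv.2 (e ▸ (hl α b₁ hα₁).1)
      · exact fun e => hv.2 (e ▸ (hl α b₁ hα₁).2)
      · exact fun e => hnn (e ▸ (hl α b₁ hα₁).1)
      · exact fun e => hnn (e ▸ (hl α b₁ hα₁).2)
    have h := Finset.card_union_add_card_inter (L b₁ α) (L α b₁)
    rw [hun, hdisj, hc, Finset.card_univ, Finset.card_pair hα₁] at h
    obtain ⟨k, hk⟩ := hodd
    omega
  refine ⟨L, _, hm3, hmlt, ⟨fun x y _ => (hmemL _ _ _).2 (Or.inl rfl),
    fun x y h => (hmemL _ _ _).2 (Or.inr (hrefl x y h)), ?_, ?_, hLg, hcard, ?_⟩⟩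
  · intro x y hxy
    obtain ⟨g, rfl, rfl⟩ := h2 hα₁ hxy
    rw [himg, himg, hswap₁]
  · intro x y z hxy hz hzx
    have hR : R x y z := ((hmemL _ _ _).1 hz).resolve_left hzx
    ext v
    rw [hmemL, hmemL]
    exact or_congr_right ⟨fun h => htrans hR h, fun h => htrans (hsym hR) h⟩
  · intro x y z z' hxy hz hz'
    obtain ⟨g, rfl, rfl⟩ := h2 hα₁ hxy
    have hoff : ∀ v, v ∉ L (g • α) (g • b₁) →
        g⁻¹ • v ∉ L α b₁ ∧ g⁻¹ • v ≠ α ∧ g⁻¹ • v ≠ b₁ := by
      intro v hv
      have h0 : g⁻¹ • v ∉ L α b₁ := fun h => hv (by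
        have := hLg g _ _ _ h
        rwa [smul_inv_smul] at this)
      exact ⟨h0, fun e => h0 ((hLB _).2 (Or.inl e)), fun e => h0 ((hLB _).2 (Or.inr (e ▸ hb₁)))⟩
    obtain ⟨h0, h1, h1'⟩ := hoff z hz
    obtain ⟨h0', h1'', h1'''⟩ := hoff z' hz'
    obtain ⟨s, s1, s2, s3⟩ := hmk _ _ (hsame _ _ h1'' h1''' h1 h1' (iff_of_false h0' h0))
    exact ⟨g * s * g⁻¹, by rw [mul_smul, inv_smul_smul, mul_smul, s1],
      by rw [mul_smul, inv_smul_smul, mul_smul, s2], by rw [mul_smul, mul_smul, s3, smul_inv_smul]⟩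

/-- No system of lines is invariant under the translations and the square scalings with one orbit
on triangles. -/
theorem false_of_lines (hp3 : p % 4 = 3) (hp7 : 7 < p) (e : ZMod p ≃ Ω) (σ : G)
    (hσ : ∀ i, σ • e i = e (i + 1))
    (hsc : ∀ s : ZMod p, IsSquare s → s ≠ 0 → ∃ g : G, ∀ i, g • e i = e (s * i))
    (L : Ω → Ω → Finset Ω) (m : ℕ) (hm3 : 3 ≤ m) (hmp : m < p) (hL : Lines G L m) : False := by
  classical
  let M : ZMod p → ZMod p → Finset (ZMod p) := fun i j => (L (e i) (e j)).image e.symm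
  set q := coordHom (G := G) e with hq
  have hmemM : ∀ i j k, k ∈ M i j ↔ e k ∈ L (e i) (e j) := fun i j k => by
    simp only [M, Finset.mem_image]
    refine ⟨?_, fun h => ⟨_, h, e.symm_apply_apply k⟩⟩
    rintro ⟨x, hx, rfl⟩
    rwa [e.apply_symm_apply]
  have hne : ∀ {i j : ZMod p}, i ≠ j → e i ≠ e j := fun h h' => h (e.injective h')
  have hMg : ∀ (g : G) i j k, k ∈ M i j → q g k ∈ M (q g i) (q g j) := by
    intro g i j k hk
    rw [hmemM] at hk ⊢
    rw [coordHom_apply, coordHom_apply, coordHom_apply]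
    exact hL.smul_mem g _ _ _ hk
  have hMimg : ∀ (g : G) i j, M (q g i) (q g j) = (M i j).image (q g) := by
    intro g i j
    ext k
    refine ⟨fun hk => Finset.mem_image.2 ⟨q g⁻¹ k, ?_, ?_⟩, fun hk => ?_⟩
    · have := hMg g⁻¹ _ _ _ hk
      simpa [map_inv] using this
    · simp [map_inv]
    · obtain ⟨v, hv, rfl⟩ := Finset.mem_image.1 hk
      exact hMg g i j v hv
  have hMc : ∀ i j, i ≠ j → (M i j).card = m := fun i j h => by
    rw [Finset.card_image_of_injective _ e.symm.injective, hL.card _ _ (hne h)]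
  have hleft : ∀ i j, i ≠ j → i ∈ M i j := fun i j h => (hmemM _ _ _).2 (hL.left _ _ (hne h))
  have hright : ∀ i j, i ≠ j → j ∈ M i j := fun i j h => (hmemM _ _ _).2 (hL.right _ _ (hne h))
  let s : ZMod p → ZMod p → ZMod p := fun i j => ∑ k ∈ M i j, k
  have hshift : ∀ t i j, i ≠ j → s (i + t) (j + t) = s i j + m * t := by
    intro t i j hij
    have hqt : ∀ x, q (σ ^ t.val) x = x + t := fun x => by
      rw [hq, coordHom_pow e hσ, ZMod.natCast_zmod_val]
    show ∑ k ∈ M (i + t) (j + t), k = _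
    rw [← hqt i, ← hqt j, hMimg, Finset.sum_image fun x _ y _ h => (q (σ ^ t.val)).injective h]
    simp only [hqt, Finset.sum_add_distrib, Finset.sum_const, nsmul_eq_mul, hMc i j hij]
    rfl
  have hscale : ∀ c, IsSquare c → c ≠ 0 → ∀ i j, s (c * i) (c * j) = c * s i j := by
    intro c hc hc0 i j
    obtain ⟨g, hg⟩ := hsc c hc hc0
    have hqg : ∀ x, q g x = c * x := fun x => e.injective (by rw [hq, coordHom_apply, hg])
    show ∑ k ∈ M (c * i) (c * j), k = c * ∑ k ∈ M i j, k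
    rw [← hqg i, ← hqg j, hMimg, Finset.sum_image fun x _ y _ h => (q g).injective h, Finset.mul_sum]
    exact Finset.sum_congr rfl fun x _ => hqg x
  have hdich := fun d : ZMod p => CfsgLib.Perm.NeumannRank.isSquare_or_neg hp3 d
  have hneg : ¬ IsSquare (-1 : ZMod p) := fun h => ZMod.exists_sq_eq_neg_one_iff.1 h hp3
  have hsmall : ∀ n : ℕ, 0 < n → n < p → (n : ZMod p) ≠ 0 := fun n h0 hn h => by
    rw [ZMod.natCast_eq_zero_iff] at h
    exact absurd (Nat.le_of_dvd h0 h) (by omega)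
  have hm0 : (m : ZMod p) ≠ 0 := hsmall m (by omega) hmp
  set A := s 0 1 with hA
  set A' := -s 0 (-1) with hA'
  have hψ : ∀ d, d ≠ 0 → s 0 d = d * if IsSquare d then A else A' := by
    intro d hd
    by_cases hsq : IsSquare d
    · rw [if_pos hsq]
      have := hscale d hsq hd 0 1
      rwa [mul_zero, mul_one] at this
    · rw [if_neg hsq]
      have := hscale (-d) ((hdich d).resolve_left hsq) (neg_ne_zero.2 hd) 0 (-1)
      rw [mul_zero, neg_mul_neg, mul_one] at this
      rw [this, hA']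
      ring
  have hAA : A + A' = m := by
    have h1 := hshift 1 0 (-1) (neg_ne_zero.2 one_ne_zero).symm
    rw [zero_add, neg_add_cancel, mul_one] at h1
    have h2 : s 1 0 = A := by
      show ∑ k ∈ M 1 0, k = ∑ k ∈ M 0 1, k
      simp only [M]
      rw [hL.swap _ _ (hne zero_ne_one)]
    rw [h2] at h1
    rw [hA', h1]
    ring
  have hbase : ∀ i j k, i ≠ j → k ∈ M i j → k ≠ i → s 0 (k - i) = s 0 (j - i) := by
    intro i j k hij hk hki
    have h1 : s i k = s i j := by
      show ∑ x ∈ M i k, x = ∑ x ∈ M i j, x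
      simp only [M]
      rw [hL.eq_of_mem _ _ _ (hne hij) ((hmemM _ _ _).1 hk) (hne hki)]
    have h2 := hshift i 0 (k - i) (sub_ne_zero.2 hki).symm
    have h3 := hshift i 0 (j - i) (sub_ne_zero.2 (Ne.symm hij)).symm
    rw [zero_add, sub_add_cancel] at h2 h3
    rw [h1, h3] at h2
    exact add_right_cancel h2.symm
  have hthird : ∀ i j, i ≠ j → ∃ k ∈ M i j, k ≠ i ∧ k ≠ j := by
    intro i j hij
    have : ((M i j) \ {i, j}).Nonempty := by
      rw [← Finset.card_pos]
      have := Finset.le_card_sdiff ({i, j} : Finset (ZMod p)) (M i j)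
      rw [Finset.card_pair hij, hMc i j hij] at this
      omega
    obtain ⟨k, hk⟩ := this
    simp only [Finset.mem_sdiff, Finset.mem_insert, Finset.mem_singleton, not_or] at hk
    exact ⟨k, hk.1, hk.2.1, hk.2.2⟩
  have h1sq : IsSquare (1 : ZMod p) := IsSquare.one
  have hA0 : A ≠ 0 := by
    intro h0
    have hA'm : A' = m := by rw [← hAA, h0, zero_add]
    obtain ⟨k, hk, hk0, hk1⟩ := hthird 0 1 zero_ne_one
    have e0 := hbase 0 1 k zero_ne_one hk hk0
    rw [sub_zero, sub_zero, hψ k hk0, hψ 1 one_ne_zero, if_pos h1sq, h0, mul_zero] at e0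
    have e1 := hbase 1 0 k one_ne_zero (by
      rw [hmemM] at hk ⊢
      rwa [hL.swap _ _ (hne zero_ne_one)]) hk1
    rw [zero_sub, hψ _ (sub_ne_zero.2 hk1), hψ (-1) (neg_ne_zero.2 one_ne_zero), if_neg hneg, h0,
      hA'm] at e1
    split_ifs at e1 with h
    · rw [mul_zero, neg_one_mul, eq_comm, neg_eq_zero] at e1
      exact hm0 e1
    · exact hk0 (sub_eq_iff_eq_add.1 (mul_right_cancel₀ hm0 e1) |>.trans (neg_add_cancel 1))
  have hA'0 : A' ≠ 0 := by
    intro h0
    have hAm : A = m := by rw [← hAA, h0, add_zero]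
    have h01 : (0 : ZMod p) ≠ -1 := (neg_ne_zero.2 one_ne_zero).symm
    obtain ⟨k, hk, hk0, hk1⟩ := hthird 0 (-1) h01
    have e1 := hbase (-1) 0 k h01.symm (by
      rw [hmemM] at hk ⊢
      rwa [hL.swap _ _ (hne h01)]) hk1
    rw [sub_neg_eq_add, sub_neg_eq_add, zero_add, hψ (k + 1) (fun h => hk1 (by linear_combination h)),
      hψ 1 one_ne_zero, if_pos h1sq, hAm, h0] at e1
    split_ifs at e1 with h
    · exact hk0 (by linear_combination mul_right_cancel₀ hm0 e1)
    · rw [mul_zero, one_mul, eq_comm] at e1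
      exact hm0 e1
  obtain ⟨a, haM, ha0, ha1⟩ := hthird 0 1 zero_ne_one
  have hrest : ∀ k ∈ M 0 1, k ≠ 0 → k ≠ 1 → ¬ IsSquare k ∧ k * A' = A := by
    intro k hk hk0 hk1
    have e0 := hbase 0 1 k zero_ne_one hk hk0
    rw [sub_zero, sub_zero, hψ k hk0, hψ 1 one_ne_zero, if_pos h1sq, one_mul] at e0
    by_cases h : IsSquare k
    · rw [if_pos h] at e0
      exact absurd (mul_right_cancel₀ hA0 (e0.trans (one_mul A).symm)) hk1
    · rw [if_neg h] at e0
      exact ⟨h, e0⟩
  have hM01 : M 0 1 = {0, 1, a} := by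
    ext k
    simp only [Finset.mem_insert, Finset.mem_singleton]
    constructor
    · intro hk
      by_contra! h
      exact h.2.2 (mul_right_cancel₀ hA'0
        ((hrest k hk h.1 h.2.1).2.trans (hrest a haM ha0 ha1).2.symm))
    · rintro (rfl | rfl | rfl)
      · exact hleft _ _ zero_ne_one
      · exact hright _ _ zero_ne_one
      · exact haM
  have hm : m = 3 := by
    rw [← hMc 0 1 zero_ne_one, hM01, Finset.card_insert_of_notMem (by simp [ha0.symm]),
      Finset.card_pair ha1.symm]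
  subst hm
  have hAa : A = 1 + a := by
    show ∑ k ∈ M 0 1, k = _
    rw [hM01, Finset.sum_insert (by simp [ha0.symm]), Finset.sum_pair ha1.symm, zero_add]
  have hA'a : A' = 2 - a := by
    have h := hAA
    rw [hAa] at h
    push_cast at h
    linear_combination h
  obtain ⟨hna, haA⟩ := hrest a haM ha0 ha1
  have ha : a ^ 2 - a + 1 = 0 := by
    rw [hAa, hA'a] at haA
    linear_combination -haA
  -- the lines are the Netto triples
  have hmid : ∀ i j, i ≠ j →
      NeumannNetto.mid a i j ∈ M i j ∧ NeumannNetto.mid a i j ≠ i ∧ NeumannNetto.mid a i j ≠ j := by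
    intro i j hij
    obtain ⟨k, hk, hki, hkj⟩ := hthird i j hij
    suffices NeumannNetto.mid a i j = k by rw [this]; exact ⟨hk, hki, hkj⟩
    have hMij : M i j = {i, j, k} := by
      symm
      refine Finset.eq_of_subset_of_card_le ?_ ?_
      · intro x hx
        simp only [Finset.mem_insert, Finset.mem_singleton] at hx
        rcases hx with rfl | rfl | rfl
        · exact hleft _ _ hij
        · exact hright _ _ hij
        · exact hk
      · rw [hMc i j hij, Finset.card_insert_of_notMem (by simp [hij, hki.symm]),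
          Finset.card_pair hkj.symm]
    have h1 : s i j = i + j + k := by
      show ∑ x ∈ M i j, x = _
      rw [hMij, Finset.sum_insert (by simp [hij, hki.symm]), Finset.sum_pair hkj.symm]
      ring
    have h2 := hshift i 0 (j - i) (sub_ne_zero.2 hij.symm).symm
    rw [zero_add, sub_add_cancel, h1, hψ _ (sub_ne_zero.2 hij.symm), hAa, hA'a] at h2
    push_cast at h2
    unfold NeumannNetto.mid
    split_ifs at h2 ⊢ <;> linear_combination -h2
  have hequiv : ∀ (g : G) i j,
      q g (NeumannNetto.mid a i j) = NeumannNetto.mid a (q g i) (q g j) := by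
    intro g i j
    by_cases hij : i = j
    · rw [hij, NeumannNetto.mid_self, NeumannNetto.mid_self]
    have hij' : q g i ≠ q g j := fun h => hij ((q g).injective h)
    obtain ⟨h1, h2, h3⟩ := hmid i j hij
    obtain ⟨h1', h2', h3'⟩ := hmid _ _ hij'
    have hsub : ({q g i, q g j, NeumannNetto.mid a (q g i) (q g j)} : Finset (ZMod p)) =
        M (q g i) (q g j) := by
      refine Finset.eq_of_subset_of_card_le ?_ ?_
      · intro x hx
        simp only [Finset.mem_insert, Finset.mem_singleton] at hx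
        rcases hx with rfl | rfl | rfl
        · exact hleft _ _ hij'
        · exact hright _ _ hij'
        · exact h1'
      · rw [hMc _ _ hij', Finset.card_insert_of_notMem (by simp [hij, h2'.symm]),
          Finset.card_pair h3'.symm]
    have h := hMg g i j _ h1
    rw [← hsub] at h
    simp only [Finset.mem_insert, Finset.mem_singleton] at h
    rcases h with h | h | h
    · exact absurd ((q g).injective h) h2
    · exact absurd ((q g).injective h) h3
    · exact h
  have h2 : (2 : ZMod p) ≠ 0 := by exact_mod_cast hsmall 2 (by norm_num) (by omega)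
  have h3 : (3 : ZMod p) ≠ 0 := by exact_mod_cast hsmall 3 (by norm_num) (by omega)
  have h7 : (7 : ZMod p) ≠ 0 := by exact_mod_cast hsmall 7 (by norm_num) hp7
  obtain ⟨w, hw0, hw1, hwa, hP⟩ := NeumannNetto.exists_pasch hdich hneg ha hna h2 h3 h7
  obtain ⟨hv0, hv1, hva, hnP⟩ := NeumannNetto.not_pasch hdich hneg ha hna h3
  have hout : ∀ x, x ≠ 0 → x ≠ 1 → x ≠ a → e x ∉ L (e 0) (e 1) := fun x x0 x1 xa h => by
    rw [← hmemM, hM01] at h
    simp [x0, x1, xa] at h
  obtain ⟨g, g0, g1, gw⟩ :=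
    hL.triangles _ _ _ _ (hne zero_ne_one) (hout w hw0 hw1 hwa) (hout _ hv0 hv1 hva)
  have q0 : q g 0 = 0 := e.injective (by rw [hq, coordHom_apply, g0])
  have q1 : q g 1 = 1 := e.injective (by rw [hq, coordHom_apply, g1])
  have qw : q g w = 1 - a := e.injective (by rw [hq, coordHom_apply, gw])
  refine hnP ?_
  have h := congrArg (q g) hP
  unfold NeumannNetto.Pasch
  simpa only [hequiv, q0, q1, qw] using h

/-- **Neumann.** In an insoluble group of prime degree `p > 7` whose Sylow normaliser has order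
`p (p - 1) / 2`, a point stabiliser has no proper block system on the remaining points. -/
theorem false_of_block [FaithfulSMul G Ω] [Fintype Ω] [IsPretransitive G Ω] (hΩ : Nat.card Ω = p)
    (hins : ¬ Group.IsSolvable G) (hp3 : p % 4 = 3) (hp7 : 7 < p) (P : Sylow p G)
    (hN : 2 * Nat.card (Subgroup.normalizer ((P : Subgroup G) : Set G)) = p * (p - 1))
    (h2 : IsMultiplyPretransitive G Ω 2) (α : Ω) (B : Set Ω) (hαB : α ∉ B) {b₁ b₂ w : Ω}
    (hb₁ : b₁ ∈ B) (hb₂ : b₂ ∈ B) (hb : b₁ ≠ b₂) (hwα : w ≠ α) (hwB : w ∉ B)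
    (hblock : ∀ k : G, k • α = α → ∀ y ∈ B, k • y ∈ B → ∀ z ∈ B, k • z ∈ B) : False := by
  have hc : Fintype.card Ω = p := CfsgLib.Perm.NeumannRank.card_fintype_of_nat_card hΩ
  obtain ⟨L, m, hm3, hmp, hL⟩ := exists_lines (G := G) (hc ▸ hp.out.odd_of_ne_two (by omega)) h2
    (fun a b hab => CfsgLib.Perm.NeumannRank.card_two_point_orbits_le_four hΩ hins hp3 P hN h2 hab)
    α B hαB hb₁ hb₂ hb hwα hwB hblock
  obtain ⟨e, σ, hσ, hsc⟩ :=
    CfsgLib.Perm.NeumannRank.exists_square_scalings hΩ (by omega) P hN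
  exact false_of_lines hp3 hp7 e σ hσ hsc L m hm3 (hc ▸ hmp) hL

end CfsgLib.Perm.NeumannPrimitive
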