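import Mathlib

/-!
Arithmetic for the largest nilpotent subgroups of symmetric and alternating groups.
-/

set_option autoImplicit false

namespace CfsgLib.Perm.NilBound

/-- the exponent of `2` in `n!` -/
def e2 (n : ℕ) : ℕ := padicValNat 2 n.factorial

/-- twice the largest order of a nilpotent subgroup of `S_n` -/
def b2 (n : ℕ) : ℕ := 2 ^ e2 n * if n % 4 = 3 then 3 else 2

/-- four times the largest order of a nilpotent subgroup of `A_n` -/
def a4 (n : ℕ) : ℕ :=
  if n ≤ 1 then 4 else if n = 3 then 12 else if n = 5 then 20 else if n = 6 then 36 else if n = 9 then 324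
  else b2 n

theorem padic_le_of_dvd {p a b : ℕ} [Fact p.Prime] (hb : b ≠ 0) (h : a ∣ b) : padicValNat p a ≤ padicValNat p b :=
  (padicValNat_dvd_iff_le hb).1 (pow_padicValNat_dvd.trans h)

theorem e2_mono {a b : ℕ} (h : a ≤ b) : e2 a ≤ e2 b :=
  padic_le_of_dvd b.factorial_ne_zero (Nat.factorial_dvd_factorial h)

theorem e2_add_le (a b : ℕ) : e2 a + e2 b ≤ e2 (a + b) := by
  unfold e2
  rw [← padicValNat.mul a.factorial_ne_zero b.factorial_ne_zero]
  exact padic_le_of_dvd (a + b).factorial_ne_zero (Nat.factorial_mul_factorial_dvd_factorial_add a b)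

theorem e2_rec (n : ℕ) : e2 n = n / 2 + e2 (n / 2) := by
  have h1 := padicValNat_factorial_mul_add (p := 2) (n := n % 2) (n / 2) (Nat.mod_lt _ two_pos)
  rw [padicValNat_factorial_mul, show 2 * (n / 2) + n % 2 = n by omega] at h1
  unfold e2
  omega

theorem e2_rec4 (n : ℕ) : e2 n = n / 2 + n / 4 + e2 (n / 4) := by
  rw [e2_rec n, e2_rec (n / 2), show n / 2 / 2 = n / 4 by omega]; omega

theorem e2_zero : e2 0 = 0 := by simp [e2]

theorem e2_small : ∀ n < 32, e2 n = n / 2 + n / 4 + n / 8 + n / 16 := by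
  intro n hn
  rw [e2_rec n, e2_rec (n / 2), e2_rec (n / 2 / 2), e2_rec (n / 2 / 2 / 2),
    show n / 2 / 2 / 2 / 2 = n / 16 by omega]
  rcases (show n / 16 = 0 ∨ n / 16 = 1 by omega) with h | h <;> rw [h]
  · rw [e2_zero]; omega
  · rw [e2_rec 1, e2_zero]; omega

theorem b2_add_le (a b : ℕ) : b2 a * b2 b ≤ 2 * b2 (a + b) := by
  have h4 : (a + b) / 4 = a / 4 + b / 4 + (a % 4 + b % 4) / 4 := by omega
  have h1 : e2 (a / 4) + e2 (b / 4) ≤ e2 ((a + b) / 4) :=
    (e2_add_le _ _).trans (e2_mono (by omega))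
  obtain ⟨d, hd⟩ : ∃ d, e2 (a + b) = e2 a + e2 b + d := ⟨e2 (a + b) - e2 a - e2 b,
    by have := e2_add_le a b; omega⟩
  have hd' : (a % 2 + b % 2) / 2 + (a % 4 + b % 4) / 4 ≤ d := by
    have := e2_rec4 a; have := e2_rec4 b; have := e2_rec4 (a + b); omega
  unfold b2
  rw [hd, pow_add, pow_add]
  set x := 2 ^ e2 a
  set y := 2 ^ e2 b
  have hxy : 0 ≤ x * y := Nat.zero_le _
  have key : ∀ c c' c'' k : ℕ, k ≤ d → c * c' ≤ 2 * 2 ^ k * c'' → x * c * (y * c') ≤ 2 * (x * y * 2 ^ d * c'') := by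
    intro c c' c'' k hk h
    have : c * c' ≤ 2 * 2 ^ d * c'' := h.trans (by gcongr; norm_num)
    calc x * c * (y * c') = x * y * (c * c') := by ring
      _ ≤ x * y * (2 * 2 ^ d * c'') := Nat.mul_le_mul_left _ this
      _ = _ := by ring
  split_ifs with ha hb hab hab hb hab hab hb hab hab
  all_goals first
    | (refine key _ _ _ 0 ?_ ?_ <;> omega)
    | (refine key _ _ _ 1 ?_ ?_ <;> omega)
    | (refine key _ _ _ 2 ?_ ?_ <;> omega)

theorem two_le_b2 (n : ℕ) : 2 ≤ b2 n := by
  unfold b2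
  refine le_trans ?_ (Nat.le_mul_of_pos_left _ (pow_pos two_pos _))
  split_ifs <;> omega

theorem b2_mono {a b : ℕ} (h : a ≤ b) : b2 a ≤ b2 b := by
  have h1 := b2_add_le a (b - a)
  rw [Nat.add_sub_cancel' h] at h1
  have h2 := two_le_b2 (b - a)
  nlinarith

theorem two_mul_b2_le (m : ℕ) : 2 * b2 m ≤ b2 (m + 2) := by
  have h := b2_add_le m 2
  rw [show b2 2 = 4 by simp [b2, e2_small]] at h
  omega

theorem two_pow_le_b2 (n : ℕ) : 2 * 2 ^ e2 n ≤ b2 n := by
  unfold b2; split_ifs <;> omega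

theorem b2_le_a4 (n : ℕ) : b2 n ≤ a4 n := by
  unfold a4
  split_ifs with h0 h3 h5 h6 h9
  · interval_cases n <;> simp [b2, e2_small]
  all_goals first | (subst n; simp [b2, e2_small]) | exact le_rfl

theorem a4_le (n : ℕ) : a4 n ≤ 2 * b2 n := by
  unfold a4
  split_ifs with h0 h3 h5 h6 h9
  · have := two_le_b2 n; omega
  all_goals first | (subst n; simp [b2, e2_small]) | omega

theorem a4_eq_or (n : ℕ) : a4 n = b2 n ∨ n ∈ ({0, 1, 3, 5, 6, 9} : Finset ℕ) := by
  unfold a4
  split_ifs with h0 h3 h5 h6 h9 <;> first | (left; rfl) | (right; simp; omega)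

theorem a4_add_le (a b : ℕ) : a4 a * a4 b ≤ 4 * a4 (a + b) := by
  have key : ∀ a b, a4 b = b2 b → a4 a * a4 b ≤ 4 * a4 (a + b) := by
    intro a b hb
    calc a4 a * a4 b ≤ 2 * b2 a * b2 b := by rw [hb]; exact Nat.mul_le_mul_right _ (a4_le a)
      _ = 2 * (b2 a * b2 b) := by ring
      _ ≤ 2 * (2 * b2 (a + b)) := Nat.mul_le_mul_left _ (b2_add_le a b)
      _ ≤ 4 * a4 (a + b) := by have := b2_le_a4 (a + b); omega
  rcases a4_eq_or b with hb | hb
  · exact key a b hb
  rcases a4_eq_or a with ha | ha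
  · rw [mul_comm, add_comm]; exact key b a ha
  simp only [Finset.mem_insert, Finset.mem_singleton] at ha hb
  rcases ha with rfl | rfl | rfl | rfl | rfl | rfl <;> rcases hb with rfl | rfl | rfl | rfl | rfl | rfl <;>
    simp [a4, b2, e2_small]

theorem three_pow_le : ∀ n, 16 ≤ n → 16 * 3 ^ (n - 1) ≤ b2 n * b2 n := by
  intro n
  induction n using Nat.strong_induction_on with
  | _ n ih =>
    intro hn
    rcases Nat.lt_or_ge n 24 with h | h
    · interval_cases n <;> simp [b2, e2_small]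
    · have h1 := ih (n - 8) (by omega) (by omega)
      have h2 := b2_add_le (n - 8) 8
      rw [Nat.sub_add_cancel (by omega : 8 ≤ n), show b2 8 = 256 by simp [b2, e2_small]] at h2
      rw [show n - 1 = n - 8 - 1 + 8 by omega, pow_add]
      nlinarith

theorem sq_le_three_pow : ∀ p : ℕ, 3 ≤ p → p ^ 2 ≤ 3 ^ (p - 1) := by
  intro p hp
  induction p, hp using Nat.le_induction with
  | base => norm_num
  | succ k hk ih =>
    rw [show k + 1 - 1 = k - 1 + 1 by omega, pow_succ 3]
    nlinarith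

theorem padic_small {p : ℕ} [hp : Fact p.Prime] {n : ℕ} (hn : n < 16) :
    padicValNat p n.factorial = n / p + n / p ^ 2 + n / p ^ 3 := by
  have h16 : n < p ^ 4 := lt_of_lt_of_le hn
    (le_trans (by norm_num) (Nat.pow_le_pow_left hp.out.two_le 4))
  rw [padicValNat_factorial (b := 4) ?_,
    show Finset.Ico 1 4 = {1, 2, 3} by decide]
  · simp only [Finset.mem_insert, Finset.mem_singleton, OfNat.one_ne_ofNat, or_self, not_false_eq_true,
      Finset.sum_insert, Finset.sum_singleton, pow_one, OfNat.ofNat_eq_ofNat, Nat.reduceEqDiff]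
    ring
  · rcases Nat.eq_zero_or_pos n with rfl | hn0
    · simp
    · exact Nat.log_lt_of_lt_pow hn0.ne' h16

theorem four_odd_pow_le {p : ℕ} [hp : Fact p.Prime] (h2 : p ≠ 2) (n : ℕ) :
    4 * p ^ padicValNat p n.factorial ≤ a4 n := by
  have hp3 : 3 ≤ p := by have := hp.out.two_le; omega
  rcases Nat.lt_or_ge n 16 with hn | hn
  · rcases Nat.lt_or_ge n p with hnp | hnp
    · rw [padicValNat.eq_zero_of_not_dvd (fun hd => by have := (hp.out.dvd_factorial).1 hd; omega), pow_zero]
      have := b2_le_a4 n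
      have h1 := two_le_b2 n
      rcases Nat.lt_or_ge n 2 with h | h
      · interval_cases n <;> simp [a4]
      · have := b2_mono h
        rw [show b2 2 = 4 by simp [b2, e2_small]] at this
        omega
    · rw [padic_small hn]
      have hp16 : p < 16 := by omega
      have hpp := hp.out
      interval_cases p <;> first | norm_num at hpp | skip
      all_goals interval_cases n <;> simp [a4, b2, e2_small]
  · set v := padicValNat p n.factorial
    have h1 : (p - 1) * v ≤ n - 1 := by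
      rw [sub_one_mul_padicValNat_factorial]
      have hpos : 1 ≤ (p.digits n).sum := by
        by_contra h
        have h0 : (p.digits n).sum = 0 := by omega
        have hne : p.digits n ≠ [] := Nat.digits_ne_nil_iff_ne_zero.2 (by omega)
        have := Nat.getLast_digit_ne_zero p (show n ≠ 0 by omega)
        exact this (List.sum_eq_zero_iff.1 h0 _ (List.getLast_mem hne))
      omega
    have h2 : (4 * p ^ v) * (4 * p ^ v) ≤ b2 n * b2 n :=
      calc (4 * p ^ v) * (4 * p ^ v) = 16 * (p ^ 2) ^ v := by rw [← pow_mul, mul_comm 2, pow_mul, sq]; ring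
        _ ≤ 16 * (3 ^ (p - 1)) ^ v := Nat.mul_le_mul_left _ (Nat.pow_le_pow_left (sq_le_three_pow p hp3) v)
        _ = 16 * 3 ^ ((p - 1) * v) := by rw [← pow_mul]
        _ ≤ 16 * 3 ^ (n - 1) := by gcongr; norm_num
        _ ≤ _ := three_pow_le n hn
    exact (Nat.mul_self_le_mul_self_iff.1 h2).trans (b2_le_a4 n)

theorem two_mul_pow_le (p : ℕ) [hp : Fact p.Prime] (n : ℕ) : 2 * p ^ padicValNat p n.factorial ≤ b2 n := by
  rcases eq_or_ne p 2 with rfl | h2
  · exact two_pow_le_b2 n
  · have := four_odd_pow_le h2 n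
    have := a4_le n
    omega

theorem mul_le_of_coprime {a b n : ℕ} (ha : 2 ≤ a) (hb : 2 ≤ b) (hab : a.Coprime b) (h : a * b ≤ n) :
    b2 a * b2 b ≤ a4 n ∧ b2 a * b2 b ≤ 2 * b2 n := by
  have hsum : a + b ≤ a * b := by nlinarith
  refine ⟨?_, (b2_add_le a b).trans (Nat.mul_le_mul_left 2 (b2_mono (by omega)))⟩
  rcases Nat.lt_or_ge n (a + b + 2) with hn | hn
  · have ha2 : (a - 1) * (b - 1) ≤ 2 := by
      have : a * b + 1 = (a - 1) * (b - 1) + a + b := by
        obtain ⟨c, rfl⟩ : ∃ c, a = c + 1 := ⟨a - 1, by omega⟩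
        obtain ⟨d, rfl⟩ : ∃ d, b = d + 1 := ⟨b - 1, by omega⟩
        simp only [Nat.add_sub_cancel]; ring
      omega
    have ha3 : a ≤ 3 := by nlinarith [Nat.sub_add_cancel (show 1 ≤ a by omega), Nat.sub_add_cancel (show 1 ≤ b by omega)]
    have hb3 : b ≤ 3 := by nlinarith [Nat.sub_add_cancel (show 1 ≤ a by omega), Nat.sub_add_cancel (show 1 ≤ b by omega)]
    interval_cases a <;> interval_cases b <;> first | norm_num at hab | skip
    all_goals interval_cases n <;> simp_all [a4, b2, e2_small]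
  · exact (b2_add_le a b).trans (((two_mul_b2_le _).trans (b2_mono hn)).trans (b2_le_a4 n))

end CfsgLib.Perm.NilBound
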