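import Mathlib
import Cfsg.Agent.Lib.Perm.NilpotentBoundArith
import Cfsg.Agent.Lib.Blocks.PrimePowerClass

/-!
The largest nilpotent subgroups of symmetric and alternating groups.
-/

set_option autoImplicit false
set_option linter.style.haveILetI false

namespace CfsgLib.Perm.NilBound

open Subgroup Equiv

universe u

/-- in a finite nilpotent group, elements of order prime to `p` centralise the Sylow `p`-subgroup -/
theorem commute_sylow {G : Type*} [Group G] [Finite G] [Group.IsNilpotent G] {p : ℕ} [hp : Fact p.Prime]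
    (P : Sylow p G) {k : G} (hk : (orderOf k).Coprime p) {u : G} (hu : u ∈ (P : Subgroup G)) : Commute k u := by
  set C := centralizer ((P : Subgroup G) : Set G) with hC
  haveI : C.Normal := inferInstance
  have hidx : ∀ r : ℕ, r.Prime → r ≠ p → ¬ r ∣ C.index := by
    intro r hr hrp
    haveI := Fact.mk hr
    obtain ⟨R⟩ : Nonempty (Sylow r G) := inferInstance
    have hle : (R : Subgroup G) ≤ C := fun x hx => mem_centralizer_iff.2 fun y hy =>
      Subgroup.commute_of_normal_of_disjoint (P : Subgroup G) (R : Subgroup G) inferInstance inferInstance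
        (IsPGroup.disjoint_of_ne p r (Ne.symm hrp) _ _ P.isPGroup' R.isPGroup') y x hy hx
    exact fun hd => R.not_dvd_index (hd.trans (index_dvd_of_le hle))
  have hkC : k ∈ C := by
    rw [← QuotientGroup.eq_one_iff, ← orderOf_eq_one_iff]
    by_contra hne
    obtain ⟨r, hr, hrd⟩ := Nat.exists_prime_and_dvd hne
    have h1 : r ∣ orderOf k := hrd.trans (orderOf_map_dvd (QuotientGroup.mk' C) k)
    have h2 : r ∣ C.index := by rw [index_eq_card]; exact hrd.trans (orderOf_dvd_natCard _)
    refine hidx r hr (fun e => hp.out.ne_one ?_) h2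
    exact Nat.eq_one_of_dvd_coprimes hk (e ▸ h1) dvd_rfl
  exact (mem_centralizer_iff.1 hkC u hu).symm

variable {α : Type*} [Fintype α] [DecidableEq α]

/-- restriction of a subgroup to an invariant set -/
def restrict (N : Subgroup (Perm α)) (s : α → Prop) (hs : ∀ g ∈ N, ∀ x, s (g x) ↔ s x) :
    N →* Perm {x // s x} where
  toFun g := (g : Perm α).subtypePerm (hs g g.2)
  map_one' := by ext x; simp
  map_mul' g h := by ext x; rfl

theorem restrict_apply {N : Subgroup (Perm α)} {s : α → Prop} (hs : ∀ g ∈ N, ∀ x, s (g x) ↔ s x)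
    (g : N) (x : {x // s x}) : ((restrict N s hs g x : {x // s x}) : α) = (g : Perm α) x := rfl

theorem nilpotent_range {G H : Type*} [Group G] [Group H] [Group.IsNilpotent G] (f : G →* H) :
    Group.IsNilpotent f.range :=
  Group.nilpotent_of_surjective f.rangeRestrict f.rangeRestrict_surjective

/-- an intransitive group lives in the product of its two restrictions, and on the kernel of the sign -/
theorem card_le_restrict (N : Subgroup (Perm α)) (s : α → Prop) [DecidablePred s]
    (hs : ∀ g ∈ N, ∀ x, s (g x) ↔ s x) (hs' : ∀ g ∈ N, ∀ x, ¬ s (g x) ↔ ¬ s x) :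
    Nat.card N ≤ Nat.card (restrict N s hs).range * Nat.card (restrict N (fun x => ¬ s x) hs').range ∧
    (N ≤ alternatingGroup α →
      ((restrict N s hs).range ≤ alternatingGroup _ ∧ (restrict N (fun x => ¬ s x) hs').range ≤ alternatingGroup _) ∨
        2 * Nat.card N ≤
          Nat.card (restrict N s hs).range * Nat.card (restrict N (fun x => ¬ s x) hs').range) := by
  set f := restrict N s hs
  set f' := restrict N (fun x => ¬ s x) hs'
  have hg : ∀ g : N, (g : Perm α) = (f g).subtypeCongr (f' g) := fun g => by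
    ext x
    by_cases hx : s x
    · rw [Equiv.Perm.subtypeCongr.left_apply (f g) (f' g) hx]; rfl
    · rw [Equiv.Perm.subtypeCongr.right_apply (f g) (f' g) hx]; rfl
  let F : N →* f.range × f'.range := f.rangeRestrict.prod f'.rangeRestrict
  have hF : Function.Injective F := fun g h e => Subtype.ext (by
    have e1 : f g = f h := congrArg Subtype.val (congrArg Prod.fst e)
    have e2 : f' g = f' h := congrArg Subtype.val (congrArg Prod.snd e)
    rw [hg, hg, e1, e2])
  refine ⟨(Nat.card_le_card_of_injective F hF).trans (Nat.card_prod _ _).le, fun hN => ?_⟩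
  by_cases hev : f.range ≤ alternatingGroup _ ∧ f'.range ≤ alternatingGroup _
  · exact Or.inl hev
  right
  have hsum : ∀ g : N, Perm.sign (f g) * Perm.sign (f' g) = 1 := fun g => by
    rw [← Perm.sign_subtypeCongr, ← hg]; exact Perm.mem_alternatingGroup.1 (hN g.2)
  obtain ⟨g₀, hg₀⟩ : ∃ g : N, Perm.sign (f g) ≠ 1 := by
    by_contra! h
    refine hev ⟨?_, ?_⟩ <;> rintro _ ⟨g, rfl⟩ <;> rw [Perm.mem_alternatingGroup]
    · exact h g
    · have := hsum g; rwa [h g, one_mul] at this
  let χ : f.range × f'.range →* ℤˣ :=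
    ((Perm.sign.comp f.range.subtype).comp (MonoidHom.fst _ _)) *
      ((Perm.sign.comp f'.range.subtype).comp (MonoidHom.snd _ _))
  have hle : F.range ≤ χ.ker := by
    rintro _ ⟨g, rfl⟩
    exact MonoidHom.mem_ker.2 (hsum g)
  have hne : χ.ker ≠ ⊤ := fun e => hg₀ (by
    have hm : ((⟨f g₀, g₀, rfl⟩ : f.range), (1 : f'.range)) ∈ χ.ker := e ▸ mem_top _
    simpa [χ] using MonoidHom.mem_ker.1 hm)
  have h2 : 2 ≤ χ.ker.index := by
    have := index_ne_zero_of_finite (H := χ.ker)
    have := mt index_eq_one.1 hne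
    omega
  have h3 : Nat.card N ≤ Nat.card χ.ker := by
    rw [Nat.card_congr (MonoidHom.ofInjective hF).toEquiv]
    exact card_le_of_le hle
  rw [← Nat.card_prod, ← χ.ker.card_mul_index, mul_comm 2]
  exact Nat.mul_le_mul h3 h2

/-- a transitive nilpotent group which is not a `p`-group is built on orbits of two coprime sizes -/
theorem transitive_split (N : Subgroup (Perm α)) [Group.IsNilpotent N] (x₀ : α)
    (htr : ∀ y, ∃ g ∈ N, g x₀ = y) {p : ℕ} [hp : Fact p.Prime] (hp1 : p ∣ Nat.card N) (hnp : ¬ IsPGroup p N) :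
    ∃ (a b : ℕ) (A : Subgroup N) (B : Subgroup N) (O T : Set α),
      2 ≤ a ∧ 2 ≤ b ∧ a.Coprime b ∧ a * b ≤ Fintype.card α ∧ Nat.card N = Nat.card A * Nat.card B ∧
      O.ncard = a ∧ T.ncard = b ∧ (∀ g ∈ A, ∀ y, (g : Perm α) y ∈ O ↔ y ∈ O) ∧
      (∀ g ∈ B, ∀ y, (g : Perm α) y ∈ T ↔ y ∈ T) ∧
      (∀ g ∈ A, (∀ y ∈ O, (g : Perm α) y = y) → g = 1) ∧ (∀ g ∈ B, (∀ y ∈ T, (g : Perm α) y = y) → g = 1) := by
  classical
  obtain ⟨P⟩ : Nonempty (Sylow p N) := inferInstance
  obtain ⟨K, hK⟩ := exists_right_complement'_of_coprime P.card_coprime_index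
  have hKp : (Nat.card K).Coprime p := by
    rw [← hK.symm.index_eq_card]; exact ((hp.out.coprime_iff_not_dvd).2 P.not_dvd_index).symm
  have hcom : ∀ k ∈ K, ∀ u ∈ (P : Subgroup N), Commute k u := fun k hk u hu =>
    commute_sylow P (hKp.coprime_dvd_left (K.orderOf_dvd_natCard hk)) hu
  have hKn : K.Normal := ⟨fun k hk g => by
    obtain ⟨⟨u, v⟩, rfl⟩ := hK.2 g
    rw [show ((u : N) * v) * k * ((u : N) * v)⁻¹ = (u : N) * ((v : N) * k * (v : N)⁻¹) * (u : N)⁻¹ by group]
    have hm : (v : N) * k * (v : N)⁻¹ ∈ K := mul_mem (mul_mem v.2 hk) (inv_mem v.2)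
    rw [(hcom _ hm u u.2).symm.eq, mul_inv_cancel_right]
    exact hm⟩
  haveI := hKn
  have hprod : ∀ y : α, ∃ u ∈ (P : Subgroup N), ∃ k ∈ K, (u : Perm α) ((k : Perm α) x₀) = y := fun y => by
    obtain ⟨g, hg, rfl⟩ := htr y
    obtain ⟨⟨u, v⟩, huv⟩ := hK.2 ⟨g, hg⟩
    exact ⟨u, u.2, v, v.2, DFunLike.congr_fun (congrArg Subtype.val huv) x₀⟩
  have key : ∀ (A B : Subgroup N), (∀ y : α, ∃ b ∈ B, ∃ a ∈ A, (b : Perm α) ((a : Perm α) x₀) = y) →
      (∀ a ∈ A, ∀ b ∈ B, Commute a b) →
      (∀ g ∈ A, ∀ y, (g : Perm α) y ∈ MulAction.orbit A x₀ ↔ y ∈ MulAction.orbit A x₀) ∧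
      (∀ g ∈ A, (∀ y ∈ MulAction.orbit A x₀, (g : Perm α) y = y) → g = 1) := by
    intro A B hAB hc
    refine ⟨fun g hg y => ?_, fun g hg hfix => ?_⟩
    · constructor
      · rintro ⟨a, ha⟩
        refine ⟨(⟨g, hg⟩ : A)⁻¹ * a, ?_⟩
        show (⟨g, hg⟩ : A)⁻¹ • a • x₀ = y
        rw [show a • x₀ = (g : Perm α) y from ha]
        exact Equiv.symm_apply_apply (g : Perm α) y
      · rintro ⟨a, ha⟩
        refine ⟨⟨g, hg⟩ * a, ?_⟩
        show (⟨g, hg⟩ : A) • a • x₀ = _
        rw [show a • x₀ = y from ha]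
        rfl
    · refine Subtype.ext (Equiv.ext fun y => ?_)
      obtain ⟨b, hb, a, ha, rfl⟩ := hAB y
      have h1 := DFunLike.congr_fun (congrArg Subtype.val (hc g hg b hb).eq) ((a : Perm α) x₀)
      simp only [Subgroup.coe_mul, Perm.mul_apply] at h1
      rw [h1]
      exact congrArg _ (hfix _ ⟨⟨a, ha⟩, rfl⟩)
  obtain ⟨hO1, hO2⟩ := key (P : Subgroup N) K (fun y => by
    obtain ⟨u, hu, k, hk, e⟩ := hprod y
    refine ⟨k, hk, u, hu, ?_⟩
    rw [← e]
    exact DFunLike.congr_fun (congrArg Subtype.val (hcom k hk u hu).eq) x₀) (fun a ha b hb => (hcom b hb a ha).symm)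
  obtain ⟨hT1, hT2⟩ := key K (P : Subgroup N) hprod hcom
  have hne : ∀ A : Subgroup N, A ≠ ⊥ → (∀ g ∈ A, (∀ y ∈ MulAction.orbit A x₀, (g : Perm α) y = y) → g = 1) →
      2 ≤ (MulAction.orbit A x₀).ncard := by
    intro A hA h2
    obtain ⟨⟨g, hg⟩, hg1⟩ := (Subgroup.ne_bot_iff_exists_ne_one (H := A)).1 hA
    by_contra hlt
    refine hg1 (Subtype.ext (h2 g hg fun y hy => ?_))
    have hsub := (Set.ncard_le_one (Set.toFinite _)).1 (show (MulAction.orbit A x₀).ncard ≤ 1 by omega)
    exact hsub _ (by obtain ⟨a, rfl⟩ := hy; exact ⟨⟨g, hg⟩ * a, mul_smul _ _ _⟩) _ hy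
  have hPb : (P : Subgroup N) ≠ ⊥ := P.ne_bot_of_dvd_card hp1
  have hKb : K ≠ ⊥ := by
    rintro rfl
    rw [isComplement'_bot_right] at hK
    exact hnp (IsPGroup.of_equiv P.isPGroup' ((MulEquiv.subgroupCongr hK).trans Subgroup.topEquiv))
  haveI : MulAction.IsPretransitive N α := ⟨fun y z => by
    obtain ⟨g, hg, rfl⟩ := htr y
    obtain ⟨h, hh, rfl⟩ := htr z
    exact ⟨⟨h * g⁻¹, mul_mem hh (inv_mem hg)⟩, by
      show (h * g⁻¹) (g x₀) = h x₀
      rw [Perm.mul_apply, Perm.inv_def, Equiv.symm_apply_apply]⟩⟩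
  have hdvd : ∀ A : Subgroup N, A.Normal →
      (MulAction.orbit A x₀).ncard ∣ Fintype.card α ∧ (MulAction.orbit A x₀).ncard ∣ Nat.card A := by
    intro A hA
    haveI := hA
    rw [← MulAction.index_stabilizer, ← Nat.card_eq_fintype_card, ← MulAction.index_stabilizer_of_transitive N x₀]
    have hst : MulAction.stabilizer A x₀ = (MulAction.stabilizer N x₀).subgroupOf A := by
      ext a
      simp only [Subgroup.mem_subgroupOf, MulAction.mem_stabilizer_iff]
      rfl
    refine ⟨?_, index_dvd_card _⟩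
    rw [hst]
    exact CfsgLib.PrimePowerClass.relIndex_dvd_index' A _
  have hcopPK : (Nat.card (P : Subgroup N)).Coprime (Nat.card K) := by
    rw [P.card_eq_multiplicity]; exact hKp.symm.pow_left _
  have hab : (MulAction.orbit (P : Subgroup N) x₀).ncard.Coprime (MulAction.orbit K x₀).ncard :=
    (hcopPK.coprime_dvd_left (hdvd _ inferInstance).2).coprime_dvd_right (hdvd K hKn).2
  exact ⟨_, _, P, K, _, _, hne _ hPb hO2, hne _ hKb hT2, hab,
    Nat.le_of_dvd (Fintype.card_pos_iff.2 ⟨x₀⟩) (hab.mul_dvd_of_dvd_of_dvd (hdvd _ inferInstance).1 (hdvd K hKn).1),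
    hK.card_mul.symm, rfl, rfl, hO1, hT1, hO2, hT2⟩

/-- The bounds. -/
theorem bound : ∀ (n : ℕ) {α : Type u} [Fintype α] [DecidableEq α], Fintype.card α = n →
    ∀ N : Subgroup (Perm α), Group.IsNilpotent N →
      2 * Nat.card N ≤ b2 n ∧ (N ≤ alternatingGroup α → 4 * Nat.card N ≤ a4 n) := by
  intro n
  induction n using Nat.strong_induction_on with
  | _ n ih =>
    intro α _ _ hn N hN
    classical
    haveI := hN
    by_cases hp : ∃ p : ℕ, p.Prime ∧ IsPGroup p N
    · obtain ⟨p, hp, hpN⟩ := hp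
      haveI := Fact.mk hp
      obtain ⟨k, hk⟩ := IsPGroup.iff_card.1 hpN
      have hcard : Nat.card (Perm α) = n.factorial := by rw [Nat.card_perm, Nat.card_eq_fintype_card, hn]
      have hkv : k ≤ padicValNat p n.factorial :=
        (padicValNat_dvd_iff_le n.factorial_ne_zero).1 (hcard ▸ hk ▸ card_subgroup_dvd_card N)
      have hNle : Nat.card N ≤ p ^ padicValNat p n.factorial := hk ▸ Nat.pow_le_pow_right hp.pos hkv
      refine ⟨(Nat.mul_le_mul_left 2 hNle).trans (two_mul_pow_le p n), fun hA => ?_⟩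
      rcases eq_or_ne p 2 with rfl | h2
      · rcases Nat.lt_or_ge n 2 with hn2 | hn2
        · have : Nat.card N ≤ 1 := by
            refine (Nat.le_of_dvd ?_ (hcard ▸ card_subgroup_dvd_card N)).trans ?_
            · exact n.factorial_pos
            · interval_cases n <;> simp [Nat.factorial]
          rw [a4, if_pos (by omega)]; omega
        · haveI : Nontrivial α := Fintype.one_lt_card_iff_nontrivial.1 (by omega)
          have h1 : 2 ^ (k + 1) ∣ n.factorial := by
            rw [pow_succ', ← hk, ← hcard, Nat.card_perm, Nat.card_eq_fintype_card, ← Nat.card_eq_fintype_card,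
              ← Nat.card_perm, ← two_mul_nat_card_alternatingGroup]
            exact Nat.mul_dvd_mul_left 2 (card_dvd_of_le hA)
          have h3 : k + 1 ≤ e2 n := (padicValNat_dvd_iff_le n.factorial_ne_zero).1 h1
          have h4 := Nat.pow_le_pow_right two_pos h3
          rw [pow_succ'] at h4
          have := two_pow_le_b2 n
          have := b2_le_a4 n
          omega
      · exact (Nat.mul_le_mul_left 4 hNle).trans (four_odd_pow_le h2 n)
    rcases isEmpty_or_nonempty α with hα | ⟨⟨x₀⟩⟩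
    · refine absurd ⟨2, Nat.prime_two, IsPGroup.of_card (n := 0) ?_⟩ hp
      haveI : Subsingleton (Perm α) := ⟨fun a b => Equiv.ext fun x => isEmptyElim x⟩
      rw [pow_zero]; exact Nat.card_eq_one_iff_unique.2 ⟨inferInstance, inferInstance⟩
    by_cases htr : ∀ y, ∃ g ∈ N, g x₀ = y
    · obtain ⟨q, hq, hq1⟩ := Nat.exists_prime_and_dvd (n := Nat.card N) fun h1 =>
        hp ⟨2, Nat.prime_two, IsPGroup.of_card (n := 0) (by rw [h1, pow_zero])⟩
      haveI := Fact.mk hq
      obtain ⟨a, b, A, B, O, T, ha, hb, hab, habn, hcard, hO, hT, hAO, hBT, hAf, hBf⟩ :=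
        transitive_split N x₀ htr hq1 (fun h => hp ⟨q, hq, h⟩)
      rw [hn] at habn
      have key : ∀ (c : ℕ) (A : Subgroup N) (O : Set α), c < n → O.ncard = c →
          (∀ g ∈ A, ∀ y, (g : Perm α) y ∈ O ↔ y ∈ O) →
          (∀ g ∈ A, (∀ y ∈ O, (g : Perm α) y = y) → g = 1) → 2 * Nat.card A ≤ b2 c := by
        intro c A O hc hOc hAO hAf
        let f : A →* Perm {y // y ∈ O} :=
          { toFun := fun g => ((g : N) : Perm α).subtypePerm (hAO g g.2)
            map_one' := by ext x; simp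
            map_mul' := fun g h => by ext x; rfl }
        have hf : Function.Injective f := (injective_iff_map_eq_one f).2 fun g hg => by
          refine Subtype.ext (hAf g g.2 fun y hy => ?_)
          exact congrArg Subtype.val (DFunLike.congr_fun hg ⟨y, hy⟩)
        have hcc : Fintype.card {y // y ∈ O} = c := by
          rw [← hOc, ← Nat.card_coe_set_eq, Nat.card_eq_fintype_card]
        haveI : Group.IsNilpotent A := inferInstance
        rw [Nat.card_congr (MonoidHom.ofInjective hf).toEquiv]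
        exact (ih c hc hcc f.range (nilpotent_range f)).1
      have h1 := key a A O (by nlinarith) hO hAO hAf
      have h2 := key b B T (by nlinarith) hT hBT hBf
      obtain ⟨h3, h4⟩ := mul_le_of_coprime ha hb hab habn
      refine ⟨?_, fun _ => ?_⟩ <;> rw [hcard] <;> nlinarith
    · push Not at htr
      obtain ⟨y₀, hy₀⟩ := htr
      let s : α → Prop := fun y => ∃ g ∈ N, g x₀ = y
      have hs : ∀ g ∈ N, ∀ x, s (g x) ↔ s x := fun g hg x => by
        constructor
        · rintro ⟨h, hh, e⟩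
          exact ⟨g⁻¹ * h, mul_mem (inv_mem hg) hh, by rw [Perm.mul_apply, e, Perm.inv_def, Equiv.symm_apply_apply]⟩
        · rintro ⟨h, hh, e⟩
          exact ⟨g * h, mul_mem hg hh, by rw [Perm.mul_apply, e]⟩
      have hs' : ∀ g ∈ N, ∀ x, ¬ s (g x) ↔ ¬ s x := fun g hg x => not_congr (hs g hg x)
      set a := Fintype.card {x // s x}
      set b := Fintype.card {x // ¬ s x}
      have hab : a + b = n := by
        rw [← hn, show b = _ from Fintype.card_subtype_compl s]
        exact Nat.add_sub_cancel' (Fintype.card_subtype_le s)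
      have ha : a < n := hn ▸ Fintype.card_subtype_lt (fun ⟨g, hg, e⟩ => hy₀ g hg e : ¬ s y₀)
      have hb : b < n := hn ▸ Fintype.card_subtype_lt (x := x₀) (not_not.2 ⟨1, one_mem N, rfl⟩)
      obtain ⟨h1, h2⟩ := card_le_restrict N s hs hs'
      obtain ⟨hA, hA'⟩ := ih a ha rfl _ (nilpotent_range (restrict N s hs))
      obtain ⟨hB, hB'⟩ := ih b hb rfl _ (nilpotent_range (restrict N (fun x => ¬ s x) hs'))
      have hsup := b2_add_le a b
      rw [hab] at hsup
      refine ⟨by nlinarith, fun hAlt => ?_⟩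
      rcases h2 hAlt with ⟨e1, e2⟩ | h2
      · have := a4_add_le a b
        rw [hab] at this
        have := hA' e1
        have := hB' e2
        nlinarith
      · have := b2_le_a4 n
        nlinarith

end CfsgLib.Perm.NilBound
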