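import Mathlib
import Cfsg.Agent.Lib.Perm.NilpotentBound

/-!
Sylow 2-subgroups of symmetric and alternating groups attain the nilpotent bounds.
-/

set_option autoImplicit false

namespace CfsgLib.Perm.NilBound

theorem card_sylow_sym (n : ℕ) (P : Sylow 2 (Equiv.Perm (Fin n))) : Nat.card P = 2 ^ e2 n := by
  rw [P.card_eq_multiplicity, Nat.card_perm, Nat.card_fin, Nat.factorization_def _ Nat.prime_two]
  rfl

theorem card_sylow_alt (n : ℕ) (hn : 2 ≤ n) (P : Sylow 2 (alternatingGroup (Fin n))) :
    2 * Nat.card P = 2 ^ e2 n := by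
  haveI : Nontrivial (Fin n) := Fin.nontrivial_iff_two_le.2 hn
  have h2 := two_mul_nat_card_alternatingGroup (α := Fin n)
  rw [Nat.card_perm, Nat.card_fin] at h2
  have h3 : e2 n = 1 + padicValNat 2 (Nat.card (alternatingGroup (Fin n))) := by
    rw [e2, ← h2, padicValNat.mul two_ne_zero Nat.card_pos.ne', padicValNat_self]
  rw [P.card_eq_multiplicity, Nat.factorization_def _ Nat.prime_two, h3, ← pow_succ', Nat.add_comm]

theorem card_le_sylow_sym (n : ℕ) (hn : n % 4 ≠ 3) (N : Subgroup (Equiv.Perm (Fin n))) (hN : Group.IsNilpotent N)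
    (P : Sylow 2 (Equiv.Perm (Fin n))) : Nat.card N ≤ Nat.card P := by
  have h := (bound n (Fintype.card_fin n) N hN).1
  rw [b2, if_neg hn] at h
  rw [card_sylow_sym]
  omega

theorem card_le_sylow_alt (n : ℕ) (hn : n % 4 ≠ 3) (h5 : n ≠ 5) (h6 : n ≠ 6) (h9 : n ≠ 9)
    (N : Subgroup (alternatingGroup (Fin n))) (hN : Group.IsNilpotent N) (P : Sylow 2 (alternatingGroup (Fin n))) :
    Nat.card N ≤ Nat.card P := by
  have e := N.equivMapOfInjective _ (alternatingGroup (Fin n)).subtype_injective
  haveI := hN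
  have h := (bound n (Fintype.card_fin n) (N.map (alternatingGroup (Fin n)).subtype)
    (Group.nilpotent_of_mulEquiv e)).2 (Subgroup.map_subtype_le N)
  rw [← Nat.card_congr e.toEquiv] at h
  rcases Nat.lt_or_ge n 2 with hn2 | hn2
  · have : Nat.card N ≤ 1 := by
      rw [a4, if_pos (by omega)] at h; omega
    exact this.trans Nat.card_pos
  · rw [a4, if_neg (by omega), if_neg (by omega), if_neg h5, if_neg h6, if_neg h9, b2, if_neg hn] at h
    have := card_sylow_alt n hn2 P
    omega

end CfsgLib.Perm.NilBound
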