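import Mathlib
import Cfsg.Agent.Lib.Perm.NilpotentBoundSylow

/-!
Nilpotent subgroups attaining the bound for `n ≡ 3 (mod 4)`.
-/

set_option autoImplicit false
set_option linter.style.haveILetI false

namespace CfsgLib.Perm.NilBound

open Subgroup
open scoped Pointwise

theorem e2_three {n : ℕ} (hn : n % 4 = 3) : e2 n = e2 (n - 3) + 1 := by
  have := e2_rec4 n; have := e2_rec4 (n - 3)
  rw [show (n - 3) / 4 = n / 4 by omega] at *
  omega

theorem e2_four {n : ℕ} (hn : n % 4 = 3) (h7 : 7 ≤ n) : e2 (n - 4) + 2 ≤ e2 (n - 3) := by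
  have := e2_rec4 (n - 4); have := e2_rec4 (n - 3)
  have := e2_mono (show (n - 4) / 4 ≤ (n - 3) / 4 by omega)
  omega

/-- an element of order three with large `2`-part of the centraliser is a three-cycle -/
theorem isThreeCycle_of_large {n j : ℕ} (hn : n % 4 = 3) {z : Equiv.Perm (Fin n)} (hz : orderOf z = 3)
    (hj : e2 (n - 3) ≤ j + 1) (hd : 2 ^ j ∣ Nat.card (centralizer ({z} : Set (Equiv.Perm (Fin n))))) :
    z.IsThreeCycle := by
  obtain ⟨m, hm⟩ := Equiv.Perm.cycleType_prime_order (σ := z) (by rw [hz]; exact Nat.prime_three)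
  rw [hz] at hm
  rcases Nat.eq_zero_or_pos m with rfl | hm0
  · exact hm
  exfalso
  have hsum := Equiv.Perm.sum_cycleType z
  rw [hm, Multiset.sum_replicate, smul_eq_mul] at hsum
  have hsupp : z.support.card ≤ n := (Finset.card_le_univ _).trans (Fintype.card_fin n).le
  rw [Equiv.Perm.nat_card_centralizer, hm, Multiset.sum_replicate, Multiset.prod_replicate, smul_eq_mul,
    Fintype.card_fin, Multiset.toFinset_replicate, if_neg (Nat.succ_ne_zero m), Finset.prod_singleton,
    Multiset.count_replicate_self, mul_right_comm] at hd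
  have hd' := (Nat.Coprime.dvd_mul_right (((Nat.coprime_primes Nat.prime_two Nat.prime_three).2 (by omega)).pow j (m + 1))).1 hd
  have h1 : j ≤ padicValNat 2 ((n - (m + 1) * 3).factorial * (m + 1).factorial) :=
    (padicValNat_dvd_iff_le (mul_ne_zero (Nat.factorial_ne_zero _) (Nat.factorial_ne_zero _))).1 hd'
  rw [padicValNat.mul (Nat.factorial_ne_zero _) (Nat.factorial_ne_zero _)] at h1
  have h2 : j ≤ e2 (n - 4) := h1.trans ((e2_add_le _ _).trans (e2_mono (by omega)))
  have := e2_four hn (by omega)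
  omega

section Conj

variable {X : Type*} [Group X] [Finite X]

theorem exists_decomp {k : ℕ} {N : Subgroup X} (hN : Group.IsNilpotent N) (hc : Nat.card N = 3 * 2 ^ k) :
    ∃ z : X, orderOf z = 3 ∧ ∃ P : Subgroup X, IsPGroup 2 P ∧ Nat.card P = 2 ^ k ∧
      P ≤ centralizer ({z} : Set X) ∧ N = P ⊔ zpowers z := by
  haveI := hN
  haveI : Fact (Nat.Prime 3) := ⟨Nat.prime_three⟩
  haveI : Fact (Nat.Prime 2) := ⟨Nat.prime_two⟩
  obtain ⟨z, hz⟩ := exists_prime_orderOf_dvd_card' (G := N) 3 (hc ▸ dvd_mul_right 3 _)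
  obtain ⟨P⟩ : Nonempty (Sylow 2 N) := inferInstance
  have hP : Nat.card (P : Subgroup N) = 2 ^ k := by
    rw [P.card_eq_multiplicity, hc, Nat.factorization_mul (by norm_num) (pow_ne_zero _ two_ne_zero)]
    simp [Nat.prime_three.factorization, Nat.prime_two.factorization_pow]
  set P' := (P : Subgroup N).map N.subtype with hP'
  have hP'c : Nat.card P' = 2 ^ k := by
    rw [← hP]; exact Nat.card_congr ((P : Subgroup N).equivMapOfInjective _ N.subtype_injective).toEquiv.symm
  refine ⟨z, (Subgroup.orderOf_coe z).trans hz, P', IsPGroup.of_card hP'c, hP'c, ?_, ?_⟩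
  · rintro _ ⟨u, hu, rfl⟩
    exact mem_centralizer_singleton_iff.2
      (congrArg Subtype.val (commute_sylow P (by rw [hz]; norm_num) hu).symm.eq)
  · refine (eq_of_le_of_card_ge (sup_le (map_subtype_le _) (zpowers_le.2 z.2)) ?_).symm
    refine Nat.le_of_dvd Nat.card_pos ?_
    rw [hc]
    refine Nat.Coprime.mul_dvd_of_dvd_of_dvd (((Nat.coprime_primes Nat.prime_three Nat.prime_two).2 (by omega)).pow_right k) ?_ ?_
    · rw [← hz, ← Subgroup.orderOf_coe, ← Nat.card_zpowers]
      exact card_dvd_of_le le_sup_right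
    · rw [← hP'c]
      exact card_dvd_of_le le_sup_left

/-- the subgroups attaining the bound are conjugate -/
theorem exists_conj {k : ℕ} (hbound : ∀ M : Subgroup X, Group.IsNilpotent M → Nat.card M ≤ 3 * 2 ^ k)
    (hconj : ∀ z z' : X, orderOf z = 3 → orderOf z' = 3 → 2 ^ k ∣ Nat.card (centralizer ({z} : Set X)) →
      2 ^ k ∣ Nat.card (centralizer ({z'} : Set X)) → IsConj z z')
    {N₁ N₂ : Subgroup X} (h₁ : Group.IsNilpotent N₁) (h₂ : Group.IsNilpotent N₂) (c₁ : Nat.card N₁ = 3 * 2 ^ k)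
    (c₂ : Nat.card N₂ = 3 * 2 ^ k) : ∃ g : X, N₂ = N₁.map (MulAut.conj g).toMonoidHom := by
  haveI : Fact (Nat.Prime 2) := ⟨Nat.prime_two⟩
  obtain ⟨z₁, hz₁, P₁, hP₁p, hP₁c, hP₁z, rfl⟩ := exists_decomp h₁ c₁
  obtain ⟨z₂, hz₂, P₂, hP₂p, hP₂c, hP₂z, rfl⟩ := exists_decomp h₂ c₂
  obtain ⟨g, hg⟩ := isConj_iff.1 (hconj z₁ z₂ hz₁ hz₂ (hP₁c ▸ card_dvd_of_le hP₁z) (hP₂c ▸ card_dvd_of_le hP₂z))
  set C := centralizer ({z₂} : Set X)
  have hmax : ∀ S : Subgroup X, IsPGroup 2 S → S ≤ C → Nat.card S ≤ 2 ^ k := by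
    intro S hS hSC
    let f : S × zpowers z₂ →* X := MonoidHom.noncommCoprod S.subtype (zpowers z₂).subtype fun s t => by
      obtain ⟨i, hi⟩ := mem_zpowers_iff.1 t.2
      show Commute (s : X) t
      rw [← hi]
      exact Commute.zpow_right (mem_centralizer_singleton_iff.1 (hSC s.2)) i
    haveI := hS.isNilpotent
    haveI : IsMulCommutative (zpowers z₂) := inferInstance
    haveI : Group.IsNilpotent (zpowers z₂) := by
      letI : CommGroup (zpowers z₂) := { (inferInstance : Group (zpowers z₂)) with mul_comm := mul_comm' }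
      infer_instance
    have h := hbound f.range (nilpotent_range f)
    have h1 : Nat.card S * 3 ∣ Nat.card f.range := by
      obtain ⟨j, hj⟩ := IsPGroup.iff_card.1 hS
      refine Nat.Coprime.mul_dvd_of_dvd_of_dvd (hj ▸ ((Nat.coprime_primes Nat.prime_two Nat.prime_three).2 (by omega)).pow_left j) ?_ ?_
      · exact card_dvd_of_le fun s hs => ⟨(⟨s, hs⟩, 1), by simp [f, MonoidHom.noncommCoprod]⟩
      · rw [← hz₂, ← Nat.card_zpowers]
        exact card_dvd_of_le fun t ht => ⟨(1, ⟨t, ht⟩), by simp [f, MonoidHom.noncommCoprod]⟩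
    have := Nat.le_of_dvd Nat.card_pos h1
    omega
  let φ := (MulAut.conj g).toMonoidHom
  have hQ : P₁.map φ ≤ C := by
    rintro _ ⟨u, hu, rfl⟩
    rw [mem_centralizer_singleton_iff, ← hg]
    show φ u * φ z₁ = φ z₁ * φ u
    rw [← map_mul, ← map_mul, mem_centralizer_singleton_iff.1 (hP₁z hu)]
  have key : ∀ S : Subgroup X, IsPGroup 2 S → Nat.card S = 2 ^ k → S ≤ C →
      ∃ T : Sylow 2 C, (T : Subgroup C).map C.subtype = S := by
    intro S hS hSc hSC
    have hSp : IsPGroup 2 (S.subgroupOf C) := hS.comap_of_injective C.subtype C.subtype_injective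
    obtain ⟨T, hT⟩ := hSp.exists_le_sylow
    refine ⟨T, (eq_of_le_of_card_ge ?_ ?_).symm⟩
    · intro s hs
      exact ⟨⟨s, hSC hs⟩, hT (show (⟨s, hSC hs⟩ : C) ∈ S.subgroupOf C from hs), rfl⟩
    · rw [hSc]
      exact hmax _ (T.isPGroup'.map _) (map_subtype_le _)
  obtain ⟨T₁, hT₁⟩ := key _ (hP₁p.map φ)
    (by rw [← hP₁c]; exact (Nat.card_congr (P₁.equivMapOfInjective φ (MulAut.conj g).injective).toEquiv).symm) hQ
  obtain ⟨T₂, hT₂⟩ := key _ hP₂p hP₂c hP₂z
  obtain ⟨c, hc⟩ := MulAction.exists_smul_eq C T₁ T₂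
  refine ⟨(c : X) * g, ?_⟩
  rw [Subgroup.map_sup, MonoidHom.map_zpowers]
  have e1 : P₁.map (MulAut.conj ((c : X) * g)).toMonoidHom = P₂ := by
    rw [show (MulAut.conj ((c : X) * g)).toMonoidHom = (MulAut.conj (c : X)).toMonoidHom.comp φ by
        ext u; simp [φ, mul_assoc], ← Subgroup.map_map, ← hT₁, ← hT₂, ← hc]
    ext x
    simp only [Subgroup.mem_map]
    constructor
    · rintro ⟨_, ⟨u, hu, rfl⟩, rfl⟩
      refine ⟨c * u * c⁻¹, ?_, rfl⟩
      rw [Sylow.coe_subgroup_smul, Subgroup.mem_pointwise_smul_iff_inv_smul_mem]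
      simpa [MulAut.smul_def, mul_assoc] using hu
    · rintro ⟨u, hu, rfl⟩
      rw [Sylow.coe_subgroup_smul, Subgroup.mem_pointwise_smul_iff_inv_smul_mem] at hu
      refine ⟨_, ⟨_, hu, rfl⟩, ?_⟩
      simp [MulAut.smul_def, mul_assoc]
  have e2 : (MulAut.conj ((c : X) * g)).toMonoidHom z₁ = z₂ := by
    have hc' : (c : X) * z₂ = z₂ * c := mem_centralizer_singleton_iff.1 c.2
    show (c : X) * g * z₁ * ((c : X) * g)⁻¹ = z₂
    calc (c : X) * g * z₁ * ((c : X) * g)⁻¹ = (c : X) * (g * z₁ * g⁻¹) * (c : X)⁻¹ := by group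
      _ = z₂ := by rw [hg, hc', mul_inv_cancel_right]
  rw [e1, e2]

end Conj

/-- the three-cycle group on three points -/
def rot : Multiplicative (ZMod 3) →* Equiv.Perm (Fin 3) where
  toFun t := Equiv.addRight (show Fin 3 from t.toAdd)
  map_one' := Equiv.ext fun x => add_zero x
  map_mul' a b := Equiv.ext fun x => by
    show x + ((show Fin 3 from a.toAdd) + (show Fin 3 from b.toAdd)) =
      (x + (show Fin 3 from b.toAdd)) + (show Fin 3 from a.toAdd)
    abel

theorem rot_injective : Function.Injective rot := fun a b h => by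
  have h0 : (0 : Fin 3) + (show Fin 3 from a.toAdd) = 0 + (show Fin 3 from b.toAdd) := DFunLike.congr_fun h (0 : Fin 3)
  rw [zero_add, zero_add] at h0
  exact Multiplicative.toAdd.injective h0

theorem sign_rot (t : Multiplicative (ZMod 3)) : Equiv.Perm.sign (rot t) = 1 := by
  have h : Equiv.Perm.sign (rot t) ^ 3 = 1 := by
    rw [← map_pow, ← map_pow, show t ^ 3 = 1 by revert t; decide, map_one, map_one]
  rcases Int.units_eq_one_or (Equiv.Perm.sign (rot t)) with e | e
  · exact e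
  · rw [e] at h; exact absurd h (by decide)

/-- the embedding of `Sym (n - 3) × C₃` in `Sym n` -/
def embed {n : ℕ} (h : n - 3 + 3 = n) :
    Equiv.Perm (Fin (n - 3)) × Multiplicative (ZMod 3) →* Equiv.Perm (Fin n) :=
  ((finSumFinEquiv.trans (finCongr h)).permCongrHom.toMonoidHom.comp
    (Equiv.Perm.sumCongrHom (Fin (n - 3)) (Fin 3))).comp ((MonoidHom.id _).prodMap rot)

theorem embed_injective {n : ℕ} (h : n - 3 + 3 = n) : Function.Injective (embed h) := by
  refine ((finSumFinEquiv.trans (finCongr h)).permCongrHom.injective.comp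
    Equiv.Perm.sumCongrHom_injective).comp ?_
  rintro ⟨a, b⟩ ⟨c, d⟩ e
  obtain ⟨e1, e2⟩ := Prod.mk.inj e
  exact Prod.ext e1 (rot_injective e2)

theorem sign_embed {n : ℕ} (h : n - 3 + 3 = n) (x : Equiv.Perm (Fin (n - 3)) × Multiplicative (ZMod 3)) :
    Equiv.Perm.sign (embed h x) = Equiv.Perm.sign x.1 := by
  show Equiv.Perm.sign ((finSumFinEquiv.trans (finCongr h)).permCongr (Equiv.sumCongr x.1 (rot x.2))) = _
  rw [Equiv.Perm.sign_permCongr]
  exact (Equiv.Perm.sign_sumCongr _ _).trans (by rw [sign_rot, mul_one])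

theorem sym_three (n : ℕ) (hn : n % 4 = 3) (P : Sylow 2 (Equiv.Perm (Fin (n - 3)))) :
    (∀ N : Subgroup (Equiv.Perm (Fin n)), Group.IsNilpotent N → Nat.card N ≤ 3 * Nat.card P) ∧
    (∃ M : Subgroup (Equiv.Perm (Fin n)), Group.IsNilpotent M ∧ Nat.card M = 3 * Nat.card P ∧
      Nonempty (M ≃* (↥(P : Subgroup (Equiv.Perm (Fin (n - 3)))) × Multiplicative (ZMod 3)))) ∧
    (∀ N₁ N₂ : Subgroup (Equiv.Perm (Fin n)), Group.IsNilpotent N₁ → Group.IsNilpotent N₂ →
      Nat.card N₁ = 3 * Nat.card P → Nat.card N₂ = 3 * Nat.card P →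
      ∃ g : Equiv.Perm (Fin n), N₂ = N₁.map (MulAut.conj g).toMonoidHom) := by
  have hP := card_sylow_sym (n - 3) P
  have hb : ∀ N : Subgroup (Equiv.Perm (Fin n)), Group.IsNilpotent N → Nat.card N ≤ 3 * 2 ^ e2 (n - 3) := by
    intro N hN
    have h := (bound n (Fintype.card_fin n) N hN).1
    rw [b2, if_pos hn, e2_three hn, pow_succ] at h
    omega
  refine ⟨fun N hN => hP ▸ hb N hN, ?_, fun N₁ N₂ h₁ h₂ c₁ c₂ => ?_⟩
  · let f := (embed (show n - 3 + 3 = n by omega)).comp
      ((P : Subgroup (Equiv.Perm (Fin (n - 3)))).subtype.prodMap (MonoidHom.id (Multiplicative (ZMod 3))))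
    have hf : Function.Injective f := (embed_injective _).comp
      (Prod.map_injective.2 ⟨Subgroup.subtype_injective _, Function.injective_id⟩)
    haveI := P.isPGroup'.isNilpotent
    refine ⟨f.range, nilpotent_range f, ?_, ⟨(MonoidHom.ofInjective hf).symm⟩⟩
    rw [← Nat.card_congr (MonoidHom.ofInjective hf).toEquiv, Nat.card_prod]
    simp [mul_comm]
  · rw [hP] at c₁ c₂
    refine exists_conj hb (fun z z' hz hz' hd hd' => ?_) h₁ h₂ c₁ c₂
    rw [Equiv.Perm.isConj_iff_cycleType_eq, isThreeCycle_of_large hn hz (Nat.le_succ _) hd,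
      isThreeCycle_of_large hn hz' (Nat.le_succ _) hd']

theorem alt_three (n : ℕ) (hn : n % 4 = 3) (h7 : 7 ≤ n) (P : Sylow 2 (alternatingGroup (Fin (n - 3)))) :
    (∀ N : Subgroup (alternatingGroup (Fin n)), Group.IsNilpotent N → Nat.card N ≤ 3 * Nat.card P) ∧
    (∃ M : Subgroup (alternatingGroup (Fin n)), Group.IsNilpotent M ∧ Nat.card M = 3 * Nat.card P ∧
      Nonempty (M ≃* (↥(P : Subgroup (alternatingGroup (Fin (n - 3)))) × Multiplicative (ZMod 3)))) ∧
    (∀ N₁ N₂ : Subgroup (alternatingGroup (Fin n)), Group.IsNilpotent N₁ → Group.IsNilpotent N₂ →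
      Nat.card N₁ = 3 * Nat.card P → Nat.card N₂ = 3 * Nat.card P →
      ∃ g : alternatingGroup (Fin n), N₂ = N₁.map (MulAut.conj g).toMonoidHom) := by
  have hP := card_sylow_alt (n - 3) (by omega) P
  obtain ⟨k, hk⟩ := IsPGroup.iff_card.1 P.isPGroup'
  rw [hk] at hP ⊢
  have hk' : e2 (n - 3) = k + 1 := Nat.pow_right_injective le_rfl (by
    show 2 ^ e2 (n - 3) = 2 ^ (k + 1)
    rw [← hP, pow_succ'])
  have hb : ∀ N : Subgroup (alternatingGroup (Fin n)), Group.IsNilpotent N → Nat.card N ≤ 3 * 2 ^ k := by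
    intro N hN
    have e := N.equivMapOfInjective _ (alternatingGroup (Fin n)).subtype_injective
    haveI := hN
    have h := (bound n (Fintype.card_fin n) (N.map (alternatingGroup (Fin n)).subtype)
      (Group.nilpotent_of_mulEquiv e)).2 (Subgroup.map_subtype_le N)
    rw [← Nat.card_congr e.toEquiv, a4, if_neg (by omega), if_neg (by omega), if_neg (by omega), if_neg (by omega),
      if_neg (by omega), b2, if_pos hn, e2_three hn, hk', pow_succ, pow_succ] at h
    omega
  refine ⟨hb, ?_, fun N₁ N₂ h₁ h₂ c₁ c₂ => exists_conj hb (fun z z' hz hz' hd hd' => ?_) h₁ h₂ c₁ c₂⟩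
  · let f₀ := (embed (show n - 3 + 3 = n by omega)).comp
      (((alternatingGroup (Fin (n - 3))).subtype.comp
        (P : Subgroup (alternatingGroup (Fin (n - 3)))).subtype).prodMap (MonoidHom.id (Multiplicative (ZMod 3))))
    have hf₀ : Function.Injective f₀ := (embed_injective _).comp
      (Prod.map_injective.2 ⟨(Subgroup.subtype_injective _).comp (Subgroup.subtype_injective _), Function.injective_id⟩)
    let f := f₀.codRestrict (alternatingGroup (Fin n)) fun x => by
      rw [Equiv.Perm.mem_alternatingGroup]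
      exact (sign_embed _ _).trans (Equiv.Perm.mem_alternatingGroup.1 x.1.1.2)
    have hf : Function.Injective f := fun x y h => hf₀ (congrArg Subtype.val h)
    haveI := P.isPGroup'.isNilpotent
    refine ⟨f.range, nilpotent_range f, ?_, ⟨(MonoidHom.ofInjective hf).symm⟩⟩
    rw [← Nat.card_congr (MonoidHom.ofInjective hf).toEquiv, Nat.card_prod, hk]
    simp [mul_comm]
  · have key : ∀ z : alternatingGroup (Fin n), orderOf z = 3 →
        2 ^ k ∣ Nat.card (centralizer ({z} : Set (alternatingGroup (Fin n)))) →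
        (z : Equiv.Perm (Fin n)).IsThreeCycle := by
      intro z hz hd
      refine isThreeCycle_of_large hn ((Subgroup.orderOf_coe z).trans hz) hk'.le (hd.trans ?_)
      rw [Nat.card_congr ((centralizer ({z} : Set (alternatingGroup (Fin n)))).equivMapOfInjective _
        (alternatingGroup (Fin n)).subtype_injective).toEquiv]
      refine card_dvd_of_le ?_
      rintro _ ⟨u, hu, rfl⟩
      exact mem_centralizer_singleton_iff.2 (congrArg Subtype.val (mem_centralizer_singleton_iff.1 hu))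
    exact alternatingGroup.isThreeCycle_isConj (by rw [Nat.card_fin]; omega) (key z hz hd) (key z' hz' hd')

end CfsgLib.Perm.NilBound
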