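import Mathlib

/-!
# Diameter two for relation graphs

* `connected_diam_two`: common neighbours and one non-adjacent pair give diameter two.
-/

set_option autoImplicit false
set_option linter.all false

namespace CfsgLib.Perm.OddProductDiam

open SimpleGraph

theorem connected_diam_two {V : Type*} (r : V → V → Prop) (u v : V) (huv : u ≠ v)
    (hnr : ¬ r u v) (hnr' : ¬ r v u)
    (hcommon : ∀ x y : V, x ≠ y → ¬ r x y → ∃ z, r x z ∧ r z y ∧ z ≠ x ∧ z ≠ y) :
    (SimpleGraph.fromRel r).Connected ∧ (SimpleGraph.fromRel r).diam = 2 := by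
  set Γ := SimpleGraph.fromRel r with hΓ
  have hle : ∀ x y : V, Γ.edist x y ≤ 2 := by
    intro x y
    rcases eq_or_ne x y with rfl | hxy
    · simp
    by_cases hr : r x y
    · have h1 : Γ.Adj x y := (fromRel_adj r x y).2 ⟨hxy, Or.inl hr⟩
      exact le_trans (edist_eq_one_iff_adj.2 h1).le one_le_two
    · obtain ⟨z, h1, h2, hzx, hzy⟩ := hcommon x y hxy hr
      have e1 : Γ.Adj x z := (fromRel_adj r x z).2 ⟨hzx.symm, Or.inl h1⟩
      have e2 : Γ.Adj z y := (fromRel_adj r z y).2 ⟨hzy, Or.inl h2⟩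
      exact (edist_le (Walk.cons e1 (Walk.cons e2 Walk.nil))).trans (by simp)
  haveI : Nonempty V := ⟨u⟩
  have hconn : Γ.Connected := ⟨fun x y => by
    refine reachable_of_edist_ne_top (ne_top_of_le_ne_top ?_ (hle x y))
    exact ENat.coe_ne_top 2⟩
  refine ⟨hconn, ?_⟩
  have hed : Γ.ediam ≤ 2 := ediam_le_of_edist_le hle
  have hnadj : ¬ Γ.Adj u v := fun h => ((fromRel_adj r u v).1 h).2.elim hnr hnr'
  have h2 : 2 ≤ Γ.edist u v := by
    have h0 : Γ.edist u v ≠ 0 := fun h => huv (edist_eq_zero_iff.1 h)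
    have h1 : Γ.edist u v ≠ 1 := fun h => hnadj (edist_eq_one_iff_adj.1 h)
    have ht : Γ.edist u v ≠ ⊤ := ne_top_of_le_ne_top (ENat.coe_ne_top 2) (hle u v)
    obtain ⟨n, hn⟩ := ENat.ne_top_iff_exists.1 ht
    rw [← hn] at h0 h1 ⊢
    norm_cast at h0 h1 ⊢
    omega
  have heq : Γ.ediam = 2 := le_antisymm hed (le_trans h2 edist_le_ediam)
  rw [diam, heq]
  rfl

end CfsgLib.Perm.OddProductDiam
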