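import Mathlib

/-!
# Two conjugate involutions and a third one with both products of odd order

For involutions `x`, `y` with the same number of fixed points on a finite set of at least five
points, the even cycles of `r = y x` are repaired by three-cycles inverted by `x`.

* `exists_odd_surgery`: there is `σ` of order dividing three, inverted by `x`, with `y x σ` of
  odd order.
-/

set_option autoImplicit false
set_option linter.all false

namespace CfsgLib.Perm.OddSurgery

open Equiv Function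

variable {α : Type*} [Fintype α] [DecidableEq α]

/-- The three-cycle `a → b → c → a`. -/
def cyc (a b c : α) : Perm α := swap a b * swap b c

theorem cyc_fst {a b c : α} (hab : a ≠ b) (hac : a ≠ c) : cyc a b c a = b := by
  simp [cyc, swap_apply_of_ne_of_ne hab hac]

theorem cyc_snd {a b c : α} (hac : a ≠ c) (hbc : b ≠ c) : cyc a b c b = c := by
  simp [cyc, swap_apply_of_ne_of_ne hac.symm hbc.symm]

theorem cyc_thd {a b c : α} : cyc a b c c = a := by
  simp [cyc]

theorem cyc_other {a b c w : α} (ha : w ≠ a) (hb : w ≠ b) (hc : w ≠ c) : cyc a b c w = w := by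
  simp [cyc, swap_apply_of_ne_of_ne hb hc, swap_apply_of_ne_of_ne ha hb]

theorem cyc_conj (f : Perm α) (a b c : α) : f * cyc a b c * f⁻¹ = cyc (f a) (f b) (f c) := by
  simp only [cyc, swap_apply_apply]
  group

theorem cyc_inv {a b c : α} (hab : a ≠ b) (hac : a ≠ c) (hbc : b ≠ c) :
    (cyc a b c)⁻¹ = cyc a c b := by
  refine inv_eq_of_mul_eq_one_right (Perm.ext fun w => ?_)
  rw [Perm.mul_apply, Perm.one_apply]
  rcases eq_or_ne w a with rfl | ha
  · rw [cyc_fst hac hab, cyc_thd]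
  rcases eq_or_ne w b with rfl | hb
  · rw [cyc_thd, cyc_fst hab hac]
  rcases eq_or_ne w c with rfl | hc
  · rw [cyc_snd hab hbc.symm, cyc_snd hac hbc]
  rw [cyc_other ha hc hb, cyc_other ha hb hc]

theorem cyc_rot {a b c : α} (hab : a ≠ b) (hac : a ≠ c) (hbc : b ≠ c) : cyc a b c = cyc b c a := by
  refine Perm.ext fun w => ?_
  rcases eq_or_ne w a with rfl | ha
  · rw [cyc_fst hab hac, cyc_thd]
  rcases eq_or_ne w b with rfl | hb
  · rw [cyc_snd hac hbc, cyc_fst hbc hab.symm]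
  rcases eq_or_ne w c with rfl | hc
  · rw [cyc_thd, cyc_snd hab.symm hac.symm]
  rw [cyc_other ha hb hc, cyc_other hb hc ha]

theorem cyc_cube {a b c : α} (hab : a ≠ b) (hac : a ≠ c) (hbc : b ≠ c) : cyc a b c ^ 3 = 1 := by
  refine Perm.ext fun w => ?_
  simp only [pow_succ, pow_zero, one_mul, Perm.mul_apply, Perm.one_apply]
  rcases eq_or_ne w a with rfl | ha
  · rw [cyc_fst hab hac, cyc_snd hac hbc, cyc_thd]
  rcases eq_or_ne w b with rfl | hb
  · rw [cyc_snd hac hbc, cyc_thd, cyc_fst hab hac]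
  rcases eq_or_ne w c with rfl | hc
  · rw [cyc_thd, cyc_fst hab hac, cyc_snd hac hbc]
  rw [cyc_other ha hb hc, cyc_other ha hb hc, cyc_other ha hb hc]

theorem commute_of_fix {σ τ : Perm α} (h : ∀ w, σ w = w ∨ τ w = w) : Commute σ τ :=
  Perm.Disjoint.commute h

theorem cube_mul {σ τ : Perm α} (h : Commute σ τ) (h1 : σ ^ 3 = 1) (h2 : τ ^ 3 = 1) :
    (σ * τ) ^ 3 = 1 := by
  rw [h.mul_pow, h1, h2, one_mul]

/-- Two involutions. -/
structure Two (α : Type*) where
  x : Perm α
  y : Perm α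
  hx : x * x = 1
  hy : y * y = 1

namespace Two

variable (T : Two α)

/-- The product. -/
def r : Perm α := T.y * T.x

/-- The length of the cycle of `r` through a point. -/
noncomputable def L (a : α) : ℕ := Function.minimalPeriod T.r a

theorem xx (a : α) : T.x (T.x a) = a := by
  rw [← Perm.mul_apply, T.hx, Perm.one_apply]

theorem y_eq (a : α) : T.y a = T.r (T.x a) := by
  simp [r, T.xx]

theorem x_pow (i : ℕ) (a : α) : T.x ((T.r ^ i) a) = (T.r ^ i)⁻¹ (T.x a) := by
  have h : T.x * T.r * T.x⁻¹ = T.r⁻¹ := by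
    rw [r, mul_inv_rev, inv_eq_of_mul_eq_one_right T.hy, inv_eq_of_mul_eq_one_right T.hx]
    calc T.x * (T.y * T.x) * T.x = T.x * T.y * (T.x * T.x) := by group
      _ = T.x * T.y := by rw [T.hx, mul_one]
  have h2 : T.x * T.r ^ i * T.x⁻¹ = (T.r ^ i)⁻¹ := by
    rw [← conj_pow, h, inv_pow]
  rw [← h2, Perm.mul_apply, Perm.mul_apply]
  simp

theorem pow_x (i : ℕ) (a : α) : (T.r ^ i) (T.x ((T.r ^ i) a)) = T.x a := by
  rw [T.x_pow]; simp

theorem r_x_r (a : α) : T.r (T.x (T.r a)) = T.x a := by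
  simpa using T.pow_x 1 a

theorem periodic (a : α) : a ∈ Function.periodicPts T.r := by
  refine ⟨orderOf T.r, orderOf_pos _, ?_⟩
  show (⇑T.r)^[orderOf T.r] a = a
  rw [← Perm.coe_pow, pow_orderOf_eq_one, Perm.one_apply]

theorem L_pos (a : α) : 0 < T.L a := Function.minimalPeriod_pos_of_mem_periodicPts (T.periodic a)

theorem pow_L (a : α) : (T.r ^ T.L a) a = a := by
  rw [Perm.coe_pow]; exact Function.iterate_minimalPeriod

theorem pow_mod (a : α) (i : ℕ) : (T.r ^ i) a = (T.r ^ (i % T.L a)) a := by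
  rw [Perm.coe_pow, Perm.coe_pow]
  exact Function.iterate_mod_minimalPeriod_eq.symm

theorem pow_inj {a : α} {i j : ℕ} (hi : i < T.L a) (hj : j < T.L a)
    (h : (T.r ^ i) a = (T.r ^ j) a) : i = j := by
  rw [Perm.coe_pow, Perm.coe_pow] at h
  exact (Function.iterate_eq_iterate_iff_of_lt_minimalPeriod hi hj).1 h

theorem pow_eq_mod {a : α} {i j : ℕ} (h : (T.r ^ i) a = (T.r ^ j) a) : i % T.L a = j % T.L a := by
  rw [T.pow_mod a i, T.pow_mod a j] at h
  exact T.pow_inj (Nat.mod_lt _ (T.L_pos a)) (Nat.mod_lt _ (T.L_pos a)) h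

theorem L_pow (a : α) (i : ℕ) : T.L ((T.r ^ i) a) = T.L a := by
  rw [L, L, Perm.coe_pow]
  exact Function.minimalPeriod_apply_iterate (T.periodic a) i

theorem L_x (a : α) : T.L (T.x a) = T.L a := by
  refine Function.minimalPeriod_eq_minimalPeriod_iff.2 fun n => ?_
  show (⇑T.r)^[n] (T.x a) = T.x a ↔ (⇑T.r)^[n] a = a
  rw [← Perm.coe_pow]
  constructor
  · intro h
    have h1 := T.x_pow n a
    have h2 : (T.r ^ n)⁻¹ (T.x a) = T.x a := by
      rw [Perm.inv_def, Equiv.symm_apply_eq]; exact h.symm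
    rw [h2] at h1
    exact T.x.injective h1
  · intro h
    have h1 := T.pow_x n a
    rwa [h] at h1

/-- The same cycle of `r`. -/
def Same (a b : α) : Prop := T.r.SameCycle a b

theorem same_pow (a : α) (i : ℕ) : T.Same a ((T.r ^ i) a) :=
  Perm.sameCycle_pow_right.2 (Perm.SameCycle.refl _ _)

theorem exists_lt {a b : α} (h : T.Same a b) : ∃ i < T.L a, (T.r ^ i) a = b := by
  obtain ⟨i, hi⟩ := Perm.SameCycle.exists_nat_pow_eq h
  exact ⟨i % T.L a, Nat.mod_lt _ (T.L_pos a), by rw [← T.pow_mod, hi]⟩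

theorem same_L {a b : α} (h : T.Same a b) : T.L b = T.L a := by
  obtain ⟨i, -, rfl⟩ := T.exists_lt h
  exact T.L_pow a i

theorem same_x {a b : α} (h : T.Same a b) : T.Same (T.x a) (T.x b) := by
  obtain ⟨i, -, rfl⟩ := T.exists_lt h
  have h1 := T.same_pow (T.x ((T.r ^ i) a)) i
  rw [T.pow_x] at h1
  exact Perm.SameCycle.symm h1

/-- The smallest invariant set containing a point. -/
noncomputable def piece (a : α) : Finset α :=
  open Classical in Finset.univ.filter fun w => T.Same a w ∨ T.Same (T.x a) w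

theorem mem_piece {a w : α} : w ∈ T.piece a ↔ T.Same a w ∨ T.Same (T.x a) w := by
  simp [piece]

theorem self_mem_piece (a : α) : a ∈ T.piece a := T.mem_piece.2 (Or.inl (Perm.SameCycle.refl _ _))

/-- Invariance. -/
def Inv (A : Finset α) : Prop := ∀ a ∈ A, T.x a ∈ A ∧ T.r a ∈ A

theorem inv_piece (a : α) : T.Inv (T.piece a) := by
  intro w hw
  rw [T.mem_piece] at hw
  refine ⟨T.mem_piece.2 ?_, T.mem_piece.2 ?_⟩
  · rcases hw with h | h
    · exact Or.inr (T.same_x h)
    · refine Or.inl ?_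
      have := T.same_x h
      rwa [T.xx] at this
  · have h1 := T.same_pow w 1
    rw [pow_one] at h1
    exact hw.imp (fun h => Perm.SameCycle.trans h h1) (fun h => Perm.SameCycle.trans h h1)

variable {T}

theorem Inv.pow {A : Finset α} (hA : T.Inv A) {a : α} (ha : a ∈ A) (i : ℕ) : (T.r ^ i) a ∈ A := by
  induction i with
  | zero => simpa using ha
  | succ i ih =>
    rw [pow_succ', Perm.mul_apply]
    exact (hA _ ih).2

theorem Inv.piece_subset {A : Finset α} (hA : T.Inv A) {a : α} (ha : a ∈ A) : T.piece a ⊆ A := by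
  intro w hw
  rcases T.mem_piece.1 hw with h | h <;> obtain ⟨i, -, rfl⟩ := T.exists_lt h
  · exact hA.pow ha i
  · exact hA.pow (hA a ha).1 i

theorem Inv.union {A B : Finset α} (hA : T.Inv A) (hB : T.Inv B) : T.Inv (A ∪ B) := by
  intro a ha
  rcases Finset.mem_union.1 ha with h | h
  · exact ⟨Finset.mem_union_left _ (hA a h).1, Finset.mem_union_left _ (hA a h).2⟩
  · exact ⟨Finset.mem_union_right _ (hB a h).1, Finset.mem_union_right _ (hB a h).2⟩

theorem Inv.sdiff {A B : Finset α} (hA : T.Inv A) (hB : T.Inv B) : T.Inv (A \ B) := by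
  intro a ha
  obtain ⟨h1, h2⟩ := Finset.mem_sdiff.1 ha
  refine ⟨Finset.mem_sdiff.2 ⟨(hA a h1).1, fun h => h2 ?_⟩,
    Finset.mem_sdiff.2 ⟨(hA a h1).2, fun h => h2 ?_⟩⟩
  · simpa [T.xx] using (hB _ h).1
  · have h3 : (T.r ^ (T.L a - 1)) (T.r a) = a := by
      rw [← Perm.mul_apply, ← pow_succ, Nat.sub_add_cancel (T.L_pos a), T.pow_L]
    exact h3 ▸ hB.pow h _

variable (T)

/-- A repair of the cycles inside `A`. -/
def Sol (A : Finset α) : Prop :=
  ∃ σ : Perm α, (∀ w ∉ A, σ w = w) ∧ T.x * σ * T.x = σ⁻¹ ∧ σ ^ 3 = 1 ∧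
    ∀ a ∈ A, ∃ N, Odd N ∧ ((T.r * σ) ^ N) a = a

theorem sol_union {A B : Finset α} (hd : Disjoint A B) (hA : T.Inv A) (hB : T.Inv B)
    (h1 : T.Sol A) (h2 : T.Sol B) : T.Sol (A ∪ B) := by
  obtain ⟨σ, s1, s2, s3, s4⟩ := h1
  obtain ⟨τ, t1, t2, t3, t4⟩ := h2
  have hc : Commute σ τ := commute_of_fix fun w => by
    by_cases h : w ∈ A
    · exact Or.inr (t1 w (Finset.disjoint_left.1 hd h))
    · exact Or.inl (s1 w h)
  refine ⟨σ * τ, fun w hw => ?_, ?_, cube_mul hc s3 t3, fun a ha => ?_⟩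
  · rw [Finset.mem_union, not_or] at hw
    rw [Perm.mul_apply, t1 w hw.2, s1 w hw.1]
  · calc T.x * (σ * τ) * T.x = (T.x * σ * T.x) * (T.x * τ * T.x) := by
          simp only [mul_assoc]; rw [← mul_assoc T.x T.x, T.hx, one_mul]
      _ = σ⁻¹ * τ⁻¹ := by rw [s2, t2]
      _ = (σ * τ)⁻¹ := by rw [mul_inv_rev, hc.inv_inv.eq]
  · have local_eq : ∀ (C : Finset α) (ρ ρ' : Perm α), T.Inv C → (∀ w ∉ C, ρ w = w) →
        (∀ w ∈ C, ρ' w = w) → a ∈ C → ∀ n, ((T.r * (ρ * ρ')) ^ n) a = ((T.r * ρ) ^ n) a ∧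
          ((T.r * ρ) ^ n) a ∈ C := by
      intro C ρ ρ' hC hρ hρ' haC n
      induction n with
      | zero => simpa using haC
      | succ n ih =>
        rw [pow_succ', pow_succ', Perm.mul_apply, Perm.mul_apply, ih.1]
        refine ⟨?_, ?_⟩
        · rw [Perm.mul_apply, Perm.mul_apply, Perm.mul_apply, hρ' _ ih.2]
        · rw [Perm.mul_apply]
          refine (hC _ ?_).2
          by_contra hn
          have h := hρ _ hn
          exact hn (by rw [ρ.injective h]; exact ih.2)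
    rcases Finset.mem_union.1 ha with h | h
    · obtain ⟨N, hN, e⟩ := s4 a h
      exact ⟨N, hN, by rw [(local_eq A σ τ hA s1
        (fun w hw => t1 w (Finset.disjoint_left.1 hd hw)) h N).1, e]⟩
    · obtain ⟨N, hN, e⟩ := t4 a h
      exact ⟨N, hN, by rw [hc.eq, (local_eq B τ σ hB t1
        (fun w hw => s1 w (Finset.disjoint_right.1 hd hw)) h N).1, e]⟩

theorem chain {σ : Perm α} {a a' : α} (k : ℕ) (hk : 1 ≤ k) (ha : σ a = a')
    (h : ∀ i, 1 ≤ i → i < k → σ ((T.r ^ i) a') = (T.r ^ i) a') :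
    ((T.r * σ) ^ k) a = (T.r ^ k) a' := by
  induction k, hk using Nat.le_induction with
  | base => simp [ha]
  | succ k hk ih =>
    rw [pow_succ', Perm.mul_apply, ih (fun i h1 h2 => h i h1 (by omega)), Perm.mul_apply,
      h k hk (by omega), ← Perm.mul_apply, ← pow_succ']

theorem step {σ : Perm α} {a a' : α} (ha : σ a = a') : ((T.r * σ) ^ 1) a = T.r a' := by simp [ha]

theorem per_comp {g : Perm α} {a b c : α} {i j : ℕ} (h1 : (g ^ i) a = b) (h2 : (g ^ j) b = c) :
    (g ^ (j + i)) a = c := by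
  rw [pow_add, Perm.mul_apply, h1, h2]

theorem per_apply {g : Perm α} {a b : α} {N j : ℕ} (h : (g ^ N) a = a) (hb : (g ^ j) a = b) :
    (g ^ N) b = b := by
  rw [← hb, ← Perm.mul_apply, ← pow_add, add_comm, pow_add, Perm.mul_apply, h]

/-- A repair from its support. -/
theorem sol_mk {A : Finset α} (hA : T.Inv A) {σ : Perm α} (S : Finset α) (hS : S ⊆ A)
    (hfix : ∀ w ∉ S, σ w = w) (hinv : T.x * σ * T.x = σ⁻¹) (h3 : σ ^ 3 = 1)
    (hper : ∀ s ∈ S, ∃ N, Odd N ∧ ((T.r * σ) ^ N) s = s)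
    (hcov : ∀ a ∈ A, Odd (T.L a) ∨ ∃ s ∈ S, T.Same a s) : T.Sol A := by
  classical
  refine ⟨σ, fun w hw => hfix w fun h => hw (hS h), hinv, h3, fun a ha => ?_⟩
  by_cases haS : a ∈ S
  · exact hper a haS
  by_cases hhit : ∃ i, (T.r ^ i) a ∈ S
  · have hj := Nat.find_spec hhit
    have hj1 : 1 ≤ Nat.find hhit := by
      by_contra h
      rw [show Nat.find hhit = 0 by omega, pow_zero, Perm.one_apply] at hj
      exact haS hj
    have e := T.chain (σ := σ) (Nat.find hhit) hj1 (hfix a haS)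
      (fun i _ h2 => hfix _ (Nat.find_min hhit h2))
    obtain ⟨N, hN, hNs⟩ := hper _ hj
    refine ⟨N, hN, ((T.r * σ) ^ Nat.find hhit).injective ?_⟩
    rw [← Perm.mul_apply, ← pow_add, add_comm, pow_add, Perm.mul_apply, e, hNs]
  · push Not at hhit
    have hodd : Odd (T.L a) := (hcov a ha).resolve_right fun ⟨s, hs, hss⟩ => by
      obtain ⟨i, -, rfl⟩ := T.exists_lt hss
      exact hhit i hs
    exact ⟨T.L a, hodd, by
      rw [T.chain (T.L a) (T.L_pos a) (hfix a haS) (fun i _ _ => hfix _ (hhit i)), T.pow_L]⟩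

theorem inv_single {p q : α} (hp : p ≠ T.x p) (hq : T.x q = q) (hpq : p ≠ q) :
    T.x * cyc p (T.x p) q * T.x = (cyc p (T.x p) q)⁻¹ := by
  have hxq : T.x p ≠ q := fun e => hpq (T.x.injective (e.trans hq.symm))
  have hinvx : T.x⁻¹ = T.x := inv_eq_of_mul_eq_one_right T.hx
  conv_lhs => arg 2; rw [← hinvx]
  rw [cyc_conj, T.xx, hq, cyc_inv hp hpq hxq, cyc_rot hp.symm hxq hpq]

theorem inv_double {a b c : α} (hab : a ≠ b) (hac : a ≠ c) (hbc : b ≠ c)
    (hc : Commute (cyc a b c) (cyc (T.x a) (T.x c) (T.x b))) :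
    T.x * (cyc a b c * cyc (T.x a) (T.x c) (T.x b)) * T.x =
      (cyc a b c * cyc (T.x a) (T.x c) (T.x b))⁻¹ := by
  have hinvx : T.x⁻¹ = T.x := inv_eq_of_mul_eq_one_right T.hx
  conv_lhs => arg 2; rw [← hinvx]
  rw [show T.x * (cyc a b c * cyc (T.x a) (T.x c) (T.x b)) * T.x⁻¹ =
      (T.x * cyc a b c * T.x⁻¹) * (T.x * cyc (T.x a) (T.x c) (T.x b) * T.x⁻¹) by group,
    cyc_conj, cyc_conj, T.xx, T.xx, T.xx, mul_inv_rev, cyc_inv hab hac hbc,
    cyc_inv (T.x.injective.ne hac) (T.x.injective.ne hab) (T.x.injective.ne hbc.symm)]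

/-- The two cycles through `a` and `x a` differ. -/
def IsPair (a : α) : Prop := ¬ T.Same a (T.x a)

theorem pair_ne {a : α} (ha : T.IsPair a) (i j : ℕ) : T.x ((T.r ^ i) a) ≠ (T.r ^ j) a := by
  intro h
  refine ha ?_
  have h1 := T.same_x (T.same_pow a i)
  rw [h] at h1
  exact Perm.SameCycle.trans (T.same_pow a j) (Perm.SameCycle.symm h1)

theorem notMem_of_same {a c w : α} (hc : c ∉ T.piece a) (hw : w ∈ T.piece c) : w ∉ T.piece a := by
  intro h
  exact hc ((T.inv_piece a).piece_subset h (by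
    rcases T.mem_piece.1 hw with h1 | h1
    · exact T.mem_piece.2 (Or.inl (Perm.SameCycle.symm h1))
    · refine T.mem_piece.2 (Or.inr ?_)
      have := T.same_x (Perm.SameCycle.symm h1)
      rwa [T.xx] at this))

theorem mem_piece_pow (a : α) (i : ℕ) : (T.r ^ i) a ∈ T.piece a ∧ T.x ((T.r ^ i) a) ∈ T.piece a :=
  ⟨(T.inv_piece a).pow (T.self_mem_piece a) i,
    ((T.inv_piece a) _ ((T.inv_piece a).pow (T.self_mem_piece a) i)).1⟩

theorem pow_x_sub {a : α} {i : ℕ} (hi : i ≤ T.L a) :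
    (T.r ^ i) (T.x a) = T.x ((T.r ^ (T.L a - i)) a) := by
  have h := T.pow_x i ((T.r ^ (T.L a - i)) a)
  rw [← Perm.mul_apply (T.r ^ i) (T.r ^ (T.L a - i)), ← pow_add, Nat.add_sub_of_le hi, T.pow_L] at h
  exact h

theorem cover_piece {a w : α} {S : Finset α} (ha : a ∈ S) (hxa : T.x a ∈ S) (hw : w ∈ T.piece a) :
    ∃ s ∈ S, T.Same w s := by
  rcases T.mem_piece.1 hw with h | h
  · exact ⟨a, ha, Perm.SameCycle.symm h⟩
  · exact ⟨_, hxa, Perm.SameCycle.symm h⟩

theorem sol_pair_large {a : α} (ha : T.IsPair a) (he : Even (T.L a)) (h4 : 4 ≤ T.L a) :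
    T.Sol (T.piece a) := by
  obtain ⟨k, hk⟩ := he
  obtain ⟨b, hb⟩ : ∃ b, b = (T.r ^ 1) a := ⟨_, rfl⟩
  obtain ⟨c, hc⟩ : ∃ c, c = (T.r ^ 2) a := ⟨_, rfl⟩
  have hC : ∀ i j, i < T.L a → j < T.L a → i ≠ j → (T.r ^ i) a ≠ (T.r ^ j) a := fun i j hi hj hij e =>
    hij (T.pow_inj hi hj e)
  have hab : a ≠ b := by rw [hb]; simpa using hC 0 1 (by omega) (by omega) (by omega)
  have hac : a ≠ c := by rw [hc]; simpa using hC 0 2 (by omega) (by omega) (by omega)
  have hbc : b ≠ c := by rw [hb, hc]; exact hC 1 2 (by omega) (by omega) (by omega)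
  have hx : ∀ i j, T.x ((T.r ^ i) a) ≠ (T.r ^ j) a := T.pair_ne ha
  have xab : T.x a ≠ b := by rw [hb]; simpa using hx 0 1
  have xac : T.x a ≠ c := by rw [hc]; simpa using hx 0 2
  have xaa : T.x a ≠ a := by simpa using hx 0 0
  have xba : T.x b ≠ a := by rw [hb]; simpa using hx 1 0
  have xbb : T.x b ≠ b := by rw [hb]; exact hx 1 1
  have xbc : T.x b ≠ c := by rw [hb, hc]; exact hx 1 2
  have xca : T.x c ≠ a := by rw [hc]; simpa using hx 2 0
  have xcb : T.x c ≠ b := by rw [hc, hb]; exact hx 2 1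
  have xcc : T.x c ≠ c := by rw [hc]; exact hx 2 2
  have xxab := T.x.injective.ne hab
  have xxac := T.x.injective.ne hac
  have xxbc := T.x.injective.ne hbc
  set σ := cyc a (T.x c) b * cyc (T.x a) (T.x b) c with hσ
  have hcm : Commute (cyc a (T.x c) b) (cyc (T.x a) (T.x b) c) := commute_of_fix fun w => by
    by_cases h : w = a ∨ w = T.x c ∨ w = b
    · right
      rcases h with rfl | rfl | rfl
      · exact cyc_other xaa.symm xba.symm hac
      · exact cyc_other xxac.symm xxbc.symm xcc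
      · exact cyc_other xab.symm xbb.symm hbc
    · push Not at h
      exact Or.inl (cyc_other h.1 h.2.1 h.2.2)
  have e_a : σ a = T.x c := by
    rw [hσ, Perm.mul_apply, cyc_other xaa.symm xba.symm hac, cyc_fst xca.symm hab]
  have e_xc : σ (T.x c) = b := by
    rw [hσ, Perm.mul_apply, cyc_other xxac.symm xxbc.symm xcc, cyc_snd hab xcb]
  have e_b : σ b = a := by
    rw [hσ, Perm.mul_apply, cyc_other xab.symm xbb.symm hbc, cyc_thd]
  have e_xa : σ (T.x a) = T.x b := by
    rw [hσ, Perm.mul_apply, cyc_fst xxab xac, cyc_other xba xxbc xbb]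
  have e_xb : σ (T.x b) = c := by
    rw [hσ, Perm.mul_apply, cyc_snd xac xbc, cyc_other hac.symm xcc.symm hbc.symm]
  have e_c : σ c = T.x a := by
    rw [hσ, Perm.mul_apply, cyc_thd, cyc_other xaa xxac xab]
  have e_other : ∀ w, w ∉ ({a, b, c, T.x a, T.x b, T.x c} : Finset α) → σ w = w := by
    intro w hw
    simp only [Finset.mem_insert, Finset.mem_singleton, not_or] at hw
    obtain ⟨h1, h2, h3, h4, h5, h6⟩ := hw
    rw [hσ, Perm.mul_apply, cyc_other h4 h5 h3, cyc_other h1 h6 h2]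
  have fixC : ∀ j, 3 ≤ j → j < T.L a → σ ((T.r ^ j) a) = (T.r ^ j) a ∧
      σ (T.x ((T.r ^ j) a)) = T.x ((T.r ^ j) a) := by
    intro j hj hjL
    have n0 : (T.r ^ j) a ≠ a := by simpa using hC j 0 hjL (by omega) (by omega)
    have n1 : (T.r ^ j) a ≠ b := by rw [hb]; exact hC j 1 hjL (by omega) (by omega)
    have n2 : (T.r ^ j) a ≠ c := by rw [hc]; exact hC j 2 hjL (by omega) (by omega)
    constructor <;> refine e_other _ ?_ <;>
      simp only [Finset.mem_insert, Finset.mem_singleton, not_or]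
    · refine ⟨n0, n1, n2, ?_, ?_, ?_⟩
      · simpa using (hx 0 j).symm
      · rw [hb]; exact (hx 1 j).symm
      · rw [hc]; exact (hx 2 j).symm
    · refine ⟨?_, ?_, ?_, T.x.injective.ne n0, T.x.injective.ne n1, T.x.injective.ne n2⟩
      · simpa using hx j 0
      · rw [hb]; exact hx j 1
      · rw [hc]; exact hx j 2
  have rxc : T.r (T.x c) = T.x b := by
    have h := T.r_x_r b
    rwa [show T.r b = c by rw [hb, hc, ← Perm.mul_apply, ← pow_succ']] at h
  have rxb : T.r (T.x b) = T.x a := by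
    have h := T.r_x_r a
    rwa [show T.r a = b by rw [hb, pow_one]] at h
  have ga : ((T.r * σ) ^ 1) a = T.x b := by rw [T.step e_a, rxc]
  have gxb : ((T.r * σ) ^ (T.L a - 2)) (T.x b) = a := by
    rw [T.chain _ (by omega) e_xb (fun i h1 h2 => by
      rw [hc, ← Perm.mul_apply (T.r ^ _) (T.r ^ 2), ← pow_add]; exact (fixC _ (by omega) (by omega)).1)]
    rw [hc, ← Perm.mul_apply (T.r ^ _) (T.r ^ 2), ← pow_add, Nat.sub_add_cancel (by omega), T.pow_L]
  have hper_a : ((T.r * σ) ^ (T.L a - 1)) a = a := by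
    have := per_comp ga gxb
    rwa [show T.L a - 2 + 1 = T.L a - 1 by omega] at this
  have gb : ((T.r * σ) ^ 1) b = b := by rw [T.step e_b, hb, pow_one]
  have gxa : ((T.r * σ) ^ 1) (T.x a) = T.x a := by rw [T.step e_xa, rxb]
  have gc : ((T.r * σ) ^ (T.L a - 2)) c = T.x c := by
    rw [T.chain _ (by omega) e_c (fun i h1 h2 => by
      rw [T.pow_x_sub (by omega)]; exact (fixC _ (by omega) (by omega)).2)]
    rw [T.pow_x_sub (by omega), show T.L a - (T.L a - 2) = 2 by omega, hc]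
  have gxc : ((T.r * σ) ^ 1) (T.x c) = c := by
    rw [T.step e_xc, hb, hc, ← Perm.mul_apply, ← pow_succ']
  have hper_c : ((T.r * σ) ^ (T.L a - 1)) c = c := by
    have := per_comp gc gxc
    rwa [show 1 + (T.L a - 2) = T.L a - 1 by omega] at this
  refine T.sol_mk (T.inv_piece a) ({a, b, c, T.x a, T.x b, T.x c} : Finset α) ?_ e_other ?_ ?_ ?_ ?_
  · intro w hw
    simp only [Finset.mem_insert, Finset.mem_singleton] at hw
    rcases hw with rfl | rfl | rfl | rfl | rfl | rfl
    · exact T.self_mem_piece _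
    · rw [hb]; exact (T.mem_piece_pow a 1).1
    · rw [hc]; exact (T.mem_piece_pow a 2).1
    · exact (T.inv_piece a _ (T.self_mem_piece a)).1
    · rw [hb]; exact (T.mem_piece_pow a 1).2
    · rw [hc]; exact (T.mem_piece_pow a 2).2
  · have := T.inv_double (a := a) (b := T.x c) (c := b) xca.symm hab xcb (by rwa [T.xx])
    rwa [T.xx] at this
  · exact cube_mul hcm (cyc_cube xca.symm hab xcb) (cyc_cube xxab xac xbc)
  · intro s hs
    simp only [Finset.mem_insert, Finset.mem_singleton] at hs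
    rcases hs with rfl | rfl | rfl | rfl | rfl | rfl
    · exact ⟨_, ⟨k - 1, by omega⟩, hper_a⟩
    · exact ⟨1, odd_one, gb⟩
    · exact ⟨_, ⟨k - 1, by omega⟩, hper_c⟩
    · exact ⟨1, odd_one, gxa⟩
    · exact ⟨_, ⟨k - 1, by omega⟩, per_apply hper_a ga⟩
    · exact ⟨_, ⟨k - 1, by omega⟩, per_apply hper_c gc⟩
  · intro w hw
    exact Or.inr (T.cover_piece (by simp) (by simp) hw)

/-- A pair of cycles of length two. -/
def IsFour (a : α) : Prop := T.IsPair a ∧ T.L a = 2

theorem four_r {a : α} (h : T.IsFour a) : T.r (T.r a) = a := by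
  have := T.pow_L a
  rwa [h.2, pow_two, Perm.mul_apply] at this

theorem four_rx {a : α} (h : T.IsFour a) : T.r (T.x a) = T.x (T.r a) := by
  have := T.r_x_r (T.r a)
  rwa [T.four_r h] at this

theorem four_rxr {a : α} (h : T.IsFour a) : T.r (T.x (T.r a)) = T.x a := T.r_x_r a

theorem four_distinct {a : α} (h : T.IsFour a) :
    a ≠ T.r a ∧ a ≠ T.x a ∧ a ≠ T.x (T.r a) ∧ T.r a ≠ T.x a ∧ T.r a ≠ T.x (T.r a) ∧
      T.x a ≠ T.x (T.r a) := by
  have h1 : a ≠ T.r a := fun e => by
    have := T.pow_inj (a := a) (i := 0) (j := 1) (by rw [h.2]; omega) (by rw [h.2]; omega) (by simpa using e)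
    omega
  refine ⟨h1, ?_, ?_, ?_, ?_, T.x.injective.ne h1⟩
  · simpa using (T.pair_ne h.1 0 0).symm
  · simpa using (T.pair_ne h.1 1 0).symm
  · simpa using (T.pair_ne h.1 0 1).symm
  · simpa using (T.pair_ne h.1 1 1).symm

theorem four_mem {a : α} : a ∈ T.piece a ∧ T.r a ∈ T.piece a ∧ T.x a ∈ T.piece a ∧
    T.x (T.r a) ∈ T.piece a :=
  ⟨T.self_mem_piece a, (T.inv_piece a a (T.self_mem_piece a)).2,
    (T.inv_piece a a (T.self_mem_piece a)).1,
    (T.inv_piece a _ (T.inv_piece a a (T.self_mem_piece a)).2).1⟩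

theorem ne_of_piece {a u w : α} (hu : u ∈ T.piece a) (hw : w ∉ T.piece a) : u ≠ w :=
  fun e => hw (e ▸ hu)

theorem sol_four_pair_even {a c : α} (ha : T.IsFour a) (hc : T.IsPair c) (he : Even (T.L c))
    (hca : c ∉ T.piece a) : T.Sol (T.piece a ∪ T.piece c) := by
  obtain ⟨k, hk⟩ := he
  have hk1 : 1 ≤ k := by have := T.L_pos c; omega
  obtain ⟨hab, haxa, haxb, hbxa, hbxb, hxab⟩ := T.four_distinct ha
  obtain ⟨ma, mb, mxa, mxb⟩ := T.four_mem (a := a)
  obtain ⟨b, hb⟩ : ∃ b, b = T.r a := ⟨_, rfl⟩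
  rw [← hb] at hab haxb hbxa hbxb hxab mb mxb
  have hxc : T.x c ∉ T.piece a := T.notMem_of_same hca (T.inv_piece c _ (T.self_mem_piece c)).1
  have hne := fun {u w : α} (hu : u ∈ T.piece a) (hw : w ∉ T.piece a) => T.ne_of_piece hu hw
  have hcxc : c ≠ T.x c := by simpa using (T.pair_ne hc 0 0).symm
  set σ := cyc a (T.x c) b * cyc (T.x a) (T.x b) c with hσ
  have hcm : Commute (cyc a (T.x c) b) (cyc (T.x a) (T.x b) c) := commute_of_fix fun w => by
    by_cases h : w = a ∨ w = T.x c ∨ w = b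
    · right
      rcases h with rfl | rfl | rfl
      · exact cyc_other haxa haxb (hne ma hca)
      · exact cyc_other (hne mxa hxc).symm (hne mxb hxc).symm hcxc.symm
      · exact cyc_other hbxa hbxb (hne mb hca)
    · push Not at h
      exact Or.inl (cyc_other h.1 h.2.1 h.2.2)
  have e_a : σ a = T.x c := by
    rw [hσ, Perm.mul_apply, cyc_other haxa haxb (hne ma hca), cyc_fst (hne ma hxc) hab]
  have e_xc : σ (T.x c) = b := by
    rw [hσ, Perm.mul_apply, cyc_other (hne mxa hxc).symm (hne mxb hxc).symm hcxc.symm,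
      cyc_snd hab (hne mb hxc).symm]
  have e_b : σ b = a := by
    rw [hσ, Perm.mul_apply, cyc_other hbxa hbxb (hne mb hca), cyc_thd]
  have e_xa : σ (T.x a) = T.x b := by
    rw [hσ, Perm.mul_apply, cyc_fst hxab (hne mxa hca), cyc_other haxb.symm (hne mxb hxc) hbxb.symm]
  have e_xb : σ (T.x b) = c := by
    rw [hσ, Perm.mul_apply, cyc_snd (hne mxa hca) (hne mxb hca),
      cyc_other (hne ma hca).symm hcxc (hne mb hca).symm]
  have e_c : σ c = T.x a := by
    rw [hσ, Perm.mul_apply, cyc_thd, cyc_other haxa.symm (hne mxa hxc) hbxa.symm]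
  have e_other : ∀ w, w ∉ ({a, b, c, T.x a, T.x b, T.x c} : Finset α) → σ w = w := by
    intro w hw
    simp only [Finset.mem_insert, Finset.mem_singleton, not_or] at hw
    obtain ⟨h1, h2, h3, h4, h5, h6⟩ := hw
    rw [hσ, Perm.mul_apply, cyc_other h4 h5 h3, cyc_other h1 h6 h2]
  have fixD : ∀ j, 1 ≤ j → j < T.L c → σ ((T.r ^ j) c) = (T.r ^ j) c ∧
      σ (T.x ((T.r ^ j) c)) = T.x ((T.r ^ j) c) := by
    intro j hj hjL
    have n0 : (T.r ^ j) c ≠ c := fun e => by
      have := T.pow_inj (i := j) (j := 0) hjL (by omega) (by simpa using e)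
      omega
    have p1 : (T.r ^ j) c ∉ T.piece a := T.notMem_of_same hca (T.mem_piece_pow c j).1
    have p2 : T.x ((T.r ^ j) c) ∉ T.piece a := T.notMem_of_same hca (T.mem_piece_pow c j).2
    constructor <;> refine e_other _ ?_ <;>
      simp only [Finset.mem_insert, Finset.mem_singleton, not_or]
    · exact ⟨(hne ma p1).symm, (hne mb p1).symm, n0, (hne mxa p1).symm, (hne mxb p1).symm,
        by simpa using (T.pair_ne hc 0 j).symm⟩
    · exact ⟨(hne ma p2).symm, (hne mb p2).symm, by simpa using T.pair_ne hc j 0,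
        (hne mxa p2).symm, (hne mxb p2).symm, T.x.injective.ne n0⟩
  have g1 : ((T.r * σ) ^ T.L c) a = T.x c := by
    rw [T.chain _ (T.L_pos c) e_a (fun i h1 h2 => by
      rw [T.pow_x_sub (by omega)]; exact (fixD _ (by omega) (by omega)).2)]
    rw [T.pow_x_sub le_rfl, Nat.sub_self, pow_zero, Perm.one_apply]
  have g2 : ((T.r * σ) ^ 1) (T.x c) = a := by rw [T.step e_xc, hb, T.four_r ha]
  have gb : ((T.r * σ) ^ 1) b = b := by rw [T.step e_b, hb]
  have gxa : ((T.r * σ) ^ 1) (T.x a) = T.x a := by rw [T.step e_xa, hb, T.four_rxr ha]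
  have g3 : ((T.r * σ) ^ T.L c) (T.x b) = c := by
    rw [T.chain _ (T.L_pos c) e_xb (fun i h1 h2 => (fixD i h1 h2).1), T.pow_L]
  have g4 : ((T.r * σ) ^ 1) c = T.x b := by rw [T.step e_c, T.four_rx ha, hb]
  have hodd : Odd (1 + T.L c) := ⟨k, by omega⟩
  have pa := per_comp g1 g2
  have pb := per_comp g3 g4
  refine T.sol_mk ((T.inv_piece a).union (T.inv_piece c))
    ({a, b, c, T.x a, T.x b, T.x c} : Finset α) ?_ e_other ?_ ?_ ?_ ?_
  · intro w hw
    simp only [Finset.mem_insert, Finset.mem_singleton] at hw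
    rw [Finset.mem_union]
    rcases hw with rfl | rfl | rfl | rfl | rfl | rfl
    · exact Or.inl ma
    · exact Or.inl mb
    · exact Or.inr (T.self_mem_piece _)
    · exact Or.inl mxa
    · exact Or.inl mxb
    · exact Or.inr (T.inv_piece c _ (T.self_mem_piece c)).1
  · have := T.inv_double (a := a) (b := T.x c) (c := b) (hne ma hxc) hab (hne mb hxc).symm
      (by rwa [T.xx])
    rwa [T.xx] at this
  · exact cube_mul hcm (cyc_cube (hne ma hxc) hab (hne mb hxc).symm)
      (cyc_cube hxab (hne mxa hca) (hne mxb hca))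
  · intro s hs
    simp only [Finset.mem_insert, Finset.mem_singleton] at hs
    rcases hs with rfl | rfl | rfl | rfl | rfl | rfl
    · exact ⟨_, hodd, pa⟩
    · exact ⟨1, odd_one, gb⟩
    · exact ⟨_, hodd, per_apply pb g3⟩
    · exact ⟨1, odd_one, gxa⟩
    · exact ⟨_, hodd, pb⟩
    · exact ⟨_, hodd, per_apply pa g1⟩
  · intro w hw
    rcases Finset.mem_union.1 hw with h | h
    · exact Or.inr (T.cover_piece (by simp) (by simp) h)
    · exact Or.inr (T.cover_piece (by simp) (by simp) h)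

theorem sol_four_pair_odd {a c : α} (ha : T.IsFour a) (hc : T.IsPair c) (ho : Odd (T.L c))
    (hca : c ∉ T.piece a) : T.Sol (T.piece a ∪ T.piece c) := by
  obtain ⟨k, hk⟩ := ho
  obtain ⟨hab, haxa, haxb, hbxa, hbxb, hxab⟩ := T.four_distinct ha
  obtain ⟨ma, mb, mxa, mxb⟩ := T.four_mem (a := a)
  obtain ⟨b, hb⟩ : ∃ b, b = T.r a := ⟨_, rfl⟩
  rw [← hb] at hab haxb hbxa hbxb hxab mb mxb
  have hxc : T.x c ∉ T.piece a := T.notMem_of_same hca (T.inv_piece c _ (T.self_mem_piece c)).1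
  have hne := fun {u w : α} (hu : u ∈ T.piece a) (hw : w ∉ T.piece a) => T.ne_of_piece hu hw
  have hcxc : c ≠ T.x c := by simpa using (T.pair_ne hc 0 0).symm
  set σ := cyc a c (T.x b) * cyc (T.x a) b (T.x c) with hσ
  have hcm : Commute (cyc a c (T.x b)) (cyc (T.x a) b (T.x c)) := commute_of_fix fun w => by
    by_cases h : w = a ∨ w = c ∨ w = T.x b
    · right
      rcases h with rfl | rfl | rfl
      · exact cyc_other haxa hab (hne ma hxc)
      · exact cyc_other (hne mxa hca).symm (hne mb hca).symm hcxc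
      · exact cyc_other hxab.symm hbxb.symm (hne mxb hxc)
    · push Not at h
      exact Or.inl (cyc_other h.1 h.2.1 h.2.2)
  have e_a : σ a = c := by
    rw [hσ, Perm.mul_apply, cyc_other haxa hab (hne ma hxc), cyc_fst (hne ma hca) haxb]
  have e_c : σ c = T.x b := by
    rw [hσ, Perm.mul_apply, cyc_other (hne mxa hca).symm (hne mb hca).symm hcxc,
      cyc_snd haxb (hne mxb hca).symm]
  have e_xb : σ (T.x b) = a := by
    rw [hσ, Perm.mul_apply, cyc_other hxab.symm hbxb.symm (hne mxb hxc), cyc_thd]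
  have e_xa : σ (T.x a) = b := by
    rw [hσ, Perm.mul_apply, cyc_fst hbxa.symm (hne mxa hxc), cyc_other hab.symm (hne mb hca) hbxb]
  have e_b : σ b = T.x c := by
    rw [hσ, Perm.mul_apply, cyc_snd (hne mxa hxc) (hne mb hxc),
      cyc_other (hne ma hxc).symm hcxc.symm (hne mxb hxc).symm]
  have e_xc : σ (T.x c) = T.x a := by
    rw [hσ, Perm.mul_apply, cyc_thd, cyc_other haxa.symm (hne mxa hca) hxab]
  have e_other : ∀ w, w ∉ ({a, b, c, T.x a, T.x b, T.x c} : Finset α) → σ w = w := by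
    intro w hw
    simp only [Finset.mem_insert, Finset.mem_singleton, not_or] at hw
    obtain ⟨h1, h2, h3, h4, h5, h6⟩ := hw
    rw [hσ, Perm.mul_apply, cyc_other h4 h2 h6, cyc_other h1 h3 h5]
  have fixD : ∀ j, 1 ≤ j → j < T.L c → σ ((T.r ^ j) c) = (T.r ^ j) c ∧
      σ (T.x ((T.r ^ j) c)) = T.x ((T.r ^ j) c) := by
    intro j hj hjL
    have n0 : (T.r ^ j) c ≠ c := fun e => by
      have := T.pow_inj (i := j) (j := 0) hjL (by omega) (by simpa using e)
      omega
    have p1 : (T.r ^ j) c ∉ T.piece a := T.notMem_of_same hca (T.mem_piece_pow c j).1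
    have p2 : T.x ((T.r ^ j) c) ∉ T.piece a := T.notMem_of_same hca (T.mem_piece_pow c j).2
    constructor <;> refine e_other _ ?_ <;>
      simp only [Finset.mem_insert, Finset.mem_singleton, not_or]
    · exact ⟨(hne ma p1).symm, (hne mb p1).symm, n0, (hne mxa p1).symm, (hne mxb p1).symm,
        by simpa using (T.pair_ne hc 0 j).symm⟩
    · exact ⟨(hne ma p2).symm, (hne mb p2).symm, by simpa using T.pair_ne hc j 0,
        (hne mxa p2).symm, (hne mxb p2).symm, T.x.injective.ne n0⟩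
  have g1 : ((T.r * σ) ^ T.L c) a = c := by
    rw [T.chain _ (T.L_pos c) e_a (fun i h1 h2 => (fixD i h1 h2).1), T.pow_L]
  have g2 : ((T.r * σ) ^ 1) c = T.x a := by rw [T.step e_c, hb, T.four_rxr ha]
  have g3 : ((T.r * σ) ^ 1) (T.x a) = a := by rw [T.step e_xa, hb, T.four_r ha]
  have g4 : ((T.r * σ) ^ 1) (T.x b) = b := by rw [T.step e_xb, hb]
  have g5 : ((T.r * σ) ^ T.L c) b = T.x c := by
    rw [T.chain _ (T.L_pos c) e_b (fun i h1 h2 => by
      rw [T.pow_x_sub (by omega)]; exact (fixD _ (by omega) (by omega)).2)]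
    rw [T.pow_x_sub le_rfl, Nat.sub_self, pow_zero, Perm.one_apply]
  have g6 : ((T.r * σ) ^ 1) (T.x c) = T.x b := by rw [T.step e_xc, T.four_rx ha, hb]
  have hodd : Odd (1 + (1 + T.L c)) := ⟨k + 1, by omega⟩
  have hodd' : Odd (1 + (T.L c + 1)) := ⟨k + 1, by omega⟩
  have pa := per_comp (per_comp g1 g2) g3
  have pb := per_comp (per_comp g4 g5) g6
  refine T.sol_mk ((T.inv_piece a).union (T.inv_piece c))
    ({a, b, c, T.x a, T.x b, T.x c} : Finset α) ?_ e_other ?_ ?_ ?_ ?_
  · intro w hw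
    simp only [Finset.mem_insert, Finset.mem_singleton] at hw
    rw [Finset.mem_union]
    rcases hw with rfl | rfl | rfl | rfl | rfl | rfl
    · exact Or.inl ma
    · exact Or.inl mb
    · exact Or.inr (T.self_mem_piece _)
    · exact Or.inl mxa
    · exact Or.inl mxb
    · exact Or.inr (T.inv_piece c _ (T.self_mem_piece c)).1
  · have := T.inv_double (a := a) (b := c) (c := T.x b) (hne ma hca) haxb (hne mxb hca).symm
      (by rwa [T.xx])
    rwa [T.xx] at this
  · exact cube_mul hcm (cyc_cube (hne ma hca) haxb (hne mxb hca).symm)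
      (cyc_cube hbxa.symm (hne mxa hxc) (hne mb hxc))
  · intro s hs
    simp only [Finset.mem_insert, Finset.mem_singleton] at hs
    rcases hs with rfl | rfl | rfl | rfl | rfl | rfl
    · exact ⟨_, hodd, pa⟩
    · exact ⟨_, hodd', per_apply pb g4⟩
    · exact ⟨_, hodd, per_apply pa g1⟩
    · exact ⟨_, hodd, per_apply pa (per_comp g1 g2)⟩
    · exact ⟨_, hodd', pb⟩
    · exact ⟨_, hodd', per_apply pb (per_comp g4 g5)⟩
  · intro w hw
    rcases Finset.mem_union.1 hw with h | h
    · exact Or.inr (T.cover_piece (by simp) (by simp) h)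
    · exact Or.inr (T.cover_piece (by simp) (by simp) h)

theorem sol_four_fixed {a q : α} (ha : T.IsFour a) (hq : T.x q = q) (ho : Odd (T.L q))
    (hqa : q ∉ T.piece a) : T.Sol (T.piece a ∪ T.piece q) := by
  obtain ⟨k, hk⟩ := ho
  obtain ⟨hab, haxa, haxb, hbxa, hbxb, hxab⟩ := T.four_distinct ha
  obtain ⟨ma, mb, mxa, mxb⟩ := T.four_mem (a := a)
  have hne := fun {u w : α} (hu : u ∈ T.piece a) (hw : w ∉ T.piece a) => T.ne_of_piece hu hw
  set σ := cyc a (T.x a) q with hσ
  have e_other : ∀ w, w ∉ ({a, T.x a, q} : Finset α) → σ w = w := by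
    intro w hw
    simp only [Finset.mem_insert, Finset.mem_singleton, not_or] at hw
    exact cyc_other hw.1 hw.2.1 hw.2.2
  have e_a : σ a = T.x a := cyc_fst haxa (hne ma hqa)
  have e_xa : σ (T.x a) = q := cyc_snd (hne ma hqa) (hne mxa hqa)
  have e_q : σ q = a := cyc_thd
  have g1 : ((T.r * σ) ^ 2) a = T.x a := by
    rw [T.chain 2 (by norm_num) e_a (fun i h1 h2 => ?_)]
    · rw [pow_two, Perm.mul_apply, T.four_rx ha, T.four_rxr ha]
    · obtain rfl : i = 1 := by omega
      rw [pow_one, T.four_rx ha]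
      exact cyc_other haxb.symm hxab.symm (hne mxb hqa)
  have g2 : ((T.r * σ) ^ T.L q) (T.x a) = q := by
    rw [T.chain _ (T.L_pos q) e_xa (fun i h1 h2 => ?_), T.pow_L]
    have p1 : (T.r ^ i) q ∉ T.piece a := T.notMem_of_same hqa (T.mem_piece_pow q i).1
    refine cyc_other (hne ma p1).symm (hne mxa p1).symm fun e => ?_
    have := T.pow_inj (i := i) (j := 0) h2 (by omega) (by simpa using e)
    omega
  have g3 : ((T.r * σ) ^ 2) q = a := by
    rw [T.chain 2 (by norm_num) e_q (fun i h1 h2 => ?_)]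
    · rw [pow_two, Perm.mul_apply, T.four_r ha]
    · obtain rfl : i = 1 := by omega
      rw [pow_one]
      exact cyc_other hab.symm hbxa (hne mb hqa)
  have pa := per_comp (per_comp g1 g2) g3
  have hodd : Odd (2 + (T.L q + 2)) := ⟨k + 2, by omega⟩
  refine T.sol_mk ((T.inv_piece a).union (T.inv_piece q)) ({a, T.x a, q} : Finset α) ?_ e_other
    (T.inv_single haxa hq (hne ma hqa)) (cyc_cube haxa (hne ma hqa) (hne mxa hqa)) ?_ ?_
  · intro w hw
    simp only [Finset.mem_insert, Finset.mem_singleton] at hw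
    rw [Finset.mem_union]
    rcases hw with rfl | rfl | rfl
    · exact Or.inl ma
    · exact Or.inl mxa
    · exact Or.inr (T.self_mem_piece _)
  · intro s hs
    simp only [Finset.mem_insert, Finset.mem_singleton] at hs
    rcases hs with rfl | rfl | rfl
    · exact ⟨_, hodd, pa⟩
    · exact ⟨_, hodd, per_apply pa g1⟩
    · exact ⟨_, hodd, per_apply pa (per_comp g1 g2)⟩
  · intro w hw
    rcases Finset.mem_union.1 hw with h | h
    · exact Or.inr (T.cover_piece (by simp) (by simp) h)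
    · exact Or.inr (T.cover_piece (by simp) (by rw [hq]; simp) h)

theorem xp_of_fix {p : α} (hp : T.y p = p) : T.x p = (T.r ^ (T.L p - 1)) p := by
  apply T.r.injective
  rw [← T.y_eq, hp, ← Perm.mul_apply, ← pow_succ', Nat.sub_add_cancel (T.L_pos p), T.pow_L]

theorem pq_facts {p q : α} (hp : T.y p = p) (hpe : Even (T.L p)) (hq : T.x q = q) :
    p ≠ T.x p ∧ q ∉ T.piece p := by
  obtain ⟨k, hk⟩ := hpe
  have hpos := T.L_pos p
  constructor
  · intro e
    rw [T.xp_of_fix hp] at e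
    have := T.pow_inj (i := 0) (j := T.L p - 1) hpos (by omega) (by simpa using e)
    omega
  · intro h
    have h1 : T.Same p q := by
      rcases T.mem_piece.1 h with h | h
      · exact h
      · exact Perm.SameCycle.trans (T.xp_of_fix hp ▸ T.same_pow p _) h
    obtain ⟨i, -, rfl⟩ := T.exists_lt h1
    have h2 : (T.r ^ (i + i)) p = (T.r ^ (T.L p - 1)) p := by
      rw [← T.xp_of_fix hp, pow_add, Perm.mul_apply]
      conv_lhs => rw [← hq]
      exact T.pow_x i p
    have h3 := T.pow_eq_mod h2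
    rw [Nat.mod_eq_of_lt (show T.L p - 1 < T.L p by omega), ← two_mul] at h3
    have h4 := Nat.div_add_mod (2 * i) (T.L p)
    rw [h3, hk, ← two_mul] at h4
    have h5 : 2 * (k * (2 * i / (2 * k))) = 2 * k * (2 * i / (2 * k)) := by ring
    omega

theorem sol_pq {p q : α} (hp : T.y p = p) (hpe : Even (T.L p)) (hq : T.x q = q)
    (hqe : Even (T.L q)) : T.Sol (T.piece p ∪ T.piece q) := by
  obtain ⟨hpx, hqp⟩ := T.pq_facts hp hpe hq
  obtain ⟨k, hk⟩ := hpe
  obtain ⟨l, hl⟩ := hqe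
  have hpos := T.L_pos p
  have mp := T.self_mem_piece p
  have mxp := (T.inv_piece p p mp).1
  have hne := fun {u w : α} (hu : u ∈ T.piece p) (hw : w ∉ T.piece p) => T.ne_of_piece hu hw
  set σ := cyc p (T.x p) q with hσ
  have e_other : ∀ w, w ∉ ({p, T.x p, q} : Finset α) → σ w = w := by
    intro w hw
    simp only [Finset.mem_insert, Finset.mem_singleton, not_or] at hw
    exact cyc_other hw.1 hw.2.1 hw.2.2
  have g0 : ((T.r * σ) ^ 1) p = p := by rw [T.step (cyc_fst hpx (hne mp hqp)), ← T.y_eq, hp]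
  have g1 : ((T.r * σ) ^ T.L q) (T.x p) = q := by
    rw [T.chain _ (T.L_pos q) (cyc_snd (hne mp hqp) (hne mxp hqp)) (fun i h1 h2 => ?_), T.pow_L]
    have p1 : (T.r ^ i) q ∉ T.piece p := T.notMem_of_same hqp (T.mem_piece_pow q i).1
    refine cyc_other (hne mp p1).symm (hne mxp p1).symm fun e => ?_
    have := T.pow_inj (i := i) (j := 0) h2 (by omega) (by simpa using e)
    omega
  have g2 : ((T.r * σ) ^ (T.L p - 1)) q = T.x p := by
    rw [T.chain _ (by omega) cyc_thd (fun i h1 h2 => ?_), T.xp_of_fix hp]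
    refine cyc_other (fun e => ?_) (fun e => ?_) (hne (T.mem_piece_pow p i).1 hqp)
    · have := T.pow_inj (a := p) (i := i) (j := 0) (by omega) (by omega) (by simpa using e)
      omega
    · rw [T.xp_of_fix hp] at e
      have := T.pow_inj (i := i) (j := T.L p - 1) (by omega) (by omega) e
      omega
  have pxp := per_comp g1 g2
  have hodd : Odd (T.L p - 1 + T.L q) := ⟨k + l - 1, by omega⟩
  refine T.sol_mk ((T.inv_piece p).union (T.inv_piece q)) ({p, T.x p, q} : Finset α) ?_ e_other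
    (T.inv_single hpx hq (hne mp hqp)) (cyc_cube hpx (hne mp hqp) (hne mxp hqp)) ?_ ?_
  · intro w hw
    simp only [Finset.mem_insert, Finset.mem_singleton] at hw
    rw [Finset.mem_union]
    rcases hw with rfl | rfl | rfl
    · exact Or.inl mp
    · exact Or.inl mxp
    · exact Or.inr (T.self_mem_piece _)
  · intro s hs
    simp only [Finset.mem_insert, Finset.mem_singleton] at hs
    rcases hs with rfl | rfl | rfl
    · exact ⟨1, odd_one, g0⟩
    · exact ⟨_, hodd, pxp⟩
    · exact ⟨_, hodd, per_apply pxp g1⟩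
  · intro w hw
    rcases Finset.mem_union.1 hw with h | h
    · exact Or.inr (T.cover_piece (by simp) (by simp) h)
    · exact Or.inr (T.cover_piece (by simp) (by rw [hq]; simp) h)

theorem sol_four_pq {a p q : α} (ha : T.IsFour a) (hp : T.y p = p) (hpe : Even (T.L p))
    (hq : T.x q = q) (hqe : Even (T.L q)) (hpa : p ∉ T.piece a) (hqa : q ∉ T.piece a) :
    T.Sol (T.piece a ∪ (T.piece p ∪ T.piece q)) := by
  obtain ⟨hpx, hqp⟩ := T.pq_facts hp hpe hq
  obtain ⟨k, hk⟩ := hpe
  obtain ⟨l, hl⟩ := hqe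
  have hpos := T.L_pos p
  have hqpos := T.L_pos q
  obtain ⟨hab, haxa, haxb, hbxa, hbxb, hxab⟩ := T.four_distinct ha
  obtain ⟨ma, mb, mxa, mxb⟩ := T.four_mem (a := a)
  obtain ⟨q', hq'⟩ : ∃ q', q' = (T.r ^ l) q := ⟨_, rfl⟩
  have hxq' : T.x q' = q' := by
    rw [hq', T.x_pow, hq, Perm.inv_def, Equiv.symm_apply_eq, ← Perm.mul_apply, ← pow_add,
      ← hl, T.pow_L]
  have hqq' : q ≠ q' := fun e => by
    rw [hq'] at e
    have := T.pow_inj (i := 0) (j := l) hqpos (by omega) (by simpa using e)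
    omega
  have mxp := (T.inv_piece p p (T.self_mem_piece p)).1
  have hxpa : T.x p ∉ T.piece a := T.notMem_of_same hpa mxp
  have hq'a : q' ∉ T.piece a := T.notMem_of_same hqa (hq' ▸ (T.mem_piece_pow q l).1)
  have hq'p : q' ∉ T.piece p := T.notMem_of_same hqp (hq' ▸ (T.mem_piece_pow q l).1)
  have hne := fun {u w : α} (hu : u ∈ T.piece a) (hw : w ∉ T.piece a) => T.ne_of_piece hu hw
  have hnp := fun {u w : α} (hu : u ∈ T.piece p) (hw : w ∉ T.piece p) => T.ne_of_piece hu hw
  have mp := T.self_mem_piece p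
  set σ := cyc a (T.x a) q * cyc p (T.x p) q' with hσ
  have hcm : Commute (cyc a (T.x a) q) (cyc p (T.x p) q') := commute_of_fix fun w => by
    by_cases h : w = a ∨ w = T.x a ∨ w = q
    · right
      rcases h with rfl | rfl | rfl
      · exact cyc_other (hne ma hpa) (hne ma hxpa) (hne ma hq'a)
      · exact cyc_other (hne mxa hpa) (hne mxa hxpa) (hne mxa hq'a)
      · exact cyc_other (hnp mp hqp).symm (hnp mxp hqp).symm hqq'
    · push Not at h
      exact Or.inl (cyc_other h.1 h.2.1 h.2.2)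
  have e_other : ∀ w, w ∉ ({a, T.x a, q, p, T.x p, q'} : Finset α) → σ w = w := by
    intro w hw
    simp only [Finset.mem_insert, Finset.mem_singleton, not_or] at hw
    obtain ⟨h1, h2, h3, h4, h5, h6⟩ := hw
    rw [hσ, Perm.mul_apply, cyc_other h4 h5 h6, cyc_other h1 h2 h3]
  have e_a : σ a = T.x a := by
    rw [hσ, Perm.mul_apply, cyc_other (hne ma hpa) (hne ma hxpa) (hne ma hq'a),
      cyc_fst haxa (hne ma hqa)]
  have e_xa : σ (T.x a) = q := by
    rw [hσ, Perm.mul_apply, cyc_other (hne mxa hpa) (hne mxa hxpa) (hne mxa hq'a),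
      cyc_snd (hne ma hqa) (hne mxa hqa)]
  have e_q : σ q = a := by
    rw [hσ, Perm.mul_apply, cyc_other (hnp mp hqp).symm (hnp mxp hqp).symm hqq', cyc_thd]
  have e_p : σ p = T.x p := by
    rw [hσ, Perm.mul_apply, cyc_fst hpx (hnp mp hq'p),
      cyc_other (hne ma hxpa).symm (hne mxa hxpa).symm (hnp mxp hqp)]
  have e_xp : σ (T.x p) = q' := by
    rw [hσ, Perm.mul_apply, cyc_snd (hnp mp hq'p) (hnp mxp hq'p),
      cyc_other (hne ma hq'a).symm (hne mxa hq'a).symm hqq'.symm]
  have e_q' : σ q' = p := by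
    rw [hσ, Perm.mul_apply, cyc_thd,
      cyc_other (hne ma hpa).symm (hne mxa hpa).symm (hnp mp hqp)]
  have fixQ : ∀ i, i < T.L q → i ≠ 0 → i ≠ l → σ ((T.r ^ i) q) = (T.r ^ i) q := by
    intro i hi h0 hil
    have p1 : (T.r ^ i) q ∉ T.piece a := T.notMem_of_same hqa (T.mem_piece_pow q i).1
    have p2 : (T.r ^ i) q ∉ T.piece p := T.notMem_of_same hqp (T.mem_piece_pow q i).1
    refine e_other _ ?_
    simp only [Finset.mem_insert, Finset.mem_singleton, not_or]
    refine ⟨(hne ma p1).symm, (hne mxa p1).symm, fun e => ?_, (hnp mp p2).symm,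
      (hnp mxp p2).symm, fun e => ?_⟩
    · exact h0 (T.pow_inj hi hqpos (by simpa using e))
    · exact hil (T.pow_inj hi (by omega) (hq' ▸ e))
  have g1 : ((T.r * σ) ^ 2) a = T.x a := by
    rw [T.chain 2 (by norm_num) e_a (fun i h1 h2 => ?_)]
    · rw [pow_two, Perm.mul_apply, T.four_rx ha, T.four_rxr ha]
    · obtain rfl : i = 1 := by omega
      rw [pow_one, T.four_rx ha]
      refine e_other _ ?_
      simp only [Finset.mem_insert, Finset.mem_singleton, not_or]
      exact ⟨haxb.symm, hxab.symm, hne mxb hqa, hne mxb hpa, hne mxb hxpa, hne mxb hq'a⟩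
  have g2 : ((T.r * σ) ^ l) (T.x a) = q' := by
    rw [T.chain _ (by omega) e_xa (fun i h1 h2 => fixQ i (by omega) (by omega) (by omega)), hq']
  have g3 : ((T.r * σ) ^ (T.L p - 1)) q' = T.x p := by
    rw [T.chain _ (by omega) e_q' (fun i h1 h2 => ?_), T.xp_of_fix hp]
    have p1 : (T.r ^ i) p ∉ T.piece a := T.notMem_of_same hpa (T.mem_piece_pow p i).1
    refine e_other _ ?_
    simp only [Finset.mem_insert, Finset.mem_singleton, not_or]
    refine ⟨(hne ma p1).symm, (hne mxa p1).symm, hnp (T.mem_piece_pow p i).1 hqp, fun e => ?_,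
      fun e => ?_, hnp (T.mem_piece_pow p i).1 hq'p⟩
    · have := T.pow_inj (a := p) (i := i) (j := 0) (by omega) (by omega) (by simpa using e)
      omega
    · rw [T.xp_of_fix hp] at e
      have := T.pow_inj (i := i) (j := T.L p - 1) (by omega) (by omega) e
      omega
  have g4 : ((T.r * σ) ^ l) (T.x p) = q := by
    rw [T.chain _ (by omega) e_xp (fun i h1 h2 => ?_)]
    · rw [hq', ← Perm.mul_apply (T.r ^ _) (T.r ^ l), ← pow_add, ← hl, T.pow_L]
    · rw [hq', ← Perm.mul_apply (T.r ^ _) (T.r ^ l), ← pow_add]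
      exact fixQ _ (by omega) (by omega) (by omega)
  have g5 : ((T.r * σ) ^ 2) q = a := by
    rw [T.chain 2 (by norm_num) e_q (fun i h1 h2 => ?_)]
    · rw [pow_two, Perm.mul_apply, T.four_r ha]
    · obtain rfl : i = 1 := by omega
      rw [pow_one]
      refine e_other _ ?_
      simp only [Finset.mem_insert, Finset.mem_singleton, not_or]
      exact ⟨hab.symm, hbxa, hne mb hqa, hne mb hpa, hne mb hxpa, hne mb hq'a⟩
  have gp : ((T.r * σ) ^ 1) p = p := by rw [T.step e_p, ← T.y_eq, hp]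
  have pa := per_comp (per_comp (per_comp (per_comp g1 g2) g3) g4) g5
  have hodd : Odd (2 + (l + (T.L p - 1 + (l + 2)))) := ⟨k + l + 1, by omega⟩
  refine T.sol_mk ((T.inv_piece a).union ((T.inv_piece p).union (T.inv_piece q)))
    ({a, T.x a, q, p, T.x p, q'} : Finset α) ?_ e_other ?_ ?_ ?_ ?_
  · intro w hw
    simp only [Finset.mem_insert, Finset.mem_singleton] at hw
    simp only [Finset.mem_union]
    rcases hw with rfl | rfl | rfl | rfl | rfl | rfl
    · exact Or.inl ma
    · exact Or.inl mxa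
    · exact Or.inr (Or.inr (T.self_mem_piece _))
    · exact Or.inr (Or.inl mp)
    · exact Or.inr (Or.inl mxp)
    · exact Or.inr (Or.inr (hq' ▸ (T.mem_piece_pow q l).1))
  · calc T.x * σ * T.x = (T.x * cyc a (T.x a) q * T.x) * (T.x * cyc p (T.x p) q' * T.x) := by
          rw [hσ]; simp only [mul_assoc]; rw [← mul_assoc T.x T.x, T.hx, one_mul]
      _ = (cyc a (T.x a) q)⁻¹ * (cyc p (T.x p) q')⁻¹ := by
          rw [T.inv_single haxa hq (hne ma hqa), T.inv_single hpx hxq' (hnp mp hq'p)]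
      _ = σ⁻¹ := by rw [hσ, mul_inv_rev, hcm.inv_inv.eq]
  · exact cube_mul hcm (cyc_cube haxa (hne ma hqa) (hne mxa hqa))
      (cyc_cube hpx (hnp mp hq'p) (hnp mxp hq'p))
  · intro s hs
    simp only [Finset.mem_insert, Finset.mem_singleton] at hs
    rcases hs with rfl | rfl | rfl | rfl | rfl | rfl
    · exact ⟨_, hodd, pa⟩
    · exact ⟨_, hodd, per_apply pa g1⟩
    · exact ⟨_, hodd, per_apply pa (per_comp (per_comp (per_comp g1 g2) g3) g4)⟩
    · exact ⟨1, odd_one, gp⟩
    · exact ⟨_, hodd, per_apply pa (per_comp (per_comp g1 g2) g3)⟩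
    · exact ⟨_, hodd, per_apply pa (per_comp g1 g2)⟩
  · intro w hw
    simp only [Finset.mem_union] at hw
    rcases hw with h | h | h
    · exact Or.inr (T.cover_piece (by simp) (by simp) h)
    · exact Or.inr (T.cover_piece (by simp) (by simp) h)
    · exact Or.inr (T.cover_piece (by simp) (by rw [hq]; simp) h)

set_option maxHeartbeats 1600000 in
theorem sol_four_three {a c e : α} (ha : T.IsFour a) (hc : T.IsFour c) (he : T.IsFour e)
    (hca : c ∉ T.piece a) (hea : e ∉ T.piece a) (hec : e ∉ T.piece c) :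
    T.Sol (T.piece a ∪ (T.piece c ∪ T.piece e)) := by
  obtain ⟨hab, haxa, haxb, hbxa, hbxb, hxab⟩ := T.four_distinct ha
  obtain ⟨hcd, hcxc, hcxd, hdxc, hdxd, hxcd⟩ := T.four_distinct hc
  obtain ⟨hef, hexe, hexf, hfxe, hfxf, hxef⟩ := T.four_distinct he
  obtain ⟨ma, mb, mxa, mxb⟩ := T.four_mem (a := a)
  obtain ⟨mc, md, mxc, mxd⟩ := T.four_mem (a := c)
  obtain ⟨me, mf, mxe, mxf⟩ := T.four_mem (a := e)
  have n1 : ∀ u ∈ T.piece a, ∀ w ∈ T.piece c, u ≠ w := fun u hu w hw =>
    T.ne_of_piece hu (T.notMem_of_same hca hw)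
  have n2 : ∀ u ∈ T.piece a, ∀ w ∈ T.piece e, u ≠ w := fun u hu w hw =>
    T.ne_of_piece hu (T.notMem_of_same hea hw)
  have n3 : ∀ u ∈ T.piece c, ∀ w ∈ T.piece e, u ≠ w := fun u hu w hw =>
    T.ne_of_piece hu (T.notMem_of_same hec hw)
  obtain ⟨b, hb⟩ : ∃ b, b = T.r a := ⟨_, rfl⟩
  obtain ⟨d, hd⟩ : ∃ d, d = T.r c := ⟨_, rfl⟩
  obtain ⟨f, hf⟩ : ∃ f, f = T.r e := ⟨_, rfl⟩
  rw [← hb] at hab haxb hbxa hbxb hxab mb mxb
  rw [← hd] at hcd hcxd hdxc hdxd hxcd md mxd
  rw [← hf] at hef hexf hfxe hfxf hxef mf mxf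
  obtain ⟨τ, hτ⟩ : ∃ τ, τ = cyc a c (T.x b) * cyc (T.x a) b (T.x c) := ⟨_, rfl⟩
  obtain ⟨ρ, hρ⟩ : ∃ ρ, ρ = cyc e (T.x d) f * cyc (T.x e) (T.x f) d := ⟨_, rfl⟩
  have t_other : ∀ w, w ∉ ({a, b, c, T.x a, T.x b, T.x c} : Finset α) → τ w = w := by
    intro w hw
    simp only [Finset.mem_insert, Finset.mem_singleton, not_or] at hw
    obtain ⟨h1, h2, h3, h4, h5, h6⟩ := hw
    rw [hτ, Perm.mul_apply, cyc_other h4 h2 h6, cyc_other h1 h3 h5]
  have r_other : ∀ w, w ∉ ({e, f, d, T.x e, T.x f, T.x d} : Finset α) → ρ w = w := by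
    intro w hw
    simp only [Finset.mem_insert, Finset.mem_singleton, not_or] at hw
    obtain ⟨h1, h2, h3, h4, h5, h6⟩ := hw
    rw [hρ, Perm.mul_apply, cyc_other h4 h5 h3, cyc_other h1 h6 h2]
  have t_fix : ∀ w ∈ ({e, f, d, T.x e, T.x f, T.x d} : Finset α), τ w = w := by
    intro w hw
    refine t_other w ?_
    simp only [Finset.mem_insert, Finset.mem_singleton] at hw
    simp only [Finset.mem_insert, Finset.mem_singleton, not_or]
    rcases hw with h | h | h | h | h | h <;> subst h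
    · exact ⟨(n2 _ ma _ me).symm, (n2 _ mb _ me).symm, (n3 _ mc _ me).symm, (n2 _ mxa _ me).symm,
        (n2 _ mxb _ me).symm, (n3 _ mxc _ me).symm⟩
    · exact ⟨(n2 _ ma _ mf).symm, (n2 _ mb _ mf).symm, (n3 _ mc _ mf).symm, (n2 _ mxa _ mf).symm,
        (n2 _ mxb _ mf).symm, (n3 _ mxc _ mf).symm⟩
    · exact ⟨(n1 _ ma _ md).symm, (n1 _ mb _ md).symm, hcd.symm, (n1 _ mxa _ md).symm,
        (n1 _ mxb _ md).symm, hdxc⟩
    · exact ⟨(n2 _ ma _ mxe).symm, (n2 _ mb _ mxe).symm, (n3 _ mc _ mxe).symm, (n2 _ mxa _ mxe).symm,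
        (n2 _ mxb _ mxe).symm, (n3 _ mxc _ mxe).symm⟩
    · exact ⟨(n2 _ ma _ mxf).symm, (n2 _ mb _ mxf).symm, (n3 _ mc _ mxf).symm, (n2 _ mxa _ mxf).symm,
        (n2 _ mxb _ mxf).symm, (n3 _ mxc _ mxf).symm⟩
    · exact ⟨(n1 _ ma _ mxd).symm, (n1 _ mb _ mxd).symm, hcxd.symm, (n1 _ mxa _ mxd).symm,
        (n1 _ mxb _ mxd).symm, hxcd.symm⟩
  have r_fix : ∀ w ∈ ({a, b, c, T.x a, T.x b, T.x c} : Finset α), ρ w = w := by
    intro w hw
    refine r_other w fun hw' => ?_
    simp only [Finset.mem_insert, Finset.mem_singleton] at hw'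
    have h1 : τ w = w := t_fix w (by simpa using hw')
    simp only [Finset.mem_insert, Finset.mem_singleton] at hw
    rw [hτ, Perm.mul_apply] at h1
    rcases hw with h | h | h | h | h | h <;> subst h
    · rw [cyc_other haxa hab (n1 _ ma _ mxc), cyc_fst (n1 _ ma _ mc) haxb] at h1
      exact n1 _ ma _ mc h1.symm
    · rw [cyc_snd (n1 _ mxa _ mxc) (n1 _ mb _ mxc),
        cyc_other (n1 _ ma _ mxc).symm hcxc.symm (n1 _ mxb _ mxc).symm] at h1
      exact n1 _ mb _ mxc h1.symm
    · rw [cyc_other (n1 _ mxa _ mc).symm (n1 _ mb _ mc).symm hcxc,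
        cyc_snd haxb (n1 _ mxb _ mc).symm] at h1
      exact n1 _ mxb _ mc h1
    · rw [cyc_fst hbxa.symm (n1 _ mxa _ mxc), cyc_other hab.symm (n1 _ mb _ mc) hbxb] at h1
      exact hbxa h1
    · rw [cyc_other hxab.symm hbxb.symm (n1 _ mxb _ mxc), cyc_thd] at h1
      exact haxb h1
    · rw [cyc_thd, cyc_other haxa.symm (n1 _ mxa _ mc) hxab] at h1
      exact n1 _ mxa _ mxc h1
  have hcm : Commute τ ρ := commute_of_fix fun w => by
    by_cases h : w ∈ ({a, b, c, T.x a, T.x b, T.x c} : Finset α)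
    · exact Or.inr (r_fix w h)
    · exact Or.inl (t_other w h)
  have ct : Commute (cyc a c (T.x b)) (cyc (T.x a) b (T.x c)) := commute_of_fix fun w => by
    by_cases h : w = a ∨ w = c ∨ w = T.x b
    · right
      rcases h with h | h | h <;> subst h
      · exact cyc_other haxa hab (n1 _ ma _ mxc)
      · exact cyc_other (n1 _ mxa _ mc).symm (n1 _ mb _ mc).symm hcxc
      · exact cyc_other hxab.symm hbxb.symm (n1 _ mxb _ mxc)
    · push Not at h
      exact Or.inl (cyc_other h.1 h.2.1 h.2.2)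
  have cr : Commute (cyc e (T.x d) f) (cyc (T.x e) (T.x f) d) := commute_of_fix fun w => by
    by_cases h : w = e ∨ w = T.x d ∨ w = f
    · right
      rcases h with h | h | h <;> subst h
      · exact cyc_other hexe hexf (n3 _ md _ me).symm
      · exact cyc_other (n3 _ mxd _ mxe) (n3 _ mxd _ mxf) hdxd.symm
      · exact cyc_other hfxe hfxf (n3 _ md _ mf).symm
    · push Not at h
      exact Or.inl (cyc_other h.1 h.2.1 h.2.2)
  obtain ⟨σ, hσ⟩ : ∃ σ, σ = τ * ρ := ⟨_, rfl⟩
  have st : ∀ w ∈ ({a, b, c, T.x a, T.x b, T.x c} : Finset α), σ w = τ w := fun w hw => by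
    rw [hσ, Perm.mul_apply, r_fix w hw]
  have sr : ∀ w ∈ ({e, f, d, T.x e, T.x f, T.x d} : Finset α), σ w = ρ w := fun w hw => by
    rw [hσ, hcm.eq, Perm.mul_apply, t_fix w hw]
  have e_a : σ a = c := by
    rw [st _ (by simp), hτ, Perm.mul_apply, cyc_other haxa hab (n1 _ ma _ mxc),
      cyc_fst (n1 _ ma _ mc) haxb]
  have e_c : σ c = T.x b := by
    rw [st _ (by simp), hτ, Perm.mul_apply,
      cyc_other (n1 _ mxa _ mc).symm (n1 _ mb _ mc).symm hcxc, cyc_snd haxb (n1 _ mxb _ mc).symm]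
  have e_xb : σ (T.x b) = a := by
    rw [st _ (by simp), hτ, Perm.mul_apply,
      cyc_other hxab.symm hbxb.symm (n1 _ mxb _ mxc), cyc_thd]
  have e_xa : σ (T.x a) = b := by
    rw [st _ (by simp), hτ, Perm.mul_apply, cyc_fst hbxa.symm (n1 _ mxa _ mxc),
      cyc_other hab.symm (n1 _ mb _ mc) hbxb]
  have e_b : σ b = T.x c := by
    rw [st _ (by simp), hτ, Perm.mul_apply, cyc_snd (n1 _ mxa _ mxc) (n1 _ mb _ mxc),
      cyc_other (n1 _ ma _ mxc).symm hcxc.symm (n1 _ mxb _ mxc).symm]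
  have e_xc : σ (T.x c) = T.x a := by
    rw [st _ (by simp), hτ, Perm.mul_apply, cyc_thd,
      cyc_other haxa.symm (n1 _ mxa _ mc) hxab]
  have e_e : σ e = T.x d := by
    rw [sr _ (by simp), hρ, Perm.mul_apply, cyc_other hexe hexf (n3 _ md _ me).symm,
      cyc_fst (n3 _ mxd _ me).symm hef]
  have e_xd : σ (T.x d) = f := by
    rw [sr _ (by simp), hρ, Perm.mul_apply,
      cyc_other (n3 _ mxd _ mxe) (n3 _ mxd _ mxf) hdxd.symm, cyc_snd hef (n3 _ mxd _ mf)]
  have e_f : σ f = e := by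
    rw [sr _ (by simp), hρ, Perm.mul_apply, cyc_other hfxe hfxf (n3 _ md _ mf).symm, cyc_thd]
  have e_xe : σ (T.x e) = T.x f := by
    rw [sr _ (by simp), hρ, Perm.mul_apply, cyc_fst hxef (n3 _ md _ mxe).symm,
      cyc_other hexf.symm (n3 _ mxd _ mxf).symm hfxf.symm]
  have e_xf : σ (T.x f) = d := by
    rw [sr _ (by simp), hρ, Perm.mul_apply, cyc_snd (n3 _ md _ mxe).symm (n3 _ md _ mxf).symm,
      cyc_other (n3 _ md _ me) hdxd (n3 _ md _ mf)]
  have e_d : σ d = T.x e := by
    rw [sr _ (by simp), hρ, Perm.mul_apply, cyc_thd,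
      cyc_other hexe.symm (n3 _ mxd _ mxe).symm hfxe.symm]
  have g_a : ((T.r * σ) ^ 1) a = d := by rw [T.step e_a, hd]
  have g_d : ((T.r * σ) ^ 1) d = T.x f := by rw [T.step e_d, T.four_rx he, hf]
  have g_xf : ((T.r * σ) ^ 1) (T.x f) = c := by rw [T.step e_xf, hd, T.four_r hc]
  have g_c : ((T.r * σ) ^ 1) c = T.x a := by rw [T.step e_c, hb, T.four_rxr ha]
  have g_xa : ((T.r * σ) ^ 1) (T.x a) = a := by rw [T.step e_xa, hb, T.four_r ha]
  have g_e : ((T.r * σ) ^ 1) e = T.x c := by rw [T.step e_e, hd, T.four_rxr hc]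
  have g_xc : ((T.r * σ) ^ 1) (T.x c) = T.x b := by rw [T.step e_xc, T.four_rx ha, hb]
  have g_xb : ((T.r * σ) ^ 1) (T.x b) = b := by rw [T.step e_xb, hb]
  have g_b : ((T.r * σ) ^ 1) b = T.x d := by rw [T.step e_b, T.four_rx hc, hd]
  have g_xd : ((T.r * σ) ^ 1) (T.x d) = e := by rw [T.step e_xd, hf, T.four_r he]
  have g_f : ((T.r * σ) ^ 1) f = f := by rw [T.step e_f, hf]
  have g_xe : ((T.r * σ) ^ 1) (T.x e) = T.x e := by rw [T.step e_xe, hf, T.four_rxr he]
  have A2 := per_comp g_a g_d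
  have A3 := per_comp A2 g_xf
  have A4 := per_comp A3 g_c
  have pa := per_comp A4 g_xa
  have E2 := per_comp g_e g_xc
  have E3 := per_comp E2 g_xb
  have E4 := per_comp E3 g_b
  have pe := per_comp E4 g_xd
  have h5 : Odd (1 + (1 + (1 + (1 + 1)))) := ⟨2, rfl⟩
  refine T.sol_mk (σ := σ) ((T.inv_piece a).union ((T.inv_piece c).union (T.inv_piece e)))
    ({a, b, c, T.x a, T.x b, T.x c, e, f, d, T.x e, T.x f, T.x d} : Finset α) ?_ ?_ ?_ ?_ ?_ ?_
  · intro w hw
    simp only [Finset.mem_insert, Finset.mem_singleton] at hw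
    simp only [Finset.mem_union]
    rcases hw with h | h | h | h | h | h | h | h | h | h | h | h <;> subst h <;> simp only [ma, mb, mc, me, md, mf, mxa, mxb, mxc, mxe, mxd, mxf, true_or, or_true]
  · intro w hw
    simp only [Finset.mem_insert, Finset.mem_singleton, not_or] at hw
    have h1 : ρ w = w := r_other w (by simp [hw])
    rw [hσ, Perm.mul_apply, h1]
    exact t_other w (by simp [hw])
  · have i1 := T.inv_double (a := a) (b := c) (c := T.x b) (n1 _ ma _ mc) haxb
      (n1 _ mxb _ mc).symm (by rwa [T.xx])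
    rw [T.xx, ← hτ] at i1
    have i2 := T.inv_double (a := e) (b := T.x d) (c := f) (n3 _ mxd _ me).symm hef
      (n3 _ mxd _ mf) (by rwa [T.xx])
    rw [T.xx, ← hρ] at i2
    calc T.x * σ * T.x = (T.x * τ * T.x) * (T.x * ρ * T.x) := by
          rw [hσ]; simp only [mul_assoc]; rw [← mul_assoc T.x T.x, T.hx, one_mul]
      _ = τ⁻¹ * ρ⁻¹ := by rw [i1, i2]
      _ = σ⁻¹ := by rw [hσ, mul_inv_rev, hcm.inv_inv.eq]
  · rw [hσ]
    refine cube_mul hcm ?_ ?_
    · rw [hτ]
      exact cube_mul ct (cyc_cube (n1 _ ma _ mc) haxb (n1 _ mxb _ mc).symm)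
        (cyc_cube hbxa.symm (n1 _ mxa _ mxc) (n1 _ mb _ mxc))
    · rw [hρ]
      exact cube_mul cr (cyc_cube (n3 _ mxd _ me).symm hef (n3 _ mxd _ mf))
        (cyc_cube hxef (n3 _ md _ mxe).symm (n3 _ md _ mxf).symm)
  · intro s hs
    simp only [Finset.mem_insert, Finset.mem_singleton] at hs
    rcases hs with h | h | h | h | h | h | h | h | h | h | h | h <;> subst h
    · exact ⟨_, h5, pa⟩
    · exact ⟨_, h5, per_apply pe E3⟩
    · exact ⟨_, h5, per_apply pa A3⟩
    · exact ⟨_, h5, per_apply pa A4⟩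
    · exact ⟨_, h5, per_apply pe E2⟩
    · exact ⟨_, h5, per_apply pe g_e⟩
    · exact ⟨_, h5, pe⟩
    · exact ⟨1, odd_one, g_f⟩
    · exact ⟨_, h5, per_apply pa g_a⟩
    · exact ⟨1, odd_one, g_xe⟩
    · exact ⟨_, h5, per_apply pa A2⟩
    · exact ⟨_, h5, per_apply pe E4⟩
  · intro w hw
    simp only [Finset.mem_union] at hw
    rcases hw with h | h | h
    · exact Or.inr (T.cover_piece (by simp) (by simp) h)
    · exact Or.inr (T.cover_piece (by simp) (by simp) h)
    · exact Or.inr (T.cover_piece (by simp) (by simp) h)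

/-- Fixed points of `f` on cycles of even length. -/
noncomputable def evenFix (f : Perm α) (A : Finset α) : Finset α :=
  open Classical in A.filter fun w => f w = w ∧ Even (T.L w)

theorem mem_evenFix {f : Perm α} {A : Finset α} {w : α} :
    w ∈ T.evenFix f A ↔ w ∈ A ∧ f w = w ∧ Even (T.L w) := by
  simp [evenFix]

theorem card_evenFix_sdiff {A B : Finset α} (hBA : B ⊆ A)
    (hA : (T.evenFix T.x A).card = (T.evenFix T.y A).card)
    (hB : (T.evenFix T.x B).card = (T.evenFix T.y B).card) :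
    (T.evenFix T.x (A \ B)).card = (T.evenFix T.y (A \ B)).card := by
  have h : ∀ f : Perm α, (T.evenFix f (A \ B)).card + (T.evenFix f B).card = (T.evenFix f A).card := by
    intro f
    rw [← Finset.card_union_of_disjoint]
    · congr 1
      ext w
      simp only [Finset.mem_union, T.mem_evenFix, Finset.mem_sdiff]
      constructor
      · rintro (⟨⟨h1, -⟩, h2⟩ | ⟨h1, h2⟩)
        · exact ⟨h1, h2⟩
        · exact ⟨hBA h1, h2⟩
      · rintro ⟨h1, h2⟩
        by_cases hw : w ∈ B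
        · exact Or.inr ⟨hw, h2⟩
        · exact Or.inl ⟨⟨h1, hw⟩, h2⟩
    · rw [Finset.disjoint_left]
      intro w h1 h2
      exact (Finset.mem_sdiff.1 (T.mem_evenFix.1 h1).1).2 (T.mem_evenFix.1 h2).1
  have := h T.x
  have := h T.y
  omega

theorem evenFix_odd {A : Finset α} (hodd : ∀ w ∈ A, Odd (T.L w)) (f : Perm α) : T.evenFix f A = ∅ := by
  rw [Finset.eq_empty_iff_forall_notMem]
  intro w hw
  obtain ⟨h1, -, h2⟩ := T.mem_evenFix.1 hw
  exact (Nat.not_odd_iff_even.2 h2) (hodd w h1)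

theorem evenFix_pair {a : α} (ha : T.IsPair a) :
    T.evenFix T.x (T.piece a) = ∅ ∧ T.evenFix T.y (T.piece a) = ∅ := by
  have key : ∀ w ∈ T.piece a, ¬ T.Same w (T.x w) := by
    intro w hw h
    rcases T.mem_piece.1 hw with h1 | h1
    · exact ha (Perm.SameCycle.trans (Perm.SameCycle.trans h1 h) (Perm.SameCycle.symm (T.same_x h1)))
    · have h2 := T.same_x h1
      rw [T.xx] at h2
      exact ha (Perm.SameCycle.trans (Perm.SameCycle.trans h2 (Perm.SameCycle.symm h))
        (Perm.SameCycle.symm h1))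
  constructor <;> rw [Finset.eq_empty_iff_forall_notMem] <;> intro w hw <;>
    obtain ⟨h1, h2, -⟩ := T.mem_evenFix.1 hw <;> refine key w h1 ?_
  · rw [h2]; exact Perm.SameCycle.refl _ _
  · rw [T.xp_of_fix h2]; exact T.same_pow w _

theorem card_evenFix_pq {p q : α} (hp : T.y p = p) (hpe : Even (T.L p)) (hq : T.x q = q)
    (hqe : Even (T.L q)) :
    (T.evenFix T.x (T.piece p ∪ T.piece q)).card = (T.evenFix T.y (T.piece p ∪ T.piece q)).card := by
  have hxp := T.xp_of_fix hp
  obtain ⟨k, hk⟩ := hpe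
  obtain ⟨l, hl⟩ := hqe
  have hpp := T.L_pos p
  have hqq := T.L_pos q
  have inP : ∀ w ∈ T.piece p, ∃ i < T.L p, (T.r ^ i) p = w := fun w hw => by
    rcases T.mem_piece.1 hw with h | h
    · exact T.exists_lt h
    · exact T.exists_lt (Perm.SameCycle.trans (hxp ▸ T.same_pow p _) h)
  have inQ : ∀ w ∈ T.piece q, ∃ i < T.L q, (T.r ^ i) q = w := fun w hw => by
    rcases T.mem_piece.1 hw with h | h
    · exact T.exists_lt h
    · exact T.exists_lt (by rwa [hq] at h)
  have xfix : ∀ (a : α) (i : ℕ), T.x ((T.r ^ i) a) = (T.r ^ i) a ↔ (T.r ^ (i + i)) a = T.x a := by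
    intro a i
    rw [← (T.r ^ i).injective.eq_iff, T.pow_x, ← Perm.mul_apply, ← pow_add]
    exact eq_comm
  have yfix : ∀ (a : α) (i : ℕ), T.y ((T.r ^ i) a) = (T.r ^ i) a ↔
      (T.r ^ (i + i)) a = T.r (T.x a) := by
    intro a i
    rw [T.y_eq, ← (T.r ^ i).injective.eq_iff, ← Perm.mul_apply, ← pow_succ, pow_succ',
      Perm.mul_apply, T.pow_x, ← Perm.mul_apply (T.r ^ i) (T.r ^ i), ← pow_add]
    exact eq_comm
  have half : ∀ i n : ℕ, i < n + n → (i + i) % (n + n) = 0 → i = 0 ∨ i = n := by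
    intro i n hi h
    rcases lt_or_ge i n with h1 | h1
    · rw [Nat.mod_eq_of_lt (by omega)] at h; omega
    · rw [Nat.mod_eq_sub_mod (by omega), Nat.mod_eq_of_lt (by omega)] at h; omega
  have ex : T.evenFix T.x (T.piece p ∪ T.piece q) = {q, (T.r ^ l) q} := by
    ext w
    rw [T.mem_evenFix, Finset.mem_insert, Finset.mem_singleton]
    constructor
    · rintro ⟨hw, hwx, -⟩
      rcases Finset.mem_union.1 hw with h | h
      · exact absurd h (T.pq_facts hp ⟨k, hk⟩ hwx).2
      · obtain ⟨i, hi, rfl⟩ := inQ w h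
        have h3 := T.pow_eq_mod (j := 0) (by simpa [hq] using (xfix q i).1 hwx)
        rw [Nat.zero_mod, hl] at h3
        rcases half i l (by omega) h3 with rfl | rfl
        · left; simp
        · right; rfl
    · rintro (rfl | rfl)
      · exact ⟨Finset.mem_union_right _ (T.self_mem_piece _), hq, l, hl⟩
      · refine ⟨Finset.mem_union_right _ (T.mem_piece_pow q l).1, ?_, l, by rw [T.L_pow]; exact hl⟩
        rw [xfix, ← hl, T.pow_L, hq]
  have ey : T.evenFix T.y (T.piece p ∪ T.piece q) = {p, (T.r ^ k) p} := by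
    ext w
    rw [T.mem_evenFix, Finset.mem_insert, Finset.mem_singleton]
    constructor
    · rintro ⟨hw, hwy, hwe⟩
      rcases Finset.mem_union.1 hw with h | h
      · obtain ⟨i, hi, rfl⟩ := inP w h
        have h2 := (yfix p i).1 hwy
        rw [← T.y_eq, hp] at h2
        have h3 := T.pow_eq_mod (j := 0) (by simpa using h2)
        rw [Nat.zero_mod, hk] at h3
        rcases half i k (by omega) h3 with rfl | rfl
        · left; simp
        · right; rfl
      · refine absurd ?_ (T.pq_facts hwy hwe hq).2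
        obtain ⟨i, -, rfl⟩ := inQ w h
        exact T.mem_piece.2 (Or.inl (Perm.SameCycle.symm (T.same_pow q i)))
    · rintro (rfl | rfl)
      · exact ⟨Finset.mem_union_left _ (T.self_mem_piece _), hp, k, hk⟩
      · refine ⟨Finset.mem_union_left _ (T.mem_piece_pow p k).1, ?_, k, by rw [T.L_pow]; exact hk⟩
        rw [yfix, ← hk, T.pow_L, ← T.y_eq, hp]
  have n1 : q ≠ (T.r ^ l) q := fun e => by
    have := T.pow_inj (i := 0) (j := l) hqq (by omega) (by simpa using e)
    omega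
  have n2 : p ≠ (T.r ^ k) p := fun e => by
    have := T.pow_inj (i := 0) (j := k) hpp (by omega) (by simpa using e)
    omega
  rw [ex, ey, Finset.card_pair n1, Finset.card_pair n2]

theorem fixed_of_self {a : α} (h : T.Same a (T.x a)) (he : Even (T.L a)) :
    (∃ w, T.Same a w ∧ T.x w = w) ∨ ∃ w, T.Same a w ∧ T.y w = w := by
  obtain ⟨d, -, hd⟩ := T.exists_lt h
  obtain ⟨e, he' | he'⟩ := Nat.even_or_odd' d
  · left
    refine ⟨(T.r ^ e) a, T.same_pow a e, ?_⟩
    rw [T.x_pow, ← hd, he', Perm.inv_def, Equiv.symm_apply_eq, ← Perm.mul_apply, ← pow_add,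
      ← two_mul]
  · right
    refine ⟨(T.r ^ (e + 1)) a, T.same_pow a _, ?_⟩
    rw [T.y_eq]
    apply (T.r ^ (e + 1)).injective
    rw [← Perm.mul_apply, ← pow_succ, pow_succ', Perm.mul_apply, T.pow_x, ← hd, he',
      ← Perm.mul_apply, ← pow_succ', ← Perm.mul_apply (T.r ^ (e + 1)), ← pow_add]
    congr 2
    omega

theorem fixed_of_odd {a : α} (h : T.Same a (T.x a)) (ho : Odd (T.L a)) :
    ∃ w, T.Same a w ∧ T.x w = w := by
  obtain ⟨d, -, hd⟩ := T.exists_lt h
  obtain ⟨m, hm⟩ := ho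
  obtain ⟨e, he⟩ : ∃ e, (T.r ^ (2 * e)) a = (T.r ^ d) a := by
    obtain ⟨e, he' | he'⟩ := Nat.even_or_odd' d
    · exact ⟨e, by rw [he']⟩
    · refine ⟨e + m + 1, ?_⟩
      rw [show 2 * (e + m + 1) = d + T.L a by omega, pow_add, Perm.mul_apply, T.pow_L]
  refine ⟨(T.r ^ e) a, T.same_pow a e, ?_⟩
  rw [T.x_pow, ← hd, ← he, Perm.inv_def, Equiv.symm_apply_eq, ← Perm.mul_apply, ← pow_add, ← two_mul]

theorem solve (n : ℕ) : ∀ A : Finset α, A.card ≤ n → T.Inv A →
    (T.evenFix T.x A).card = (T.evenFix T.y A).card →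
    T.Sol A ∨ ∃ a, T.IsFour a ∧ A = T.piece a := by
  induction n with
  | zero =>
    intro A hA hI _
    left
    refine T.sol_mk hI ∅ (Finset.empty_subset _) (σ := 1) (fun w _ => rfl) (by simp [T.hx]) (one_pow 3)
      (by simp) fun a ha => ?_
    rw [Finset.card_eq_zero.1 (Nat.le_zero.1 hA)] at ha
    simp at ha
  | succ n ih =>
    intro A hA hI hbal
    by_cases hodd : ∀ a ∈ A, Odd (T.L a)
    · left
      exact T.sol_mk hI ∅ (Finset.empty_subset _) (σ := 1) (fun w _ => rfl) (by simp [T.hx])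
        (one_pow 3) (by simp) fun a ha => Or.inl (hodd a ha)
    have rec' : ∀ B : Finset α, T.Inv B → B ⊆ A → B.Nonempty →
        (T.evenFix T.x B).card = (T.evenFix T.y B).card →
        T.Sol (A \ B) ∨ ∃ a, T.IsFour a ∧ A \ B = T.piece a := by
      intro B hBI hBA hBne hB
      refine ih _ ?_ (hI.sdiff hBI) (T.card_evenFix_sdiff hBA hbal hB)
      have h1 := Finset.card_sdiff_add_card_eq_card hBA
      have h2 := hBne.card_pos
      omega
    have glue : ∀ B : Finset α, T.Inv B → B ⊆ A → B.Nonempty →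
        (T.evenFix T.x B).card = (T.evenFix T.y B).card → T.Sol B →
        (∀ d, T.IsFour d → Disjoint (T.piece d) B → T.Sol (T.piece d ∪ B)) → T.Sol A := by
      intro B hBI hBA hBne hB hsol hfour
      rcases rec' B hBI hBA hBne hB with h | ⟨d, hd, hdA⟩
      · rw [← Finset.sdiff_union_of_subset hBA]
        exact T.sol_union Finset.sdiff_disjoint (hI.sdiff hBI) hBI h hsol
      · rw [← Finset.sdiff_union_of_subset hBA, hdA]
        exact hfour d hd (hdA ▸ Finset.sdiff_disjoint)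
    have notin : ∀ {d : α} {B : Finset α} {w : α}, Disjoint (T.piece d) B → w ∈ B → w ∉ T.piece d :=
      fun hd hw h => Finset.disjoint_left.1 hd h hw
    push Not at hodd
    obtain ⟨a0, ha0, ha0e⟩ := hodd
    rw [Nat.not_odd_iff_even] at ha0e
    by_cases h1 : ∃ a ∈ A, T.IsPair a ∧ Even (T.L a) ∧ 4 ≤ T.L a
    · left
      obtain ⟨a, ha, hp, he, h4⟩ := h1
      exact glue _ (T.inv_piece a) (hI.piece_subset ha) ⟨a, T.self_mem_piece a⟩
        (by rw [(T.evenFix_pair hp).1, (T.evenFix_pair hp).2]) (T.sol_pair_large hp he h4)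
        fun d hd hdd => T.sol_four_pair_even hd hp he (notin hdd (T.self_mem_piece a))
    by_cases h2 : (T.evenFix T.x A).Nonempty
    · left
      obtain ⟨q, hq⟩ := h2
      obtain ⟨p, hp⟩ : (T.evenFix T.y A).Nonempty := Finset.card_pos.1 (hbal ▸ Finset.card_pos.2 ⟨q, hq⟩)
      obtain ⟨hqA, hqx, hqe⟩ := T.mem_evenFix.1 hq
      obtain ⟨hpA, hpy, hpe⟩ := T.mem_evenFix.1 hp
      exact glue _ ((T.inv_piece p).union (T.inv_piece q))
        (Finset.union_subset (hI.piece_subset hpA) (hI.piece_subset hqA))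
        ⟨p, Finset.mem_union_left _ (T.self_mem_piece p)⟩
        (T.card_evenFix_pq hpy hpe hqx hqe) (T.sol_pq hpy hpe hqx hqe)
        fun d hd hdd => T.sol_four_pq hd hpy hpe hqx hqe
          (notin hdd (Finset.mem_union_left _ (T.self_mem_piece p)))
          (notin hdd (Finset.mem_union_right _ (T.self_mem_piece q)))
    rw [Finset.not_nonempty_iff_eq_empty] at h2
    have h2y : T.evenFix T.y A = ∅ := Finset.card_eq_zero.1 (by rw [← hbal, h2, Finset.card_empty])
    have hall : ∀ a ∈ A, Even (T.L a) → T.IsFour a := by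
      intro a ha he
      have hp : T.IsPair a := by
        intro hs
        rcases T.fixed_of_self hs he with ⟨w, hw, hwx⟩ | ⟨w, hw, hwy⟩ <;>
          obtain ⟨i, -, rfl⟩ := T.exists_lt hw
        · exact Finset.notMem_empty _ (h2 ▸ T.mem_evenFix.2 ⟨hI.pow ha i, hwx, by rwa [T.L_pow]⟩)
        · exact Finset.notMem_empty _ (h2y ▸ T.mem_evenFix.2 ⟨hI.pow ha i, hwy, by rwa [T.L_pow]⟩)
      refine ⟨hp, ?_⟩
      obtain ⟨k, hk⟩ := he
      have := T.L_pos a
      by_contra hne
      exact h1 ⟨a, ha, hp, ⟨k, hk⟩, by omega⟩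
    by_cases h3 : ∃ c ∈ A, Odd (T.L c)
    · left
      obtain ⟨c, hc, hco⟩ := h3
      have hB : ∀ w ∈ T.piece c, Odd (T.L w) := by
        intro w hw
        rcases T.mem_piece.1 hw with h | h
        · rw [T.same_L h]; exact hco
        · rw [T.same_L h, T.L_x]; exact hco
      refine glue _ (T.inv_piece c) (hI.piece_subset hc) ⟨c, T.self_mem_piece c⟩
        (by rw [T.evenFix_odd hB, T.evenFix_odd hB])
        (T.sol_mk (T.inv_piece c) ∅ (Finset.empty_subset _) (σ := 1) (fun w _ => rfl)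
          (by simp [T.hx]) (one_pow 3) (by simp) fun w hw => Or.inl (hB w hw))
        fun d hd hdd => ?_
      by_cases hp : T.IsPair c
      · exact T.sol_four_pair_odd hd hp hco (notin hdd (T.self_mem_piece c))
      · obtain ⟨w, hw, hwx⟩ := T.fixed_of_odd (not_not.1 hp) hco
        have hwc : w ∈ T.piece c := T.mem_piece.2 (Or.inl hw)
        have heq : T.piece w = T.piece c := by
          refine Finset.Subset.antisymm ((T.inv_piece c).piece_subset hwc) ?_
          exact (T.inv_piece w).piece_subset (T.mem_piece.2 (Or.inl (Perm.SameCycle.symm hw)))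
        rw [← heq]
        exact T.sol_four_fixed hd hwx (hB w hwc) (notin hdd hwc)
    push Not at h3
    have hall' : ∀ a ∈ A, T.IsFour a := fun a ha => hall a ha (Nat.not_odd_iff_even.1 (h3 a ha))
    by_cases hAp : A = T.piece a0
    · exact Or.inr ⟨a0, hall' a0 ha0, hAp⟩
    left
    obtain ⟨c, hcA, hc⟩ : ∃ c ∈ A, c ∉ T.piece a0 := by
      by_contra h
      push Not at h
      exact hAp (Finset.Subset.antisymm h (hI.piece_subset ha0))
    refine glue _ ((T.inv_piece a0).union (T.inv_piece c))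
      (Finset.union_subset (hI.piece_subset ha0) (hI.piece_subset hcA))
      ⟨a0, Finset.mem_union_left _ (T.self_mem_piece a0)⟩ ?_
      (T.sol_four_pair_even (hall' a0 ha0) (hall' c hcA).1
        (by rw [(hall' c hcA).2]; exact even_two) hc) fun d hd hdd => ?_
    · rw [Finset.card_eq_zero.2, Finset.card_eq_zero.2] <;>
        rw [Finset.eq_empty_iff_forall_notMem] <;> intro w hw <;>
        obtain ⟨hwB, hwf, hwe⟩ := T.mem_evenFix.1 hw
      · rcases Finset.mem_union.1 hwB with h | h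
        · exact Finset.notMem_empty _ ((T.evenFix_pair (hall' a0 ha0).1).2 ▸
            T.mem_evenFix.2 ⟨h, hwf, hwe⟩)
        · exact Finset.notMem_empty _ ((T.evenFix_pair (hall' c hcA).1).2 ▸
            T.mem_evenFix.2 ⟨h, hwf, hwe⟩)
      · rcases Finset.mem_union.1 hwB with h | h
        · exact Finset.notMem_empty _ ((T.evenFix_pair (hall' a0 ha0).1).1 ▸
            T.mem_evenFix.2 ⟨h, hwf, hwe⟩)
        · exact Finset.notMem_empty _ ((T.evenFix_pair (hall' c hcA).1).1 ▸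
            T.mem_evenFix.2 ⟨h, hwf, hwe⟩)
    · exact T.sol_four_three hd (hall' a0 ha0) (hall' c hcA)
        (notin hdd (Finset.mem_union_left _ (T.self_mem_piece a0)))
        (notin hdd (Finset.mem_union_right _ (T.self_mem_piece c))) hc

theorem card_evenFix_univ
    (hfix : (Finset.univ.filter fun w => T.x w = w).card = (Finset.univ.filter fun w => T.y w = w).card) :
    (T.evenFix T.x Finset.univ).card = (T.evenFix T.y Finset.univ).card := by
  classical
  have hodd : (Finset.univ.filter fun w => T.x w = w ∧ Odd (T.L w)).card =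
      (Finset.univ.filter fun w => T.y w = w ∧ Odd (T.L w)).card := by
    refine Finset.card_bij' (fun w _ => (T.r ^ ((T.L w + 1) / 2)) w)
      (fun w _ => (T.r ^ (T.L w - (T.L w + 1) / 2)) w) ?_ ?_ ?_ ?_
    · intro w hw
      simp only [Finset.mem_filter, Finset.mem_univ, true_and] at hw ⊢
      obtain ⟨hwx, m, hm⟩ := hw
      refine ⟨?_, by rw [T.L_pow]; exact ⟨m, hm⟩⟩
      rw [show (T.L w + 1) / 2 = m + 1 by omega, T.y_eq]
      apply (T.r ^ (m + 1)).injective
      rw [← Perm.mul_apply, ← pow_succ, pow_succ', Perm.mul_apply, T.pow_x, hwx,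
        ← Perm.mul_apply (T.r ^ (m + 1)) (T.r ^ (m + 1)), ← pow_add,
        show m + 1 + (m + 1) = T.L w + 1 by omega, pow_succ', Perm.mul_apply, T.pow_L]
    · intro w hw
      simp only [Finset.mem_filter, Finset.mem_univ, true_and] at hw ⊢
      obtain ⟨hwy, m, hm⟩ := hw
      refine ⟨?_, by rw [T.L_pow]; exact ⟨m, hm⟩⟩
      rw [show T.L w - (T.L w + 1) / 2 = m by omega, T.x_pow, Perm.inv_def, Equiv.symm_apply_eq,
        T.xp_of_fix hwy, ← Perm.mul_apply, ← pow_add]
      congr 2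
      omega
    · intro w hw
      simp only [T.L_pow]
      rw [← Perm.mul_apply, ← pow_add, Nat.sub_add_cancel (by have := T.L_pos w; omega), T.pow_L]
    · intro w hw
      simp only [T.L_pow]
      rw [← Perm.mul_apply, ← pow_add, Nat.add_sub_cancel' (by have := T.L_pos w; omega), T.pow_L]
  have hsplit : ∀ f : Perm α, (T.evenFix f Finset.univ).card +
      (Finset.univ.filter fun w => f w = w ∧ Odd (T.L w)).card =
      (Finset.univ.filter fun w => f w = w).card := by
    intro f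
    rw [← Finset.card_filter_add_card_filter_not (s := Finset.univ.filter fun w => f w = w)
      (fun w => Even (T.L w))]
    congr 1
    · congr 1
      ext w
      simp [T.mem_evenFix]
    · congr 1
      ext w
      simp [and_comm, Nat.not_even_iff_odd]
  have := hsplit T.x
  have := hsplit T.y
  omega

end Two

/-- Conjugate involutions of a set of at least five points admit a repair. -/
theorem exists_odd_surgery (x y : Perm α) (hx : x * x = 1) (hy : y * y = 1)
    (hn : 5 ≤ Fintype.card α)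
    (hfix : (Finset.univ.filter fun w => x w = w).card = (Finset.univ.filter fun w => y w = w).card) :
    ∃ σ : Perm α, x * σ * x = σ⁻¹ ∧ σ ^ 3 = 1 ∧ Odd (orderOf (y * x * σ)) := by
  classical
  set T : Two α := ⟨x, y, hx, hy⟩ with hT
  rcases T.solve _ Finset.univ le_rfl (fun a _ => ⟨Finset.mem_univ _, Finset.mem_univ _⟩)
    (T.card_evenFix_univ hfix) with ⟨σ, -, h2, h3, h4⟩ | ⟨a, ha, hA⟩
  · choose N hNodd hN using fun a : α => h4 a (Finset.mem_univ a)
    refine ⟨σ, h2, h3, ?_⟩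
    refine (Odd.of_dvd_nat (n := ∏ a, N a) ?_ (orderOf_dvd_of_pow_eq_one (Perm.ext fun a => ?_)))
    · exact Finset.prod_induction N Odd (fun _ _ => Odd.mul) odd_one fun a _ => hNodd a
    · obtain ⟨k, hk⟩ := Finset.dvd_prod_of_mem N (Finset.mem_univ a)
      rw [Perm.one_apply, hk, pow_mul]
      exact Function.IsFixedPt.perm_pow (e := (y * x * σ) ^ N a) (hN a) k
  · exfalso
    have h : (Finset.univ : Finset α).card ≤ 4 := by
      rw [hA]
      refine (Finset.card_le_card (t := {a, T.r a, T.x a, T.x (T.r a)}) fun w hw => ?_).trans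
        Finset.card_le_four
      have hr2 : ∀ i, (T.r ^ i) a = a ∨ (T.r ^ i) a = T.r a := by
        intro i
        rw [T.pow_mod, ha.2]
        rcases Nat.mod_two_eq_zero_or_one i with e | e <;> simp [e]
      simp only [Finset.mem_insert, Finset.mem_singleton]
      rcases T.mem_piece.1 hw with h | h
      · obtain ⟨i, -, rfl⟩ := T.exists_lt h
        rcases hr2 i with e | e <;> simp [e]
      · obtain ⟨i, hi, rfl⟩ := T.exists_lt h
        rw [T.L_x, ha.2] at hi
        interval_cases i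
        · simp
        · simp [T.four_rx ha]
    rw [Finset.card_univ] at h
    omega

end CfsgLib.Perm.OddSurgery
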