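import Mathlib.RingTheory.LittleWedderburn
import Mathlib.RingTheory.IntegralDomain
import Mathlib.LinearAlgebra.FiniteDimensional.Basic
import Mathlib.LinearAlgebra.Charpoly.Basic
import Mathlib.FieldTheory.Finite.Basic
import Mathlib.GroupTheory.GroupAction.Quotient
import Mathlib.GroupTheory.Index
import Mathlib.Tactic

/-!
Linear groups regular on the non-zero vectors: invariant subspaces of normal subgroups,
Schur's lemma, and the two consequences for abelian and non-abelian normal subgroups.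
-/

set_option autoImplicit false

namespace CfsgLib.Perm.RegularLinear

variable {k : Type*} [Field k] {V : Type*} [AddCommGroup V] [Module k V]
  {H : Subgroup (V ≃ₗ[k] V)}

/-- `W` is invariant under `N`. -/
def Inv (N : Subgroup H) (W : Submodule k V) : Prop :=
  ∀ n ∈ N, ∀ v ∈ W, ((n : H) : V ≃ₗ[k] V) v ∈ W

/-- `W` is a minimal non-zero `N`-invariant subspace. -/
structure Irr (N : Subgroup H) (W : Submodule k V) : Prop where
  ne_bot : W ≠ ⊥
  inv : Inv N W
  min : ∀ W', W' ≤ W → Inv N W' → W' = ⊥ ∨ W' = W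

theorem finite_group [Finite V] : Finite H :=
  Finite.of_injective (fun h : H => ((h : V ≃ₗ[k] V) : V → V))
    (DFunLike.coe_injective.comp Subtype.val_injective)

theorem eq_one_of_fix (hreg : ∀ v w : V, v ≠ 0 → w ≠ 0 → ∃! h : H, (h : V ≃ₗ[k] V) v = w)
    {h : H} {v : V} (hv : v ≠ 0) (e : (h : V ≃ₗ[k] V) v = v) : h = 1 :=
  (hreg v v hv hv).unique e rfl

theorem exists_irr [Finite V] (N : Subgroup H) {W₀ : Submodule k V} (h0 : W₀ ≠ ⊥)
    (hinv : Inv N W₀) : ∃ W, W ≤ W₀ ∧ Irr N W := by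
  classical
  have : Finite (Submodule k V) := Finite.of_injective (fun W => (W : Set V)) SetLike.coe_injective
  let S := {W : Submodule k V | W ≤ W₀ ∧ W ≠ ⊥ ∧ Inv N W}
  obtain ⟨W, hW⟩ := (Set.toFinite S).exists_minimal ⟨W₀, le_rfl, h0, hinv⟩
  refine ⟨W, hW.prop.1, hW.prop.2.1, hW.prop.2.2, fun W' hle hi => ?_⟩
  by_cases hb : W' = ⊥
  · exact Or.inl hb
  · exact Or.inr (le_antisymm hle (hW.le_of_le ⟨hle.trans hW.prop.1, hb, hi⟩ hle))

theorem Irr.inf_eq_bot {N : Subgroup H} {W W' : Submodule k V} (h : Irr N W) (h' : Irr N W')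
    (hne : W ≠ W') : W ⊓ W' = ⊥ := by
  have hi : Inv N (W ⊓ W') := fun n hn v hv => ⟨h.inv n hn v hv.1, h'.inv n hn v hv.2⟩
  rcases h.min _ inf_le_left hi with e | e
  · exact e
  · rcases h'.min _ inf_le_right hi with e' | e'
    · exact e'
    · exact absurd (e.symm.trans e') hne

theorem irr_map {N : Subgroup H} (hN : N.Normal) {W : Submodule k V} (h : Irr N W) (g : H) :
    Irr N (W.map ((g : V ≃ₗ[k] V) : V →ₗ[k] V)) := by
  have key : ∀ (c : H) {X : Submodule k V}, Inv N X → Inv N (X.map ((c : V ≃ₗ[k] V) : V →ₗ[k] V)) := by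
    rintro c X hX n hn _ ⟨v, hv, rfl⟩
    refine ⟨((c⁻¹ * n * c : H) : V ≃ₗ[k] V) v, hX _ (by simpa using hN.conj_mem n hn c⁻¹) v hv, ?_⟩
    show (c : V ≃ₗ[k] V) (((c⁻¹ * n * c : H) : V ≃ₗ[k] V) v) = (n : V ≃ₗ[k] V) ((c : V ≃ₗ[k] V) v)
    have e : ((c * (c⁻¹ * n * c) : H) : V ≃ₗ[k] V) = ((n * c : H) : V ≃ₗ[k] V) := by
      rw [show c * (c⁻¹ * n * c) = n * c by group]
    exact LinearEquiv.congr_fun e v
  have hcomp : ∀ (c : H) (X : Submodule k V),
      (X.map ((c : V ≃ₗ[k] V) : V →ₗ[k] V)).map (((c⁻¹ : H) : V ≃ₗ[k] V) : V →ₗ[k] V) = X := by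
    intro c X
    rw [← Submodule.map_comp]
    convert Submodule.map_id X
    ext v
    have e : ((c⁻¹ * c : H) : V ≃ₗ[k] V) = ((1 : H) : V ≃ₗ[k] V) := by rw [inv_mul_cancel]
    exact LinearEquiv.congr_fun e v
  refine ⟨fun e => h.ne_bot ?_, key g h.inv, fun X hX hi => ?_⟩
  · have := congrArg (Submodule.map (((g⁻¹ : H) : V ≃ₗ[k] V) : V →ₗ[k] V)) e
    rwa [hcomp, Submodule.map_bot] at this
  · have e := hcomp g⁻¹ X
    rw [inv_inv] at e
    rcases h.min (X.map (((g⁻¹ : H) : V ≃ₗ[k] V) : V →ₗ[k] V))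
      (le_of_le_of_eq (Submodule.map_mono hX) (hcomp g W)) (key g⁻¹ hi) with e' | e' <;> rw [e'] at e
    · rw [Submodule.map_bot] at e; exact Or.inl e.symm
    · exact Or.inr e.symm

/-- The restriction of a group element to an invariant subspace. -/
def res {N : Subgroup H} {W : Submodule k V} (h : Inv N W) : N →* Module.End k W where
  toFun n := LinearMap.restrict (((n : H) : V ≃ₗ[k] V) : V →ₗ[k] V) (fun v hv => h n n.2 v hv)
  map_one' := by ext; rfl
  map_mul' _ _ := by ext; rfl

@[simp] theorem res_coe {N : Subgroup H} {W : Submodule k V} (h : Inv N W) (n : N) (v : W) :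
    ((res h n v : W) : V) = ((n : H) : V ≃ₗ[k] V) v := rfl

/-- The commutant of `N` on `W`. -/
def commutant {N : Subgroup H} {W : Submodule k V} (h : Inv N W) : Subalgebra k (Module.End k W) :=
  Subalgebra.centralizer k (Set.range (res h))

theorem mem_commutant {N : Subgroup H} {W : Submodule k V} (h : Inv N W) {x : Module.End k W} :
    x ∈ commutant h ↔ ∀ n : N, res h n * x = x * res h n := by
  rw [commutant, Subalgebra.mem_centralizer_iff]
  exact ⟨fun hx n => hx _ ⟨n, rfl⟩, fun hx g ⟨n, hn⟩ => hn ▸ hx n⟩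

/-- Schur's lemma. -/
theorem commutant_isDomain {N : Subgroup H} {W : Submodule k V} (h : Irr N W) :
    IsDomain (commutant h.inv) := by
  have hinj : ∀ x : commutant h.inv, x ≠ 0 → ∀ v : W, (x : Module.End k W) v = 0 → v = 0 := by
    intro x hx v hv
    have hi : Inv N ((LinearMap.ker (x : Module.End k W)).map W.subtype) := by
      rintro n hn _ ⟨u, hu, rfl⟩
      refine ⟨res h.inv ⟨n, hn⟩ u, ?_, rfl⟩
      have e := LinearMap.congr_fun ((mem_commutant h.inv).1 x.2 ⟨n, hn⟩) u
      simp only [Module.End.mul_apply, LinearMap.mem_ker.1 hu, map_zero] at e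
      exact LinearMap.mem_ker.2 e.symm
    rcases h.min _ (Submodule.map_subtype_le W _) hi with e | e
    · have : (v : V) ∈ (LinearMap.ker (x : Module.End k W)).map W.subtype := ⟨v, hv, rfl⟩
      rw [e, Submodule.mem_bot] at this
      exact Subtype.ext this
    · exfalso
      apply hx
      apply Subtype.ext
      apply LinearMap.ext
      intro u
      obtain ⟨u', hu', he⟩ := (e.symm ▸ u.2 : (u : V) ∈ (LinearMap.ker (x : Module.End k W)).map W.subtype)
      rw [show u' = u from Subtype.ext he] at hu'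
      exact hu'
  have : Nontrivial W := Submodule.nontrivial_iff_ne_bot.2 h.ne_bot
  have : Nontrivial (commutant h.inv) := ⟨0, 1, fun e => by
    obtain ⟨v, hv⟩ := exists_ne (0 : W)
    exact hv (LinearMap.congr_fun (congrArg Subtype.val e) v).symm⟩
  have : NoZeroDivisors (commutant h.inv) := ⟨fun {a b} hab => by
    rw [or_iff_not_imp_left]
    intro ha
    apply Subtype.ext
    apply LinearMap.ext
    intro v
    exact hinj a ha _ (LinearMap.congr_fun (congrArg Subtype.val hab) v)⟩
  exact NoZeroDivisors.to_isDomain (commutant h.inv)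

theorem commutant_comm [Finite V] {N : Subgroup H} {W : Submodule k V} (h : Irr N W)
    {x y : Module.End k W} (hx : x ∈ commutant h.inv) (hy : y ∈ commutant h.inv) :
    x * y = y * x := by
  have := commutant_isDomain h
  have : Finite (Module.End k W) := Finite.of_injective _ DFunLike.coe_injective
  exact congrArg Subtype.val ((Finite.isDomain_to_isField (commutant h.inv)).mul_comm ⟨x, hx⟩ ⟨y, hy⟩)

variable (hreg : ∀ v w : V, v ≠ 0 → w ≠ 0 → ∃! h : H, (h : V ≃ₗ[k] V) v = w)

include hreg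

theorem res_injective {N : Subgroup H} {W : Submodule k V} (hW : W ≠ ⊥) (h : Inv N W) :
    Function.Injective (res h) := by
  intro a b e
  obtain ⟨v, hvW, hv⟩ := Submodule.exists_mem_ne_zero_of_ne_bot hW
  have e' : ((a : H) : V ≃ₗ[k] V) v = ((b : H) : V ≃ₗ[k] V) v :=
    congrArg Subtype.val (LinearMap.congr_fun e ⟨v, hvW⟩)
  have hb : ((b : H) : V ≃ₗ[k] V) v ≠ 0 := fun e => hv ((LinearEquiv.map_eq_zero_iff _).1 e)
  exact Subtype.ext ((hreg v _ hv hb).unique e' rfl)

theorem isCyclic_of_irr [Finite V] {A : Subgroup H} (hA : IsMulCommutative A) {W : Submodule k V}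
    (h : Irr A W) : IsCyclic A := by
  have := commutant_isDomain h
  have : Finite (Module.End k W) := Finite.of_injective _ DFunLike.coe_injective
  let _ : CommRing (commutant h.inv) :=
    { (inferInstance : Ring (commutant h.inv)) with
      mul_comm := fun a b => Subtype.ext (commutant_comm h a.2 b.2) }
  let f : A →* commutant h.inv :=
    { toFun := fun a => ⟨res h.inv a, (mem_commutant h.inv).2 fun n => by
        rw [← map_mul, ← map_mul, hA.is_comm.comm]⟩
      map_one' := Subtype.ext (map_one _)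
      map_mul' := fun a b => Subtype.ext (map_mul _ a b) }
  have := finite_group (H := H)
  exact isCyclic_of_subgroup_isDomain f (fun a b e => res_injective hreg h.ne_bot h.inv (congrArg Subtype.val e))

theorem card_dvd [Finite V] {A : Subgroup H} {W : Submodule k V} (h : Inv A W) :
    Nat.card A ∣ Nat.card W - 1 := by
  classical
  let _ : MulAction A {v : W // v ≠ 0} :=
    { smul := fun a v => ⟨res h a v.1, fun e => v.2 (Subtype.ext
        ((LinearEquiv.map_eq_zero_iff _).1 (congrArg Subtype.val e)))⟩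
      one_smul := fun v => Subtype.ext (Subtype.ext rfl)
      mul_smul := fun a b v => Subtype.ext (Subtype.ext rfl) }
  have hfree : ∀ v : {v : W // v ≠ 0}, MulAction.stabilizer A v = ⊥ := by
    intro v
    rw [Subgroup.eq_bot_iff_forall]
    intro a ha
    have e : ((a : H) : V ≃ₗ[k] V) (v.1 : V) = (v.1 : V) :=
      congrArg (fun z : {v : W // v ≠ 0} => ((z.1 : W) : V)) ha
    exact Subtype.ext (eq_one_of_fix hreg (fun e => v.2 (Subtype.ext e)) e)
  have hc : Nat.card {v : W // v ≠ 0} = Nat.card W - 1 := by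
    let _ := Fintype.ofFinite W
    rw [Nat.card_eq_fintype_card, Fintype.card_subtype_compl, Fintype.card_subtype_eq,
      Nat.card_eq_fintype_card]
  let _ := Fintype.ofFinite (MulAction.orbitRel.Quotient A {v : W // v ≠ 0})
  rw [← hc, Nat.card_congr (α := {v : W // v ≠ 0}) (MulAction.selfEquivSigmaOrbits' A _), Nat.card_sigma]
  refine Finset.dvd_sum fun o _ => ?_
  induction o using Quotient.inductionOn' with
  | h v =>
    rw [MulAction.orbitRel.Quotient.orbit_mk, Nat.card_congr (MulAction.orbitEquivQuotientStabilizer A v),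
      hfree v, Nat.card_congr (QuotientGroup.quotientBot).toEquiv]

theorem card_eq [Finite V] [Nontrivial V] : Nat.card H = Nat.card V - 1 := by
  obtain ⟨v, hv⟩ := exists_ne (0 : V)
  let e : H → {w : V // w ≠ 0} := fun h =>
    ⟨(h : V ≃ₗ[k] V) v, fun e => hv ((LinearEquiv.map_eq_zero_iff _).1 e)⟩
  have he : Function.Bijective e := by
    refine ⟨fun a b h => ?_, fun w => ?_⟩
    · exact (hreg v _ hv (e a).2).unique rfl (congrArg Subtype.val h).symm
    · obtain ⟨h, hh, -⟩ := hreg v w.1 hv w.2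
      exact ⟨h, Subtype.ext hh⟩
  let _ := Fintype.ofFinite V
  classical
  rw [Nat.card_eq_of_bijective e he, Nat.card_eq_fintype_card, Fintype.card_subtype_compl,
    Fintype.card_subtype_eq, Nat.card_eq_fintype_card]

/-- An irreducible proper subspace of a normal subgroup has at most half the dimension. -/
theorem two_mul_finrank_le [Finite V] {N : Subgroup H} (hN : N.Normal) {W : Submodule k V}
    (h : Irr N W) (hW : W ≠ ⊤) : 2 * Module.finrank k W ≤ Module.finrank k V := by
  obtain ⟨w, hwW, hw⟩ := Submodule.exists_mem_ne_zero_of_ne_bot h.ne_bot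
  obtain ⟨v, -, hv⟩ := SetLike.exists_of_lt (lt_top_iff_ne_top.2 hW)
  obtain ⟨g, hg, -⟩ := hreg w v hw (fun e => hv (e ▸ W.zero_mem))
  set W' := W.map ((g : V ≃ₗ[k] V) : V →ₗ[k] V) with hW'
  have hne : W ≠ W' := fun e => hv (e ▸ ⟨w, hwW, hg⟩)
  have h1 := Submodule.finrank_sup_add_finrank_inf_eq W W'
  rw [h.inf_eq_bot (irr_map hN h g) hne, finrank_bot, add_zero] at h1
  have h2 : Module.finrank k W' = Module.finrank k W :=
    LinearEquiv.finrank_map_eq (g : V ≃ₗ[k] V) W
  have h3 := Submodule.finrank_le (W ⊔ W')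
  omega

/-- A non-abelian normal subgroup is irreducible. -/
theorem eq_top_of_irr [Finite V] {N : Subgroup H} (hN : N.Normal) (hna : ¬ IsMulCommutative N)
    {W : Submodule k V} (h : Irr N W) : W = ⊤ := by
  classical
  by_contra hW
  apply hna
  obtain ⟨w₁, hw₁W, hw₁⟩ := Submodule.exists_mem_ne_zero_of_ne_bot h.ne_bot
  obtain ⟨v₀, -, hv₀⟩ := SetLike.exists_of_lt (lt_top_iff_ne_top.2 hW)
  obtain ⟨g, hg, -⟩ := hreg w₁ v₀ hw₁ (fun e => hv₀ (e ▸ W.zero_mem))
  set W' := W.map ((g : V ≃ₗ[k] V) : V →ₗ[k] V) with hW'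
  have h' : Irr N W' := irr_map hN h g
  have hne : W ≠ W' := fun e => hv₀ (e ▸ ⟨w₁, hw₁W, hg⟩)
  have hv₀' : v₀ ∈ W' := ⟨w₁, hw₁W, hg⟩
  have hWW := h.inf_eq_bot h' hne
  have hv₀0 : v₀ ≠ 0 := fun e => hv₀ (e ▸ W.zero_mem)
  have hiso : ∀ v : W, v ≠ 0 → ∃ ψ : W →ₗ[k] W', Function.Bijective ψ ∧ ψ v = ⟨v₀, hv₀'⟩ ∧
      ∀ (n : N) (u : W), ψ (res h.inv n u) = res h'.inv n (ψ u) := by
    intro v hv
    have hx : (v : V) + v₀ ≠ 0 := fun e => hv₀ (by
      rw [show v₀ = -(v : V) from eq_neg_of_add_eq_zero_right e]; exact W.neg_mem v.2)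
    obtain ⟨c, hc, -⟩ := hreg w₁ _ hw₁ hx
    set U := W.map ((c : V ≃ₗ[k] V) : V →ₗ[k] V) with hU
    have hU' : Irr N U := irr_map hN h c
    have hxU : (v : V) + v₀ ∈ U := ⟨w₁, hw₁W, hc⟩
    have hUW : U ⊓ W = ⊥ := hU'.inf_eq_bot h fun e => hv₀ (by
      have := W.sub_mem (e ▸ hxU) v.2
      rwa [add_sub_cancel_left] at this)
    have hUW' : U ⊓ W' = ⊥ := hU'.inf_eq_bot h' fun e => hv (by
      have h1 := W'.sub_mem (e ▸ hxU) hv₀'
      rw [add_sub_cancel_right] at h1
      have h2 : (v : V) ∈ W ⊓ W' := ⟨v.2, h1⟩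
      rw [hWW, Submodule.mem_bot] at h2
      exact Subtype.ext h2)
    have huniq : ∀ (a : W) (b b' : W'), (a : V) + b ∈ U → (a : V) + b' ∈ U → b = b' := by
      intro a b b' hb hb'
      have h1 : (b : V) - b' ∈ U ⊓ W' := ⟨by simpa using U.sub_mem hb hb', W'.sub_mem b.2 b'.2⟩
      rw [hUW', Submodule.mem_bot, sub_eq_zero] at h1
      exact Subtype.ext h1
    let D : Submodule k V :=
      { carrier := {a | a ∈ W ∧ ∃ b : W', a + b ∈ U}
        zero_mem' := ⟨W.zero_mem, 0, by simp⟩
        add_mem' := by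
          rintro a a' ⟨ha, b, hb⟩ ⟨ha', b', hb'⟩
          refine ⟨W.add_mem ha ha', b + b', ?_⟩
          have := U.add_mem hb hb'
          rwa [add_add_add_comm] at this
        smul_mem' := by
          rintro r a ⟨ha, b, hb⟩
          refine ⟨W.smul_mem r ha, r • b, ?_⟩
          have := U.smul_mem r hb
          rwa [smul_add] at this }
    have hD : Inv N D := by
      rintro n hn a ⟨ha, b, hb⟩
      refine ⟨h.inv n hn a ha, res h'.inv ⟨n, hn⟩ b, ?_⟩
      have := hU'.inv n hn _ hb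
      rwa [map_add] at this
    have hDW : D = W := by
      rcases h.min D (fun a ha => ha.1) hD with e | e
      · exfalso
        apply hv
        have : (v : V) ∈ D := ⟨v.2, ⟨v₀, hv₀'⟩, hxU⟩
        rw [e, Submodule.mem_bot] at this
        exact Subtype.ext this
      · exact e
    have hex : ∀ a : W, ∃ b : W', (a : V) + b ∈ U := fun a =>
      ((hDW.symm ▸ a.2 : (a : V) ∈ D)).2
    choose ψ hψ using hex
    let ψl : W →ₗ[k] W' :=
      { toFun := ψ
        map_add' := fun a a' => huniq _ _ _ (hψ _) (by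
          have := U.add_mem (hψ a) (hψ a')
          rw [add_add_add_comm] at this
          exact this)
        map_smul' := fun r a => huniq _ _ _ (hψ _) (by
          have := U.smul_mem r (hψ a)
          rw [smul_add] at this
          exact this) }
    have heq : ∀ (n : N) (u : W), ψl (res h.inv n u) = res h'.inv n (ψl u) := fun n u =>
      huniq _ _ _ (hψ _) (by
        have := hU'.inv n n.2 _ (hψ u)
        rw [map_add] at this
        exact this)
    refine ⟨ψl, ⟨fun a a' e => ?_, fun b => ?_⟩, huniq v _ _ (hψ v) hxU, heq⟩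
    · have h1 : (a : V) - a' ∈ U ⊓ W := ⟨by
        have := U.sub_mem (hψ a) (hψ a')
        rw [show ψ a = ψ a' from e, add_sub_add_right_eq_sub] at this
        exact this, W.sub_mem a.2 a'.2⟩
      rw [hUW, Submodule.mem_bot, sub_eq_zero] at h1
      exact Subtype.ext h1
    · have hR : Inv N ((LinearMap.range ψl).map W'.subtype) := by
        rintro n hn _ ⟨_, ⟨u, rfl⟩, rfl⟩
        exact ⟨_, ⟨res h.inv ⟨n, hn⟩ u, rfl⟩, congrArg Subtype.val (heq ⟨n, hn⟩ u)⟩
      rcases h'.min _ (Submodule.map_subtype_le _ _) hR with e | e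
      · exfalso
        have : v₀ ∈ (LinearMap.range ψl).map W'.subtype :=
          ⟨_, ⟨v, rfl⟩, congrArg Subtype.val (huniq v _ ⟨v₀, hv₀'⟩ (hψ v) hxU)⟩
        rw [e, Submodule.mem_bot] at this
        exact hv₀0 this
      · obtain ⟨b', hb', he⟩ := (e.symm ▸ b.2 : (b : V) ∈ (LinearMap.range ψl).map W'.subtype)
        rw [show b' = b from Subtype.ext he] at hb'
        exact hb'
  let v : W := ⟨w₁, hw₁W⟩
  have hv : v ≠ 0 := fun e => hw₁ (congrArg Subtype.val e)
  have htrans : ∀ u : W, u ≠ 0 → ∃ d ∈ commutant h.inv, d v = u := by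
    intro u hu
    obtain ⟨ψ, hψ, hψv, hψn⟩ := hiso v hv
    obtain ⟨φ, hφ, hφu, hφn⟩ := hiso u hu
    let φe := LinearEquiv.ofBijective φ hφ
    refine ⟨φe.symm.toLinearMap ∘ₗ ψ, (mem_commutant h.inv).2 fun n => ?_, ?_⟩
    · apply LinearMap.ext
      intro z
      apply φe.injective
      show φ (res h.inv n (φe.symm (ψ z))) = φe (φe.symm (ψ (res h.inv n z)))
      rw [hφn, LinearEquiv.apply_symm_apply, hψn]
      congr 1
      exact φe.apply_symm_apply _
    · show φe.symm (ψ v) = u
      rw [hψv, ← hφu]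
      exact φe.symm_apply_apply u
  refine ⟨⟨fun a b => ?_⟩⟩
  have hres : ∀ n : N, res h.inv n v ≠ 0 := fun n e =>
    hw₁ ((LinearEquiv.map_eq_zero_iff _).1 (congrArg Subtype.val e))
  obtain ⟨da, hda, hda'⟩ := htrans _ (hres a)
  obtain ⟨db, hdb, hdb'⟩ := htrans _ (hres b)
  have key : ∀ (n m : N) (d : Module.End k W), d ∈ commutant h.inv → d v = res h.inv m v →
      res h.inv (n * m) v = d (res h.inv n v) := by
    intro n m d hd e
    rw [map_mul, Module.End.mul_apply, ← e]
    exact LinearMap.congr_fun ((mem_commutant h.inv).1 hd n) v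
  have e1 : res h.inv (a * b) v = res h.inv (b * a) v := by
    rw [key a b db hdb hdb', key b a da hda hda', ← hda', ← hdb']
    exact LinearMap.congr_fun (commutant_comm h hdb hda) v
  have e2 : (((a * b : N) : H) : V ≃ₗ[k] V) w₁ = (((b * a : N) : H) : V ≃ₗ[k] V) w₁ :=
    congrArg Subtype.val e1
  have hne2 : (((b * a : N) : H) : V ≃ₗ[k] V) w₁ ≠ 0 := fun e => hw₁ ((LinearEquiv.map_eq_zero_iff _).1 e)
  exact Subtype.ext ((hreg w₁ _ hw₁ hne2).unique e2 rfl)

end CfsgLib.Perm.RegularLinear
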