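import Mathlib
import Cfsg.Agent.Lib.Perm.RegularLinear
import Cfsg.Agent.Lib.Core.FPFComplement

/-!
Linear groups regular on the non-zero vectors without irreducible cyclic normal subgroups:
the minimal non-abelian normal subgroup and the numerical restrictions it imposes.
-/

set_option autoImplicit false
set_option linter.all false

namespace CfsgLib.Perm.RegularLinear

open Subgroup
open scoped commutatorElement

variable {p : ℕ} [Fact p.Prime] {V : Type*} [AddCommGroup V] [Module (ZMod p) V] [Finite V]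
  {H : Subgroup (V ≃ₗ[ZMod p] V)}
  (hreg : ∀ v w : V, v ≠ 0 → w ≠ 0 → ∃! h : H, (h : V ≃ₗ[ZMod p] V) v = w)

include hreg

theorem isCyclic_of_comm [Nontrivial V] {A : Subgroup H} (hA : IsMulCommutative A) : IsCyclic A := by
  obtain ⟨W, -, hW⟩ := exists_irr A (top_ne_bot : (⊤ : Submodule (ZMod p) V) ≠ ⊥) (fun _ _ _ _ => trivial)
  exact isCyclic_of_irr hreg hA hW

theorem apply_of_sq {z : H} (hz : z * z = 1) (hz1 : z ≠ 1) (v : V) : (z : V ≃ₗ[ZMod p] V) v = -v := by
  by_contra hv
  refine hz1 (eq_one_of_fix hreg (v := (z : V ≃ₗ[ZMod p] V) v + v) (fun e => hv (eq_neg_of_add_eq_zero_left e)) ?_)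
  rw [map_add]
  have h1 : (z : V ≃ₗ[ZMod p] V) ((z : V ≃ₗ[ZMod p] V) v) = v :=
    LinearEquiv.congr_fun (congrArg Subtype.val hz) v
  rw [h1, add_comm]

theorem mem_center_of_sq {z : H} (hz : z * z = 1) : z ∈ center H := by
  by_cases hz1 : z = 1
  · subst hz1; exact one_mem _
  refine mem_center_iff.2 fun g => Subtype.ext (LinearEquiv.ext fun v => ?_)
  show (g : V ≃ₗ[ZMod p] V) ((z : V ≃ₗ[ZMod p] V) v) = (z : V ≃ₗ[ZMod p] V) ((g : V ≃ₗ[ZMod p] V) v)
  rw [apply_of_sq hreg hz hz1, apply_of_sq hreg hz hz1, map_neg]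

theorem eq_of_sq [Nontrivial V] {z y : H} (hz : z * z = 1) (hz1 : z ≠ 1) (hy : y * y = 1) (hy1 : y ≠ 1) :
    z = y :=
  Subtype.ext (LinearEquiv.ext fun v => by rw [apply_of_sq hreg hz hz1, apply_of_sq hreg hy hy1])

theorem not_two_of_sq [Nontrivial V] {z : H} (hz : z * z = 1) (hz1 : z ≠ 1) : p ≠ 2 := by
  rintro rfl
  refine hz1 (Subtype.ext (LinearEquiv.ext fun v => ?_))
  rw [apply_of_sq hreg hz hz1]
  show -v = v
  rw [← neg_one_smul (ZMod 2) v, show (-1 : ZMod 2) = 1 from rfl, one_smul]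

/-- The size of an irreducible subspace of a normal subgroup divides up the space. -/
theorem exists_card_eq_pow [Nontrivial V] {A : Subgroup H} (hA : A.Normal) {W : Submodule (ZMod p) V}
    (hW : Irr A W) (hWtop : W ≠ ⊤) :
    ∃ k m : ℕ, 0 < k ∧ 2 ≤ m ∧ Nat.card W = p ^ k ∧ Nat.card V = (p ^ k) ^ m := by
  classical
  haveI : Module.Finite (ZMod p) V := Module.Finite.of_finite
  have hp : p.Prime := Fact.out
  haveI := Fintype.ofFinite V
  set k := Module.finrank (ZMod p) W with hk
  set n := Module.finrank (ZMod p) V with hn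
  have hWcard : Nat.card W = p ^ k := by rw [Module.natCard_eq_pow_finrank (K := ZMod p), Nat.card_zmod]
  have hVcard : Nat.card V = p ^ n := by rw [Module.natCard_eq_pow_finrank (K := ZMod p), Nat.card_zmod]
  have hk0 : 0 < k := Nat.pos_of_ne_zero fun h0 => hW.ne_bot (Submodule.finrank_eq_zero.1 h0)
  obtain ⟨w, hwW, hw⟩ := Submodule.exists_mem_ne_zero_of_ne_bot hW.ne_bot
  let T : Set (Submodule (ZMod p) V) :=
    Set.range fun g : H => W.map ((g : V ≃ₗ[ZMod p] V) : V →ₗ[ZMod p] V)
  haveI : Finite (Submodule (ZMod p) V) :=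
    Finite.of_injective (fun U => (U : Set V)) SetLike.coe_injective
  haveI := Fintype.ofFinite T
  have hcov : ∀ x : V, x ≠ 0 → ∃ U : T, x ∈ U.1 := fun x hx => by
    obtain ⟨g, hg, -⟩ := hreg w x hw hx
    exact ⟨⟨_, g, rfl⟩, ⟨w, hwW, hg⟩⟩
  have huniq : ∀ (x : V), x ≠ 0 → ∀ U U' : T, x ∈ U.1 → x ∈ U'.1 → U = U' := by
    rintro x hx ⟨_, g, rfl⟩ ⟨_, g', rfl⟩ h h'
    by_contra hne
    have h1 := (irr_map hA hW g).inf_eq_bot (irr_map hA hW g') fun e => hne (Subtype.ext e)
    have h2 : x ∈ W.map ((g : V ≃ₗ[ZMod p] V) : V →ₗ[ZMod p] V) ⊓ W.map ((g' : V ≃ₗ[ZMod p] V) : V →ₗ[ZMod p] V) := ⟨h, h'⟩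
    rw [h1, Submodule.mem_bot] at h2
    exact hx h2
  let e : (Σ U : T, {x : U.1 // x ≠ 0}) → {x : V // x ≠ 0} := fun s =>
    ⟨(s.2.1 : V), fun h0 => s.2.2 (Subtype.ext h0)⟩
  have he : Function.Bijective e := by
    refine ⟨fun s t hst => ?_, fun x => ?_⟩
    · obtain ⟨U, x, hx⟩ := s
      obtain ⟨U', x', hx'⟩ := t
      have hxx : (x : V) = x' := congrArg Subtype.val hst
      obtain rfl := huniq x (fun h0 => hx (Subtype.ext h0)) U U' x.2 (hxx ▸ x'.2)
      obtain rfl := Subtype.ext hxx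
      rfl
    · obtain ⟨U, hU⟩ := hcov x x.2
      exact ⟨⟨U, ⟨x, hU⟩, fun h0 => x.2 (congrArg Subtype.val h0)⟩, rfl⟩
  have hdvd : p ^ k - 1 ∣ p ^ n - 1 := by
    have h1 := Nat.card_eq_of_bijective e he
    rw [Nat.card_sigma] at h1
    have hV : Nat.card {x : V // x ≠ 0} = p ^ n - 1 := by
      rw [← hVcard, Nat.card_eq_fintype_card, Fintype.card_subtype_compl, Fintype.card_subtype_eq,
        Nat.card_eq_fintype_card]
    rw [← hV, ← h1]
    refine Finset.dvd_sum fun U _ => ?_
    haveI := Fintype.ofFinite U.1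
    rw [Nat.card_eq_fintype_card (α := {x : U.1 // x ≠ 0}), Fintype.card_subtype_compl, Fintype.card_subtype_eq,
      ← Nat.card_eq_fintype_card]
    obtain ⟨g, hg⟩ := U.2
    rw [← hg, Module.natCard_eq_pow_finrank (K := ZMod p), Nat.card_zmod,
      LinearEquiv.finrank_map_eq (g : V ≃ₗ[ZMod p] V) W]
  obtain ⟨m, hm⟩ : k ∣ n := by
    have h1 := Nat.pow_sub_one_gcd_pow_sub_one p k n
    rw [Nat.gcd_eq_left hdvd] at h1
    have h2 : p ^ k = p ^ Nat.gcd k n := by
      have := Nat.one_le_pow k p hp.pos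
      have := Nat.one_le_pow (Nat.gcd k n) p hp.pos
      omega
    exact (Nat.pow_right_injective hp.two_le h2) ▸ Nat.gcd_dvd_right k n
  refine ⟨k, m, hk0, ?_, hWcard, by rw [hVcard, hm, pow_mul]⟩
  have h1 : k < n := Submodule.finrank_lt hWtop
  by_contra hlt
  have h2 : k * m ≤ k * 1 := Nat.mul_le_mul_left k (by omega)
  omega

/-- An irreducible subspace of a normal cyclic subgroup is proper. -/
theorem ne_top_of_hI (hI : ∀ A : Subgroup H, A.Normal → IsCyclic A → ∃ W : Submodule (ZMod p) V,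
      W ≠ ⊥ ∧ W ≠ ⊤ ∧ ∀ a ∈ A, ∀ v ∈ W, ((a : H) : V ≃ₗ[ZMod p] V) v ∈ W)
    {A : Subgroup H} (hA : A.Normal) (hAc : IsCyclic A) {W : Submodule (ZMod p) V} (hW : Irr A W) :
    W ≠ ⊤ := by
  rintro rfl
  obtain ⟨U, h0, h1, hU⟩ := hI A hA hAc
  rcases hW.min U le_top hU with e | e
  exacts [h0 e, h1 e]

theorem nontrivial_of_hI (hI : ∀ A : Subgroup H, A.Normal → IsCyclic A → ∃ W : Submodule (ZMod p) V,
      W ≠ ⊥ ∧ W ≠ ⊤ ∧ ∀ a ∈ A, ∀ v ∈ W, ((a : H) : V ≃ₗ[ZMod p] V) v ∈ W) : Nontrivial V := by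
  obtain ⟨U, h0, -, -⟩ := hI ⊥ inferInstance isCyclic_of_subsingleton
  obtain ⟨x, -, hx⟩ := Submodule.exists_mem_ne_zero_of_ne_bot h0
  exact ⟨⟨x, 0, hx⟩⟩

/-- Maximal normal abelian subgroup, minimal non-abelian normal subgroup of its centraliser, and
the numerical data. -/
theorem exists_data (hI : ∀ A : Subgroup H, A.Normal → IsCyclic A → ∃ W : Submodule (ZMod p) V,
      W ≠ ⊥ ∧ W ≠ ⊤ ∧ ∀ a ∈ A, ∀ v ∈ W, ((a : H) : V ≃ₗ[ZMod p] V) v ∈ W) :
    ∃ (A N : Subgroup H) (k m : ℕ), A.Normal ∧ IsMulCommutative A ∧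
      (∀ B : Subgroup H, B.Normal → IsMulCommutative B → A ≤ B → B = A) ∧
      N.Normal ∧ N ≤ centralizer (A : Set H) ∧ ¬ IsMulCommutative N ∧
      (∀ M : Subgroup H, M.Normal → M ≤ N → ¬ IsMulCommutative M → M = N) ∧
      0 < k ∧ 2 ≤ m ∧ Nat.card A ∣ p ^ k - 1 ∧ Nat.card V = (p ^ k) ^ m ∧
      Nat.card H = (p ^ k) ^ m - 1 := by
  classical
  haveI := nontrivial_of_hI hreg hI
  haveI := finite_group (H := H)
  haveI : Finite (Subgroup H) := Finite.of_injective (fun B => (B : Set H)) SetLike.coe_injective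
  obtain ⟨A, hA⟩ := (Set.toFinite {B : Subgroup H | B.Normal ∧ IsMulCommutative B}).exists_maximal
    ⟨⊥, inferInstance, inferInstance⟩
  obtain ⟨hAn, hAc⟩ := hA.prop
  have hAmax : ∀ B : Subgroup H, B.Normal → IsMulCommutative B → A ≤ B → B = A := fun B h1 h2 h3 =>
    le_antisymm (hA.le_of_ge ⟨h1, h2⟩ h3) h3
  have hcyc : IsCyclic A := isCyclic_of_comm hreg hAc
  obtain ⟨W, -, hW⟩ := exists_irr A (top_ne_bot : (⊤ : Submodule (ZMod p) V) ≠ ⊥) (fun _ _ _ _ => trivial)
  obtain ⟨k, m, hk, hm, hWc, hVc⟩ :=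
    exists_card_eq_pow hreg hAn hW (ne_top_of_hI hreg hI hAn hcyc hW)
  have hAdvd : Nat.card A ∣ p ^ k - 1 := hWc ▸ card_dvd hreg hW.inv
  have hHcard : Nat.card H = (p ^ k) ^ m - 1 := by rw [card_eq hreg, hVc]
  set C := centralizer (A : Set H) with hC
  haveI : C.Normal := inferInstance
  have hCna : ¬ IsMulCommutative C := by
    intro hCc
    have hAC : A ≤ C := fun a ha => mem_centralizer_iff.2 fun b hb =>
      congrArg Subtype.val (hAc.is_comm.comm ⟨b, hb⟩ ⟨a, ha⟩)
    have hCA : C = A := hAmax C inferInstance hCc hAC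
    haveI := hAn
    let φ : H →* MulAut A := MulAut.conjNormal
    have hker : φ.ker ≤ A := fun g hg => hCA ▸ (mem_centralizer_iff.2 fun b hb => by
      have h1 := congrArg Subtype.val (DFunLike.congr_fun (MonoidHom.mem_ker.1 hg) (⟨b, hb⟩ : A))
      rw [MulAut.conjNormal_apply, MulAut.one_apply] at h1
      change g * b * g⁻¹ = b at h1
      exact (mul_inv_eq_iff_eq_mul.1 h1).symm)
    have hrange : Nat.card φ.range ≤ Nat.card A := by
      refine (Subgroup.card_le_card_group φ.range).trans ?_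
      haveI : NeZero (Nat.card A) := ⟨Nat.card_pos.ne'⟩
      rw [Nat.card_congr (IsCyclic.mulAutMulEquiv A).toEquiv, Nat.card_eq_fintype_card, ZMod.card_units_eq_totient]
      exact Nat.totient_le _
    have h1 : Nat.card H ≤ Nat.card A * Nat.card A := by
      rw [← φ.ker.index_mul_card, Subgroup.index_ker]
      exact Nat.mul_le_mul hrange (Nat.le_of_dvd Nat.card_pos (Subgroup.card_dvd_of_le hker))
    have hq : 2 ≤ p ^ k := (Fact.out : p.Prime).two_le.trans (Nat.le_self_pow hk.ne' p)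
    have h2 : Nat.card A ≤ p ^ k - 1 := Nat.le_of_dvd (by omega) hAdvd
    have h3 : (p ^ k) ^ 2 ≤ (p ^ k) ^ m := Nat.pow_le_pow_right (by omega) hm
    have h4 := h1.trans (Nat.mul_le_mul h2 h2)
    obtain ⟨q, hq'⟩ : ∃ q, p ^ k = q + 2 := ⟨p ^ k - 2, by omega⟩
    rw [hHcard] at h4
    rw [hq'] at h4 h3
    rw [show (q + 2) ^ 2 = q * q + 4 * q + 4 by ring] at h3
    rw [show (q + 2 - 1) * (q + 2 - 1) = q * q + 2 * q + 1 by
      rw [show q + 2 - 1 = q + 1 by omega]; ring] at h4
    omega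
  obtain ⟨N, hN⟩ := (Set.toFinite {M : Subgroup H | M.Normal ∧ M ≤ C ∧ ¬ IsMulCommutative M}).exists_minimal
    ⟨C, inferInstance, le_rfl, hCna⟩
  obtain ⟨hNn, hNC, hNna⟩ := hN.prop
  exact ⟨A, N, k, m, hAn, hAc, hAmax, hNn, hNC, hNna, fun M h1 h2 h3 =>
    le_antisymm h2 (hN.le_of_le ⟨h1, h2.trans hNC, h3⟩ h2), hk, hm, hAdvd, hVc, hHcard⟩

/-- The centraliser of the minimal subgroup is the maximal abelian one. -/
theorem centralizer_eq [Nontrivial V] {A N : Subgroup H}
    (hAc : IsMulCommutative A) (hAmax : ∀ B : Subgroup H, B.Normal → IsMulCommutative B → A ≤ B → B = A)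
    (hNn : N.Normal) (hNle : N ≤ centralizer (A : Set H)) (hNna : ¬ IsMulCommutative N) :
    centralizer (N : Set H) = A := by
  obtain ⟨W, -, hW⟩ := exists_irr N (top_ne_bot : (⊤ : Submodule (ZMod p) V) ≠ ⊥) (fun _ _ _ _ => trivial)
  obtain rfl := eq_top_of_irr hreg hNn hNna hW
  set C := centralizer (N : Set H) with hC
  haveI := hNn
  have hi : Inv C (⊤ : Submodule (ZMod p) V) := fun _ _ _ _ => trivial
  have hCc : IsMulCommutative C := ⟨⟨fun x y => by
    apply res_injective hreg top_ne_bot hi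
    rw [map_mul, map_mul]
    refine commutant_comm hW ?_ ?_
    all_goals
      rw [mem_commutant]
      intro n
    · exact LinearMap.ext fun v => Subtype.ext (LinearEquiv.congr_fun
        (congrArg Subtype.val (mem_centralizer_iff.1 x.2 n n.2)) v.1)
    · exact LinearMap.ext fun v => Subtype.ext (LinearEquiv.congr_fun
        (congrArg Subtype.val (mem_centralizer_iff.1 y.2 n n.2)) v.1)⟩⟩
  exact hAmax C inferInstance hCc fun a ha => mem_centralizer_iff.2 fun n hn =>
    (mem_centralizer_iff.1 (hNle hn) a ha).symm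

/-- A `p`-subgroup is cyclic or generalised quaternion. -/
theorem cyclic_or_quaternion [Nontrivial V] {r : ℕ} [hr : Fact r.Prime] {S : Subgroup H} (hS : IsPGroup r S) :
    IsCyclic S ∨ (r = 2 ∧ ∃ n : ℕ, Nonempty (S ≃* QuaternionGroup (2 ^ n))) := by
  classical
  haveI := finite_group (H := H)
  refine CfsgLib.Core.UniqueOrderP.isCyclic_or_quaternion_of_unique hS fun X Y hX hY => ?_
  haveI : Nontrivial S := by
    by_contra hs
    rw [not_nontrivial_iff_subsingleton] at hs
    have := Nat.card_le_card_of_injective (fun x : X => (x : S)) Subtype.val_injective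
    rw [hX, Nat.card_unique] at this
    exact absurd this (not_le.2 hr.out.one_lt)
  haveI : Nontrivial (center S) := hS.center_nontrivial
  obtain ⟨c, hc⟩ := exists_prime_orderOf_dvd_card' (G := center S) r (by
    obtain ⟨i, hi⟩ := IsPGroup.iff_card.1 (hS.to_subgroup (center S))
    rw [hi]
    exact dvd_pow_self r fun h0 => by
      have := Finite.one_lt_card (α := center S)
      rw [hi, h0, pow_zero] at this
      omega)
  have key : ∀ Z : Subgroup S, Nat.card Z = r → Z = zpowers (c : S) := by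
    intro Z hZ
    obtain ⟨z, hz⟩ := exists_prime_orderOf_dvd_card' (G := Z) r (by rw [hZ])
    set K := closure ({((z : S) : H), ((c : S) : H)} : Set H) with hK
    haveI hKc : IsMulCommutative K := by
      have hzc : ((z : S) : H) * ((c : S) : H) = ((c : S) : H) * ((z : S) : H) :=
        congrArg Subtype.val (mem_center_iff.1 c.2 (z : S))
      refine Subgroup.isMulCommutative_closure ?_
      intro x hx y hy
      rcases hx with rfl | rfl <;> rcases hy with rfl | rfl
      · rfl
      · exact hzc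
      · exact hzc.symm
      · rfl
    haveI := isCyclic_of_comm hreg hKc
    haveI := Fintype.ofFinite K
    let a : K := ⟨_, subset_closure (Set.mem_insert _ _)⟩
    let b : K := ⟨_, subset_closure (Set.mem_insert_of_mem _ rfl)⟩
    have ha : orderOf a = r := by
      rw [← Subgroup.orderOf_coe a]; show orderOf ((z : S) : H) = r; rw [Subgroup.orderOf_coe, Subgroup.orderOf_coe, hz]
    have hb : orderOf b = r := by
      rw [← Subgroup.orderOf_coe b]; show orderOf ((c : S) : H) = r; rw [Subgroup.orderOf_coe, Subgroup.orderOf_coe, hc]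
    have hsub : ∀ u : K, orderOf u = r →
        (Finset.univ.filter fun x : K => x ^ r = 1) = (Finset.univ.filter fun x : K => x ∈ zpowers u) := by
      intro u hu
      refine (Finset.eq_of_subset_of_card_le (fun x hx => ?_) ?_).symm
      · obtain ⟨i, rfl⟩ := mem_zpowers_iff.1 (Finset.mem_filter.1 hx).2
        refine Finset.mem_filter.2 ⟨Finset.mem_univ _, ?_⟩
        rw [← zpow_natCast (u ^ i), ← zpow_mul, mul_comm, zpow_mul, zpow_natCast, ← hu, pow_orderOf_eq_one,
          one_zpow]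
      · refine (IsCyclic.card_pow_eq_one_le hr.out.pos).trans ?_
        rw [← Fintype.card_subtype, ← Nat.card_eq_fintype_card, Nat.card_zpowers, hu]
    have hmem : a ∈ Finset.univ.filter fun x : K => x ∈ zpowers b := by
      rw [← hsub b hb]
      exact Finset.mem_filter.2 ⟨Finset.mem_univ _, by rw [← ha, pow_orderOf_eq_one]⟩
    obtain ⟨i, hi⟩ := mem_zpowers_iff.1 (Finset.mem_filter.1 hmem).2
    have hzmem : (z : S) ∈ zpowers (c : S) := mem_zpowers_iff.2 ⟨i, Subtype.ext (by
      have := congrArg Subtype.val hi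
      simpa [a, b] using this)⟩
    have hzZ : zpowers (z : S) = Z := by
      refine Subgroup.eq_of_le_of_card_ge (zpowers_le.2 z.2) ?_
      rw [hZ, Nat.card_zpowers, Subgroup.orderOf_coe, hz]
    refine Subgroup.eq_of_le_of_card_ge (hzZ ▸ zpowers_le.2 hzmem) ?_
    rw [hZ, Nat.card_zpowers, Subgroup.orderOf_coe, hc]
  rw [key X hX, key Y hY]

/-- A minimal non-abelian normal subgroup of the centraliser is perfect or quaternion of order eight. -/
theorem perfect_or_quaternion [Nontrivial V] {A N : Subgroup H} (hAn : A.Normal)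
    (hAc : IsMulCommutative A) (hAmax : ∀ B : Subgroup H, B.Normal → IsMulCommutative B → A ≤ B → B = A)
    (hNn : N.Normal) (hNle : N ≤ centralizer (A : Set H)) (hNna : ¬ IsMulCommutative N)
    (hNmin : ∀ M : Subgroup H, M.Normal → M ≤ N → ¬ IsMulCommutative M → M = N) :
    commutator N = ⊤ ∨ Nonempty (N ≃* QuaternionGroup 2) := by
  classical
  haveI := finite_group (H := H)
  haveI := hAn
  haveI := hNn
  set D := ⁅N, N⁆ with hD
  have hDN : D ≤ N := commutator_le_left N N
  haveI hDn : D.Normal := commutator_normal N N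
  by_cases hDna : IsMulCommutative D
  swap
  · left
    apply map_injective N.subtype_injective
    rw [← MonoidHom.range_eq_map, range_subtype, _root_.commutator_def, map_commutator,
      ← MonoidHom.range_eq_map, range_subtype]
    exact hNmin D hDn hDN hDna
  right
  -- the derived subgroup is central in `N`
  have hDA : D ≤ A := by
    have hcomm : IsMulCommutative ↥(A ⊔ D) := by
      have h1 : A ⊔ D ≤ centralizer ((A ⊔ D : Subgroup H) : Set H) := by
        rw [sup_le_iff]
        constructor <;> rw [Subgroup.le_centralizer_iff] <;> rw [sup_le_iff]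
        · exact ⟨(Subgroup.le_centralizer_iff.1 fun a ha => mem_centralizer_iff.2 fun b hb =>
            congrArg Subtype.val (hAc.is_comm.comm ⟨b, hb⟩ ⟨a, ha⟩)), hDN.trans hNle⟩
        · exact ⟨Subgroup.le_centralizer_iff.1 (hDN.trans hNle), fun a ha => mem_centralizer_iff.2 fun b hb =>
            congrArg Subtype.val (hDna.is_comm.comm ⟨b, hb⟩ ⟨a, ha⟩)⟩
      exact ⟨⟨fun x y => Subtype.ext (mem_centralizer_iff.1 (h1 y.2) x x.2)⟩⟩
    exact le_sup_right.trans (hAmax (A ⊔ D) inferInstance hcomm le_sup_left).le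
  haveI : Group.IsNilpotent N := by
    refine Subgroup.isNilpotent_of_ker_le_center (Abelianization.of (G := N)) ?_
    rw [Abelianization.ker_of, _root_.commutator_def, Subgroup.commutator_le]
    intro x _ y _
    rw [mem_center_iff]
    intro g
    refine Subtype.ext ?_
    have h1 : ((⁅x, y⁆ : N) : H) ∈ A := hDA (commutator_mem_commutator x.2 y.2)
    exact (mem_centralizer_iff.1 (hNle g.2) _ h1).symm
  -- the Sylow two-subgroup
  haveI : Fact (Nat.Prime 2) := ⟨Nat.prime_two⟩
  obtain ⟨P⟩ : Nonempty (Sylow 2 N) := inferInstance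
  have hnorm : ∀ (r : ℕ) [Fact r.Prime] (Q : Sylow r N), (Q : Subgroup N).Normal := fun r _ Q =>
    Q.normal_of_normalizerCondition Group.normalizerCondition_of_isNilpotent
  have hPn := hnorm 2 P
  have hchar : ((P : Subgroup N).map N.subtype).Normal := by
    haveI : (P : Subgroup N).Characteristic := Sylow.characteristic_of_normal P hPn
    infer_instance
  have hPtop : (P : Subgroup N) = ⊤ := by
    by_cases hPna : IsMulCommutative ↥((P : Subgroup N).map N.subtype)
    swap
    · apply map_injective N.subtype_injective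
      rw [← MonoidHom.range_eq_map, range_subtype]
      exact hNmin _ hchar (map_subtype_le _) hPna
    exfalso
    apply hNna
    have hsyl : ∀ (r : ℕ) [Fact r.Prime] (Q : Sylow r N), ∀ x y : (Q : Subgroup N), x * y = y * x := by
      intro r hr Q x y
      have e := (Q : Subgroup N).equivMapOfInjective N.subtype N.subtype_injective
      apply e.injective
      rw [map_mul, map_mul]
      by_cases hr2 : r = 2
      · subst hr2
        haveI := Sylow.unique_of_normal P hPn
        obtain rfl := Subsingleton.elim Q P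
        exact hPna.is_comm.comm _ _
      · rcases cyclic_or_quaternion hreg (Q.isPGroup'.map N.subtype) with hc | ⟨h2, -⟩
        · obtain ⟨g, hg⟩ := IsCyclic.exists_generator (α := ↥((Q : Subgroup N).map N.subtype))
          obtain ⟨i, hi⟩ := mem_zpowers_iff.1 (hg (e x))
          obtain ⟨j, hj⟩ := mem_zpowers_iff.1 (hg (e y))
          rw [← hi, ← hj]
          exact (Commute.refl g).zpow_zpow i j
        · exact absurd h2 hr2
    let E := Sylow.directProductOfNormal (G := N) (fun {r} hr Q => hnorm r Q)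
    refine ⟨⟨fun x y => ?_⟩⟩
    apply E.symm.injective
    rw [map_mul, map_mul]
    funext r Q
    haveI : Fact ((r : ℕ).Prime) := ⟨Nat.prime_of_mem_primeFactors r.2⟩
    exact hsyl r Q _ _
  have hN2 : IsPGroup 2 N := by
    have := P.isPGroup'
    rw [hPtop] at this
    exact this.of_equiv Subgroup.topEquiv
  rcases cyclic_or_quaternion hreg hN2 with hc | ⟨-, n, ⟨e⟩⟩
  · exfalso
    exact hNna ⟨⟨fun x y => by
      obtain ⟨g, hg⟩ := IsCyclic.exists_generator (α := N)
      obtain ⟨i, rfl⟩ := mem_zpowers_iff.1 (hg x)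
      obtain ⟨j, rfl⟩ := mem_zpowers_iff.1 (hg y)
      exact (Commute.refl g).zpow_zpow i j⟩⟩
  have hcc : ∀ x y g : QuaternionGroup (2 ^ n), g * ⁅x, y⁆ = ⁅x, y⁆ * g := by
    intro x y g
    apply e.symm.injective
    rw [map_mul, map_mul, map_commutatorElement]
    refine Subtype.ext ?_
    have h1 : ((⁅e.symm x, e.symm y⁆ : N) : H) ∈ A :=
      hDA (commutator_mem_commutator (e.symm x).2 (e.symm y).2)
    exact (mem_centralizer_iff.1 (hNle (e.symm g).2) _ h1).symm
  rcases n with _ | _ | n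
  · exfalso
    exact hNna ⟨⟨fun x y => e.injective (by
      rw [map_mul, map_mul]
      generalize e x = u
      generalize e y = v
      revert u v
      decide)⟩⟩
  · exact ⟨e⟩
  · exfalso
    haveI : NeZero (2 ^ (n + 1 + 1)) := ⟨(Nat.two_pow_pos _).ne'⟩
    have h1 := hcc (QuaternionGroup.a 1) (QuaternionGroup.xa 0) (QuaternionGroup.xa 0)
    rw [commutatorElement_def] at h1
    rw [show (QuaternionGroup.a (1 : ZMod (2 * 2 ^ (n + 1 + 1))))⁻¹ = QuaternionGroup.a (-1) from rfl,
      show (QuaternionGroup.xa (0 : ZMod (2 * 2 ^ (n + 1 + 1))))⁻¹ =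
        QuaternionGroup.xa (((2 ^ (n + 1 + 1) : ℕ) : ZMod (2 * 2 ^ (n + 1 + 1))) + 0) from rfl] at h1
    simp only [QuaternionGroup.a_mul_xa, QuaternionGroup.xa_mul_a, QuaternionGroup.xa_mul_xa,
      QuaternionGroup.a_mul_a] at h1
    injection h1 with h2
    have h0 : ((2 * 2 ^ (n + 1 + 1) : ℕ) : ZMod (2 * 2 ^ (n + 1 + 1))) = 0 := ZMod.natCast_self _
    rw [Nat.cast_mul, Nat.cast_ofNat] at h0
    have h4 : (4 : ZMod (2 * 2 ^ (n + 1 + 1))) = 0 := by linear_combination h2 - 2 * h0
    have h5 : ((4 : ℕ) : ZMod (2 * 2 ^ (n + 1 + 1))) = 0 := by exact_mod_cast h4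
    rw [ZMod.natCast_eq_zero_iff] at h5
    have := Nat.le_of_dvd (by norm_num) h5
    have := Nat.two_pow_pos n
    rw [pow_succ, pow_succ] at *
    omega

end CfsgLib.Perm.RegularLinear
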