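import Cfsg.Agent.Lib.Perm.RegularPerfect
import Cfsg.Agent.Lib.Perm.SLTwoFive
import Cfsg.Agent.Lib.Classical.Dickson.MinimalSimple
import Cfsg.Agent.S3742

/-! The insoluble linear groups regular on the non-zero vectors. -/

set_option autoImplicit false
set_option linter.all false
set_option maxHeartbeats 1000000

open scoped MatrixGroups

namespace CfsgLib.Perm.RegularLinear

open Subgroup

variable {p : ℕ} [Fact p.Prime] {V : Type*} [AddCommGroup V] [Module (ZMod p) V] [Finite V]
  {H : Subgroup (V ≃ₗ[ZMod p] V)}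

theorem ker_conjNormal {A N : Subgroup H} [N.Normal] (hCN : centralizer (N : Set H) = A) :
    (MulAut.conjNormal : H →* MulAut N).ker = A := by
  rw [← hCN]
  ext g
  rw [MonoidHom.mem_ker, mem_centralizer_iff]
  constructor
  · intro h y hy
    have h1 := congrArg Subtype.val (DFunLike.congr_fun h (⟨y, hy⟩ : N))
    rw [MulAut.conjNormal_apply, MulAut.one_apply] at h1
    exact (mul_inv_eq_iff_eq_mul.1 h1).symm
  · intro h
    refine MulEquiv.ext fun y => Subtype.ext ?_
    rw [MulAut.conjNormal_apply, MulAut.one_apply, mul_inv_eq_iff_eq_mul]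
    exact (h y y.2).symm

variable (hreg : ∀ v w : V, v ≠ 0 → w ≠ 0 → ∃! h : H, (h : V ≃ₗ[ZMod p] V) v = w)

include hreg

/-- In an insoluble group no normal cyclic subgroup is irreducible. -/
theorem hI_of_not_solvable [Nontrivial V] (hsolv : ¬ Group.IsSolvable H) :
    ∀ A : Subgroup H, A.Normal → IsCyclic A → ∃ W : Submodule (ZMod p) V,
      W ≠ ⊥ ∧ W ≠ ⊤ ∧ ∀ a ∈ A, ∀ v ∈ W, ((a : H) : V ≃ₗ[ZMod p] V) v ∈ W := by
  intro A hAn hAc
  haveI := hAn
  haveI := hAc
  haveI := finite_group (H := H)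
  obtain ⟨W, -, hW⟩ := exists_irr A (top_ne_bot : (⊤ : Submodule (ZMod p) V) ≠ ⊥) (fun _ _ _ _ => trivial)
  by_cases hWt : W = ⊤
  swap
  · exact ⟨W, hW.ne_bot, hWt, hW.inv⟩
  subst hWt
  exfalso
  apply hsolv
  set C := centralizer (A : Set H) with hC
  have hi : Inv C (⊤ : Submodule (ZMod p) V) := fun _ _ _ _ => trivial
  have hCc : ∀ x y : C, x * y = y * x := fun x y => by
    apply res_injective hreg top_ne_bot hi
    rw [map_mul, map_mul]
    refine commutant_comm hW ?_ ?_
    all_goals
      rw [mem_commutant]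
      intro n
    · exact LinearMap.ext fun v => Subtype.ext (LinearEquiv.congr_fun
        (congrArg Subtype.val (mem_centralizer_iff.1 x.2 n n.2)) v.1)
    · exact LinearMap.ext fun v => Subtype.ext (LinearEquiv.congr_fun
        (congrArg Subtype.val (mem_centralizer_iff.1 y.2 n n.2)) v.1)
  haveI : Group.IsSolvable C := Group.isSolvable_of_comm hCc
  haveI : NeZero (Nat.card A) := ⟨Nat.card_pos.ne'⟩
  haveI : Group.IsSolvable (MulAut A) :=
    Group.isSolvable_of_isSolvable_injective (f := (IsCyclic.mulAutMulEquiv A).toMonoidHom)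
      (IsCyclic.mulAutMulEquiv A).injective
  refine Group.isSolvable_of_ker_le_range C.subtype (MulAut.conjNormal : H →* MulAut A) ?_
  rw [range_subtype]
  exact (ker_conjNormal rfl).le

/-- The numerical conclusion. -/
theorem fpf_torus [Nontrivial V] {A N : Subgroup H} [N.Normal] (hCN : centralizer (N : Set H) = A)
    {φ : H →* MulAut N} (hker : φ.ker = A) (e : N ≃* SL(2, ZMod 5)) {k m : ℕ} (hk : 0 < k)
    (hAdvd : Nat.card A ∣ p ^ k - 1) (hm : 2 ≤ m) (hV : Nat.card V = (p ^ k) ^ m)
    (hH : Nat.card H = (p ^ k) ^ m - 1) (hcard : Nat.card H = Nat.card φ.range * Nat.card A) :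
    m = 2 ∧ ((p ^ k = 11 ∧ Nat.card A = 2) ∨ (p ^ k = 29 ∧ Nat.card A = 14) ∨
      (p ^ k = 59 ∧ Nat.card A = 58)) := by
  classical
  haveI := finite_group (H := H)
  haveI : Fact (Nat.Prime 5) := ⟨by norm_num⟩
  have hr : Nat.card φ.range ∣ 120 := by
    refine (Subgroup.card_subgroup_dvd_card _).trans ?_
    rw [Nat.card_congr (MulAut.congr e).toEquiv]
    exact CfsgLib.Perm.SLTwoFive.mulAut_dvd
  have hN : Nat.card N = 120 := by rw [Nat.card_congr e.toEquiv, CfsgLib.Perm.SLTwoFive.card_eq]
  have hcen : Nat.card (center N) = 2 := by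
    rw [Nat.card_congr (Subgroup.centerCongr e).toEquiv, CfsgLib.Perm.SLTwoFive.card_center]
  have h60 : 60 ≤ Nat.card φ.range := by
    have hle : (φ.comp N.subtype).ker ≤ center N := fun x hx => mem_center_iff.2 fun y => Subtype.ext (by
      have h1 : (x : H) ∈ centralizer (N : Set H) := by rw [hCN, ← hker]; exact hx
      exact mem_centralizer_iff.1 h1 y y.2)
    have h1 := (φ.comp N.subtype).ker.index_mul_card
    rw [Subgroup.index_ker, hN] at h1
    have h2 : Nat.card (φ.comp N.subtype).range ≤ Nat.card φ.range := by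
      refine Subgroup.card_le_of_le ?_
      rintro _ ⟨x, rfl⟩
      exact ⟨x, rfl⟩
    have h3 := Nat.mul_le_mul h2 ((Nat.le_of_dvd Nat.card_pos (Subgroup.card_dvd_of_le hle)).trans hcen.le)
    omega
  -- the involution
  obtain ⟨z, hzo⟩ := exists_prime_orderOf_dvd_card' (G := N) (hp := ⟨Nat.prime_two⟩) 2 (by rw [hN]; norm_num)
  have hz2 : (z : H) * z = 1 := by
    rw [← Subgroup.coe_mul, ← pow_two, ← hzo, pow_orderOf_eq_one]; rfl
  have hz1 : (z : H) ≠ 1 := fun h => by
    rw [show z = 1 from Subtype.ext h, orderOf_one] at hzo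
    norm_num at hzo
  have hzA : (z : H) ∈ A := hCN ▸ mem_centralizer_iff.2 fun y _ =>
    mem_center_iff.1 (mem_center_of_sq hreg hz2) y
  have hA2 : 2 ∣ Nat.card A := by
    have h1 := orderOf_dvd_natCard (⟨z, hzA⟩ : A)
    rwa [← Subgroup.orderOf_coe, orderOf_eq_prime (p := 2) (by rw [pow_two, hz2]) hz1] at h1
  have h120 : 120 ∣ Nat.card H := hN ▸ Subgroup.card_subgroup_dvd_card N
  have hp := (Fact.out : p.Prime)
  have h3A : Nat.card φ.range = 60 → ¬ 3 ∣ Nat.card A := by
    intro _ h3
    haveI : Fact (Nat.Prime 3) := ⟨Nat.prime_three⟩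
    obtain ⟨b, hb⟩ := exists_prime_orderOf_dvd_card' (G := A) 3 h3
    obtain ⟨x, hx⟩ := exists_prime_orderOf_dvd_card' (G := N) 3 (by rw [hN]; norm_num)
    have hbx : Commute (b : H) (x : H) := by
      have h1 : (b : H) ∈ centralizer (N : Set H) := by rw [hCN]; exact b.2
      exact (mem_centralizer_iff.1 h1 x x.2).symm
    set K := closure ({(b : H), (x : H)} : Set H) with hK
    haveI hKc : IsMulCommutative K := by
      refine Subgroup.isMulCommutative_closure ?_
      intro u hu w hw
      rcases hu with rfl | rfl <;> rcases hw with rfl | rfl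
      exacts [rfl, hbx.eq, hbx.eq.symm, rfl]
    haveI := isCyclic_of_comm hreg hKc
    haveI := Fintype.ofFinite K
    let u : K := ⟨(x : H), subset_closure (Set.mem_insert_of_mem _ rfl)⟩
    let w : K := ⟨(b : H), subset_closure (Set.mem_insert _ _)⟩
    have hu : orderOf u = 3 := by
      rw [← Subgroup.orderOf_coe u]; show orderOf (x : H) = 3; rw [Subgroup.orderOf_coe, hx]
    have hw : orderOf w = 3 := by
      rw [← Subgroup.orderOf_coe w]; show orderOf (b : H) = 3; rw [Subgroup.orderOf_coe, hb]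
    have hsub : (Finset.univ.filter fun y : K => y ∈ zpowers w) = Finset.univ.filter fun y : K => y ^ 3 = 1 := by
      refine Finset.eq_of_subset_of_card_le (fun y hy => ?_) ?_
      · obtain ⟨i, rfl⟩ := mem_zpowers_iff.1 (Finset.mem_filter.1 hy).2
        refine Finset.mem_filter.2 ⟨Finset.mem_univ _, ?_⟩
        rw [← zpow_natCast (w ^ i), ← zpow_mul, mul_comm, zpow_mul, zpow_natCast, ← hw, pow_orderOf_eq_one,
          one_zpow]
      · refine (IsCyclic.card_pow_eq_one_le (by norm_num)).trans ?_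
        rw [← Fintype.card_subtype, ← Nat.card_eq_fintype_card, Nat.card_zpowers, hw]
    have hmem : u ∈ Finset.univ.filter fun y : K => y ∈ zpowers w := by
      rw [hsub]
      exact Finset.mem_filter.2 ⟨Finset.mem_univ _, by rw [← hu, pow_orderOf_eq_one]⟩
    obtain ⟨i, hi⟩ := mem_zpowers_iff.1 (Finset.mem_filter.1 hmem).2
    have hxA : (x : H) ∈ A := by
      rw [show (x : H) = ((w ^ i : K) : H) from (congrArg Subtype.val hi).symm, SubgroupClass.coe_zpow]
      exact zpow_mem b.2 i
    have hxc : x ∈ center N := mem_center_iff.2 fun y => Subtype.ext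
      (mem_centralizer_iff.1 (hCN.symm ▸ hxA : (x : H) ∈ centralizer (N : Set H)) y y.2)
    have h4 := orderOf_dvd_natCard (⟨x, hxc⟩ : center N)
    rw [← Subgroup.orderOf_coe, hx, hcen] at h4
    norm_num at h4
  obtain ⟨t, ht⟩ := hAdvd
  obtain ⟨q, hq⟩ : ∃ q, p ^ k = q := ⟨_, rfl⟩
  have hp7 : 7 ≤ q := by
    by_contra hlt
    have hp6 : p ≤ 6 := by
      have := Nat.le_self_pow hk.ne' p
      omega
    have hpd : p ∣ (p ^ k) ^ m := dvd_pow (dvd_pow_self p hk.ne') (by omega)
    have hpos := Nat.one_le_pow m (p ^ k) (Nat.pow_pos hp.pos)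
    rw [hH] at h120
    have : p = 2 ∨ p = 3 ∨ p = 5 := by
      have h2 := hp.two_le
      interval_cases p <;> simp_all (config := { decide := true })
    have hpd' : p ∣ (p ^ k) ^ m - 1 := by
      refine dvd_trans ?_ h120
      rcases this with rfl | rfl | rfl <;> norm_num
    have := Nat.dvd_sub hpd hpd'
    rw [Nat.sub_sub_self hpos] at this
    exact hp.one_lt.ne' (Nat.dvd_one.1 this)
  have h119 : q ≠ 119 := by
    intro h
    have hpd : p ∣ 7 * 17 := by rw [show 7 * 17 = p ^ k by omega]; exact dvd_pow_self p hk.ne'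
    rcases hp.dvd_mul.1 hpd with h1 | h1
    · have := (Nat.prime_dvd_prime_iff_eq hp (by norm_num)).1 h1
      subst this
      have : 17 ∣ 7 ^ k := ⟨7, by omega⟩
      exact absurd ((Nat.prime_dvd_prime_iff_eq (by norm_num) (by norm_num)).1
        ((show Nat.Prime 17 by norm_num).dvd_of_dvd_pow this)) (by norm_num)
    · have := (Nat.prime_dvd_prime_iff_eq hp (by norm_num)).1 h1
      subst this
      have : 7 ∣ 17 ^ k := ⟨17, by omega⟩
      exact absurd ((Nat.prime_dvd_prime_iff_eq (by norm_num) (by norm_num)).1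
        ((show Nat.Prime 7 by norm_num).dvd_of_dvd_pow this)) (by norm_num)
  have hodd : q % 2 = 1 := by
    rw [← hq]
    refine Nat.odd_iff.1 ((hp.odd_of_ne_two fun h => ?_).pow)
    exact not_two_of_sq hreg hz2 hz1 h
  rw [hq] at ht hH
  rw [hH] at hcard h120
  set r := Nat.card φ.range
  set s := Nat.card A
  have hspos : 0 < s := Nat.card_pos
  have hrle := Nat.le_of_dvd (by norm_num) hr
  have hsle : s ≤ q - 1 := Nat.le_of_dvd (by omega) ⟨t, ht⟩
  have hb : q ^ m - 1 ≤ 120 * (q - 1) := hcard ▸ Nat.mul_le_mul hrle hsle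
  have hm3 : m ≤ 3 := by
    by_contra hlt
    have h1 : q ^ 4 ≤ q ^ m := Nat.pow_le_pow_right (by omega) (by omega)
    have h2 : 343 * q ≤ q ^ 4 := by
      rw [show q ^ 4 = q * q * q * q by ring]
      exact Nat.mul_le_mul_right q (Nat.mul_le_mul (Nat.mul_le_mul hp7 hp7) hp7)
    omega
  have hm2 : m = 2 := by
    by_contra hne
    obtain rfl : m = 3 := by omega
    have hq10 : q ≤ 10 := by
      by_contra hlt
      have h2 : 121 * q ≤ q ^ 3 := by
        rw [show q ^ 3 = q * q * q by ring]
        exact Nat.mul_le_mul_right q (Nat.mul_le_mul (show 11 ≤ q by omega) (show 11 ≤ q by omega))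
      omega
    interval_cases q <;> omega
  subst hm2
  refine ⟨rfl, ?_⟩
  rw [hq]
  have hq119 : q ≤ 119 := by
    by_contra hlt
    have h2 : 120 * q ≤ q ^ 2 := by rw [pow_two]; exact Nat.mul_le_mul_right q (by omega)
    omega
  have hsq : q ^ 2 - 1 = (q + 1) * (q - 1) := Nat.sq_sub_sq q 1 ▸ by rw [one_pow]
  have hrt : r = t * (q + 1) := by
    refine Nat.eq_of_mul_eq_mul_right hspos ?_
    rw [← hcard, hsq, ht]; ring
  have hr2 : r = 60 ∨ r = 120 := by
    obtain ⟨c, hc⟩ := hr
    have hc2 : c ≤ 2 := by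
      by_contra hlt
      have := Nat.mul_le_mul h60 (show 3 ≤ c by omega)
      omega
    interval_cases c <;> omega
  have hq4 : q = 11 ∨ q = 19 ∨ q = 29 ∨ q = 59 := by
    have hdiv : q + 1 ∣ 120 := ((Dvd.intro_left t rfl).trans (dvd_of_eq hrt.symm)).trans hr
    interval_cases q <;> first | omega | (norm_num at hdiv)
  rcases hq4 with rfl | rfl | rfl | rfl <;> rcases hr2 with h | h <;>
    rw [h] at hrt hcard <;> norm_num at hcard
  all_goals first | omega | exact absurd ⟨s / 3, by omega⟩ (h3A h)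

/-- The direct product decomposition. -/
theorem exists_prod [Nontrivial V] {A N : Subgroup H} (hAn : A.Normal) (hAc : IsMulCommutative A)
    (hNle : N ≤ centralizer (A : Set H))
    (e : N ≃* SL(2, ZMod 5)) {m : ℕ} (hmodd : Odd m) (hs : Nat.card A = 2 * m)
    (hH : Nat.card H = 120 * m) :
    Nonempty (H ≃* SL(2, ZMod 5) × Multiplicative (ZMod m)) := by
  classical
  haveI := finite_group (H := H)
  haveI : Fact (Nat.Prime 5) := ⟨by norm_num⟩
  haveI : IsCyclic A := isCyclic_of_comm hreg hAc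
  obtain ⟨g, hg⟩ := IsCyclic.exists_generator (α := A)
  have hgo : orderOf g = 2 * m := (orderOf_eq_card_of_forall_mem_zpowers hg).trans hs
  set b : H := ((g ^ 2 : A) : H) with hb
  have hbo : orderOf b = m := by
    rw [hb, Subgroup.orderOf_coe, orderOf_pow' g (by norm_num : (2 : ℕ) ≠ 0), hgo, Nat.gcd_mul_right_left,
      Nat.mul_div_cancel_left _ (by norm_num)]
  have hBc : Nat.card (zpowers b) = m := by rw [Nat.card_zpowers, hbo]
  have hBA : zpowers b ≤ A := zpowers_le.2 (g ^ 2).2
  have hcomm : ∀ (x : N) (y : zpowers b), Commute (N.subtype x) ((zpowers b).subtype y) := fun x y =>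
    (mem_centralizer_iff.1 (hNle x.2) y (hBA y.2)).symm
  let f : N × zpowers b →* H := MonoidHom.noncommCoprod N.subtype (zpowers b).subtype hcomm
  have hinj : Function.Injective f := by
    rw [injective_iff_map_eq_one]
    rintro ⟨x, y⟩ hxy
    change (x : H) * (y : H) = 1 at hxy
    have hxA : (x : H) ∈ A := by rw [eq_inv_of_mul_eq_one_left hxy]; exact inv_mem (hBA y.2)
    have hxc : x ∈ center N := mem_center_iff.2 fun w => Subtype.ext
      (mem_centralizer_iff.1 (hNle w.2) _ hxA).symm
    have hcen : Nat.card (center N) = 2 := by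
      rw [Nat.card_congr (Subgroup.centerCongr e).toEquiv, CfsgLib.Perm.SLTwoFive.card_center]
    have hx2 : x ^ 2 = 1 := by
      have h := pow_card_eq_one' (x := (⟨x, hxc⟩ : center N))
      rw [hcen] at h
      exact congrArg Subtype.val h
    have hy2 : y ^ 2 = 1 := by
      refine Subtype.ext ?_
      rw [SubgroupClass.coe_pow, eq_inv_of_mul_eq_one_right hxy, inv_pow, ← SubgroupClass.coe_pow, hx2]
      simp
    have hym : y ^ m = 1 := by rw [← hBc]; exact pow_card_eq_one'
    have hy : y = 1 := by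
      obtain ⟨j, rfl⟩ := hmodd
      rwa [pow_succ, pow_mul, hy2, one_pow, one_mul] at hym
    subst hy
    rw [OneMemClass.coe_one, mul_one] at hxy
    exact Prod.ext (Subtype.ext hxy) rfl
  have hbij : Function.Bijective f := (Nat.bijective_iff_injective_and_card f).2 ⟨hinj, by
    rw [Nat.card_prod, hBc, hH, Nat.card_congr e.toEquiv, CfsgLib.Perm.SLTwoFive.card_eq]⟩
  haveI : NeZero m := ⟨fun h => by subst h; exact absurd hmodd (by decide)⟩
  exact ⟨(MulEquiv.ofBijective f hbij).symm.trans (MulEquiv.prodCongr e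
    (mulEquivOfCyclicCardEq (by rw [hBc, Nat.card_congr Multiplicative.toAdd, Nat.card_zmod])))⟩

end CfsgLib.Perm.RegularLinear
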