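import Mathlib
import Cfsg.Agent.Lib.Perm.SharplyTwo
import Cfsg.Agent.Lib.Core.FPF
import Cfsg.Agent.Lib.Core.UniqueOrderP
import Cfsg.Agent.Lib.OddLocal.NonKappa

/-!
# Regular normal subgroups of 2-transitive groups without elements fixing three points

* `card_of_semilinear`: a semilinear bijection of prime order fixing only two vectors.
* `card_eq_two_pow_prime`: the degree is `2 ^ r` with `r` prime.
-/

set_option autoImplicit false
set_option linter.all false

namespace CfsgLib.Perm.RegularNormalTwoFixed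

open MulAction

/-- An abelian group transitive on the non-zero vectors, normalised by `T` of prime order `r`
which fixes only `0` and `v`: there are `2` or `2 ^ r` vectors. -/
theorem card_of_semilinear {A : Type*} [AddCommGroup A] [Finite A] {C : Type*} [CommGroup C]
    (ρ : C →* AddMonoid.End A) {v : A} (hv : v ≠ 0) (htr : ∀ a : A, a ≠ 0 → ∃ c, ρ c v = a)
    (T : AddMonoid.End A) (hTv : T v = v) (hfix : ∀ a, T a = a → a = 0 ∨ a = v)
    (hnorm : ∀ c, ∃ c', T * ρ c = ρ c' * T) {r : ℕ} (hr : r.Prime) (hTr : T ^ r = 1) :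
    Nat.card A = 2 ∨ Nat.card A = 2 ^ r := by
  classical
  let S : Set (AddMonoid.End A) := Set.range ρ
  let R : Subring (AddMonoid.End A) := Subring.closure S
  have hS : ∀ x ∈ S, ∀ y ∈ S, x * y = y * x := by
    rintro _ ⟨c, rfl⟩ _ ⟨d, rfl⟩
    rw [← map_mul, ← map_mul, mul_comm]
  letI : CommRing R := Subring.closureCommRingOfComm hS
  let ev : R →+ A :=
    { toFun := fun x => (x : AddMonoid.End A) v
      map_zero' := rfl
      map_add' := fun x y => rfl }
  have hinj : Function.Injective ev := by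
    refine (injective_iff_map_eq_zero ev).2 fun x hx => ?_
    apply Subtype.ext
    refine DFunLike.ext _ _ fun a => ?_
    by_cases ha : a = 0
    · rw [ha, map_zero, map_zero]
    obtain ⟨c, rfl⟩ := htr a ha
    have hc := congrArg (fun y : R => (y : AddMonoid.End A) v)
      (mul_comm x (⟨ρ c, Subring.subset_closure ⟨c, rfl⟩⟩ : R))
    have hc' : (x : AddMonoid.End A) (ρ c v) = ρ c ((x : AddMonoid.End A) v) := hc
    rw [hc', show (x : AddMonoid.End A) v = 0 from hx, map_zero]
    rfl
  have hsurj : Function.Surjective ev := by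
    intro a
    by_cases ha : a = 0
    · exact ⟨0, by rw [map_zero, ha]⟩
    obtain ⟨c, rfl⟩ := htr a ha
    exact ⟨⟨ρ c, Subring.subset_closure ⟨c, rfl⟩⟩, rfl⟩
  haveI : Finite R := Finite.of_injective ev hinj
  haveI : Nontrivial R := by
    refine ⟨⟨0, 1, fun h => hv ?_⟩⟩
    exact (congrArg ev h).symm.trans (map_zero ev)
  have hfield : IsField R := by
    refine ⟨⟨0, 1, zero_ne_one⟩, mul_comm, fun {x} hx => ?_⟩
    have hxv : ev x ≠ 0 := fun h => hx (hinj (h.trans (map_zero ev).symm))
    obtain ⟨c, hc⟩ := htr _ hxv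
    refine ⟨⟨ρ c⁻¹, Subring.subset_closure ⟨c⁻¹, rfl⟩⟩, ?_⟩
    have hx' : x = ⟨ρ c, Subring.subset_closure ⟨c, rfl⟩⟩ := hinj hc.symm
    rw [hx']
    apply Subtype.ext
    show ρ c * ρ c⁻¹ = 1
    rw [← map_mul, mul_inv_cancel, map_one]
  have hTR : ∀ x ∈ R, ∃ y ∈ R, T * x = y * T := by
    intro x hx
    induction hx using Subring.closure_induction with
    | mem x hx =>
      obtain ⟨c, rfl⟩ := hx
      obtain ⟨c', hc'⟩ := hnorm c
      exact ⟨ρ c', Subring.subset_closure ⟨c', rfl⟩, hc'⟩
    | zero => exact ⟨0, R.zero_mem, by rw [mul_zero, zero_mul]⟩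
    | one => exact ⟨1, R.one_mem, by rw [mul_one, one_mul]⟩
    | add x y _ _ hx hy =>
      obtain ⟨x', hx', hxe⟩ := hx
      obtain ⟨y', hy', hye⟩ := hy
      exact ⟨x' + y', R.add_mem hx' hy', by rw [mul_add, add_mul, hxe, hye]⟩
    | neg x _ hx =>
      obtain ⟨x', hx', hxe⟩ := hx
      exact ⟨-x', R.neg_mem hx', by rw [mul_neg, neg_mul, hxe]⟩
    | mul x y _ _ hx hy =>
      obtain ⟨x', hx', hxe⟩ := hx
      obtain ⟨y', hy', hye⟩ := hy
      exact ⟨x' * y', R.mul_mem hx' hy', by rw [← mul_assoc, hxe, mul_assoc, hye, mul_assoc]⟩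
  choose s hsR hs using fun x : R => hTR x x.2
  let σ₀ : R → R := fun x => ⟨s x, hsR x⟩
  have hσev : ∀ x : R, ev (σ₀ x) = T (ev x) := by
    intro x
    have h := congrArg (fun f : AddMonoid.End A => f v) (hs x)
    have h' : T ((x : AddMonoid.End A) v) = s x (T v) := h
    rw [hTv] at h'
    exact h'.symm
  have hTpow : ∀ a, (T ^ (r - 1)) (T a) = a := by
    intro a
    show (T ^ (r - 1) * T) a = a
    rw [← pow_succ, show r - 1 + 1 = r by have := hr.pos; omega, hTr]
    rfl
  have hTinj : Function.Injective T := Function.LeftInverse.injective hTpow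
  have hmul : ∀ x y : R, σ₀ (x * y) = σ₀ x * σ₀ y := by
    intro x y
    apply hinj
    rw [hσev]
    show T ((x : AddMonoid.End A) ((y : AddMonoid.End A) v)) = s x (s y v)
    have h := congrArg (fun f : AddMonoid.End A => f ((y : AddMonoid.End A) v)) (hs x)
    have h' : T ((x : AddMonoid.End A) ((y : AddMonoid.End A) v)) =
      s x (T ((y : AddMonoid.End A) v)) := h
    rw [h']
    exact congrArg (s x) (hσev y).symm
  have hbij : Function.Bijective σ₀ := by
    refine (Finite.injective_iff_bijective).1 fun x y h => hinj (hTinj ?_)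
    rw [← hσev, ← hσev, h]
  let σ : RingAut R :=
    RingEquiv.ofBijective
      ({ toFun := σ₀
         map_one' := hinj (by rw [hσev]; exact hTv)
         map_mul' := hmul
         map_zero' := hinj (by rw [hσev, map_zero, map_zero])
         map_add' := fun x y => hinj (by rw [hσev, map_add, map_add, map_add, hσev, hσev]) } :
        R →+* R) hbij
  have hσ : ∀ x : R, ev (σ x) = T (ev x) := hσev
  have hσpow : ∀ (i : ℕ) (x : R), ev ((σ ^ i) x) = (T ^ i) (ev x) := by
    intro i
    induction i with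
    | zero => intro x; rfl
    | succ i ih =>
      intro x
      rw [pow_succ, RingAut.mul_apply, ih, hσ, pow_succ]
      rfl
  have hσr : σ ^ r = 1 := RingEquiv.ext fun x => hinj (by rw [hσpow, hTr]; rfl)
  letI : Field R := hfield.toField
  let Γ : Subgroup (RingAut R) := Subgroup.zpowers σ
  haveI : Finite (RingAut R) := Finite.of_injective (fun e : RingAut R => (e : R → R))
    fun e e' h => RingEquiv.ext (congrFun h)
  haveI : Fintype Γ := Fintype.ofFinite Γ
  let F := FixedPoints.subfield Γ R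
  have hF : Nat.card F = 2 := by
    refine Nat.card_eq_two_iff.2 ⟨0, 1, zero_ne_one, ?_⟩
    refine Set.eq_univ_of_forall fun x => ?_
    have hx : σ (x : R) = x := x.2 ⟨σ, Subgroup.mem_zpowers σ⟩
    rcases hfix (ev x) (by rw [← hσ, hx]) with h | h
    · exact Or.inl (Subtype.ext (hinj (h.trans (map_zero ev).symm)))
    · exact Or.inr (Subtype.ext (hinj (h : ev (x : R) = ev 1)))
  have hA : Nat.card A = 2 ^ orderOf σ := by
    rw [← Nat.card_congr (Equiv.ofBijective ev ⟨hinj, hsurj⟩),
      Module.natCard_eq_pow_finrank (K := F) (V := R), hF,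
      FixedPoints.finrank_eq_card, ← Nat.card_eq_fintype_card, Nat.card_zpowers]
  rcases (Nat.dvd_prime hr).1 (orderOf_dvd_of_pow_eq_one hσr) with h | h
  · exact Or.inl (by rw [hA, h, pow_one])
  · exact Or.inr (by rw [hA, h])

universe u v

variable {G : Type u} {Ω : Type v} [Group G] [MulAction G Ω] [Fintype Ω] [FaithfulSMul G Ω]

/-- The degree is `2 ^ r` with `r` prime. -/
theorem card_eq_two_pow_prime (h2 : IsMultiplyPretransitive G Ω 2)
    (h3 : ∀ g : G, ∀ a b c : Ω, a ≠ b → b ≠ c → a ≠ c → g • a = a → g • b = b → g • c = c → g = 1)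
    (hfix : ∃ g : G, g ≠ 1 ∧ ∃ a b : Ω, a ≠ b ∧ g • a = a ∧ g • b = b)
    (N : Subgroup G) [N.Normal] (hNt : IsPretransitive N Ω) (hNr : ∀ a : Ω, stabilizer N a = ⊥) :
    ∃ p : ℕ, p.Prime ∧ Fintype.card Ω = 2 ^ p := by
  classical
  haveI : Finite G := Finite.of_injective (fun g : G => fun x : Ω => g • x) fun g k h =>
    FaithfulSMul.eq_of_smul_eq_smul fun x => congrFun h x
  obtain ⟨g, hg1, a, b, hab, hga, hgb⟩ := hfix
  obtain ⟨r, hr, hrd⟩ := Nat.exists_prime_and_dvd (n := orderOf g)
    fun h => hg1 (orderOf_eq_one_iff.1 h)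
  haveI := Fact.mk hr
  obtain ⟨h, hho, hha, hhb⟩ : ∃ h : G, orderOf h = r ∧ h • a = a ∧ h • b = b := by
    refine ⟨g ^ (orderOf g / r), ?_, ?_, ?_⟩
    · exact orderOf_pow_orderOf_div (orderOf_pos g).ne' hrd
    · exact (stabilizer G a).pow_mem hga _
    · exact (stabilizer G b).pow_mem hgb _
  have hh1 : h ≠ 1 := fun e => hr.ne_one (by rw [← hho, e, orderOf_one])
  have hfix2 : ∀ c : Ω, h • c = c → c = a ∨ c = b := by
    intro c hc
    by_contra hcon
    push Not at hcon
    exact hh1 (h3 h a b c hab hcon.2.symm hcon.1.symm hha hhb hc)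
  have hcard3 : 3 ≤ Fintype.card Ω := by
    by_contra hcon
    refine hh1 (FaithfulSMul.eq_of_smul_eq_smul fun c : Ω => ?_)
    rw [one_smul]
    by_cases hc : c = a
    · rw [hc, hha]
    by_cases hc' : c = b
    · rw [hc', hhb]
    exact absurd (Finset.card_le_univ ({c, a, b} : Finset Ω))
      (by rw [Finset.card_eq_three.2 ⟨c, a, b, hc, hc', hab, rfl⟩]; omega)
  -- N is regular
  haveI := hNt
  have hfree : ∀ n ∈ N, n • a = a → n = 1 := fun n hn e =>
    congrArg Subtype.val ((Subgroup.mem_bot).1 ((hNr a).le (show (⟨n, hn⟩ : N) ∈ stabilizer N a from e)))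
  have hinjN : ∀ m ∈ N, ∀ n ∈ N, m • a = n • a → m = n := fun m hm n hn e =>
    (inv_mul_eq_one.1 (hfree _ (N.mul_mem (N.inv_mem hn) hm)
      (by rw [mul_smul, e, inv_smul_smul]))).symm
  have hsurjN : ∀ c : Ω, ∃ n ∈ N, n • a = c := fun c => by
    obtain ⟨n, hn⟩ := exists_smul_eq N a c
    exact ⟨n, n.2, hn⟩
  have hcardN : Nat.card N = Fintype.card Ω := by
    rw [← Nat.card_eq_fintype_card]
    refine Nat.card_eq_of_bijective (fun n : N => (n : G) • a) ⟨fun m n e =>
      Subtype.ext (hinjN m m.2 n n.2 e), fun c => ?_⟩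
    obtain ⟨n, hn, e⟩ := hsurjN c
    exact ⟨⟨n, hn⟩, e⟩
  have hconj : ∀ k : G, k • a = a → ∀ n : G, k • (n • a) = (k * n * k⁻¹) • a := fun k hk n => by
    rw [mul_smul, mul_smul, inv_smul_eq_iff.2 hk.symm]
  -- the kernel of the Frobenius group on the other points
  set X := SubMulAction.ofStabilizer G a
  haveI hG1 : IsPretransitive G Ω :=
    isPretransitive_of_is_two_pretransitive
  haveI : IsPretransitive (stabilizer G a) X := by
    rw [← is_one_pretransitive_iff]
    exact (SubMulAction.ofStabilizer.isMultiplyPretransitive (a := a) (n := 1)).1 h2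
  haveI : Fintype X := Fintype.ofFinite X
  have hcX : Fintype.card X = Fintype.card Ω - 1 := by
    rw [← Nat.card_eq_fintype_card, SubMulAction.nat_card_ofStabilizer_eq, Nat.card_eq_fintype_card]
  have hb' : b ∈ SubMulAction.ofStabilizer G a := fun e => hab e.symm
  obtain ⟨K₀, hK₀n, hK₀mem, hK₀card⟩ :=
    SharplyTwo.exists_fpf_kernel (G := stabilizer G a) (⟨b, hb'⟩ : X) (by omega)
      (fun n c d hcd hc hd => Subtype.ext (h3 n a c d (fun e => c.2 e.symm)
        (fun e => hcd (Subtype.ext e)) (fun e => d.2 e.symm) n.2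
        (congrArg Subtype.val hc) (congrArg Subtype.val hd)))
  set K : Subgroup G := K₀.map (stabilizer G a).subtype with hK
  have hKa : ∀ k ∈ K, k • a = a := by
    rintro _ ⟨k, -, rfl⟩
    exact k.2
  have hKfree : ∀ k ∈ K, ∀ c : Ω, c ≠ a → k • c = c → k = 1 := by
    rintro _ ⟨k, hk, rfl⟩ c hc e
    rcases (hK₀mem k).1 hk with h1 | h1
    · rw [h1]; rfl
    · exact absurd (Subtype.ext e) (h1 ⟨c, hc⟩)
  have hKnorm : ∀ y : G, y • a = a → ∀ k ∈ K, y * k * y⁻¹ ∈ K := by
    rintro y hy _ ⟨k, hk, rfl⟩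
    exact ⟨⟨y, hy⟩ * k * ⟨y, hy⟩⁻¹, hK₀n.conj_mem k hk _, rfl⟩
  have hKcard : Nat.card K = Fintype.card Ω - 1 := by
    rw [hK, ← Nat.card_congr (K₀.equivMapOfInjective _ (stabilizer G a).subtype_injective).toEquiv,
      hK₀card, hcX]
  have hKtr : ∀ c : Ω, c ≠ a → ∃ k ∈ K, k • b = c := by
    intro c hc
    have hbij : Function.Bijective (fun k : K₀ => (k : stabilizer G a) • (⟨b, hb'⟩ : X)) := by
      refine (Nat.bijective_iff_injective_and_card _).2 ⟨fun k l hkl => ?_, by
        rw [hK₀card, Nat.card_eq_fintype_card]⟩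
      have h1 : ((l : stabilizer G a)⁻¹ * k) • (⟨b, hb'⟩ : X) = ⟨b, hb'⟩ := by
        rw [mul_smul, show (k : stabilizer G a) • (⟨b, hb'⟩ : X) =
          (l : stabilizer G a) • ⟨b, hb'⟩ from hkl, inv_smul_smul]
      exact Subtype.ext (inv_mul_eq_one.1 (((hK₀mem _).1
        (K₀.mul_mem (K₀.inv_mem l.2) k.2)).resolve_right fun h => h _ h1)).symm
    obtain ⟨k, hk⟩ := hbij.2 ⟨c, hc⟩
    exact ⟨_, ⟨k, k.2, rfl⟩, congrArg Subtype.val hk⟩
  -- N has exponent two
  obtain ⟨m, hm, hmb⟩ := hsurjN b
  have hhm : h * m * h⁻¹ = m := hinjN _ (‹N.Normal›.conj_mem m hm h) m hm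
    (by rw [← hconj h hha, hmb, hhb])
  have hm1 : m ≠ 1 := fun e => hab (by rw [← hmb, e, one_smul])
  have hm2 : m ^ 2 = 1 := by
    rcases hfix2 ((m ^ 2) • a) (by rw [hconj h hha, ← conj_pow, hhm]) with e | e
    · exact hfree _ (pow_mem hm 2) e
    · refine absurd ?_ hm1
      have := hinjN _ (pow_mem hm 2) m hm (e.trans hmb.symm)
      rwa [sq, mul_eq_left] at this
  have hexp : ∀ n ∈ N, n ^ 2 = 1 := by
    intro n hn
    by_cases hn1 : n = 1
    · rw [hn1, one_pow]
    obtain ⟨k, hk, hkb⟩ := hKtr (n • a) fun e => hn1 (hfree n hn e)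
    have : k * m * k⁻¹ = n := hinjN _ (‹N.Normal›.conj_mem m hm k) n hn
      (by rw [← hconj k (hKa k hk), hmb, hkb])
    rw [← this, conj_pow, hm2, mul_one, mul_inv_cancel]
  letI : CommGroup N :=
    { (inferInstance : Group N) with
      mul_comm := fun x y => by
        have hx : ∀ z : N, z⁻¹ = z := fun z => inv_eq_of_mul_eq_one_right
          (Subtype.ext (by rw [Subgroup.coe_mul, ← sq]; exact hexp z z.2))
        rw [← hx (x * y), mul_inv_rev, hx, hx] }
  have hN2 : IsPGroup 2 N := fun n => ⟨1, Subtype.ext (by simpa using hexp n n.2)⟩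
  haveI := Fact.mk Nat.prime_two
  have hKodd : ¬ 2 ∣ Nat.card K := by
    obtain ⟨j, hj⟩ := IsPGroup.iff_card.1 hN2
    have hj0 : j ≠ 0 := by rintro rfl; rw [pow_zero] at hj; omega
    rw [hKcard, ← hcardN, hj]
    have : 2 ∣ 2 ^ j := dvd_pow_self 2 hj0
    have := Nat.one_le_pow j 2 (by norm_num)
    omega
  -- K acts fixed point freely on N, and h on K
  have hKN : K ≤ Subgroup.normalizer (N : Set G) := by
    rw [Subgroup.normalizer_eq_top]; exact le_top
  have hfpf : ∀ k ∈ K, k ≠ 1 → N ⊓ Subgroup.centralizer {k} = ⊥ := by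
    intro k hk hk1
    refine (Subgroup.eq_bot_iff_forall _).2 fun n hn => ?_
    by_contra hn1
    refine hk1 (hKfree k hk (n • a) (fun e => hn1 (hfree n hn.1 e)) ?_)
    rw [hconj k (hKa k hk), ← Subgroup.mem_centralizer_singleton_iff.1 hn.2,
      mul_inv_cancel_right]
  have hNb : N ≠ ⊥ := fun e => by
    rw [e, Subgroup.card_bot] at hcardN
    omega
  have hhK : h ∈ Subgroup.normalizer (K : Set G) := by
    rw [Subgroup.mem_normalizer_iff]
    refine fun k => ⟨hKnorm h hha k, fun hk => ?_⟩
    have := hKnorm h⁻¹ (inv_smul_eq_iff.2 hha.symm) _ hk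
    simpa [mul_assoc] using this
  haveI hKnil : Group.IsNilpotent K := by
    refine CfsgLib.OddLocal.NonKappa.isNilpotent_of_fpf_elem hho hhK
      ((Subgroup.eq_bot_iff_forall _).2 fun k hk => ?_)
    have hc : h • (k • b) = k • b := by
      rw [← mul_smul, ← Subgroup.mem_centralizer_singleton_iff.1 hk.2, mul_smul, hhb]
    rcases hfix2 _ hc with e | e
    · exact absurd ((smul_left_cancel_iff k).1 (e.trans (hKa k hk.1).symm)) hab.symm
    · exact hKfree k hk.1 b hab.symm e
  haveI : IsZGroup K := by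
    refine ⟨fun p hp P => ?_⟩
    haveI := Fact.mk hp
    set P' : Subgroup G := (P : Subgroup K).map K.subtype
    have hPK : P' ≤ K := Subgroup.map_subtype_le _
    rcases Core.UniqueOrderP.isCyclic_or_quaternion_of_unique P.isPGroup' (fun A B hA hB => by
      let f : (P : Subgroup K) →* G := K.subtype.comp (P : Subgroup K).subtype
      have hf : Function.Injective f :=
        K.subtype_injective.comp (P : Subgroup K).subtype_injective
      have hle : ∀ D : Subgroup (P : Subgroup K), D.map f ≤ P' := by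
        rintro D _ ⟨d, -, rfl⟩
        exact ⟨(d : K), d.2, rfl⟩
      refine Subgroup.map_injective hf ?_
      refine Core.FPF.subgroup_order_prime_unique hKN hfpf hNb hPK hp (P.isPGroup'.map _)
        (hle A) (hle B) ?_ ?_
      · rw [← Nat.card_congr (A.equivMapOfInjective f hf).toEquiv, hA]
      · rw [← Nat.card_congr (B.equivMapOfInjective f hf).toEquiv, hB]) with hc | ⟨hp2, -⟩
    · exact hc
    · subst hp2
      haveI : Subsingleton P := by
        rw [← Finite.card_le_one_iff_subsingleton]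
        obtain ⟨i, hi⟩ := IsPGroup.iff_card.1 P.isPGroup'
        rcases Nat.eq_zero_or_pos i with rfl | hi0
        · rw [hi, pow_zero]
        · exact absurd ((hi ▸ dvd_pow_self 2 hi0.ne').trans
            (Subgroup.card_subgroup_dvd_card _)) hKodd
      exact isCyclic_of_subsingleton
  haveI : IsCyclic K := inferInstance
  letI : CommGroup K := IsCyclic.commGroup
  -- the semilinear map
  let F : G →* AddMonoid.End (Additive N) :=
    { toFun := fun y => MonoidHom.toAdditive (MulAut.conjNormal y : MulAut N).toMonoidHom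
      map_one' := AddMonoidHom.ext fun x => by
        show Additive.ofMul ((MulAut.conjNormal (1 : G) : MulAut N) (Additive.toMul x)) = x
        rw [map_one]; rfl
      map_mul' := fun c d => AddMonoidHom.ext fun x => by
        show Additive.ofMul ((MulAut.conjNormal (c * d) : MulAut N) (Additive.toMul x)) = _
        rw [map_mul]; rfl }
  have hFval : ∀ (y : G) (x : Additive N),
      ((Additive.toMul (F y x) : N) : G) = y * ((Additive.toMul x : N) : G) * y⁻¹ := fun y x => rfl
  have hext : ∀ x y : Additive N, ((Additive.toMul x : N) : G) = ((Additive.toMul y : N) : G) → x = y :=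
    fun x y e => Additive.toMul.injective (Subtype.ext e)
  have key := card_of_semilinear (C := K) (F.comp K.subtype)
    (v := Additive.ofMul (⟨m, hm⟩ : N)) (fun e => hm1 (congrArg
      (fun x : Additive N => ((Additive.toMul x : N) : G)) e))
    (fun x hx => by
      have hxn : ((Additive.toMul x : N) : G) ≠ 1 := fun e => hx (hext x 0 e)
      obtain ⟨k, hk, hkb⟩ := hKtr (((Additive.toMul x : N) : G) • a)
        fun e => hxn (hfree _ (Additive.toMul x).2 e)
      refine ⟨⟨k, hk⟩, hext _ _ ?_⟩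
      show k * m * k⁻¹ = _
      exact hinjN _ (‹N.Normal›.conj_mem m hm k) _ (Additive.toMul x).2
        (by rw [← hconj k (hKa k hk), hmb, hkb]))
    (F h) (hext _ _ hhm)
    (fun x hx => by
      have e : h * ((Additive.toMul x : N) : G) * h⁻¹ = ((Additive.toMul x : N) : G) :=
        (hFval h x).symm.trans (congrArg (fun y : Additive N => ((Additive.toMul y : N) : G)) hx)
      rcases hfix2 (((Additive.toMul x : N) : G) • a) (by rw [hconj h hha, e]) with e' | e'
      · exact Or.inl (hext _ _ (hfree _ (Additive.toMul x).2 e'))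
      · exact Or.inr (hext _ _ (hinjN _ (Additive.toMul x).2 m hm (e'.trans hmb.symm))))
    (fun k => ⟨⟨h * k * h⁻¹, hKnorm h hha k k.2⟩, by
      show F h * F (k : G) = F (h * k * h⁻¹) * F h
      rw [← map_mul, ← map_mul]
      congr 1
      group⟩)
    hr (by rw [← map_pow, ← hho, pow_orderOf_eq_one, map_one])
  rw [show Nat.card (Additive N) = Nat.card N from rfl, hcardN] at key
  rcases key with e | e
  · omega
  · exact ⟨r, hr, e⟩

end CfsgLib.Perm.RegularNormalTwoFixed
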