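import Cfsg.Agent.Lib.Perm.RegularExceptional
import Cfsg.Agent.Lib.Recog.Zassenhaus.Main

/-! A perfect non-trivial subgroup of a linear group regular on non-zero vectors is `SL(2,5)`. -/

set_option autoImplicit false
set_option linter.all false

namespace CfsgLib.Perm.RegularLinear

variable {p : ℕ} [Fact p.Prime] {V : Type*} [AddCommGroup V] [Module (ZMod p) V] [Finite V]
  {H : Subgroup (V ≃ₗ[ZMod p] V)}
  (hreg : ∀ v w : V, v ≠ 0 → w ≠ 0 → ∃! h : H, (h : V ≃ₗ[ZMod p] V) v = w)

include hreg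

theorem perfect_iso [Nontrivial V] {N : Subgroup H} (hna : ¬ IsMulCommutative N) (hperf : commutator N = ⊤) :
    Nonempty (N ≃* Matrix.SpecialLinearGroup (Fin 2) (ZMod 5)) := by
  haveI := finite_group (H := H)
  haveI : Nontrivial N := by
    by_contra hs
    rw [not_nontrivial_iff_subsingleton] at hs
    exact hna ⟨⟨fun a b => Subsingleton.elim _ _⟩⟩
  let ρ : N →* Module.End (ZMod p) V :=
    { toFun := fun n => (((n : H) : V ≃ₗ[ZMod p] V) : V →ₗ[ZMod p] V)
      map_one' := rfl
      map_mul' := fun _ _ => rfl }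
  obtain ⟨m, hm, ⟨P⟩⟩ := CfsgLib.Recog.Zassenhaus.exists_rep_of_module ρ fun g hg v hv => by
    by_contra hv0
    exact hg (Subtype.ext (eq_one_of_fix hreg hv0 hv))
  haveI := hm
  exact P.perfect_iso p hperf

end CfsgLib.Perm.RegularLinear
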