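import Cfsg.Agent.Lib.Perm.Simple168Two
import Cfsg.Agent.S1012

/-!
Simple groups of order 168: Klein four subgroups and maximal subgroups.
-/

namespace CfsgLib.Perm.Simple168

open Subgroup MulAction CfsgLib.Perm

variable {G : Type*} [Group G] [Finite G] [IsSimpleGroup G]

theorem sq_eq_one_of_klein {U : Subgroup G} (hU : IsKleinFour U) {u : G} (hu : u ∈ U) :
    u * u = 1 := congrArg Subtype.val (IsKleinFour.mul_self (⟨u, hu⟩ : U))

theorem klein_le_sylow {U : Subgroup G} (hU : IsKleinFour U) :
    ∃ T : Sylow 2 G, U ≤ (T : Subgroup G) := by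
  have : Fact (Nat.Prime 2) := ⟨Nat.prime_two⟩
  exact (IsPGroup.of_card (n := 2) (hU.card_four : Nat.card U = 2 ^ 2)).exists_le_sylow

theorem le_normalizer_of_le_sylow (h : Nat.card G = 168) (T : Sylow 2 G) {U : Subgroup G}
    (hU : IsKleinFour U) (hUT : U ≤ (T : Subgroup G)) :
    (T : Subgroup G) ≤ normalizer (U : Set G) := by
  rw [← normal_subgroupOf_iff_le_normalizer hUT]
  apply normal_of_index_eq_two
  have := card_mul_index (U.subgroupOf (T : Subgroup G))
  rw [Nat.card_congr (subgroupOfEquivOfLe hUT).toEquiv, hU.card_four, card_sylow_two_subgroup h T] at this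
  omega

theorem normalizer_ne_top (h : Nat.card G = 168) {U : Subgroup G} (hb : U ≠ ⊥) (hcard : Nat.card U < 168) :
    normalizer (U : Set G) ≠ ⊤ := by
  intro ht
  rcases (normalizer_eq_top_iff.1 ht).eq_bot_or_eq_top with h1 | h1
  · exact hb h1
  · rw [h1, card_top, h] at hcard
    omega

theorem card_normalizer_klein (h : Nat.card G = 168) {U : Subgroup G} (hU : IsKleinFour U) :
    Nat.card (normalizer (U : Set G)) = 24 := by
  classical
  have : Fact (Nat.Prime 2) := ⟨Nat.prime_two⟩
  set N := normalizer (U : Set G) with hN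
  have hord : ∀ u : U, u ≠ 1 → orderOf (u : G) = 2 := by
    intro u hu
    refine orderOf_eq_prime ?_ (fun h1 => hu (Subtype.ext h1))
    rw [pow_two]
    exact sq_eq_one_of_klein hU u.2
  choose S hSmem hS using fun u : {u : U // u ≠ 1} => exists_sylow_of_involution h (hord u.1 u.2)
  have hUS : ∀ u, U ≤ (S u : Subgroup G) := by
    intro u x hx
    rw [← hS u, mem_centralizer_singleton_iff]
    have := IsKleinFour.isMulCommutative (G := U)
    exact congrArg Subtype.val (this.is_comm.comm ⟨x, hx⟩ u.1)
  have hSN : ∀ u, (S u : Subgroup G) ≤ N := fun u => le_normalizer_of_le_sylow h (S u) hU (hUS u)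
  have hinj : Function.Injective (fun u => (S u).subtype (hSN u)) := by
    intro u v huv
    have h1 : S u = S v := Sylow.subtype_injective huv
    obtain ⟨z, -, -, -, huniq, -⟩ := exists_center h (S u)
    have hu : ((u.1 : U) : G) = z := by
      refine huniq _ (hSmem u) (fun h0 => u.2 (Subtype.ext h0)) fun w hw => ?_
      exact mem_centralizer_singleton_iff.1 ((hS u).symm ▸ hw : w ∈ centralizer _)
    have hv : ((v.1 : U) : G) = z := by
      refine huniq _ (h1 ▸ hSmem v) (fun h0 => v.2 (Subtype.ext h0)) fun w hw => ?_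
      have hw' : w ∈ (S v : Subgroup G) := h1 ▸ hw
      exact mem_centralizer_singleton_iff.1 ((hS v).symm ▸ hw' : w ∈ centralizer _)
    exact Subtype.ext (Subtype.ext (hu.trans hv.symm))
  have h3 : 3 ≤ Nat.card (Sylow 2 N) := by
    refine le_trans (le_of_eq ?_) (Nat.card_le_card_of_injective _ hinj)
    let _ := Fintype.ofFinite U
    rw [Nat.card_eq_fintype_card, Fintype.card_subtype_compl, Fintype.card_subtype_eq,
      ← Nat.card_eq_fintype_card, hU.card_four]
  have hne : N ≠ ⊤ := normalizer_ne_top h (fun hb => by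
    have := hU.card_four
    rw [hb, card_bot] at this
    omega) (by rw [hU.card_four]; norm_num)
  have hle := card_le h N hne
  obtain ⟨u⟩ : Nonempty {u : U // u ≠ 1} := by
    by_contra hcon
    rw [not_nonempty_iff] at hcon
    have h1 := Nat.card_le_card_of_injective _ hinj
    have : Nat.card U ≤ 1 := by
      rw [Finite.card_le_one_iff_subsingleton]
      exact ⟨fun a b => by
        by_contra hab
        by_cases ha : a = 1
        · exact hcon.false ⟨b, fun hb => hab (ha.trans hb.symm)⟩
        · exact hcon.false ⟨a, ha⟩⟩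
    rw [hU.card_four] at this
    omega
  have h8 : 8 ∣ Nat.card N := (card_sylow_two_subgroup h (S u)).symm.dvd.trans (card_dvd_of_le (hSN u))
  obtain ⟨c, hc⟩ := h8
  have hd : Nat.card (Sylow 2 N) ∣ c := card_sylow_dvd_of_card_eq (k := 3) (m := c) (by rw [hc]; rfl)
  have hpos : 0 < Nat.card N := Nat.card_pos
  have := Nat.le_of_dvd (by omega) hd
  omega

theorem no_orderOf_six (h : Nat.card G = 168) (H : Subgroup G) (g : H) : orderOf g ≠ 6 := by
  intro h6
  rcases orderOf_cases h (g : G) with h' | h' | h' | h' | h' <;>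
    rw [Subgroup.orderOf_coe, h6] at h' <;> omega

theorem nonempty_equiv_of_card (h : Nat.card G = 168) {M : Subgroup G} (hM : Nat.card M = 24) :
    Nonempty (M ≃* Equiv.Perm (Fin 4)) :=
  Cfsg.Agent.S1012.result hM (no_orderOf_six h M)

/-- Two Klein four subgroups with the same normaliser are equal. -/
theorem klein_eq_of_normalizer_eq (h : Nat.card G = 168) {U W : Subgroup G} (hU : IsKleinFour U)
    (hW : IsKleinFour W) (hn : normalizer (U : Set G) = normalizer (W : Set G)) : U = W := by
  have : Fact (Nat.Prime 2) := ⟨Nat.prime_two⟩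
  set N := normalizer (U : Set G) with hN
  have hc := card_normalizer_klein h hU
  have hU1 : (U.subgroupOf N).Normal := normal_in_normalizer
  have hW1 : (W.subgroupOf N).Normal :=
    (normal_subgroupOf_iff_le_normalizer (le_normalizer.trans hn.ge)).2 hn.le
  have hp : ∀ {V : Subgroup G}, IsKleinFour V → IsPGroup 2 (V.subgroupOf N) := fun {V} hV =>
    (IsPGroup.of_card (n := 2) (hV.card_four : Nat.card V = 2 ^ 2)).comap_subtype
  have hsup : IsPGroup 2 (U.subgroupOf N ⊔ W.subgroupOf N : Subgroup N) :=
    IsPGroup.to_sup_of_normal_left (hp hU) (hp hW)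
  obtain ⟨S⟩ := (inferInstance : Nonempty (Sylow 2 N))
  have hle : ∀ R : Sylow 2 N, (U.subgroupOf N ⊔ W.subgroupOf N : Subgroup N) ≤ (R : Subgroup N) :=
    fun R => hsup.le_sylow_of_normal R
  obtain ⟨T, hT⟩ := klein_le_sylow hU
  have hTN : (T : Subgroup G) ≤ N := le_normalizer_of_le_sylow h T hU hT
  have hn2 : Nat.card (Sylow 2 N) ≠ 1 := by
    intro h1
    have := (Nat.card_eq_one_iff_unique.1 h1).1
    have hnorm := (T.subtype hTN).normal_of_subsingleton
    rw [Sylow.coe_subtype, normal_subgroupOf_iff_le_normalizer hTN, normalizer_two h T] at hnorm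
    have := Nat.le_of_dvd Nat.card_pos (card_dvd_of_le hnorm)
    rw [hc, card_sylow_two_subgroup h T] at this
    omega
  obtain ⟨R, hR⟩ : ∃ R : Sylow 2 N, R ≠ S := by
    by_contra hcon
    push Not at hcon
    exact hn2 (Nat.card_eq_one_iff_unique.2 ⟨⟨fun a b => (hcon a).trans (hcon b).symm⟩, ⟨S⟩⟩)
  have hS8 : ∀ Q : Sylow 2 N, Nat.card (Q : Subgroup N) = 8 := fun Q => by
    rw [sylow_card_eq Q (k := 3) (m := 3) (by rw [hc]; rfl) (by norm_num)]; rfl
  have hcard : Nat.card (U.subgroupOf N ⊔ W.subgroupOf N : Subgroup N) ≤ 4 := by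
    have h1 := card_dvd_of_le (le_inf (hle S) (hle R))
    have h2 := card_dvd_of_le (inf_le_left : (S : Subgroup N) ⊓ (R : Subgroup N) ≤ S)
    rw [hS8] at h2
    have h3 : Nat.card ↥((S : Subgroup N) ⊓ (R : Subgroup N)) ≠ 8 := by
      intro h8
      have h4 := eq_of_le_of_card_ge (inf_le_left : (S : Subgroup N) ⊓ (R : Subgroup N) ≤ S)
        (by rw [h8, hS8])
      exact hR (Sylow.ext (eq_of_le_of_card_ge (inf_eq_left.1 h4) (by rw [hS8, hS8])).symm)
    have h5 := (Nat.le_of_dvd Nat.card_pos h1)
    obtain ⟨j, hj, hj'⟩ := (Nat.dvd_prime_pow Nat.prime_two (m := 3)).1 h2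
    have : j ≤ 2 := by
      by_contra hlt
      exact h3 (by rw [hj', show j = 3 by omega]; rfl)
    have := Nat.pow_le_pow_right (two_pos) this
    omega
  have e1 := eq_of_le_of_card_ge (le_sup_left : U.subgroupOf N ≤ U.subgroupOf N ⊔ W.subgroupOf N)
    (by rw [Nat.card_congr (subgroupOfEquivOfLe (le_normalizer : U ≤ N)).toEquiv, hU.card_four]; exact hcard)
  have e2 := eq_of_le_of_card_ge (le_sup_right : W.subgroupOf N ≤ U.subgroupOf N ⊔ W.subgroupOf N)
    (by rw [Nat.card_congr (subgroupOfEquivOfLe (le_normalizer.trans hn.ge : W ≤ N)).toEquiv, hW.card_four]; exact hcard)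
  have e3 := congrArg (Subgroup.map N.subtype) (e1.trans e2.symm)
  rwa [map_subgroupOf_eq_of_le (le_normalizer : U ≤ N),
    map_subgroupOf_eq_of_le (le_normalizer.trans hn.ge : W ≤ N)] at e3

theorem isKleinFour_map (g : G) {U : Subgroup G} (hU : IsKleinFour U) :
    IsKleinFour (U.map (MulAut.conj g).toMonoidHom) := by
  let e : U ≃* U.map (MulAut.conj g).toMonoidHom :=
    U.equivMapOfInjective _ (MulAut.conj g).injective
  exact ⟨(Nat.card_congr e.toEquiv).symm.trans hU.card_four,
    (Monoid.exponent_eq_of_mulEquiv e).symm.trans hU.exponent_two⟩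

/-- Distinct Klein four subgroups of one Sylow 2-subgroup are not conjugate. -/
theorem klein_not_conj (h : Nat.card G = 168) (T : Sylow 2 G) {U W : Subgroup G}
    (hU : IsKleinFour U) (hW : IsKleinFour W) (hUT : U ≤ (T : Subgroup G))
    (hWT : W ≤ (T : Subgroup G)) (hne : U ≠ W) (g : G) :
    U.map (MulAut.conj g).toMonoidHom ≠ W := by
  intro hg
  have : Fact (Nat.Prime 2) := ⟨Nat.prime_two⟩
  set M := normalizer (W : Set G) with hM
  have h1 : (T : Subgroup G) ≤ M := le_normalizer_of_le_sylow h T hW hWT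
  have hUg : W ≤ ((g • T : Sylow 2 G) : Subgroup G) := by
    rw [← hg, Sylow.coe_subgroup_smul]
    rintro _ ⟨u, hu, rfl⟩
    exact ⟨u, hUT hu, rfl⟩
  have h2 : ((g • T : Sylow 2 G) : Subgroup G) ≤ M := le_normalizer_of_le_sylow h _ hW hUg
  obtain ⟨k, hk⟩ := exists_smul_eq M ((g • T).subtype h2) (T.subtype h1)
  rw [Sylow.smul_subtype h2] at hk
  have hk' : (k : G) • g • T = T := Sylow.subtype_injective hk
  rw [← mul_smul] at hk'
  have hmem : (k : G) * g ∈ (T : Subgroup G) := by
    rw [← normalizer_two h T]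
    exact Sylow.smul_eq_iff_mem_normalizer.1 hk'
  apply hne
  have hUn : U.map (MulAut.conj ((k : G) * g)).toMonoidHom = U :=
    mem_normalizer_iff_map_conj_eq.1 (le_normalizer_of_le_sylow h T hU hUT hmem)
  have hWk : W.map (MulAut.conj (k : G)).toMonoidHom = W := mem_normalizer_iff_map_conj_eq.1 k.2
  rw [← hUn, map_mul, show (MulAut.conj (k : G) * MulAut.conj g).toMonoidHom =
    (MulAut.conj (k : G)).toMonoidHom.comp (MulAut.conj g).toMonoidHom from rfl, ← map_map, hg, hWk]

/-- The two Klein four subgroups of a Sylow 2-subgroup. -/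
theorem exists_two_klein (h : Nat.card G = 168) (T : Sylow 2 G) :
    ∃ U W : Subgroup G, U ≠ W ∧ U ≤ (T : Subgroup G) ∧ W ≤ (T : Subgroup G) ∧ IsKleinFour U ∧
      IsKleinFour W ∧ ∀ V : Subgroup G, V ≤ (T : Subgroup G) → IsKleinFour V → V = U ∨ V = W := by
  classical
  obtain ⟨e⟩ := two_dihedral h T
  let A : Fin 2 → Finset (DihedralGroup 4) := fun i =>
    {1, DihedralGroup.r 2, DihedralGroup.sr (i.val : ZMod 4), DihedralGroup.sr ((i.val : ZMod 4) + 2)}
  have d1 : ∀ i, ∀ a ∈ A i, ∀ b ∈ A i, a * b ∈ A i := by decide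
  have d2 : ∀ i, (1 : DihedralGroup 4) ∈ A i := by decide
  have d3 : ∀ i, ∀ a ∈ A i, a⁻¹ = a := by decide
  have d4 : ∀ i, (A i).card = 4 := by decide
  have d5 : A 0 ≠ A 1 := by decide
  have d6 : ∀ a b : DihedralGroup 4, a * a = 1 → b * b = 1 → a * b = b * a →
      a ≠ 1 → a ≠ DihedralGroup.r 2 → ((a ∈ A 0 → b ∈ A 0) ∧ (a ∈ A 1 → b ∈ A 1)) := by decide
  have d7 : ∀ a : DihedralGroup 4, a * a = 1 → a ≠ 1 → a ≠ DihedralGroup.r 2 → a ∈ A 0 ∨ a ∈ A 1 := by decide
  let K : Fin 2 → Subgroup (DihedralGroup 4) := fun i =>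
    { carrier := {a | a ∈ A i}
      one_mem' := d2 i
      mul_mem' := fun ha hb => d1 i _ ha _ hb
      inv_mem' := fun {a} ha => by rw [Set.mem_ofPred_eq, d3 i a ha]; exact ha }
  have hKc : ∀ i, Nat.card (K i) = 4 := fun i => by
    show Nat.card {a // a ∈ A i} = 4
    rw [Nat.card_eq_fintype_card, Fintype.card_coe, d4]
  let L : Fin 2 → Subgroup G := fun i => ((K i).comap e.toMonoidHom).map (T : Subgroup G).subtype
  have hLT : ∀ i, L i ≤ (T : Subgroup G) := fun i => map_subtype_le _
  have hLe : ∀ i, (L i).subgroupOf (T : Subgroup G) = (K i).comap e.toMonoidHom := fun i =>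
    comap_map_eq_self_of_injective (T : Subgroup G).subtype_injective _
  have hLc : ∀ i, Nat.card (L i) = 4 := fun i => by
    rw [Subgroup.card_map_of_injective (T : Subgroup G).subtype_injective,
      show Nat.card ((K i).comap e.toMonoidHom) = Nat.card (K i) from
        Nat.card_congr (e.toEquiv.subtypeEquiv fun a => Iff.rfl), hKc]
  have hLsq : ∀ i, ∀ a ∈ L i, a * a = 1 := by
    rintro i _ ⟨a, ha, rfl⟩
    have h1 : e (a * a) = 1 := by
      rw [map_mul]
      conv_lhs => arg 1; rw [← d3 i (e a) ha]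
      exact inv_mul_cancel (e a)
    exact congrArg Subtype.val (e.injective (h1.trans (map_one e).symm))
  have hK4 : ∀ i, IsKleinFour (L i) := fun i => by
    have : Nontrivial (L i) := by
      rw [← Finite.one_lt_card_iff_nontrivial, hLc]; norm_num
    refine ⟨hLc i, (Monoid.exponent_eq_prime_iff Nat.prime_two).2 fun a ha => orderOf_eq_prime ?_ ha⟩
    rw [pow_two]
    exact Subtype.ext (hLsq i a a.2)
  refine ⟨L 0, L 1, fun heq => d5 ?_, hLT 0, hLT 1, hK4 0, hK4 1, fun V hVT hV => ?_⟩
  · have h1 := comap_injective (f := e.toMonoidHom) e.surjective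
      ((hLe 0).symm.trans ((congrArg (fun H => H.subgroupOf (T : Subgroup G)) heq).trans (hLe 1)))
    ext a
    exact SetLike.ext_iff.1 h1 a
  · obtain ⟨⟨a, haV⟩, ha1, ha2⟩ : ∃ a : V, a ≠ 1 ∧ e ⟨a, hVT a.2⟩ ≠ DihedralGroup.r 2 := by
      by_contra hcon
      push Not at hcon
      have : Nat.card V ≤ 2 := by
        let f : V → DihedralGroup 4 := fun v => e ⟨v, hVT v.2⟩
        have hf : Function.Injective f := fun u v huv =>
          Subtype.ext (congrArg Subtype.val (e.injective huv) :)
        have hsub : Set.range f ⊆ {1, DihedralGroup.r 2} := by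
          rintro _ ⟨v, rfl⟩
          by_cases hv : v = 1
          · subst hv; exact Or.inl (map_one e)
          · exact Or.inr (hcon v hv)
        rw [← Nat.card_range_of_injective hf, Nat.card_coe_set_eq]
        exact (Set.ncard_le_ncard hsub (Set.toFinite _)).trans
          ((Set.ncard_insert_le _ _).trans (by rw [Set.ncard_singleton]))
      rw [hV.card_four] at this
      omega
    have hsq : ∀ v ∈ V, v * v = 1 := fun v hv => sq_eq_one_of_klein hV hv
    have he1 : e ⟨a, hVT haV⟩ ≠ 1 := fun h1 => ha1 (Subtype.ext (congrArg Subtype.val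
      (e.injective (h1.trans (map_one e).symm)) :))
    have hes : ∀ v, ∀ hv : v ∈ V, e ⟨v, hVT hv⟩ * e ⟨v, hVT hv⟩ = 1 := fun v hv => by
      rw [← map_mul, ← map_one e]
      exact congrArg e (Subtype.ext (hsq v hv))
    have hec : ∀ v, ∀ hv : v ∈ V, e ⟨a, hVT haV⟩ * e ⟨v, hVT hv⟩ = e ⟨v, hVT hv⟩ * e ⟨a, hVT haV⟩ :=
      fun v hv => by
        rw [← map_mul, ← map_mul]
        have := IsKleinFour.isMulCommutative (G := V)
        exact congrArg e (Subtype.ext (congrArg Subtype.val (this.is_comm.comm ⟨a, haV⟩ ⟨v, hv⟩) :))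
    have hin : ∀ i, e ⟨a, hVT haV⟩ ∈ A i → V = L i := by
      intro i hi
      refine eq_of_le_of_card_ge (fun v hv => ?_) (by rw [hV.card_four, hLc])
      refine ⟨⟨v, hVT hv⟩, ?_, rfl⟩
      show e ⟨v, hVT hv⟩ ∈ A i
      obtain ⟨g1, g2⟩ := d6 _ _ (hes a haV) (hes v hv) (hec v hv) he1 ha2
      fin_cases i
      · exact g1 hi
      · exact g2 hi
    rcases d7 _ (hes a haV) he1 ha2 with h' | h'
    · exact Or.inl (hin 0 h')
    · exact Or.inr (hin 1 h')

/-- A subgroup of order four normalised by an element of order three is a Klein four group. -/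
theorem klein_of_normalized (h : Nat.card G = 168) {S : Subgroup G} (hS : Nat.card S = 4) {x : G}
    (hx : orderOf x = 3) (hxS : x ∈ normalizer (S : Set G)) : IsKleinFour S := by
  have : Fact (Nat.Prime 3) := ⟨Nat.prime_three⟩
  have : Nontrivial S := by rw [← Finite.one_lt_card_iff_nontrivial, hS]; norm_num
  refine ⟨hS, (Monoid.exponent_eq_prime_iff Nat.prime_two).2 fun y hy => ?_⟩
  have hd := orderOf_dvd_natCard y
  rw [hS] at hd
  obtain ⟨j, hj, hj'⟩ := (Nat.dvd_prime_pow Nat.prime_two (m := 2)).1 hd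
  interval_cases j
  · exact absurd (orderOf_eq_one_iff.1 (by simpa using hj')) hy
  · simpa using hj'
  · exfalso
    have h4 : orderOf (y : G) = 4 := by rw [Subgroup.orderOf_coe, hj']; rfl
    have hgen : zpowers (y : G) = S :=
      eq_of_le_of_card_ge (zpowers_le.2 y.2) (by rw [hS, Nat.card_zpowers, h4])
    have hc : x * (y : G) * x⁻¹ ∈ Submonoid.powers (y : G) :=
      mem_powers_iff_mem_zpowers.2 (hgen.symm ▸ (mem_normalizer_iff.1 hxS _).1 y.2)
    obtain ⟨i, hi⟩ := hc
    simp only at hi
    have hx3 : x * x * x = 1 := by rw [← pow_three', ← hx, pow_orderOf_eq_one]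
    have h27 : (y : G) = (y : G) ^ (i * i * i) := by
      have e1 : (MulAut.conj x) (y : G) = (y : G) ^ i := hi.symm
      have e2 : (MulAut.conj x) ((MulAut.conj x) ((MulAut.conj x) (y : G))) = (y : G) ^ (i * i * i) := by
        simp only [e1, map_pow, ← pow_mul, mul_assoc]
      rw [← MulAut.mul_apply, ← MulAut.mul_apply, ← map_mul, ← map_mul, hx3, map_one] at e2
      simpa using e2
    have hi1 : i % 4 = 1 := by
      have := congrArg (fun z : G => z) h27
      have hmod : i * i * i ≡ 1 [MOD 4] := by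
        rw [← h4, ← pow_eq_pow_iff_modEq, pow_one]
        exact this.symm
      rw [Nat.ModEq, Nat.mul_mod, Nat.mul_mod i i] at hmod
      have : i % 4 < 4 := Nat.mod_lt _ (by norm_num)
      generalize i % 4 = k at *
      interval_cases k <;> first | rfl | (norm_num at hmod)
    rw [← pow_mod_orderOf, h4, hi1, pow_one] at hi
    have hcomm : Commute x (y : G) := mul_inv_eq_iff_eq_mul.1 hi.symm
    have := Subgroup.orderOf_dvd_natCard _
      (mem_centralizer_singleton_iff.2 hcomm.symm.eq : (y : G) ∈ centralizer ({x} : Set G))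
    rw [card_centralizer_of_orderOf_three h hx, h4] at this
    norm_num at this

/-- A subgroup of order 24 normalises a Klein four subgroup. -/
theorem exists_klein_of_card (h : Nat.card G = 168) {M : Subgroup G} (hM : Nat.card M = 24) :
    ∃ V : Subgroup G, IsKleinFour V ∧ normalizer (V : Set G) = M := by
  classical
  have : Fact (Nat.Prime 2) := ⟨Nat.prime_two⟩
  have : Fact (Nat.Prime 3) := ⟨Nat.prime_three⟩
  have hS8 : ∀ Q : Sylow 2 M, Nat.card (Q : Subgroup M) = 8 := fun Q => by
    rw [sylow_card_eq Q (k := 3) (m := 3) (by rw [hM]; rfl) (by norm_num)]; rfl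
  obtain ⟨S⟩ := (inferInstance : Nonempty (Sylow 2 M))
  obtain ⟨R, hR⟩ : ∃ R : Sylow 2 M, R ≠ S := by
    by_contra hcon
    push Not at hcon
    have : Subsingleton (Sylow 2 M) := ⟨fun a b => (hcon a).trans (hcon b).symm⟩
    obtain ⟨T, hT⟩ := (S.isPGroup'.map M.subtype).exists_le_sylow
    have hc : Nat.card ((S : Subgroup M).map M.subtype) = 8 := by
      rw [Subgroup.card_map_of_injective M.subtype_injective, hS8]
    have heq : (S : Subgroup M).map M.subtype = (T : Subgroup G) :=
      eq_of_le_of_card_ge hT (by rw [hc, card_sylow_two_subgroup h T])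
    have hTM : (T : Subgroup G) ≤ M := heq ▸ map_subtype_le _
    have hnorm := (T.subtype hTM).normal_of_subsingleton
    rw [Sylow.coe_subtype, normal_subgroupOf_iff_le_normalizer hTM, normalizer_two h T] at hnorm
    have := Nat.le_of_dvd Nat.card_pos (card_dvd_of_le hnorm)
    rw [hM, card_sylow_two_subgroup h T] at this
    omega
  set D := (S : Subgroup M) ⊓ (R : Subgroup M) with hD
  have hle : D ≤ (S : Subgroup M) := inf_le_left
  have hle' : D ≤ (R : Subgroup M) := inf_le_right
  have hlt : Nat.card D < 8 := by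
    refine lt_of_le_of_ne ((Nat.le_of_dvd Nat.card_pos (card_dvd_of_le hle)).trans (hS8 S).le) fun h8 => hR ?_
    have h4 := eq_of_le_of_card_ge hle (by rw [h8, hS8])
    exact Sylow.ext (eq_of_le_of_card_ge (h4 ▸ hle') (by rw [hS8, hS8])).symm
  have hge : 3 ≤ Nat.card D := by
    have h1 : D.relIndex (S : Subgroup M) ≤ (R : Subgroup M).index := by
      rw [hD, inf_comm, inf_relIndex_right]
      have : (R : Subgroup M).index ≠ 0 := index_ne_zero_of_finite
      exact le_trans (relIndex_le_of_le_right le_top (by rwa [relIndex_top_right]))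
        (relIndex_top_right _).le
    have h2 : (R : Subgroup M).index = 3 := by
      have := card_mul_index (R : Subgroup M)
      rw [hS8, hM] at this
      omega
    have h3 := card_mul_index (D.subgroupOf (S : Subgroup M))
    rw [Nat.card_congr (subgroupOfEquivOfLe hle).toEquiv, hS8] at h3
    have : Nat.card D * D.relIndex (S : Subgroup M) ≤ Nat.card D * 3 :=
      Nat.mul_le_mul_left _ (h1.trans h2.le)
    rw [relIndex] at this
    omega
  have hD4 : Nat.card D = 4 := by
    obtain ⟨c, hc⟩ := card_dvd_of_le hle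
    rw [hS8] at hc
    obtain ⟨j, hj, hj'⟩ := (Nat.dvd_prime_pow Nat.prime_two (m := 3)).1 ⟨c, hc⟩
    rw [hj'] at hlt hge ⊢
    interval_cases j <;> omega
  have hidx2 : ∀ Q : Sylow 2 M, D ≤ (Q : Subgroup M) → (Q : Subgroup M) ≤ normalizer (D : Set M) := by
    intro Q hQ
    rw [← normal_subgroupOf_iff_le_normalizer hQ]
    apply normal_of_index_eq_two
    have := card_mul_index (D.subgroupOf (Q : Subgroup M))
    rw [Nat.card_congr (subgroupOfEquivOfLe hQ).toEquiv, hS8, hD4] at this
    omega
  have hDn : D.Normal := by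
    rw [← normalizer_eq_top_iff]
    apply eq_top_of_card_eq
    have h8 : 8 ∣ Nat.card (normalizer (D : Set M)) := (hS8 S).symm.dvd.trans (card_dvd_of_le (hidx2 S hle))
    have hd := card_subgroup_dvd_card (normalizer (D : Set M))
    have hne : Nat.card (normalizer (D : Set M)) ≠ 8 := by
      intro h8'
      have e1 := eq_of_le_of_card_ge (hidx2 S hle) (by rw [h8', hS8])
      have e2 := eq_of_le_of_card_ge (hidx2 R hle') (by rw [h8', hS8])
      exact hR (Sylow.ext (e2.trans e1.symm))
    rw [hM] at hd ⊢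
    have hle24 := Nat.le_of_dvd (by norm_num) hd
    obtain ⟨c, hc⟩ := h8
    obtain ⟨d, hd⟩ := hd
    have : 0 < Nat.card (normalizer (D : Set M)) := Nat.card_pos
    rw [hc] at hd hne hle24 this ⊢
    have : c ≤ 3 := by omega
    interval_cases c <;> omega
  obtain ⟨x, hx⟩ := exists_prime_orderOf_dvd_card' (G := M) 3 (by rw [hM]; norm_num)
  set V := D.map M.subtype with hV
  have hVn : M ≤ normalizer (V : Set G) := by
    have h1 := le_normalizer_map M.subtype (H := D)
    rw [normalizer_eq_top_iff.2 hDn, ← MonoidHom.range_eq_map, range_subtype] at h1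
    exact h1
  have hVc : Nat.card V = 4 := by
    rw [hV, Subgroup.card_map_of_injective M.subtype_injective, hD4]
  have hk : IsKleinFour V :=
    klein_of_normalized h hVc (x := (x : G)) (by rw [Subgroup.orderOf_coe, hx]) (hVn x.2)
  exact ⟨V, hk, (eq_of_le_of_card_ge hVn (by rw [hM, card_normalizer_klein h hk])).symm⟩

theorem eq_of_isCoatom {H K : Subgroup G} (hH : IsCoatom H) (hle : H ≤ K) (hK : K ≠ ⊤) : H = K := by
  rcases eq_or_lt_of_le hle with h' | h'
  · exact h'
  · exact absurd (hH.2 K h') hK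

theorem klein_normalizer_ne_top (h : Nat.card G = 168) {U : Subgroup G} (hU : IsKleinFour U) :
    normalizer (U : Set G) ≠ ⊤ := fun ht => by
  have := card_normalizer_klein h hU
  rw [ht, card_top, h] at this
  omega

/-- Every Sylow 3-normaliser lies in the normaliser of a Klein four subgroup. -/
theorem normalizer_three_le (h : Nat.card G = 168) [Fact (Nat.Prime 3)] (P : Sylow 3 G) :
    ∃ V : Subgroup G, IsKleinFour V ∧
      normalizer ((P : Subgroup G) : Set G) ≤ normalizer (V : Set G) := by
  have : Fact (Nat.Prime 2) := ⟨Nat.prime_two⟩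
  obtain ⟨T⟩ := (inferInstance : Nonempty (Sylow 2 G))
  obtain ⟨U, -, -, -, -, hU, -, -⟩ := exists_two_klein h T
  set N := normalizer (U : Set G) with hN
  have hNc := card_normalizer_klein h hU
  obtain ⟨R⟩ := (inferInstance : Nonempty (Sylow 3 N))
  obtain ⟨Q, hQ⟩ := (R.isPGroup'.map N.subtype).exists_le_sylow
  have hRc : Nat.card ((R : Subgroup N).map N.subtype) = 3 := by
    rw [Subgroup.card_map_of_injective N.subtype_injective,
      sylow_card_eq R (k := 1) (m := 8) (by rw [hNc]; rfl) (by norm_num), pow_one]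
  have hQe : (R : Subgroup N).map N.subtype = (Q : Subgroup G) :=
    eq_of_le_of_card_ge hQ (by rw [hRc, card_sylow_three_subgroup h Q])
  have hQN : (Q : Subgroup G) ≤ N := hQe ▸ map_subtype_le _
  have hfull : normalizer ((Q : Subgroup G) : Set G) ≤ N := by
    have hNR := card_normalizer_mul_card_sylow (Q.subtype hQN)
    have h3 := card_normalizer_three h Q
    rw [Sylow.coe_subtype, ← subgroupOf_normalizer_eq hQN, hNc] at hNR
    have hint : Nat.card ((normalizer ((Q : Subgroup G) : Set G)).subgroupOf N) =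
        Nat.card ↥(normalizer ((Q : Subgroup G) : Set G) ⊓ N) := by
      rw [← inf_subgroupOf_right]
      exact Nat.card_congr (subgroupOfEquivOfLe inf_le_right).toEquiv
    rw [hint] at hNR
    have hd := card_dvd_of_le (inf_le_left : normalizer ((Q : Subgroup G) : Set G) ⊓ N ≤ _)
    rw [h3] at hd
    have hdn : Nat.card (Sylow 3 N) ∣ 8 :=
      card_sylow_dvd_of_card_eq (k := 1) (m := 8) (by rw [hNc]; rfl)
    have := Nat.le_of_dvd (by norm_num) hd
    have hdn' := Nat.le_of_dvd (by norm_num) hdn
    have heq : Nat.card ↥(normalizer ((Q : Subgroup G) : Set G) ⊓ N) = 6 := by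
      by_contra hne
      have : Nat.card ↥(normalizer ((Q : Subgroup G) : Set G) ⊓ N) ≤ 3 := by
        have h6 : ¬ 4 ∣ 6 := by norm_num
        have h5 : ¬ 5 ∣ 6 := by norm_num
        by_contra hlt
        push Not at hlt
        interval_cases Nat.card ↥(normalizer ((Q : Subgroup G) : Set G) ⊓ N) <;> simp_all
      have h1 := Nat.mul_le_mul this (le_refl (Nat.card (Sylow 3 N)))
      have hn8 : Nat.card (Sylow 3 N) = 8 := by omega
      have hmod := card_sylow_modEq_one 3 N
      rw [hn8] at hmod
      exact absurd hmod (by decide)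
    exact inf_eq_left.1 (eq_of_le_of_card_ge inf_le_left (by rw [heq, h3]))
  obtain ⟨g, hg⟩ := exists_smul_eq G Q P
  refine ⟨U.map (MulAut.conj g).toMonoidHom, isKleinFour_map g hU, fun x hx => ?_⟩
  rw [← hg, Sylow.coe_subgroup_smul] at hx
  have hx' : g⁻¹ * x * g ∈ normalizer ((Q : Subgroup G) : Set G) := by
    apply Sylow.smul_eq_iff_mem_normalizer.1
    have hxs : x • g • Q = g • Q := Sylow.smul_eq_iff_mem_normalizer.2 (by
      rw [Sylow.coe_coe] at *
      exact hx)
    rw [mul_smul, mul_smul, hxs, inv_smul_smul]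
  have h1 : g⁻¹ * x * g ∈ normalizer (U : Set G) := hfull hx'
  rw [mem_normalizer_iff_map_conj_eq] at h1 ⊢
  have hx'' : x = g * (g⁻¹ * x * g) * g⁻¹ := by group
  have hcomp : (MulAut.conj x : G →* G).comp (MulAut.conj g).toMonoidHom =
      (MulAut.conj g).toMonoidHom.comp (MulAut.conj (g⁻¹ * x * g) : G →* G) := by
    ext y; simp [mul_assoc]
  rw [map_map, hcomp, ← map_map, h1]

/-- The maximal subgroups have order 21 or 24. -/
theorem coatom_cases (h : Nat.card G = 168) [Fact (Nat.Prime 7)] {M : Subgroup G} (hM : IsCoatom M) :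
    (∃ P : Sylow 7 G, M = normalizer ((P : Subgroup G) : Set G)) ∨ Nat.card M = 24 := by
  classical
  have : Fact (Nat.Prime 2) := ⟨Nat.prime_two⟩
  have : Fact (Nat.Prime 3) := ⟨Nat.prime_three⟩
  by_cases h24 : Nat.card M = 24
  · exact Or.inr h24
  left
  have hd : Nat.card M ∣ 168 := h ▸ card_subgroup_dvd_card M
  have hle := card_le h M hM.1
  by_cases h7 : 7 ∣ Nat.card M
  · obtain ⟨R⟩ := (inferInstance : Nonempty (Sylow 7 M))
    obtain ⟨c, hc⟩ := h7
    have hc3 : c ≤ 3 := by omega
    have hc0 : c ≠ 0 := fun h0 => by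
      have : 0 < Nat.card M := Nat.card_pos
      omega
    have hsub : Subsingleton (Sylow 7 M) := by
      have hdv : Nat.card (Sylow 7 M) ∣ c := card_sylow_dvd_of_card_eq (k := 1) (m := c) (by rw [hc, pow_one])
      have hmod := card_sylow_modEq_one 7 M
      rw [Nat.ModEq] at hmod
      have := Nat.le_of_dvd (by omega) hdv
      exact (Nat.card_eq_one_iff_unique.1 (by omega : Nat.card (Sylow 7 M) = 1)).1
    obtain ⟨P, hP⟩ := (R.isPGroup'.map M.subtype).exists_le_sylow
    have hRc : Nat.card ((R : Subgroup M).map M.subtype) = 7 := by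
      rw [Subgroup.card_map_of_injective M.subtype_injective,
        sylow_card_eq R (k := 1) (m := c) (by rw [hc, pow_one]) (fun h7' => by
          have := Nat.le_of_dvd (by omega) h7'; omega), pow_one]
    have hPe : (R : Subgroup M).map M.subtype = (P : Subgroup G) :=
      eq_of_le_of_card_ge hP (by rw [hRc, card_sylow_seven_subgroup h P])
    have hPM : (P : Subgroup G) ≤ M := hPe ▸ map_subtype_le _
    have hnorm := (P.subtype hPM).normal_of_subsingleton
    rw [Sylow.coe_subtype, normal_subgroupOf_iff_le_normalizer hPM] at hnorm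
    exact ⟨P, eq_of_isCoatom hM hnorm (fun ht => by
      have := card_normalizer_seven h P
      rw [ht, card_top, h] at this
      omega)⟩
  exfalso
  by_cases h3 : 3 ∣ Nat.card M
  · obtain ⟨c, hc⟩ := h3
    obtain ⟨R⟩ := (inferInstance : Nonempty (Sylow 3 M))
    have hc8 : c < 8 := by omega
    have hcd : c ∣ 56 := by
      rw [hc] at hd
      exact (Nat.mul_dvd_mul_iff_left (show 0 < 3 by norm_num)).1 (by norm_num; exact hd)
    have hc7 : c ≠ 7 := fun hc' => h7 (by rw [hc, hc']; norm_num)
    have hc4 : c = 1 ∨ c = 2 ∨ c = 4 := by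
      interval_cases c <;> simp_all
    have hdv : Nat.card (Sylow 3 M) ∣ c := card_sylow_dvd_of_card_eq (k := 1) (m := c) (by rw [hc, pow_one])
    have hmod := card_sylow_modEq_one 3 M
    rw [Nat.ModEq] at hmod
    have hRc : Nat.card (R : Subgroup M) = 3 := by
      rw [sylow_card_eq R (k := 1) (m := c) (by rw [hc, pow_one]) (by
        rcases hc4 with rfl | rfl | rfl <;> norm_num), pow_one]
    have hdl := Nat.le_of_dvd (by omega) hdv
    have hn : Nat.card (Sylow 3 M) = 1 ∨ (Nat.card (Sylow 3 M) = 4 ∧ c = 4) := by omega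
    rcases hn with hn | ⟨hn, rfl⟩
    · have := (Nat.card_eq_one_iff_unique.1 hn).1
      obtain ⟨P, hP⟩ := (R.isPGroup'.map M.subtype).exists_le_sylow
      have hPe : (R : Subgroup M).map M.subtype = (P : Subgroup G) :=
        eq_of_le_of_card_ge hP (by
          rw [Subgroup.card_map_of_injective M.subtype_injective, hRc, card_sylow_three_subgroup h P])
      have hPM : (P : Subgroup G) ≤ M := hPe ▸ map_subtype_le _
      have hnorm := (P.subtype hPM).normal_of_subsingleton
      rw [Sylow.coe_subtype, normal_subgroupOf_iff_le_normalizer hPM] at hnorm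
      obtain ⟨V, hV, hle'⟩ := normalizer_three_le h P
      have := eq_of_isCoatom hM (hnorm.trans hle') (klein_normalizer_ne_top h hV)
      exact h24 (by rw [this, card_normalizer_klein h hV])
    · -- order twelve with four Sylow 3-subgroups
      obtain ⟨S⟩ := (inferInstance : Nonempty (Sylow 2 M))
      have hSc : Nat.card (S : Subgroup M) = 4 := by
        rw [sylow_card_eq S (k := 2) (m := 3) (by rw [hc]; norm_num) (by norm_num)]; rfl
      have h8 : Nat.card {g : M // orderOf g = 3} = 8 := by rw [card_orderOf_eq_prime R hRc, hn]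
      let _ := Fintype.ofFinite M
      have hset : ∀ Q : Sylow 2 M, (Finset.univ.filter fun g : M => g ∈ (Q : Subgroup M)) =
          Finset.univ.filter fun g : M => ¬ orderOf g = 3 := by
        intro Q
        have hQc : Nat.card (Q : Subgroup M) = 4 := (card_sylow_congr Q S).trans hSc
        apply Finset.eq_of_subset_of_card_le
        · intro g hg
          rw [Finset.mem_filter] at hg ⊢
          refine ⟨hg.1, fun h3' => ?_⟩
          have := Subgroup.orderOf_dvd_natCard _ hg.2
          rw [hQc, h3'] at this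
          norm_num at this
        · have := Finset.card_filter_add_card_filter_not (s := (Finset.univ : Finset M))
            (p := fun g => orderOf g = 3)
          rw [Nat.card_eq_fintype_card, Fintype.card_subtype] at h8
          rw [Finset.card_univ, ← Nat.card_eq_fintype_card, hc, h8] at this
          rw [Nat.card_eq_fintype_card, Fintype.card_subtype] at hQc
          omega
      have hsub : Subsingleton (Sylow 2 M) := ⟨fun A B => Sylow.ext (by
        ext g
        simpa using Finset.ext_iff.1 ((hset A).trans (hset B).symm) g)⟩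
      have hSn : (S : Subgroup M).Normal := S.normal_of_subsingleton
      set V := (S : Subgroup M).map M.subtype with hV
      have hVn : M ≤ normalizer (V : Set G) := by
        have h1 := le_normalizer_map M.subtype (H := (S : Subgroup M))
        rw [normalizer_eq_top_iff.2 hSn, ← MonoidHom.range_eq_map, range_subtype] at h1
        exact h1
      have hVc : Nat.card V = 4 := by
        rw [hV, Subgroup.card_map_of_injective M.subtype_injective, hSc]
      obtain ⟨x, hx⟩ := exists_prime_orderOf_dvd_card' (G := M) 3 (by rw [hc]; norm_num)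
      have hk := klein_of_normalized h hVc (x := (x : G)) (by rw [Subgroup.orderOf_coe, hx]) (hVn x.2)
      have := eq_of_isCoatom hM hVn (klein_normalizer_ne_top h hk)
      exact h24 (by rw [this, card_normalizer_klein h hk])
  · have h8 : Nat.card M ∣ 2 ^ 3 := by
      have c3 := (Nat.Prime.coprime_iff_not_dvd Nat.prime_three).2 h3
      have c7 := (Nat.Prime.coprime_iff_not_dvd (by norm_num : Nat.Prime 7)).2 h7
      exact (Nat.Coprime.mul_right c3.symm c7.symm).dvd_of_dvd_mul_right (by norm_num; exact hd)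
    obtain ⟨k, -, hk⟩ := (Nat.dvd_prime_pow Nat.prime_two).1 h8
    obtain ⟨T, hT⟩ := (IsPGroup.of_card hk).exists_le_sylow
    obtain ⟨U, -, -, hUT, -, hU, -, -⟩ := exists_two_klein h T
    have := eq_of_isCoatom hM (hT.trans (le_normalizer_of_le_sylow h T hU hUT)) (klein_normalizer_ne_top h hU)
    exact h24 (by rw [this, card_normalizer_klein h hU])

theorem isCoatom_of_card (h : Nat.card G = 168) {M : Subgroup G} (hM : Nat.card M = 24) : IsCoatom M := by
  refine ⟨fun ht => ?_, fun K hK => ?_⟩
  · rw [ht, card_top, h] at hM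
    omega
  · by_contra hne
    exact hK.ne (eq_of_le_of_card_ge hK.le ((card_le h K hne).trans hM.ge))

end CfsgLib.Perm.Simple168
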