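import Cfsg.Agent.Lib.Perm.Simple168
import Mathlib.GroupTheory.SpecificGroups.KleinFour

/-!
Simple groups of order 168: the Sylow 2-subgroups, involutions and elements of order four.
-/

namespace CfsgLib.Perm.Simple168

open Subgroup MulAction CfsgLib.Perm

variable {G : Type*} [Group G] [Finite G] [IsSimpleGroup G]

theorem card_sylow_two_subgroup (h : Nat.card G = 168) (T : Sylow 2 G) :
    Nat.card (T : Subgroup G) = 8 := by
  have : Fact (Nat.Prime 2) := ⟨Nat.prime_two⟩
  rw [sylow_card_eq T (k := 3) (m := 21) (by rw [h]; norm_num) (by norm_num)]; rfl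

theorem mem_two_sylow (h : Nat.card G = 168) {g : G} (hg : orderOf g = 2 ∨ orderOf g = 4) :
    ∃ T : Sylow 2 G, g ∈ (T : Subgroup G) := by
  have : Fact (Nat.Prime 2) := ⟨Nat.prime_two⟩
  have _ := h
  rcases hg with hg | hg
  · exact exists_mem_sylow_of_orderOf (k := 1) (by rw [hg]; rfl)
  · exact exists_mem_sylow_of_orderOf (k := 2) (by rw [hg]; rfl)

theorem card_sylow_two (h : Nat.card G = 168) : Nat.card (Sylow 2 G) = 21 := by
  classical
  have : Fact (Nat.Prime 2) := ⟨Nat.prime_two⟩
  let _ := Fintype.ofFinite (Sylow 2 G)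
  let X := {g : G // orderOf g = 2 ∨ orderOf g = 4}
  choose τ hτ using fun g : X => mem_two_sylow h g.2
  have hne : ∀ g : X, (g : G) ≠ 1 := by
    intro g hg
    have := g.2
    rw [hg, orderOf_one] at this
    omega
  let f : X → Σ T : Sylow 2 G, {t : (T : Subgroup G) // t ≠ 1} := fun g =>
    ⟨τ g, ⟨g, hτ g⟩, fun h => hne g (congrArg Subtype.val h)⟩
  have hf : Function.Injective f := fun a b hab => Subtype.ext
    (congrArg (fun s : Σ T : Sylow 2 G, {t : (T : Subgroup G) // t ≠ 1} =>
      ((s.2 : (s.1 : Subgroup G)) : G)) hab)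
  have h1 := Nat.card_le_card_of_injective f hf
  have h2 : ∀ T : Sylow 2 G, Nat.card {t : (T : Subgroup G) // t ≠ 1} = 7 := by
    intro T
    let _ := Fintype.ofFinite (T : Subgroup G)
    rw [Nat.card_eq_fintype_card, Fintype.card_subtype_compl, Fintype.card_subtype_eq,
      ← Nat.card_eq_fintype_card, card_sylow_two_subgroup h T]
  rw [Nat.card_sigma, Finset.sum_congr rfl (fun T _ => h2 T), Finset.sum_const, Finset.card_univ,
    ← Nat.card_eq_fintype_card, smul_eq_mul] at h1
  have h3 : Nat.card X = 63 := by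
    let _ := Fintype.ofFinite G
    rw [← card_two_elements h]
    simp only [X, Nat.card_eq_fintype_card]
    exact Fintype.card_subtype_or_disjoint _ _ (by
      intro p hp1 hp2 g hg
      have := hp1 g hg
      have := hp2 g hg
      omega)
  have hd := card_sylow_dvd_of_card_eq (G := G) (p := 2) (k := 3) (m := 21) (by rw [h]; norm_num)
  have hle := Nat.le_of_dvd (by norm_num) hd
  obtain ⟨c, hc⟩ := hd
  generalize Nat.card (Sylow 2 G) = n at *
  rw [h3] at h1
  interval_cases n <;> omega

theorem normalizer_two (h : Nat.card G = 168) (T : Sylow 2 G) :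
    normalizer ((T : Subgroup G) : Set G) = T := by
  have : Fact (Nat.Prime 2) := ⟨Nat.prime_two⟩
  have hN := card_normalizer_mul_card_sylow T
  rw [card_sylow_two h, h] at hN
  exact (eq_of_le_of_card_ge le_normalizer (by rw [card_sylow_two_subgroup h T]; omega)).symm

/-- The centraliser of an involution is a 2-group of order at most eight. -/
theorem isPGroup_centralizer_involution (h : Nat.card G = 168) {z : G} (hz : orderOf z = 2) :
    IsPGroup 2 (centralizer ({z} : Set G)) := by
  have hno : ∀ q, (q = 3 ∨ q = 7) → ¬ q ∣ Nat.card (centralizer ({z} : Set G)) := by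
    intro q hq hd
    have : Fact q.Prime := ⟨by rcases hq with rfl | rfl <;> norm_num⟩
    obtain ⟨x, hx⟩ := exists_prime_orderOf_dvd_card' (G := centralizer ({z} : Set G)) q hd
    have hx' : orderOf (x : G) = q := by rw [Subgroup.orderOf_coe, hx]
    have hc : Commute (x : G) z := mem_centralizer_singleton_iff.1 x.2
    have hm := hc.orderOf_mul_eq_mul_orderOf_of_coprime
      (by rw [hx', hz]; rcases hq with rfl | rfl <;> norm_num)
    rw [hx', hz] at hm
    rcases orderOf_cases h ((x : G) * z) with h' | h' | h' | h' | h' <;> omega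
  have hd : Nat.card (centralizer ({z} : Set G)) ∣ 2 ^ 3 * 21 := by
    have := card_subgroup_dvd_card (centralizer ({z} : Set G))
    rw [h] at this
    norm_num
    exact this
  have c3 := (Nat.Prime.coprime_iff_not_dvd Nat.prime_three).2 (hno 3 (Or.inl rfl))
  have c7 := (Nat.Prime.coprime_iff_not_dvd (by norm_num : Nat.Prime 7)).2 (hno 7 (Or.inr rfl))
  have h8 : Nat.card (centralizer ({z} : Set G)) ∣ 2 ^ 3 :=
    (Nat.Coprime.mul_right c3.symm c7.symm).dvd_of_dvd_mul_right hd
  obtain ⟨k, -, hk⟩ := (Nat.dvd_prime_pow Nat.prime_two).1 h8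
  exact IsPGroup.of_card hk

theorem centralizer_of_central (h : Nat.card G = 168) (T : Sylow 2 G) {z : G}
    (hz : z ∈ (T : Subgroup G)) (hz1 : z ≠ 1) (hc : ∀ t ∈ (T : Subgroup G), t * z = z * t) :
    centralizer ({z} : Set G) = (T : Subgroup G) := by
  have : Fact (Nat.Prime 2) := ⟨Nat.prime_two⟩
  obtain ⟨k, hk⟩ := T.isPGroup' ⟨z, hz⟩
  have hzk : z ^ 2 ^ k = 1 := congrArg Subtype.val hk
  obtain ⟨j, -, hj⟩ := (Nat.dvd_prime_pow Nat.prime_two).1 (orderOf_dvd_of_pow_eq_one hzk)
  have hj0 : j ≠ 0 := fun h0 => hz1 (orderOf_eq_one_iff.1 (by rw [hj, h0, pow_zero]))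
  -- an involution that is a power of z
  obtain ⟨i, rfl⟩ := Nat.exists_eq_succ_of_ne_zero hj0
  set u := z ^ 2 ^ i with hu
  have hu2 : orderOf u = 2 := by
    rw [hu, orderOf_pow' z (pow_ne_zero _ two_ne_zero), hj, pow_succ', Nat.gcd_mul_left_left,
      Nat.mul_div_cancel _ (pow_pos two_pos _)]
  have hle : (T : Subgroup G) ≤ centralizer ({z} : Set G) := fun t ht =>
    mem_centralizer_singleton_iff.2 (hc t ht)
  have hle2 : centralizer ({z} : Set G) ≤ centralizer ({u} : Set G) := fun x hx =>
    mem_centralizer_singleton_iff.2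
      ((show Commute x z from mem_centralizer_singleton_iff.1 hx).pow_right _).eq
  have hTu := T.is_maximal' (isPGroup_centralizer_involution h hu2) (hle.trans hle2)
  exact le_antisymm (hTu ▸ hle2) hle

theorem two_not_comm (h : Nat.card G = 168) (T : Sylow 2 G) :
    ¬ ∀ a ∈ (T : Subgroup G), ∀ b ∈ (T : Subgroup G), a * b = b * a := by
  have : Fact (Nat.Prime 2) := ⟨Nat.prime_two⟩
  intro hc
  apply not_normalizer_le_centralizer T (by rw [h]; norm_num)
    (not_isPGroup_of_dvd Nat.prime_three (by norm_num) (by rw [h]; norm_num))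
  rw [normalizer_two h T]
  intro a ha
  exact mem_centralizer_iff.2 fun b hb => hc b hb a ha

theorem exists_order_four (h : Nat.card G = 168) (T : Sylow 2 G) :
    ∃ y ∈ (T : Subgroup G), orderOf y = 4 := by
  by_contra hcon
  push Not at hcon
  apply two_not_comm h T
  have hinv : ∀ a ∈ (T : Subgroup G), a⁻¹ = a := by
    intro a ha
    apply inv_eq_of_mul_eq_one_right
    rw [← pow_two]
    have hd := Subgroup.orderOf_dvd_natCard _ ha
    rw [card_sylow_two_subgroup h T] at hd
    rcases orderOf_cases h a with h' | h' | h' | h' | h'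
    · rw [orderOf_eq_one_iff.1 h', one_pow]
    · rw [← h', pow_orderOf_eq_one]
    · rw [h'] at hd; norm_num at hd
    · exact absurd h' (hcon a ha)
    · rw [h'] at hd; norm_num at hd
  intro a ha b hb
  rw [← hinv _ (mul_mem ha hb), mul_inv_rev, hinv a ha, hinv b hb]

/-- The Sylow 2-subgroups are dihedral of order eight. -/
theorem two_dihedral (h : Nat.card G = 168) (T : Sylow 2 G) :
    Nonempty ((T : Subgroup G) ≃* DihedralGroup 4) := by
  classical
  have : Fact (Nat.Prime 2) := ⟨Nat.prime_two⟩
  obtain ⟨y₀, hy₀T, hy₀⟩ := exists_order_four h T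
  let y : (T : Subgroup G) := ⟨y₀, hy₀T⟩
  have hy : orderOf y = 4 := by rw [← Subgroup.orderOf_coe]; exact hy₀
  have hT8 := card_sylow_two_subgroup h T
  have hidx : (zpowers y).index = 2 := by
    have := card_mul_index (zpowers y)
    rw [Nat.card_zpowers, hy, hT8] at this
    omega
  have hnorm : (zpowers y).Normal := normal_of_index_eq_two hidx
  by_cases hs : ∃ s : (T : Subgroup G), s ∉ zpowers y ∧ s * s = 1
  · obtain ⟨s, hs, hs2⟩ := hs
    refine CfsgLib.TwoGroups.nonempty_mulEquiv_dihedralGroup hy hs2 hs ?_ hT8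
    have hmem : s * y * s⁻¹ ∈ Submonoid.powers y :=
      mem_powers_iff_mem_zpowers.2 (hnorm.conj_mem y (mem_zpowers y) s)
    obtain ⟨i, hi⟩ := hmem
    simp only at hi
    rw [← pow_mod_orderOf, hy] at hi
    have hord : orderOf (s * y * s⁻¹) = 4 := by rw [orderOf_conj_eq, hy]
    have hy4 : y ^ 4 = 1 := by rw [← hy, pow_orderOf_eq_one]
    have : i % 4 < 4 := Nat.mod_lt _ (by norm_num)
    interval_cases hk : i % 4
    · rw [← hi, pow_zero, orderOf_one] at hord; omega
    · exfalso
      rw [pow_one] at hi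
      have hcomm : Commute s y := mul_inv_eq_iff_eq_mul.1 hi.symm
      apply two_not_comm h T
      have htop : zpowers y ⊔ zpowers s = ⊤ := by
        have hd := card_dvd_of_le (le_sup_left : zpowers y ≤ zpowers y ⊔ zpowers s)
        have hd2 := card_subgroup_dvd_card (zpowers y ⊔ zpowers s)
        rw [Nat.card_zpowers, hy] at hd
        rw [hT8] at hd2
        apply eq_top_of_card_eq
        rw [hT8]
        have h1 := Nat.le_of_dvd (by norm_num) hd2
        have h2 : Nat.card (zpowers y ⊔ zpowers s : Subgroup (T : Subgroup G)) ≠ 4 := by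
          intro h4
          have := eq_of_le_of_card_ge (le_sup_left : zpowers y ≤ zpowers y ⊔ zpowers s)
            (by rw [h4, Nat.card_zpowers, hy])
          exact hs (this ▸ mem_sup_right (mem_zpowers s))
        have h3 : 0 < Nat.card (zpowers y ⊔ zpowers s : Subgroup (T : Subgroup G)) := Nat.card_pos
        obtain ⟨c, hc⟩ := hd
        obtain ⟨d, hd⟩ := hd2
        rw [hc] at hd h1 h2 h3 ⊢
        have : c ≤ 2 := by omega
        interval_cases c <;> omega
      intro a ha b hb
      have hcen : ∀ w : (T : Subgroup G), Commute w y ∧ Commute w s := by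
        intro w
        have hw : w ∈ zpowers y ⊔ zpowers s := htop ▸ mem_top w
        rw [← SetLike.mem_coe, coe_mul_of_right_le_normalizer_left _ _
          (le_top.trans (normalizer_eq_top (H := zpowers y)).ge)] at hw
        obtain ⟨_, ⟨k, rfl⟩, _, ⟨l, rfl⟩, rfl⟩ := hw
        exact ⟨((Commute.refl y).zpow_left k).mul_left (hcomm.zpow_left l),
          ((hcomm.symm).zpow_left k).mul_left ((Commute.refl s).zpow_left l)⟩
      have hb' : (⟨b, hb⟩ : (T : Subgroup G)) ∈ zpowers y ⊔ zpowers s := htop ▸ mem_top _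
      rw [← SetLike.mem_coe, coe_mul_of_right_le_normalizer_left _ _
        (le_top.trans (normalizer_eq_top (H := zpowers y)).ge)] at hb'
      obtain ⟨_, ⟨k, rfl⟩, _, ⟨l, rfl⟩, hkl⟩ := hb'
      have := (((hcen ⟨a, ha⟩).1.zpow_right k).mul_right ((hcen ⟨a, ha⟩).2.zpow_right l)).eq
      simp only at hkl
      rw [hkl] at this
      exact congrArg Subtype.val this
    · exfalso
      have h1 : orderOf (y ^ 2) = 2 := by rw [orderOf_pow' y two_ne_zero, hy]; rfl
      rw [hi] at h1
      omega
    · exact hi.symm.trans (eq_inv_of_mul_eq_one_left (by rw [← pow_succ]; exact hy4))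
  · exfalso
    push Not at hs
    -- every involution of every Sylow subgroup would be central
    have huniq : ∀ t : (T : Subgroup G), t * t = 1 → t = 1 ∨ t = y ^ 2 := by
      intro t ht
      have htm : t ∈ zpowers y := by_contra fun hm => hs t hm ht
      rw [← mem_powers_iff_mem_zpowers] at htm
      obtain ⟨i, rfl⟩ := htm
      simp only at ht ⊢
      rw [← pow_mod_orderOf, hy] at ht ⊢
      have : i % 4 < 4 := Nat.mod_lt _ (by norm_num)
      interval_cases hk : i % 4
      · exact Or.inl (pow_zero y)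
      · rw [pow_one, ← pow_two] at ht
        have := orderOf_dvd_of_pow_eq_one ht
        rw [hy] at this
        norm_num at this
      · exact Or.inr rfl
      · rw [← pow_add] at ht
        have := orderOf_dvd_of_pow_eq_one ht
        rw [hy] at this
        norm_num at this
    -- the same in every Sylow subgroup, so each has six elements of order four
    let X := {g : G // orderOf g = 4}
    let _ := Fintype.ofFinite (Sylow 2 G)
    have hy2c : ∀ t : (T : Subgroup G), t * y ^ 2 = y ^ 2 * t := by
      intro t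
      have h2 : t * y ^ 2 * t⁻¹ = 1 ∨ t * y ^ 2 * t⁻¹ = y ^ 2 := by
        apply huniq
        rw [← pow_two, conj_pow, ← pow_mul, show 2 * 2 = orderOf y by rw [hy], pow_orderOf_eq_one,
          mul_one, mul_inv_cancel]
      rcases h2 with h2 | h2
      · exfalso
        rw [conj_eq_one_iff] at h2
        have := orderOf_dvd_of_pow_eq_one h2
        rw [hy] at this
        norm_num at this
      · exact mul_inv_eq_iff_eq_mul.1 h2
    have hsix : ∀ R : Sylow 2 G, 6 ≤ Nat.card {t : (R : Subgroup G) // orderOf t = 4} := by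
      intro R
      let e : (R : Subgroup G) ≃* (T : Subgroup G) := R.equiv T
      have hc : Nat.card {t : (R : Subgroup G) // orderOf t = 4} =
          Nat.card {t : (T : Subgroup G) // orderOf t = 4} :=
        Nat.card_congr (e.toEquiv.subtypeEquiv fun t => by
          show orderOf t = 4 ↔ orderOf (e t) = 4
          rw [MulEquiv.orderOf_eq])
      rw [hc]
      let _ := Fintype.ofFinite (T : Subgroup G)
      have hsub : (Finset.univ.filter fun t : (T : Subgroup G) => ¬ orderOf t = 4) ⊆ {1, y ^ 2} := by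
        intro t ht
        rw [Finset.mem_filter] at ht
        have : t * t = 1 := by
          rw [← pow_two]
          have hd := orderOf_dvd_natCard t
          rw [hT8] at hd
          rcases orderOf_cases h (t : G) with h' | h' | h' | h' | h' <;>
            rw [Subgroup.orderOf_coe] at h'
          · rw [orderOf_eq_one_iff.1 h', one_pow]
          · exact orderOf_dvd_iff_pow_eq_one.1 h'.dvd
          · rw [h'] at hd; norm_num at hd
          · exact absurd h' ht.2
          · rw [h'] at hd; norm_num at hd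
        rcases huniq t this with h' | h' <;> simp [h']
      have h1 := (Finset.card_le_card hsub).trans Finset.card_le_two
      have h2 := Finset.card_filter_add_card_filter_not (s := (Finset.univ : Finset (T : Subgroup G)))
        (p := fun t => orderOf t = 4)
      rw [Finset.card_univ, ← Nat.card_eq_fintype_card, hT8] at h2
      rw [Nat.card_eq_fintype_card, Fintype.card_subtype]
      omega
    let f : (Σ R : Sylow 2 G, {t : (R : Subgroup G) // orderOf t = 4}) → X :=
      fun s => ⟨s.2.1, by rw [Subgroup.orderOf_coe]; exact s.2.2⟩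
    have hcen : ∀ (R : Sylow 2 G) (t : (R : Subgroup G)), orderOf t = 4 →
        centralizer ({((t ^ 2 : (R : Subgroup G)) : G)} : Set G) = (R : Subgroup G) := by
      intro R t ht
      let e : (R : Subgroup G) ≃* (T : Subgroup G) := R.equiv T
      have he : orderOf (e t) = 4 := by rw [MulEquiv.orderOf_eq, ht]
      have heq : (e t) ^ 2 = y ^ 2 := by
        refine (huniq _ ?_).resolve_left ?_
        · rw [← pow_two, ← pow_mul, show 2 * 2 = orderOf (e t) by rw [he], pow_orderOf_eq_one]
        · intro h1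
          have := orderOf_dvd_of_pow_eq_one h1
          rw [he] at this
          norm_num at this
      refine centralizer_of_central h R (t ^ 2).2 ?_ ?_
      · intro h1
        have h1' : t ^ 2 = 1 := Subtype.ext h1
        have := orderOf_dvd_of_pow_eq_one h1'
        rw [ht] at this
        norm_num at this
      · intro u hu
        refine congrArg Subtype.val (e.injective ?_ : (⟨u, hu⟩ : (R : Subgroup G)) * t ^ 2 = t ^ 2 * ⟨u, hu⟩)
        rw [map_mul, map_mul, map_pow, heq]
        exact hy2c _
    have hf : Function.Injective f := by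
      rintro ⟨R, t⟩ ⟨S, u⟩ hru
      have h1 : ((t : (R : Subgroup G)) : G) = ((u : (S : Subgroup G)) : G) := congrArg Subtype.val hru
      have hRS : R = S := by
        apply Sylow.ext
        rw [← hcen R t.1 t.2, ← hcen S u.1 u.2]
        simp [h1]
      subst hRS
      exact congrArg (Sigma.mk R) (Subtype.ext (Subtype.ext h1))
    have h1 := Nat.card_le_card_of_injective f hf
    rw [Nat.card_sigma] at h1
    have h2 := Finset.card_nsmul_le_sum Finset.univ _ 6
      (fun R (_ : R ∈ (Finset.univ : Finset (Sylow 2 G))) => hsix R)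
    rw [Finset.card_univ, ← Nat.card_eq_fintype_card, card_sylow_two h, smul_eq_mul] at h2
    have h3 := card_two_elements h
    simp only [X] at h1
    omega

/-- The unique central involution of a Sylow 2-subgroup. -/
theorem exists_center (h : Nat.card G = 168) (T : Sylow 2 G) :
    ∃ z ∈ (T : Subgroup G), orderOf z = 2 ∧ centralizer ({z} : Set G) = (T : Subgroup G) ∧
      (∀ t ∈ (T : Subgroup G), t ≠ 1 → (∀ u ∈ (T : Subgroup G), u * t = t * u) → t = z) ∧
      (∀ t ∈ (T : Subgroup G), orderOf t = 4 → t ^ 2 = z) := by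
  have : Fact (Nat.Prime 2) := ⟨Nat.prime_two⟩
  obtain ⟨e⟩ := two_dihedral h T
  have d1 : ∀ x : DihedralGroup 4, x * DihedralGroup.r 2 = DihedralGroup.r 2 * x := by decide
  have d2 : ∀ t : DihedralGroup 4, t ≠ 1 → (∀ u, u * t = t * u) → t = DihedralGroup.r 2 := by decide
  have d3 : ∀ t : DihedralGroup 4, t ^ 2 ≠ 1 → t ^ 2 = DihedralGroup.r 2 := by decide
  have d4 : (DihedralGroup.r 2 : DihedralGroup 4) ≠ 1 ∧
      (DihedralGroup.r 2 : DihedralGroup 4) ^ 2 = 1 := by decide
  set z := e.symm (DihedralGroup.r 2) with hz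
  have hz1 : z ≠ 1 := fun h1 => d4.1 (e.symm.injective (by rw [map_one]; exact h1))
  have hc : ∀ u ∈ (T : Subgroup G), u * (z : G) = (z : G) * u := by
    intro u hu
    refine congrArg Subtype.val (e.injective ?_ : (⟨u, hu⟩ : (T : Subgroup G)) * z = z * ⟨u, hu⟩)
    rw [map_mul, map_mul, hz, MulEquiv.apply_symm_apply]
    exact d1 _
  refine ⟨z, z.2, ?_, centralizer_of_central h T z.2 (fun h1 => hz1 (Subtype.ext h1)) hc, ?_, ?_⟩
  · rw [Subgroup.orderOf_coe, hz, MulEquiv.orderOf_eq]
    exact orderOf_eq_prime d4.2 d4.1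
  · intro t ht ht1 htc
    refine congrArg Subtype.val (e.injective ?_ : (⟨t, ht⟩ : (T : Subgroup G)) = z)
    rw [hz, MulEquiv.apply_symm_apply]
    refine d2 _ (fun h1 => ht1 (congrArg Subtype.val (e.injective (h1.trans (map_one e).symm)))) fun u => ?_
    obtain ⟨w, rfl⟩ := e.surjective u
    rw [← map_mul, ← map_mul]
    exact congrArg e (Subtype.ext (htc w w.2))
  · intro t ht ht4
    refine congrArg Subtype.val (e.injective ?_ : (⟨t, ht⟩ : (T : Subgroup G)) ^ 2 = z)
    rw [hz, MulEquiv.apply_symm_apply, map_pow]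
    refine d3 _ fun h1 => ?_
    have h2 : e ((⟨t, ht⟩ : (T : Subgroup G)) ^ 2) = e 1 := by rw [map_pow, h1, map_one]
    have h3 : t ^ 2 = 1 := congrArg Subtype.val (e.injective h2)
    have := orderOf_dvd_of_pow_eq_one h3
    rw [ht4] at this
    norm_num at this

theorem card_orderOf_four (h : Nat.card G = 168) : Nat.card {g : G // orderOf g = 4} = 42 := by
  classical
  have : Fact (Nat.Prime 2) := ⟨Nat.prime_two⟩
  let _ := Fintype.ofFinite (Sylow 2 G)
  choose τ hτ using fun g : {g : G // orderOf g = 4} => mem_two_sylow h (Or.inr g.2)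
  have huniq : ∀ (g : G) (R S : Sylow 2 G), orderOf g = 4 → g ∈ (R : Subgroup G) →
      g ∈ (S : Subgroup G) → R = S := by
    intro g R S hg hR hS
    obtain ⟨z, -, -, hz, -, hz4⟩ := exists_center h R
    obtain ⟨w, -, -, hw, -, hw4⟩ := exists_center h S
    apply Sylow.ext
    rw [← hz, ← hw, ← hz4 g hR hg, ← hw4 g hS hg]
  let e₁ : {g : G // orderOf g = 4} ≃ Σ R : Sylow 2 G, {t : (R : Subgroup G) // orderOf t = 4} :=
  { toFun := fun g => ⟨τ g, ⟨g, hτ g⟩, by rw [← Subgroup.orderOf_coe]; exact g.2⟩
    invFun := fun s => ⟨s.2.1, by rw [Subgroup.orderOf_coe]; exact s.2.2⟩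
    left_inv := fun g => rfl
    right_inv := fun s => by
      obtain ⟨R, ⟨⟨t, ht⟩, ht4⟩⟩ := s
      have ht4' : orderOf t = 4 := by rw [← ht4, ← Subgroup.orderOf_coe]
      have gen : ∀ (R' : Sylow 2 G) (h' : t ∈ (R' : Subgroup G))
          (h4 : orderOf (⟨t, h'⟩ : (R' : Subgroup G)) = 4), R' = R →
          (⟨R', ⟨⟨t, h'⟩, h4⟩⟩ : Σ Q : Sylow 2 G, {u : (Q : Subgroup G) // orderOf u = 4}) =
            ⟨R, ⟨⟨t, ht⟩, ht4⟩⟩ := by
        intro R' h' h4 he
        subst he
        rfl
      exact gen _ _ _ (huniq t _ R ht4' (hτ ⟨t, ht4'⟩) ht) }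
  rw [Nat.card_congr e₁, Nat.card_sigma]
  have h2 : ∀ R : Sylow 2 G, Nat.card {t : (R : Subgroup G) // orderOf t = 4} = 2 := by
    intro R
    obtain ⟨e⟩ := two_dihedral h R
    have hiff : ∀ t : (R : Subgroup G), orderOf t = 4 ↔ (e t) ^ 2 ≠ 1 := by
      intro t
      rw [← MulEquiv.orderOf_eq e t]
      constructor
      · intro h4 h2
        have := orderOf_dvd_of_pow_eq_one h2
        rw [h4] at this
        norm_num at this
      · intro h2
        exact orderOf_eq_prime_pow (p := 2) (n := 1) (by simpa using h2)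
          (by revert h2; generalize e t = w; revert w; decide)
    rw [Nat.card_congr (e.toEquiv.subtypeEquiv (q := fun w => w ^ 2 ≠ 1) hiff),
      Nat.card_eq_fintype_card]
    decide
  rw [Finset.sum_congr rfl (fun R _ => h2 R), Finset.sum_const, Finset.card_univ,
    ← Nat.card_eq_fintype_card, card_sylow_two h, smul_eq_mul]

theorem card_orderOf_two (h : Nat.card G = 168) : Nat.card {g : G // orderOf g = 2} = 21 := by
  have := card_two_elements h
  have := card_orderOf_four h
  omega

/-- Every involution is the central involution of exactly one Sylow 2-subgroup. -/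
theorem exists_sylow_of_involution (h : Nat.card G = 168) {z : G} (hz : orderOf z = 2) :
    ∃ T : Sylow 2 G, z ∈ (T : Subgroup G) ∧ centralizer ({z} : Set G) = (T : Subgroup G) := by
  have : Fact (Nat.Prime 2) := ⟨Nat.prime_two⟩
  choose c hc using exists_center (G := G) h
  let f : Sylow 2 G → {g : G // orderOf g = 2} := fun T => ⟨c T, (hc T).2.1⟩
  have hf : Function.Injective f := by
    intro R S hRS
    apply Sylow.ext
    rw [← (hc R).2.2.1, ← (hc S).2.2.1, show c R = c S from congrArg Subtype.val hRS]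
  have hbij := (Nat.bijective_iff_injective_and_card f).2
    ⟨hf, by rw [card_sylow_two h, card_orderOf_two h]⟩
  obtain ⟨T, hT⟩ := hbij.2 ⟨z, hz⟩
  have hT' : c T = z := congrArg Subtype.val hT
  exact ⟨T, hT' ▸ (hc T).1, hT' ▸ (hc T).2.2.1⟩

theorem isConj_involutions (h : Nat.card G = 168) {s t : G} (hs : orderOf s = 2) (ht : orderOf t = 2) :
    IsConj s t := by
  have : Fact (Nat.Prime 2) := ⟨Nat.prime_two⟩
  obtain ⟨S, hsS, hS⟩ := exists_sylow_of_involution h hs
  obtain ⟨T, htT, hT⟩ := exists_sylow_of_involution h ht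
  obtain ⟨g, hg⟩ := exists_smul_eq G S T
  obtain ⟨z, -, -, -, huniq, -⟩ := exists_center h T
  have hmem : g * s * g⁻¹ ∈ (T : Subgroup G) := by
    rw [← hg, Sylow.coe_subgroup_smul]
    exact ⟨s, hsS, rfl⟩
  have h1 : g * s * g⁻¹ = z := by
    refine huniq _ hmem (fun h0 => ?_) ?_
    · rw [conj_eq_one_iff] at h0
      rw [h0, orderOf_one] at hs
      omega
    · intro u hu
      rw [← hg, Sylow.coe_subgroup_smul] at hu
      obtain ⟨v, hv, rfl⟩ := hu
      have hvc : v * s = s * v := by
        have : v ∈ centralizer ({s} : Set G) := hS ▸ hv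
        exact mem_centralizer_singleton_iff.1 this
      show g * v * g⁻¹ * (g * s * g⁻¹) = g * s * g⁻¹ * (g * v * g⁻¹)
      calc _ = g * (v * s) * g⁻¹ := by group
        _ = g * (s * v) * g⁻¹ := by rw [hvc]
        _ = _ := by group
  have h2 : t = z := by
    refine huniq _ htT (fun h0 => ?_) ?_
    · rw [h0, orderOf_one] at ht
      omega
    · intro u hu
      exact mem_centralizer_singleton_iff.1 (hT ▸ hu : u ∈ centralizer ({t} : Set G))
  exact isConj_iff.2 ⟨g, h1.trans h2.symm⟩

end CfsgLib.Perm.Simple168
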