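import Mathlib.FieldTheory.Finite.Basic
import Mathlib.Tactic

/-!
# Generators of finite fields
-/

set_option autoImplicit false

namespace CfsgLib.Perm.SubfieldGen

variable {F : Type*} [Field F] [Fintype F]

/-- An element fixed by no short Frobenius power generates the field. -/
theorem closure_eq_top {p f : ℕ} [Fact p.Prime] [CharP F p] (hf : Fintype.card F = p ^ f) {γ : F}
    (h : ∀ d, 0 < d → 2 * d ≤ f → γ ^ p ^ d ≠ γ) : Subfield.closure ({γ} : Set F) = ⊤ := by
  classical
  set K := Subfield.closure ({γ} : Set F) with hK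
  by_contra hne
  haveI : Fintype K := Fintype.ofFinite K
  have hpp : p.Prime := Fact.out
  obtain ⟨d, hp', hd⟩ := FiniteField.card K p
  have hγ : γ ^ p ^ (d : ℕ) = γ := by
    have h1 := FiniteField.pow_card (⟨γ, Subfield.subset_closure rfl⟩ : K)
    rw [hd] at h1
    exact congrArg Subtype.val h1
  have hdeg := Module.card_eq_pow_finrank (K := K) (V := F)
  have he : 2 ≤ Module.finrank K F := by
    by_contra hlt
    refine hne (SetLike.ext' ?_)
    rw [Subfield.coe_top]
    have hpos : 0 < Module.finrank K F := Module.finrank_pos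
    rw [show Module.finrank K F = 1 by omega, pow_one] at hdeg
    refine Set.eq_univ_of_forall fun x => ?_
    obtain ⟨⟨y, hy⟩, hxy⟩ := ((Fintype.bijective_iff_injective_and_card (Subtype.val : K → F)).2
      ⟨Subtype.val_injective, hdeg.symm⟩).2 x
    exact hxy ▸ hy
  refine h d d.2 ?_ hγ
  rw [hf, hd, ← pow_mul] at hdeg
  have := Nat.pow_right_injective hpp.two_le hdeg
  rw [this]
  calc 2 * (d : ℕ) = (d : ℕ) * 2 := Nat.mul_comm _ _
    _ ≤ (d : ℕ) * Module.finrank K F := Nat.mul_le_mul_left _ he

/-- Avoiding the roots of a family of polynomials. -/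
theorem exists_avoid {ι : Type*} (s : Finset ι) (P : ι → Polynomial F) (hne : ∀ i ∈ s, P i ≠ 0)
    (h : ∑ i ∈ s, (P i).natDegree < Fintype.card F) : ∃ x : F, ∀ i ∈ s, (P i).eval x ≠ 0 := by
  classical
  by_contra hc
  push_neg at hc
  have hsub : (Finset.univ : Finset F) ⊆ s.biUnion fun i => (P i).roots.toFinset := by
    intro x _
    obtain ⟨i, hi, hx⟩ := hc x
    rw [Finset.mem_biUnion]
    exact ⟨i, hi, Multiset.mem_toFinset.2 ((Polynomial.mem_roots (hne i hi)).2 hx)⟩
  have h1 := Finset.card_le_card hsub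
  rw [Finset.card_univ] at h1
  have h2 := (h1.trans Finset.card_biUnion_le).trans
    (Finset.sum_le_sum fun i _ => (Multiset.toFinset_card_le _).trans (P i).card_roots')
  omega

end CfsgLib.Perm.SubfieldGen
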