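import Cfsg.Agent.Lib.Perm.SylowTwoDecompAbstract

/-!
Direct decomposability of the Sylow `2`-subgroups of the alternating groups.
-/

set_option autoImplicit false
set_option linter.style.haveILetI false

namespace CfsgLib.Perm.SylowTwoDecomp

open Subgroup Equiv Equiv.Perm
open scoped Fin.NatCast

instance factTwo : Fact (Nat.Prime 2) := ⟨Nat.prime_two⟩

theorem val_factorial_add_bits (n : ℕ) : padicValNat 2 n.factorial + n.bitIndices.length = n := by
  induction n using Nat.strong_induction_on with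
  | _ n ih =>
    rcases Nat.even_or_odd' n with ⟨m, rfl | rfl⟩
    · rcases Nat.eq_zero_or_pos m with rfl | hm
      · simp
      · have := ih m (by omega)
        rw [padicValNat_factorial_mul, Nat.bitIndices_two_mul, List.length_map]
        omega
    · have := ih m (by omega)
      rw [padicValNat_factorial_mul_add m (by norm_num : 1 < 2), padicValNat_factorial_mul,
        Nat.bitIndices_two_mul_add_one, List.length_cons, List.length_map]
      omega

theorem card_sylow_perm {α : Type*} [Finite α] (T : Sylow 2 (Perm α)) :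
    Nat.card T = 2 ^ padicValNat 2 (Nat.card α).factorial := by
  rw [T.card_eq_multiplicity, Nat.card_perm, Nat.factorization_def _ Nat.prime_two]

theorem val_factorial_two_pow (a : ℕ) : padicValNat 2 (2 ^ a).factorial + 1 = 2 ^ a := by
  have := val_factorial_add_bits (2 ^ a)
  simpa using this

/-- a full cycle -/
def cyc (a : ℕ) : Perm (Fin (2 ^ a)) := finRotate (2 ^ a)

theorem cyc_pow_apply {N : ℕ} [NeZero N] (k : ℕ) : ((finRotate N) ^ k) 0 = (k : Fin N) := by
  induction k with
  | zero => simp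
  | succ k ih => rw [pow_succ', Perm.mul_apply, ih, finRotate_apply, Nat.cast_succ]

theorem eq_cyc_pow {N : ℕ} [NeZero N] {z : Perm (Fin N)} (h : Commute z (finRotate N)) :
    ∃ k : ℕ, z = finRotate N ^ k := by
  refine ⟨(z 0 : Fin N).val, Equiv.ext fun x => ?_⟩
  have e : ∀ j : ℕ, z ((finRotate N ^ j) 0) = (finRotate N ^ j) (z 0) := fun j => by
    rw [← Perm.mul_apply, (h.pow_right j).eq, Perm.mul_apply]
  have hx := e x.val
  rw [cyc_pow_apply, Fin.cast_val_eq_self] at hx
  rw [hx]
  conv_lhs => rw [show z 0 = (((z 0 : Fin N).val : ℕ) : Fin N) from (Fin.cast_val_eq_self _).symm, ← cyc_pow_apply,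
    ← Perm.mul_apply, ← pow_add, add_comm, pow_add, Perm.mul_apply, cyc_pow_apply, Fin.cast_val_eq_self]

theorem isPGroup_zpowers_cyc (a : ℕ) : IsPGroup 2 (zpowers (cyc a)) := by
  haveI : NeZero (2 ^ a) := ⟨by positivity⟩
  have h : cyc a ^ (2 ^ a) = 1 := by
    obtain ⟨k, hk⟩ : ∃ k, cyc a ^ (2 ^ a) = finRotate (2 ^ a) ^ k := ⟨2 ^ a, rfl⟩
    refine Equiv.ext fun x => ?_
    have hc : Commute (cyc a ^ (2 ^ a)) (finRotate (2 ^ a) ^ x.val) := (Commute.refl (cyc a)).pow_pow _ _
    have h0 : (cyc a ^ (2 ^ a)) 0 = 0 := by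
      show ((finRotate (2 ^ a)) ^ (2 ^ a)) 0 = 0
      rw [cyc_pow_apply, Fin.natCast_self]
    have hx : (finRotate (2 ^ a) ^ x.val) 0 = x := by rw [cyc_pow_apply, Fin.cast_val_eq_self]
    conv_lhs => rw [← hx, ← Perm.mul_apply, hc.eq, Perm.mul_apply, h0, hx]
    rfl
  obtain ⟨i, -, hi⟩ := (Nat.dvd_prime_pow Nat.prime_two).1 (orderOf_dvd_of_pow_eq_one h)
  exact IsPGroup.of_card (n := i) (by rw [Nat.card_zpowers, hi])

/-- a Sylow `2`-subgroup on `2 ^ a` points containing a full cycle -/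
noncomputable def W (a : ℕ) : Sylow 2 (Perm (Fin (2 ^ a))) :=
  (isPGroup_zpowers_cyc a).exists_le_sylow.choose

theorem cyc_mem (a : ℕ) : cyc a ∈ (W a : Subgroup (Perm (Fin (2 ^ a)))) :=
  (isPGroup_zpowers_cyc a).exists_le_sylow.choose_spec (mem_zpowers _)

theorem card_W (a : ℕ) : Nat.card (W a) = 2 ^ padicValNat 2 (2 ^ a).factorial := by
  rw [card_sylow_perm, Nat.card_fin]

abbrev C₂ : Type := Multiplicative (ZMod 2)

theorem card_C₂ : Nat.card C₂ = 2 := by simp [C₂]

/-- the swap -/
def sw : C₂ := Multiplicative.ofAdd 1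

theorem sw_ne : sw ≠ 1 := by decide

/-- the standard embedding -/
theorem exists_wreath_embedding (a : ℕ) :
    ∃ f : (W a : Subgroup (Perm (Fin (2 ^ a)))) ≀ᵣ C₂ →* Perm (Fin (2 ^ (a + 1))), Function.Injective f ∧
      (1 ≤ a → sign (f (RegularWreathProduct.inl sw)) = 1) := by
  classical
  haveI : Nonempty (Fin (2 ^ a)) := ⟨⟨0, by positivity⟩⟩
  let e : Fin (2 ^ a) × C₂ ≃ Fin (2 ^ (a + 1)) :=
    Fintype.equivFinOfCardEq (by simp [C₂, pow_succ])
  let f := e.permCongrHom.toMonoidHom.comp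
    (RegularWreathProduct.toPerm ↥(W a : Subgroup (Perm (Fin (2 ^ a)))) C₂ (Fin (2 ^ a)))
  refine ⟨f, e.permCongrHom.injective.comp (RegularWreathProduct.toPermInj _ _ _), fun ha => ?_⟩
  show sign (e.permCongr (RegularWreathProduct.toPerm _ C₂ (Fin (2 ^ a)) (RegularWreathProduct.inl sw))) = 1
  rw [sign_permCongr]
  rw [show RegularWreathProduct.toPerm (↥(W a : Subgroup (Perm (Fin (2 ^ a))))) C₂ (Fin (2 ^ a))
      (RegularWreathProduct.inl sw) = prodCongrRight (fun _ : Fin (2 ^ a) => Equiv.mulLeft sw) from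
    Equiv.ext fun p => Prod.ext (one_smul _ p.1) rfl]
  rw [sign_prodCongrRight, Finset.prod_const, Finset.card_univ, Fintype.card_fin]
  obtain ⟨b, rfl⟩ : ∃ b, a = b + 1 := ⟨a - 1, by omega⟩
  rw [pow_succ 2 b, pow_mul, Int.units_sq]

theorem equiv_wreath (a : ℕ) :
    Nonempty ((W a : Subgroup (Perm (Fin (2 ^ a)))) ≀ᵣ C₂ ≃* (W (a + 1) : Subgroup (Perm (Fin (2 ^ (a + 1)))))) := by
  obtain ⟨f, hf, -⟩ := exists_wreath_embedding a
  have hc : Nat.card f.range = 2 ^ (Nat.card (Perm (Fin (2 ^ (a + 1))))).factorization 2 := by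
    rw [← Nat.card_congr (MonoidHom.ofInjective hf).toEquiv, RegularWreathProduct.card, card_C₂, card_W,
      Nat.card_perm, Nat.card_fin, Nat.factorization_def _ Nat.prime_two, ← pow_mul, ← pow_succ]
    congr 1
    have h1 := val_factorial_two_pow a
    have h2 := val_factorial_two_pow (a + 1)
    rw [pow_succ] at h2 ⊢
    omega
  let T : Sylow 2 (Perm (Fin (2 ^ (a + 1)))) := Sylow.ofCard f.range hc
  exact ⟨(MonoidHom.ofInjective hf).trans (T.equiv (W (a + 1)))⟩

theorem exists_ne_one (a : ℕ) (ha : 1 ≤ a) : ∃ h : (W a : Subgroup (Perm (Fin (2 ^ a)))), h ≠ 1 := by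
  haveI : NeZero (2 ^ a) := ⟨by positivity⟩
  refine ⟨⟨cyc a, cyc_mem a⟩, fun h => ?_⟩
  have := Equiv.congr_fun (congrArg Subtype.val h) 0
  simp only [cyc, OneMemClass.coe_one, Perm.one_apply, finRotate_apply, zero_add] at this
  have h1 : 2 ^ 1 ≤ 2 ^ a := Nat.pow_le_pow_right (by norm_num) ha
  have := congrArg Fin.val this
  rw [Fin.val_one', Nat.mod_eq_of_lt (by omega), Fin.val_zero] at this
  omega

theorem card_center_W : ∀ a : ℕ, Nat.card (center (W a : Subgroup (Perm (Fin (2 ^ a))))) ≤ 2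
  | 0 => by
    refine le_trans (Finite.card_subtype_le _) ?_
    rw [card_W]
    simp
  | a + 1 => by
    rcases Nat.eq_zero_or_pos a with rfl | ha
    · refine le_trans (Finite.card_subtype_le _) ?_
      rw [card_W]
      have h : padicValNat 2 (2 ^ (0 + 1)).factorial = 1 := by
        have := val_factorial_two_pow (0 + 1)
        have : (2 : ℕ) ^ (0 + 1) = 2 := rfl
        omega
      rw [h, pow_one]
    obtain ⟨e⟩ := equiv_wreath a
    obtain ⟨h, hh⟩ := exists_ne_one a ha
    have h1 := card_center_ker_le (H := (W a : Subgroup (Perm (Fin (2 ^ a))))) card_C₂ sw_ne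
      (1 : _ →* ℤˣ) Int.units_mul_self rfl hh rfl
    rw [MonoidHom.ker_one] at h1
    refine le_trans (le_of_eq ?_) (h1.trans (card_center_W a))
    exact Nat.card_congr (Subgroup.centerCongr (e.symm.trans Subgroup.topEquiv.symm)).toEquiv

/-- the sign on `W a` -/
noncomputable def ε (a : ℕ) : (W a : Subgroup (Perm (Fin (2 ^ a)))) →* ℤˣ :=
  sign.comp (Subgroup.subtype _)

theorem exists_odd_involution {α : Type*} [Fintype α] [DecidableEq α] [Nontrivial α] (T : Sylow 2 (Perm α)) :
    ∃ v ∈ (T : Subgroup (Perm α)), v * v = 1 ∧ sign v = -1 := by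
  obtain ⟨x, y, hxy⟩ := exists_pair_ne α
  have hp : IsPGroup 2 (zpowers (swap x y)) :=
    IsPGroup.of_card (n := 1) (by rw [Nat.card_zpowers, orderOf_eq_prime (p := 2) (by rw [pow_two, swap_mul_self])
      (swap_eq_refl_iff.not.2 hxy)]; norm_num)
  obtain ⟨T', hT'⟩ := hp.exists_le_sylow
  obtain ⟨g, hg⟩ := MulAction.exists_smul_eq (Perm α) T' T
  refine ⟨g * swap x y * g⁻¹, ?_, ?_, ?_⟩
  · rw [← hg]
    exact Subgroup.smul_mem_pointwise_smul _ (MulAut.conj g) _ (hT' (mem_zpowers _))
  · rw [show g * swap x y * g⁻¹ * (g * swap x y * g⁻¹) = g * (swap x y * swap x y) * g⁻¹ by group,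
      swap_mul_self, mul_one, mul_inv_cancel]
  · rw [map_mul, map_mul, map_inv, mul_comm (sign g), mul_inv_cancel_right, sign_swap hxy]

theorem factor {a : ℕ} (ha : 2 ≤ a) : Factor (ε a) := by
  obtain ⟨b, rfl⟩ : ∃ b, a = b + 1 := ⟨a - 1, by omega⟩
  haveI : NeZero (2 ^ (b + 1)) := ⟨by positivity⟩
  obtain ⟨e⟩ := equiv_wreath b
  obtain ⟨h, hh⟩ := exists_ne_one b (by omega)
  refine ⟨fun A B hc hs => ?_, fun htop => ?_, ?_, ⟨⟨cyc (b + 1), cyc_mem _⟩, ?_, fun z hz => ?_⟩⟩
  · have hz : ∀ {A : Subgroup (W (b + 1) : Subgroup (Perm (Fin (2 ^ (b + 1)))))},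
        A.comap e.toMonoidHom ≤ center _ → A ≤ center _ := by
      intro A h x hx
      obtain ⟨y, rfl⟩ := e.surjective x
      refine mem_center_iff.2 fun g => ?_
      obtain ⟨g', rfl⟩ := e.surjective g
      rw [← map_mul, ← map_mul, mem_center_iff.1 (h hx) g']
    refine (central_of_commuting card_C₂ sw_ne (A := A.comap e.toMonoidHom) (B := B.comap e.toMonoidHom)
      (fun x hx y hy => e.injective (by rw [map_mul, map_mul]; exact hc _ hx _ hy)) ?_).imp hz hz
    rw [comap_sup_eq e.toMonoidHom A B e.surjective, hs, comap_top]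
  · refine not_comm (C := C₂) sw_ne hh (e.injective ?_)
    rw [map_mul, map_mul]
    exact mem_center_iff.1 (htop ▸ mem_top (e (RegularWreathProduct.inl sw))) (e (single₁ h))
  · haveI : Nontrivial (Fin (2 ^ (b + 1))) := Fin.nontrivial_iff_two_le.2 (by
      have := Nat.pow_le_pow_right (show 0 < 2 by norm_num) (show 1 ≤ b + 1 by omega); omega)
    obtain ⟨v, hv, h1, h2⟩ := exists_odd_involution (W (b + 1))
    exact ⟨⟨v, hv⟩, Subtype.ext h1, h2⟩
  · show sign (cyc (b + 1)) = -1
    rw [cyc, sign_finRotate, Odd.neg_one_pow]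
    refine Nat.Even.sub_odd ?_ ?_ odd_one
    · exact Nat.one_le_two_pow
    · exact (Nat.even_pow.2 ⟨even_two, by omega⟩)
  · have hcomm : Commute (z : Perm (Fin (2 ^ (b + 1)))) (cyc (b + 1)) :=
      (congrArg Subtype.val (mem_center_iff.1 hz ⟨cyc (b + 1), cyc_mem _⟩)).symm
    obtain ⟨k, hk⟩ := eq_cyc_pow hcomm
    have hzz : z * z = 1 := by
      by_contra hne
      have hd : orderOf (⟨z, hz⟩ : center _) ≤ 2 :=
        orderOf_le_card.trans (card_center_W (b + 1))
      have hpos := orderOf_pos (⟨z, hz⟩ : center (W (b + 1) : Subgroup (Perm (Fin (2 ^ (b + 1))))))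
      have hpow := pow_orderOf_eq_one (⟨z, hz⟩ : center (W (b + 1) : Subgroup (Perm (Fin (2 ^ (b + 1))))))
      rcases (show orderOf (⟨z, hz⟩ : center _) = 1 ∨ orderOf (⟨z, hz⟩ : center _) = 2 by omega) with e' | e' <;>
        rw [e'] at hpow
      · rw [pow_one] at hpow
        exact hne (by rw [show z = 1 from congrArg Subtype.val hpow, one_mul])
      · exact hne (by rw [← pow_two]; exact congrArg Subtype.val hpow)
    have h2 : (finRotate (2 ^ (b + 1)) ^ (k + k)) 0 = 0 := by
      rw [pow_add (finRotate _)]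
      exact Equiv.congr_fun ((congrArg₂ (· * ·) hk hk).symm.trans (congrArg Subtype.val hzz)) 0
    rw [cyc_pow_apply, Fin.natCast_eq_zero] at h2
    obtain ⟨c, hc⟩ := h2
    refine ⟨2 ^ (b - 1) * c, Subtype.ext ?_⟩
    rw [SubmonoidClass.coe_pow, hk]
    congr 1
    obtain ⟨d, rfl⟩ : ∃ d, b = d + 1 := ⟨b - 1, by omega⟩
    rw [pow_succ, pow_succ] at hc
    rw [Nat.add_sub_cancel]
    linarith

theorem not_decomp_W {a : ℕ} : ¬ Decomp (W a : Subgroup (Perm (Fin (2 ^ a)))) :=
  not_decomp_of_center (W a).isPGroup' (card_center_W a)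

/-- a subgroup of even permutations of the right order is a Sylow subgroup -/
theorem alt_equiv {n : ℕ} (hn : 2 ≤ n) {G : Type*} [Group G] [Finite G] (f : G →* Perm (Fin n))
    (hf : Function.Injective f) (hev : ∀ g, sign (f g) = 1)
    (hG : Nat.card G * 2 = 2 ^ padicValNat 2 n.factorial) (P : Sylow 2 (alternatingGroup (Fin n))) :
    Nonempty (G ≃* P) := by
  haveI : Nontrivial (Fin n) := Fin.nontrivial_iff_two_le.2 hn
  let f' : G →* alternatingGroup (Fin n) := f.codRestrict _ fun g => mem_alternatingGroup.2 (hev g)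
  have hf' : Function.Injective f' := fun a b h => hf (congrArg Subtype.val h)
  have hA : 2 * Nat.card (alternatingGroup (Fin n)) = n.factorial := by
    rw [two_mul_nat_card_alternatingGroup, Nat.card_perm, Nat.card_fin]
  have hc : Nat.card f'.range = 2 ^ (Nat.card (alternatingGroup (Fin n))).factorization 2 := by
    rw [← Nat.card_congr (MonoidHom.ofInjective hf').toEquiv]
    refine Nat.eq_of_mul_eq_mul_right (show 0 < 2 by norm_num) ?_
    rw [hG, ← hA, padicValNat.mul (by norm_num) Nat.card_pos.ne', padicValNat_self,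
      Nat.factorization_def _ Nat.prime_two, ← pow_succ, add_comm]
  let T : Sylow 2 (alternatingGroup (Fin n)) := Sylow.ofCard f'.range hc
  exact ⟨(MonoidHom.ofInjective hf').trans (T.equiv P)⟩

/-- the even part of a Sylow subgroup of the symmetric group -/
theorem alt_equiv_ker {n : ℕ} (hn : 2 ≤ n) {G : Type*} [Group G] [Finite G] (f : G →* Perm (Fin n))
    (hf : Function.Injective f) (hG : Nat.card G = 2 ^ padicValNat 2 n.factorial)
    (P : Sylow 2 (alternatingGroup (Fin n))) : Nonempty ((sign.comp f).ker ≃* P) := by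
  haveI : Nontrivial (Fin n) := Fin.nontrivial_iff_two_le.2 hn
  refine alt_equiv hn (f.comp (sign.comp f).ker.subtype) (hf.comp (subtype_injective _)) (fun g => show sign.comp f g.1 = 1 from MonoidHom.mem_ker.1 g.2) ?_ P
  have h1 := (sign.comp f).ker.card_mul_index
  have h2 : (sign.comp f).ker.index ∣ 2 := by
    rw [index_ker]
    exact (Subgroup.card_subgroup_dvd_card _).trans (by simp)
  rcases (Nat.dvd_prime Nat.prime_two).1 h2 with h | h
  · exfalso
    have htop := index_eq_one.1 h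
    have hrange : f.range ≤ alternatingGroup (Fin n) := by
      rintro _ ⟨g, rfl⟩
      exact mem_alternatingGroup.2 (show sign.comp f g = 1 by rw [← MonoidHom.mem_ker, htop]; exact mem_top g)
    have h3 := Subgroup.card_dvd_of_le hrange
    rw [← Nat.card_congr (MonoidHom.ofInjective hf).toEquiv, hG] at h3
    have hA : 2 * Nat.card (alternatingGroup (Fin n)) = n.factorial := by
      rw [two_mul_nat_card_alternatingGroup, Nat.card_perm, Nat.card_fin]
    have h4 := (padicValNat_dvd_iff_le Nat.card_pos.ne').1 h3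
    rw [← hA, padicValNat.mul (by norm_num) Nat.card_pos.ne', padicValNat_self] at h4
    omega
  · rw [h] at h1
    rw [h1, hG]

/-- the bits of `4 * k` -/
abbrev Bits (k : ℕ) : Type := {i // i ∈ (4 * k).bitIndices.toFinset}

theorem two_le_bit {k : ℕ} (i : Bits k) : 2 ≤ (i : ℕ) := by
  obtain ⟨i, this⟩ := i
  rw [List.mem_toFinset, show 4 * k = 2 ^ 2 * k by norm_num, Nat.bitIndices_two_pow_mul, List.mem_map] at this
  obtain ⟨j, -, hj⟩ := this
  show 2 ≤ i
  omega

/-- the product of the blocks -/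
abbrev Blocks (k : ℕ) : Type := ∀ i : Bits k, (W (i : ℕ) : Subgroup (Perm (Fin (2 ^ (i : ℕ)))))

theorem sum_bits (k : ℕ) : ∑ i : Bits k, 2 ^ (i : ℕ) = 4 * k := by
  rw [Finset.sum_coe_sort (4 * k).bitIndices.toFinset (fun i => 2 ^ i), List.sum_toFinset _ Nat.bitIndices_nodup,
    Nat.sum_map_two_pow_bitIndices]

theorem card_bits (k : ℕ) : Fintype.card (Bits k) = (4 * k).bitIndices.length := by
  rw [Fintype.card_coe, List.toFinset_card_of_nodup Nat.bitIndices_nodup]

theorem card_blocks (k : ℕ) : Nat.card (Blocks k) = 2 ^ padicValNat 2 (4 * k).factorial := by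
  have h : ∀ i : Bits k, Nat.card (W (i : ℕ) : Subgroup (Perm (Fin (2 ^ (i : ℕ))))) =
      2 ^ padicValNat 2 (2 ^ (i : ℕ)).factorial := fun i => card_W _
  rw [Nat.card_pi, Finset.prod_congr rfl fun i _ => h i, Finset.prod_pow_eq_pow_sum]
  congr 1
  have h1 : ∑ i : Bits k, (padicValNat 2 (2 ^ (i : ℕ)).factorial + 1) = 4 * k :=
    (Finset.sum_congr rfl fun i _ => val_factorial_two_pow _).trans (sum_bits k)
  rw [Finset.sum_add_distrib, Finset.sum_const, Finset.card_univ, smul_eq_mul, mul_one, card_bits] at h1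
  have := val_factorial_add_bits (4 * k)
  omega

theorem val_factorial_four_mul_add {k r : ℕ} (hr : r < 4) :
    padicValNat 2 (4 * k + r).factorial = padicValNat 2 (4 * k).factorial + r / 2 := by
  interval_cases r
  · rfl
  · rw [show 4 * k + 1 = 2 * (2 * k) + 1 by ring, padicValNat_factorial_mul_add _ (by norm_num),
      show 2 * (2 * k) = 4 * k by ring]
    rfl
  · rw [show 4 * k + 2 = 2 * (2 * k + 1) by ring, padicValNat_factorial_mul,
      padicValNat_factorial_mul_add _ (by norm_num), show 4 * k = 2 * (2 * k) by ring, padicValNat_factorial_mul (2 * k)]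
    ring
  · rw [show 4 * k + 3 = 2 * (2 * k + 1) + 1 by ring, padicValNat_factorial_mul_add _ (by norm_num),
      padicValNat_factorial_mul, padicValNat_factorial_mul_add _ (by norm_num), show 4 * k = 2 * (2 * k) by ring,
      padicValNat_factorial_mul (2 * k)]
    ring

theorem sign_sigma {ι : Type*} [Fintype ι] [DecidableEq ι] {β : ι → Type*} [∀ i, Fintype (β i)]
    [∀ i, DecidableEq (β i)] (F : ∀ i, Perm (β i)) :
    sign (sigmaCongrRightHom β F) = ∏ i, sign (F i) := by
  let g : (∀ i, Perm (β i)) →* ℤˣ := ∏ i, sign.comp (Pi.evalMonoidHom (fun i => Perm (β i)) i)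
  have hg : ∀ F, g F = ∏ i, sign (F i) := fun F => MonoidHom.finsetProd_apply _ _ _
  rw [← hg]
  refine pi_mem_of_mulSingle_mem (H := (sign.comp (sigmaCongrRightHom β)).eqLocus g) F fun i => ?_
  show sign (sigmaCongrRightHom β (Pi.mulSingle i (F i))) = g (Pi.mulSingle i (F i))
  rw [hg, Fintype.prod_eq_single i (fun j hj => by rw [Pi.mulSingle_eq_of_ne hj, map_one]), Pi.mulSingle_eq_same]
  refine (sign_bij (fun x _ => (⟨i, x⟩ : Σ i, β i)) (fun x _ _ => ?_) (fun x y _ _ h => eq_of_heq (Sigma.mk.inj_iff.1 h).2)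
    ?_).symm
  · show Sigma.mk i (F i x) = ⟨i, (Pi.mulSingle i (F i) : ∀ j, Perm (β j)) i x⟩
    rw [Pi.mulSingle_eq_same]
  · rintro ⟨j, y⟩ hy
    have hy' : (⟨j, (Pi.mulSingle i (F i) : ∀ j, Perm (β j)) j y⟩ : Σ i, β i) ≠ ⟨j, y⟩ := hy
    rcases eq_or_ne j i with rfl | hj
    · rw [Pi.mulSingle_eq_same] at hy'
      exact ⟨y, fun h => hy' (by rw [h]), rfl⟩
    · rw [Pi.mulSingle_eq_of_ne hj] at hy'
      exact absurd rfl hy'

/-- the block embedding and its sign -/
theorem exists_blocks_embedding (k : ℕ) :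
    ∃ f : Blocks k →* Perm (Fin (4 * k)), Function.Injective f ∧
      ∀ b, sign (f b) = ∏ i : Bits k, ε (i : ℕ) (b i) := by
  let e : (Σ i : Bits k, Fin (2 ^ (i : ℕ))) ≃ Fin (4 * k) :=
    Fintype.equivFinOfCardEq (by simp only [Fintype.card_sigma, Fintype.card_fin]; exact sum_bits k)
  let j : Blocks k →* ∀ i : Bits k, Perm (Fin (2 ^ (i : ℕ))) :=
    { toFun := fun b i => (b i : Perm (Fin (2 ^ (i : ℕ))))
      map_one' := rfl
      map_mul' := fun _ _ => rfl }
  refine ⟨e.permCongrHom.toMonoidHom.comp ((sigmaCongrRightHom _).comp j),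
    e.permCongrHom.injective.comp (sigmaCongrRightHom_injective.comp fun a b h => funext fun i => Subtype.ext (congrFun h i)),
    fun b => ?_⟩
  show sign (e.permCongr (sigmaCongrRightHom _ (j b))) = _
  rw [sign_permCongr, sign_sigma]
  rfl

/-- appending `r` points -/
theorem exists_extension (m r : ℕ) :
    ∃ f : Perm (Fin m) × Perm (Fin r) →* Perm (Fin (m + r)), Function.Injective f ∧
      ∀ p, sign (f p) = sign p.1 * sign p.2 :=
  ⟨finSumFinEquiv.permCongrHom.toMonoidHom.comp (sumCongrHom _ _),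
    finSumFinEquiv.permCongrHom.injective.comp sumCongrHom_injective,
    fun p => (sign_permCongr _ _).trans (sign_sumCongr _ _)⟩

theorem exists_sign_section {r : ℕ} (hr : 2 ≤ r) :
    ∃ h : ℤˣ →* Perm (Fin r), ∀ u, sign (h u) = u := by
  let t : Perm (Fin r) := swap ⟨0, by omega⟩ ⟨1, by omega⟩
  have ht : sign t = -1 := sign_swap (by simp)
  refine ⟨{ toFun := fun u => if u = 1 then 1 else t, map_one' := if_pos rfl, map_mul' := ?_ }, ?_⟩
  · intro a b
    rcases Int.units_eq_one_or a with rfl | rfl <;> rcases Int.units_eq_one_or b with rfl | rfl <;>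
      simp [t, show ((-1 : ℤˣ) = 1) = False from eq_false (by decide)]
  · intro u
    rcases Int.units_eq_one_or u with rfl | rfl <;>
      simp [ht, show ((-1 : ℤˣ) = 1) = False from eq_false (by decide)]

theorem exists_single_bit_iff {k : ℕ} (hk : 1 ≤ k) :
    (∀ r : ℕ, 4 * k ≠ 2 ^ r) ↔ Nontrivial (Bits k) := by
  constructor
  · intro h
    refine Fintype.one_lt_card_iff_nontrivial.1 ?_
    rw [card_bits]
    by_contra! hle
    rcases hl : (4 * k).bitIndices with _ | ⟨a, _ | ⟨b, l⟩⟩
    · have := Nat.sum_map_two_pow_bitIndices (4 * k)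
      rw [hl] at this
      simp at this
      omega
    · have := Nat.sum_map_two_pow_bitIndices (4 * k)
      rw [hl] at this
      exact h a (by simpa using this.symm)
    · rw [hl] at hle; simp at hle
  · intro h r e
    have := Fintype.one_lt_card_iff_nontrivial.2 h
    rw [card_bits, e, Nat.bitIndices_two_pow] at this
    simp at this

theorem exists_unique_bit {k : ℕ} (hk : 1 ≤ k) (h : ¬ Nontrivial (Bits k)) :
    ∃ a, 2 ≤ a ∧ 4 * k = 2 ^ a := by
  rw [← exists_single_bit_iff hk] at h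
  push Not at h
  obtain ⟨r, hr⟩ := h
  refine ⟨r, ?_, hr⟩
  by_contra! hlt
  have : 2 ^ r ≤ 2 ^ 1 := Nat.pow_le_pow_right (by norm_num) (by omega)
  omega

theorem isPGroup_blocks (k : ℕ) : IsPGroup 2 (Blocks k) :=
  IsPGroup.of_card (card_blocks k)

set_option maxRecDepth 100000 in
theorem small_even {n : ℕ} (hn : n = 4 ∨ n = 5) : ∀ g : Perm (Fin n), g ^ 4 = 1 → sign g = 1 → g * g = 1 := by
  rcases hn with rfl | rfl <;> decide +kernel

theorem card_sylow_alt {n : ℕ} (hn : 2 ≤ n) (P : Sylow 2 (alternatingGroup (Fin n))) :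
    Nat.card P * 2 = 2 ^ padicValNat 2 n.factorial := by
  haveI : Nontrivial (Fin n) := Fin.nontrivial_iff_two_le.2 hn
  have hA : 2 * Nat.card (alternatingGroup (Fin n)) = n.factorial := by
    rw [two_mul_nat_card_alternatingGroup, Nat.card_perm, Nat.card_fin]
  rw [P.card_eq_multiplicity, ← hA, padicValNat.mul (by norm_num) Nat.card_pos.ne', padicValNat_self,
    Nat.factorization_def _ Nat.prime_two, ← pow_succ, add_comm 1]

theorem not_decomp_single {d r k : ℕ} (hd : 2 ≤ d) (hr : r < 2) (hk : 4 * k = 2 ^ (d + 1))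
    (P : Sylow 2 (alternatingGroup (Fin (4 * k + r)))) : ¬ Decomp P := by
  obtain ⟨fw, hfw, hsw⟩ := exists_wreath_embedding d
  have hk8 : 8 ≤ 4 * k := hk ▸ (Nat.pow_le_pow_right (by norm_num) (show 3 ≤ d + 1 by omega) : 2 ^ 3 ≤ _)
  obtain ⟨g, hg, hsg⟩ := exists_extension (4 * k) r
  let c := (finCongr hk.symm).permCongrHom
  let f := g.comp ((c.toMonoidHom.comp fw).prod 1)
  have hf : Function.Injective f := hg.comp fun a b h => hfw (c.injective (congrArg Prod.fst h))
  have hε : ∀ x, sign.comp f x = sign (fw x) := fun x => by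
    show sign (g ((finCongr hk.symm).permCongr (fw x), 1)) = _
    rw [hsg, map_one, mul_one, sign_permCongr]
  obtain ⟨e⟩ := alt_equiv_ker (by omega) f hf (by
    rw [RegularWreathProduct.card, card_C₂, card_W, ← pow_mul, ← pow_succ]
    congr 1
    rw [val_factorial_four_mul_add (show r < 4 by omega), Nat.div_eq_of_lt hr, add_zero, hk]
    have h1 := val_factorial_two_pow d
    have h2 := val_factorial_two_pow (d + 1)
    rw [pow_succ 2 d] at h2 ⊢
    omega) P
  have hH : ¬ Function.Injective ((sign.comp f).comp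
      (single₁ (H := (W d : Subgroup (Perm (Fin (2 ^ d))))) (C := C₂))) := by
    intro hinj
    have := Nat.card_le_card_of_injective _ hinj
    rw [card_W, show Nat.card ℤˣ = 2 by simp] at this
    have h1 := val_factorial_two_pow d
    have h4 : 2 ^ 2 ≤ 2 ^ d := Nat.pow_le_pow_right (by norm_num) hd
    have h5 : 2 ^ 2 ≤ 2 ^ padicValNat 2 (2 ^ d).factorial := Nat.pow_le_pow_right (by norm_num) (by omega)
    omega
  obtain ⟨h, hh, hh1⟩ : ∃ h, (sign.comp f) (single₁ (C := C₂) h) = 1 ∧ h ≠ 1 := by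
    rw [← MonoidHom.ker_eq_bot_iff, Subgroup.eq_bot_iff_forall] at hH
    push Not at hH
    exact hH
  have hz := card_center_ker_le card_C₂ sw_ne (sign.comp f) Int.units_mul_self
    (by rw [hε]; exact hsw (by omega)) hh1 hh
  exact fun hdc => not_decomp_of_center (P.isPGroup'.of_equiv e.symm) (hz.trans (card_center_W _))
    (hdc.of_equiv e.symm)

theorem main (n : ℕ) (hn : 4 ≤ n) (P : Sylow 2 (alternatingGroup (Fin n))) :
    Decomp P ↔ (n = 4 ∨ n = 5 ∨ ((n % 4 = 2 ∨ n % 4 = 3) ∧ ∀ r : ℕ, 4 * (n / 4) ≠ 2 ^ r)) := by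
  obtain ⟨k, r, hr, rfl⟩ : ∃ k r, r < 4 ∧ n = 4 * k + r :=
    ⟨n / 4, n % 4, Nat.mod_lt _ (by norm_num), (Nat.div_add_mod n 4).symm⟩
  have hk : 1 ≤ k := by omega
  have hdiv : (4 * k + r) / 4 = k := by omega
  have hmod : (4 * k + r) % 4 = r := by omega
  rw [hdiv, hmod]
  obtain ⟨f₀, hf₀, hs₀⟩ := exists_blocks_embedding k
  obtain ⟨g, hg, hsg⟩ := exists_extension (4 * k) r
  rcases lt_or_ge r 2 with hr2 | hr2
  · -- the even part of the blocks
    let f : Blocks k →* Perm (Fin (4 * k + r)) := g.comp (f₀.prod 1)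
    have hf : Function.Injective f := hg.comp fun a b h => hf₀ (congrArg Prod.fst h)
    have hcard : Nat.card (Blocks k) = 2 ^ padicValNat 2 (4 * k + r).factorial := by
      rw [card_blocks, val_factorial_four_mul_add hr, Nat.div_eq_of_lt hr2, add_zero]
    obtain ⟨e⟩ := alt_equiv_ker (by omega) f hf hcard P
    have hE : ∀ b, sign.comp f b = ∏ i : Bits k, ε (i : ℕ) (b i) := fun b => by
      show sign (g (f₀ b, 1)) = _
      rw [hsg, map_one, mul_one, hs₀]
    constructor
    · intro hd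
      have hd' := hd.of_equiv e.symm
      by_cases h45 : 4 * k + r = 4 ∨ 4 * k + r = 5
      · tauto
      exfalso
      by_cases hnt : Nontrivial (Bits k)
      · exact not_decomp_ker (fun i : Bits k => ε (i : ℕ)) (fun i => factor (two_le_bit i)) (isPGroup_blocks k)
          (sign.comp f) hE hd'
      · obtain ⟨a, ha, hka⟩ := exists_unique_bit hk hnt
        obtain ⟨d, rfl⟩ : ∃ d, a = d + 1 := ⟨a - 1, by omega⟩
        refine not_decomp_single (d := d) ?_ hr2 hka P hd
        by_contra! hd2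
        obtain rfl : d = 1 := by omega
        norm_num at hka
        omega
    · intro h
      have hk1 : k = 1 := by omega
      subst hk1
      have h4 : Nat.card (sign.comp f).ker = 4 := by
        have h : Nat.card (sign.comp f).ker * 2 = _ :=
          (congrArg (· * 2) (Nat.card_congr e.toEquiv)).trans (card_sylow_alt (n := 4 * 1 + r) (by omega) P)
        rw [val_factorial_four_mul_add hr, Nat.div_eq_of_lt hr2, add_zero,
          show padicValNat 2 (Nat.factorial (4 * 1)) = 3 by
            have := val_factorial_two_pow 2; norm_num at this ⊢; omega] at h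
        omega
      refine Decomp.of_equiv e (decomp_of_card_four h4 fun x => ?_)
      refine Subtype.ext (hf ?_)
      show f ((x : Blocks 1) * (x : Blocks 1)) = f 1
      rw [map_mul, map_one]
      refine small_even (by omega) _ ?_ x.2
      rw [← map_pow, ← map_one f]
      refine congrArg f ?_
      exact congrArg Subtype.val (orderOf_dvd_iff_pow_eq_one.1 ((_root_.orderOf_dvd_natCard x).trans h4.dvd))
  · -- two odd blocks
    obtain ⟨h, hh⟩ := exists_sign_section hr2
    let f : Blocks k →* Perm (Fin (4 * k + r)) := g.comp (f₀.prod (h.comp (sign.comp f₀)))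
    have hf : Function.Injective f := hg.comp fun a b h => hf₀ (congrArg Prod.fst h)
    obtain ⟨e⟩ := alt_equiv (by omega) f hf (fun b => by
      show sign (g (f₀ b, h (sign (f₀ b)))) = 1
      rw [hsg, hh, Int.units_mul_self]) (by
      rw [card_blocks, val_factorial_four_mul_add hr, ← pow_succ, show r / 2 = 1 by omega]) P
    rw [show (4 * k + r = 4) = False from eq_false (by omega), show (4 * k + r = 5) = False from eq_false (by omega),
      show (r = 2 ∨ r = 3) = True from eq_true (by omega), false_or, false_or, true_and,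
      exists_single_bit_iff hk]
    constructor
    · intro hd
      by_contra hnt
      obtain ⟨a, ha, hka⟩ := exists_unique_bit hk hnt
      haveI : Unique (Bits k) := by
        have : Fintype.card (Bits k) = 1 := by rw [card_bits, hka, Nat.bitIndices_two_pow]; rfl
        exact (Classical.choice ((Fintype.card_eq_one_iff_nonempty_unique).1 this))
      exact not_decomp_W (a := ((default : Bits k) : ℕ))
        ((hd.of_equiv e.symm).of_equiv (MulEquiv.piUnique (fun i : Bits k => (W (i : ℕ) : Subgroup (Perm (Fin (2 ^ (i : ℕ))))))))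
    · intro hnt
      obtain ⟨i, j, hij⟩ := exists_pair_ne (Bits k)
      haveI : ∀ i : Bits k, Nontrivial (W (i : ℕ) : Subgroup (Perm (Fin (2 ^ (i : ℕ))))) := fun i => by
        obtain ⟨x, hx⟩ := exists_ne_one (i : ℕ) (by have := two_le_bit i; omega)
        exact ⟨x, 1, hx⟩
      exact Decomp.of_equiv e (decomp_pi hij)

theorem decomp_iff_internal {G : Type*} [Group G] (P : Subgroup G) :
    (∃ S₁ S₂ : Subgroup G, S₁ ≠ ⊥ ∧ S₂ ≠ ⊥ ∧
      (S₁ ≤ P ∧ S₂ ≤ P ∧ (∀ a ∈ S₁, ∀ b ∈ S₂, a * b = b * a) ∧ S₁ ⊓ S₂ = ⊥ ∧ S₁ ⊔ S₂ = P)) ↔ Decomp P := by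
  constructor
  · rintro ⟨S₁, S₂, h1, h2, l1, l2, hc, hi, hs⟩
    refine ⟨S₁.subgroupOf P, S₂.subgroupOf P, ?_, ?_, fun a ha b hb => Subtype.ext (hc _ ha _ hb), ?_, ?_⟩
    · rw [Ne, subgroupOf_eq_bot, disjoint_iff, inf_eq_left.2 l1]; exact h1
    · rw [Ne, subgroupOf_eq_bot, disjoint_iff, inf_eq_left.2 l2]; exact h2
    · refine Subgroup.map_injective (subtype_injective P) ?_
      rw [map_inf _ _ _ (subtype_injective P), map_subgroupOf_eq_of_le l1, map_subgroupOf_eq_of_le l2, hi, Subgroup.map_bot]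
    · rw [← subgroupOf_sup l1 l2, hs, subgroupOf_self]
  · rintro ⟨A, B, hA, hB, hc, hi, hs⟩
    refine ⟨A.map P.subtype, B.map P.subtype, fun h => hA ((map_eq_bot_iff_of_injective _ (subtype_injective P)).1 h),
      fun h => hB ((map_eq_bot_iff_of_injective _ (subtype_injective P)).1 h), map_subtype_le A, map_subtype_le B,
      ?_, ?_, ?_⟩
    · rintro _ ⟨a, ha, rfl⟩ _ ⟨b, hb, rfl⟩
      exact congrArg Subtype.val (hc a ha b hb)
    · rw [← map_inf _ _ _ (subtype_injective P), hi, Subgroup.map_bot]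
    · rw [← Subgroup.map_sup, hs, ← MonoidHom.range_eq_map, range_subtype]

end CfsgLib.Perm.SylowTwoDecomp
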