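import Mathlib

/-!
Direct decomposability: wreath products with a group of order two, and even parts of products.
-/

set_option autoImplicit false
set_option linter.style.haveILetI false

namespace CfsgLib.Perm.SylowTwoDecomp

open Subgroup

/-- `G` is a direct product of two nontrivial subgroups -/
def Decomp (G : Type*) [Group G] : Prop :=
  ∃ A B : Subgroup G, A ≠ ⊥ ∧ B ≠ ⊥ ∧ (∀ a ∈ A, ∀ b ∈ B, a * b = b * a) ∧ A ⊓ B = ⊥ ∧ A ⊔ B = ⊤

theorem Decomp.of_equiv {G H : Type*} [Group G] [Group H] (e : G ≃* H) (h : Decomp G) : Decomp H := by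
  obtain ⟨A, B, hA, hB, hc, hi, hs⟩ := h
  refine ⟨A.map e.toMonoidHom, B.map e.toMonoidHom, fun h => hA ((map_eq_bot_iff_of_injective _ e.injective).1 h),
    fun h => hB ((map_eq_bot_iff_of_injective _ e.injective).1 h), ?_, ?_, ?_⟩
  · rintro _ ⟨a, ha, rfl⟩ _ ⟨b, hb, rfl⟩
    simp only [MulEquiv.coe_toMonoidHom, ← map_mul, hc a ha b hb]
  · rw [← map_inf A B e.toMonoidHom e.injective, hi, Subgroup.map_bot]
  · rw [← Subgroup.map_sup, hs, map_top_of_surjective _ e.surjective]

theorem central_left {G : Type*} [Group G] {A B : Subgroup G} (hc : ∀ a ∈ A, ∀ b ∈ B, a * b = b * a)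
    (hs : A ⊔ B = ⊤) {a : G} (ha : a ∈ A) (haA : ∀ x ∈ A, x * a = a * x) : a ∈ center G := by
  have hle : A ⊔ B ≤ centralizer {a} := sup_le
    (fun x hx => mem_centralizer_singleton_iff.2 (haA x hx))
    (fun x hx => mem_centralizer_singleton_iff.2 (hc a ha x hx).symm)
  rw [hs] at hle
  exact mem_center_iff.2 fun g => mem_centralizer_singleton_iff.1 (hle (mem_top g))

theorem not_decomp_of_center {G : Type*} [Group G] [Finite G] (hp : IsPGroup 2 G)
    (hz : Nat.card (center G) ≤ 2) : ¬ Decomp G := by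
  haveI : Fact (Nat.Prime 2) := ⟨Nat.prime_two⟩
  rintro ⟨A, B, hA, hB, hc, hi, hs⟩
  have get : ∀ {C D : Subgroup G}, C ≠ ⊥ → (∀ a ∈ C, ∀ b ∈ D, a * b = b * a) → C ⊔ D = ⊤ →
      ∃ a ∈ C, a ≠ 1 ∧ a ∈ center G := by
    intro C D hC hc hs
    haveI : Nontrivial C := (Subgroup.nontrivial_iff_ne_bot C).2 hC
    haveI := (hp.to_subgroup C).center_nontrivial
    obtain ⟨⟨a, ha⟩, ha1⟩ := exists_ne (1 : center C)
    refine ⟨a, a.2, fun h => ha1 (Subtype.ext (Subtype.ext h)), central_left hc hs a.2 fun x hx => ?_⟩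
    exact congrArg Subtype.val (mem_center_iff.1 ha ⟨x, hx⟩)
  obtain ⟨a, ha, ha1, haz⟩ := get hA hc hs
  obtain ⟨b, hb, hb1, hbz⟩ := get hB (fun x hx y hy => (hc y hy x hx).symm) (sup_comm A B ▸ hs)
  have hab : a ≠ b := fun h => ha1 (mem_bot.1 (hi ▸ mem_inf.2 ⟨ha, h ▸ hb⟩))
  classical
  let f : Fin 3 → center G := ![1, ⟨a, haz⟩, ⟨b, hbz⟩]
  have hf : Function.Injective f := by
    intro i j h
    fin_cases i <;> fin_cases j <;> simp [f, Subtype.ext_iff] at h ⊢ <;>
      first | exact ha1 h | exact ha1 h.symm | exact hb1 h | exact hb1 h.symm | exact hab h | exact hab h.symm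
  have := (Nat.card_le_card_of_injective f hf).trans hz
  simp at this

theorem comm_of_card_four {G : Type*} [Group G] [Finite G] (h4 : Nat.card G = 4) (a b : G) : a * b = b * a := by
  haveI : Fact (Nat.Prime 2) := ⟨Nat.prime_two⟩
  exact IsPGroup.commutative_of_card_eq_prime_sq (p := 2) (h4.trans (by norm_num)) a b

theorem decomp_of_card_four {G : Type*} [Group G] [Finite G] (h4 : Nat.card G = 4) (h2 : ∀ g : G, g * g = 1) :
    Decomp G := by
  haveI : Nontrivial G := Finite.one_lt_card_iff_nontrivial.1 (by omega)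
  obtain ⟨a, ha⟩ := exists_ne (1 : G)
  have hoa : orderOf a = 2 := orderOf_eq_prime (by rw [pow_two, h2]) ha
  have hne : zpowers a ≠ ⊤ := fun h => by
    have := Nat.card_zpowers a
    rw [h, hoa, Subgroup.card_top, h4] at this
    omega
  obtain ⟨b, hb⟩ : ∃ b, b ∉ zpowers a := by
    by_contra! h
    exact hne (eq_top_iff.2 fun x _ => h x)
  have hb1 : b ≠ 1 := fun h => hb (h ▸ one_mem _)
  have hob : orderOf b = 2 := orderOf_eq_prime (by rw [pow_two, h2]) hb1
  refine ⟨zpowers a, zpowers b, fun h => ha (zpowers_eq_bot.1 h), fun h => hb1 (zpowers_eq_bot.1 h),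
    fun x _ y _ => comm_of_card_four h4 x y, ?_, ?_⟩
  · refine (Subgroup.eq_bot_iff_forall _).2 fun x hx => ?_
    obtain ⟨hxa, hxb⟩ := mem_inf.1 hx
    by_contra hx1
    have h : ∀ {c : G}, orderOf c = 2 → x ∈ zpowers c → x = c := by
      intro c hc hxc
      obtain ⟨k, hk⟩ := mem_zpowers_iff.1 hxc
      rw [← zpow_mod_orderOf, hc] at hk
      rcases Int.emod_two_eq_zero_or_one k with e | e <;> norm_num [e] at hk
      · exact absurd hk.symm hx1
      · exact hk.symm
    exact hb ((h hob hxb) ▸ hxa)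
  · refine eq_top_of_le_card _ ?_
    have h1 : zpowers a < zpowers a ⊔ zpowers b :=
      lt_of_le_of_ne le_sup_left fun h => hb (h ▸ (le_sup_right : zpowers b ≤ _) (mem_zpowers b))
    have h2' := Subgroup.card_dvd_of_le h1.le
    rw [Nat.card_zpowers, hoa] at h2'
    have h3 := Subgroup.card_subgroup_dvd_card (zpowers a ⊔ zpowers b)
    rw [h4] at h3
    have h5 : Nat.card ↥(zpowers a ⊔ zpowers b) ≠ 2 := fun e => by
      refine h1.ne (eq_of_le_of_card_ge h1.le ?_)
      rw [e, Nat.card_zpowers, hoa]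
    have h6 : Nat.card ↥(zpowers a ⊔ zpowers b) ∈ Nat.divisors 4 := Nat.mem_divisors.2 ⟨h3, by norm_num⟩
    rw [show Nat.divisors 4 = {1, 2, 4} by decide] at h6
    simp only [Finset.mem_insert, Finset.mem_singleton] at h6
    omega

/-! ### Wreath products with a group of order two -/

section Wreath

variable {H C : Type*} [Group H] [Group C]

theorem eq_one_or {s : C} (hC : Nat.card C = 2) (hs : s ≠ 1) (q : C) : q = 1 ∨ q = s := by
  obtain ⟨a, b, hab, h⟩ := Nat.card_eq_two_iff.1 hC
  have h1 : (1 : C) ∈ ({a, b} : Set C) := h ▸ Set.mem_univ _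
  have h2 : s ∈ ({a, b} : Set C) := h ▸ Set.mem_univ _
  have h3 : q ∈ ({a, b} : Set C) := h ▸ Set.mem_univ _
  simp only [Set.mem_insert_iff, Set.mem_singleton_iff] at h1 h2 h3
  grind

variable [DecidableEq C]

/-- the embedding at the first coordinate -/
def single₁ : H →* H ≀ᵣ C where
  toFun h := ⟨Pi.mulSingle (1 : C) h, 1⟩
  map_one' := RegularWreathProduct.ext (Pi.mulSingle_one _) rfl
  map_mul' a b := by
    refine RegularWreathProduct.ext (funext fun q => ?_) (mul_one _).symm
    simp only [RegularWreathProduct.mul_left, Pi.mul_apply, inv_one, one_mul]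
    exact congrFun (Pi.mulSingle_mul (f := fun _ : C => H) 1 a b) q

/-- a constant function -/
def diag : H →* H ≀ᵣ C where
  toFun h := ⟨fun _ => h, 1⟩
  map_one' := rfl
  map_mul' _ _ := RegularWreathProduct.ext rfl (mul_one _).symm

/-- elements that commute with the swap, a first coordinate and the diagonal are diagonal central -/
theorem centralizer_core {s : C} (hC : Nat.card C = 2) (hs : s ≠ 1) {z : H ≀ᵣ C}
    (h1 : z * RegularWreathProduct.inl s = RegularWreathProduct.inl s * z) {h : H} (hh : h ≠ 1)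
    (h2 : z * single₁ h = single₁ h * z) (h3 : ∀ g : H, z * diag g = diag g * z) :
    ∃ c ∈ center H, z = diag c := by
  have e1 : ∀ q, z.left q = z.left (s⁻¹ * q) := fun q => by
    have := congrFun (congrArg RegularWreathProduct.left h1) q
    simpa using this
  have hconst : ∀ q, z.left q = z.left 1 := by
    intro q
    rcases eq_one_or hC hs q with rfl | rfl
    · rfl
    · rw [e1 q, inv_mul_cancel]
  have hr : z.right = 1 := by
    rcases eq_one_or hC hs z.right with h' | h'
    · exact h'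
    · exfalso
      have := congrFun (congrArg RegularWreathProduct.left h2) 1
      simp [single₁, h', Pi.mulSingle_apply, hs, hs.symm] at this
      exact hh this
  refine ⟨z.left 1, mem_center_iff.2 fun g => ?_, RegularWreathProduct.ext (funext hconst) hr⟩
  have := congrFun (congrArg RegularWreathProduct.left (h3 g)) 1
  simp [diag, hr] at this
  exact this.symm

theorem diag_left_injective : Function.Injective (fun h : H => (diag h : H ≀ᵣ C)) := fun _ _ h =>
  congrFun (congrArg RegularWreathProduct.left h) 1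

theorem card_center_ker_le [Finite H] [Finite C] {s : C} (hC : Nat.card C = 2) (hs : s ≠ 1)
    {M : Type*} [CommGroup M] (ε : H ≀ᵣ C →* M) (hsq : ∀ m : M, m * m = 1)
    (hεs : ε (RegularWreathProduct.inl s) = 1) {h : H} (hh : h ≠ 1) (hεh : ε (single₁ h) = 1) :
    Nat.card (center ε.ker) ≤ Nat.card (center H) := by
  have hdiag : ∀ g : H, ε (diag g) = 1 := by
    intro g
    have : (diag g : H ≀ᵣ C) = single₁ g * (RegularWreathProduct.inl s * single₁ g * (RegularWreathProduct.inl s)⁻¹) := by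
      refine RegularWreathProduct.ext (funext fun q => ?_) (by simp [diag, single₁])
      rcases eq_one_or hC hs q with rfl | rfl <;> simp [diag, single₁, Pi.mulSingle_apply, hs, hs.symm]
    rw [this, map_mul, map_mul, map_mul, map_inv, hεs, inv_one, one_mul, mul_one, hsq]
  have key : ∀ z : center ε.ker, ∃ c ∈ center H, ((z : ε.ker) : H ≀ᵣ C) = diag c := by
    rintro ⟨z, hz⟩
    have hcomm : ∀ g, ε g = 1 → (z : H ≀ᵣ C) * g = g * z := fun g hg =>
      (congrArg Subtype.val (mem_center_iff.1 hz ⟨g, hg⟩)).symm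
    exact centralizer_core hC hs (hcomm _ hεs) hh (hcomm _ hεh) fun g => hcomm _ (hdiag g)
  choose c hc he using key
  refine Nat.card_le_card_of_injective (fun z => (⟨c z, hc z⟩ : center H)) fun z w hzw => ?_
  refine Subtype.ext (Subtype.ext ?_)
  rw [he z, he w, show c z = c w from congrArg Subtype.val hzw]

theorem exists_commute_not_mem_base {s : C} (hC : Nat.card C = 2) (hs : s ≠ 1) {A B : Subgroup (H ≀ᵣ C)}
    (hs' : A ⊔ B = ⊤) : (∃ a ∈ A, a.right = s) ∨ ∃ b ∈ B, b.right = s := by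
  by_contra! h
  have hA : A ≤ (RegularWreathProduct.rightHom (D := H) (Q := C)).ker := fun a ha =>
    (eq_one_or hC hs a.right).resolve_right (h.1 a ha)
  have hB : B ≤ (RegularWreathProduct.rightHom (D := H) (Q := C)).ker := fun b hb =>
    (eq_one_or hC hs b.right).resolve_right (h.2 b hb)
  exact hs (show s = 1 from (sup_le hA hB) (hs' ▸ mem_top (RegularWreathProduct.inl s)))

/-- if two commuting subgroups generate the wreath product, one of them is central -/
theorem central_of_commuting {s : C} (hC : Nat.card C = 2) (hs : s ≠ 1) {A B : Subgroup (H ≀ᵣ C)}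
    (hc : ∀ a ∈ A, ∀ b ∈ B, a * b = b * a) (hs' : A ⊔ B = ⊤) :
    A ≤ center (H ≀ᵣ C) ∨ B ≤ center (H ≀ᵣ C) := by
  have key : ∀ {A B : Subgroup (H ≀ᵣ C)}, (∀ a ∈ A, ∀ b ∈ B, a * b = b * a) → A ⊔ B = ⊤ →
      (∃ a ∈ A, a.right = s) → B ≤ center (H ≀ᵣ C) := by
    rintro A B hc hs' ⟨a, ha, har⟩
    have hconj : ∀ g, ∀ b ∈ B, g * b * g⁻¹ ∈ B := by
      have hn : A ⊔ B ≤ normalizer (B : Set (H ≀ᵣ C)) := by
        refine sup_le (fun x hx => ?_) le_normalizer
        rw [mem_normalizer_iff]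
        intro b
        constructor
        · intro hb
          rw [hc x hx b hb, mul_inv_cancel_right]; exact hb
        · intro hb
          have := hc x hx _ hb
          rw [show x * b * x⁻¹ = b from mul_left_cancel (this.trans (by group))] at hb
          exact hb
      intro g b hb
      exact ((mem_normalizer_iff.1 ((hs' ▸ hn) (mem_top g))) b).1 hb
    -- elements of `B` in the base are central
    have hbase : ∀ b ∈ B, b.right = 1 → b ∈ center (H ≀ᵣ C) := by
      intro b hb hbr
      have e : ∀ d ∈ B, d.right = 1 → a.left s * d.left 1 = d.left s * a.left s := by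
        intro d hd hdr
        have := congrFun (congrArg RegularWreathProduct.left (hc a ha d hd)) s
        simpa [har, hdr] using this
      have h1 : ∀ g : H, g * b.left 1 = b.left 1 * g := by
        intro g
        have hb' := hconj (single₁ g) b hb
        have e' := e _ hb' (by simp [single₁, hbr])
        simp [single₁, hbr, Pi.mulSingle_apply, hs] at e'
        rw [← e b hb hbr, mul_right_inj] at e'
        exact mul_inv_eq_iff_eq_mul.1 e'
      have h2 : ∀ q, b.left q = b.left 1 := by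
        intro q
        rcases eq_one_or hC hs q with rfl | rfl
        · rfl
        · have := e b hb hbr
          rw [h1 (a.left q)] at this
          exact (mul_right_cancel this).symm
      refine mem_center_iff.2 fun g => RegularWreathProduct.ext (funext fun q => ?_) (by simp [hbr])
      simp [hbr, h2, h1]
    have habel : ∀ b ∈ B, ∀ d ∈ B, b * d = d * b := by
      intro b hb d hd
      rcases eq_one_or hC hs b.right with h | h
      · exact (mem_center_iff.1 (hbase b hb h) d).symm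
      rcases eq_one_or hC hs d.right with h' | h'
      · exact mem_center_iff.1 (hbase d hd h') b
      obtain ⟨z, hz, rfl⟩ : ∃ z ∈ center (H ≀ᵣ C), d = b * z :=
        ⟨b⁻¹ * d, hbase _ (mul_mem (inv_mem hb) hd) (by simp [h, h']), (mul_inv_cancel_left b d).symm⟩
      rw [mul_assoc b z b, ← mem_center_iff.1 hz b]
    intro b hb
    exact central_left (fun x hx y hy => (hc y hy x hx).symm) (sup_comm A B ▸ hs') hb fun x hx => habel x hx b hb
  rcases exists_commute_not_mem_base hC hs hs' with h | h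
  · exact Or.inr (key hc hs' h)
  · exact Or.inl (key (fun x hx y hy => (hc y hy x hx).symm) (sup_comm A B ▸ hs') h)

theorem not_comm {s : C} (hs : s ≠ 1) {h : H} (hh : h ≠ 1) :
    (single₁ h : H ≀ᵣ C) * RegularWreathProduct.inl s ≠ RegularWreathProduct.inl s * single₁ h := by
  intro e
  have := congrFun (congrArg RegularWreathProduct.left e) 1
  simp [single₁, Pi.mulSingle_apply, hs] at this
  exact hh this

end Wreath

/-! ### The even part of a product -/

/-- what is used of a Sylow `2`-subgroup of a symmetric group on `2 ^ a` points, `a ≥ 2` -/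
structure Factor {W : Type*} [Group W] (ε : W →* ℤˣ) : Prop where
  central : ∀ A B : Subgroup W, (∀ a ∈ A, ∀ b ∈ B, a * b = b * a) → A ⊔ B = ⊤ → A ≤ center W ∨ B ≤ center W
  noncomm : center W ≠ ⊤
  oddEl : ∃ v : W, v * v = 1 ∧ ε v = -1
  centerPow : ∃ u : W, ε u = -1 ∧ ∀ z ∈ center W, ∃ k : ℕ, z = u ^ (2 * k)

theorem not_decomp_ker {ι : Type*} [Fintype ι] [Nontrivial ι] {W : ι → Type*} [∀ i, Group (W i)]
    [∀ i, Finite (W i)] (ε : ∀ i, W i →* ℤˣ) (hW : ∀ i, Factor (ε i)) (hp : IsPGroup 2 (∀ i, W i))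
    (E : (∀ i, W i) →* ℤˣ) (hE : ∀ f, E f = ∏ i, ε i (f i)) : ¬ Decomp E.ker := by
  classical
  haveI : Fact (Nat.Prime 2) := ⟨Nat.prime_two⟩
  rintro ⟨A, B, hA, hB, hc, hi, hs⟩
  have hEs : ∀ i (w : W i), E (Pi.mulSingle i w) = ε i w := by
    intro i w
    rw [hE, Fintype.prod_eq_single i (fun j hj => by rw [Pi.mulSingle_eq_of_ne hj, map_one]), Pi.mulSingle_eq_same]
  let π : ∀ i, E.ker →* W i := fun i => (Pi.evalMonoidHom W i).comp E.ker.subtype
  have hπ : ∀ i, Function.Surjective (π i) := by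
    intro i w
    obtain ⟨j, hj⟩ := exists_ne i
    obtain ⟨v, hv, hvε⟩ := (hW j).oddEl
    rcases Int.units_eq_one_or (ε i w) with h | h
    · exact ⟨⟨Pi.mulSingle i w, by rw [MonoidHom.mem_ker, hEs, h]⟩, Pi.mulSingle_eq_same i w⟩
    · refine ⟨⟨Pi.mulSingle i w * Pi.mulSingle j v, by
        rw [MonoidHom.mem_ker, map_mul, hEs, hEs, h, hvε]; decide⟩, ?_⟩
      show (Pi.mulSingle i w * Pi.mulSingle j v : ∀ i, W i) i = w
      rw [Pi.mul_apply, Pi.mulSingle_eq_same, Pi.mulSingle_eq_of_ne hj.symm, mul_one]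
  have hcen : ∀ i, A.map (π i) ≤ center (W i) ∨ B.map (π i) ≤ center (W i) := fun i => (hW i).central _ _
    (by rintro _ ⟨a, ha, rfl⟩ _ ⟨b, hb, rfl⟩; rw [← map_mul, hc a ha b hb, map_mul])
    (by rw [← Subgroup.map_sup, hs, map_top_of_surjective _ (hπ i)])
  have hboth : ∀ i, ¬ (A.map (π i) ≤ center (W i) ∧ B.map (π i) ≤ center (W i)) := by
    intro i h
    have h' := sup_le h.1 h.2
    rw [← Subgroup.map_sup, hs, map_top_of_surjective _ (hπ i)] at h'
    exact (hW i).noncomm (top_le_iff.1 h')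
  have hεz : ∀ i, ∀ z ∈ center (W i), ε i z = 1 := by
    intro i z hz
    obtain ⟨u, hu, h⟩ := (hW i).centerPow
    obtain ⟨k, rfl⟩ := h z hz
    rw [map_pow, hu, pow_mul, neg_one_sq, one_pow]
  -- one of the two factors cannot be central
  have hside : ∀ {A B : Subgroup E.ker}, B ≠ ⊥ → (∀ a ∈ A, ∀ b ∈ B, a * b = b * a) → A ⊓ B = ⊥ → A ⊔ B = ⊤ →
      (∀ i, B.map (π i) ≤ center (W i)) → False := by
    intro A B hB hc hi hs hall
    have hBc : ∀ b ∈ B, ∀ g : E.ker, b * g = g * b := by
      intro b hb g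
      refine Subtype.ext (funext fun i => ?_)
      exact (mem_center_iff.1 (hall i (mem_map_of_mem (π i) hb)) (π i g)).symm
    -- squares of `B`
    let B2 : Subgroup E.ker :=
      { carrier := {x | ∃ b ∈ B, b * b = x}
        one_mem' := ⟨1, one_mem B, one_mul 1⟩
        mul_mem' := by
          rintro _ _ ⟨b, hb, rfl⟩ ⟨d, hd, rfl⟩
          exact ⟨b * d, mul_mem hb hd, Commute.mul_mul_mul_comm (hBc d hd b) b d⟩
        inv_mem' := by
          rintro _ ⟨b, hb, rfl⟩
          exact ⟨b⁻¹, inv_mem hb, (_root_.mul_inv_rev b b).symm⟩ }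
    have hsqmem : ∀ g : E.ker, g * g ∈ A ⊔ B2 := by
      intro g
      haveI : B.Normal := ⟨fun b hb g => by rw [← hBc b hb g, mul_inv_cancel_right]; exact hb⟩
      have hg : g ∈ A ⊔ B := hs ▸ mem_top g
      obtain ⟨a, ha, b, hb, rfl⟩ := mem_sup_of_normal_right.1 hg
      rw [Commute.mul_mul_mul_comm (hBc b hb a) a b]
      exact mul_mem (mem_sup_left (mul_mem ha ha)) (mem_sup_right ⟨b, hb, rfl⟩)
    have hB2 : ∀ x ∈ B, ∃ b ∈ B, b * b = x := by
      intro x hx
      have hxm : (x : ∀ i, W i) ∈ (A ⊔ B2).map E.ker.subtype := by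
        refine pi_mem_of_mulSingle_mem _ fun i => ?_
        obtain ⟨u, hu, h⟩ := (hW i).centerPow
        obtain ⟨j, hj⟩ := exists_ne i
        obtain ⟨v, hv, hvε⟩ := (hW j).oddEl
        obtain ⟨k, hk⟩ := h _ (hall i (mem_map_of_mem (π i) hx))
        have hmem : Pi.mulSingle i u * Pi.mulSingle j v ∈ E.ker := by
          rw [MonoidHom.mem_ker, map_mul, hEs, hEs, hu, hvε]; decide
        refine ⟨(⟨_, hmem⟩ : E.ker) ^ k * (⟨_, hmem⟩ : E.ker) ^ k, hsqmem _, ?_⟩
        rw [show (x : ∀ i, W i) i = u ^ (2 * k) from hk, map_mul, map_pow, ← pow_add, ← two_mul]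
        show (Pi.mulSingle i u * Pi.mulSingle j v) ^ (2 * k) = _
        rw [(Pi.mulSingle_commute hj.symm u v).mul_pow, ← Pi.mulSingle_pow, ← Pi.mulSingle_pow,
          pow_mul v, pow_two v, hv, one_pow, Pi.mulSingle_one, mul_one]
      obtain ⟨y, hy, hyx⟩ := hxm
      obtain rfl : y = x := Subtype.ext hyx
      haveI : B2.Normal := ⟨by
        rintro _ ⟨b, hb, rfl⟩ g
        exact ⟨b, hb, by rw [← hBc (b * b) (mul_mem hb hb) g, mul_inv_cancel_right]⟩⟩
      obtain ⟨a, ha, _, ⟨b, hb, rfl⟩, hab⟩ := mem_sup_of_normal_right.1 hy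
      refine ⟨b, hb, ?_⟩
      have : a = 1 := mem_bot.1 (hi ▸ mem_inf.2 ⟨ha, by
        rw [eq_mul_inv_of_mul_eq hab]; exact mul_mem hx (inv_mem (mul_mem hb hb))⟩)
      rw [← hab, this, one_mul]
    haveI : Nontrivial B := (Subgroup.nontrivial_iff_ne_bot B).2 hB
    have hsurj : Function.Surjective (fun b : B => b * b) := fun x => by
      obtain ⟨b, hb, he⟩ := hB2 x x.2
      exact ⟨⟨b, hb⟩, Subtype.ext he⟩
    obtain ⟨d, hd⟩ := exists_prime_orderOf_dvd_card' (G := B) 2 (by
      obtain ⟨n, hn⟩ := IsPGroup.iff_card.1 ((hp.to_subgroup E.ker).to_subgroup B)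
      have := Finite.one_lt_card (α := B)
      rw [hn] at this ⊢
      exact dvd_pow_self 2 (by rintro rfl; simp at this))
    have h1 : (fun b : B => b * b) d = (fun b : B => b * b) 1 := by
      show d * d = 1 * 1
      rw [← pow_two, one_mul, ← hd, pow_orderOf_eq_one]
    have := (Finite.injective_iff_surjective.2 hsurj) h1
    rw [this, orderOf_one] at hd
    omega
  by_cases h1 : ∀ i, B.map (π i) ≤ center (W i)
  · exact hside hB hc hi hs h1
  by_cases h2 : ∀ i, A.map (π i) ≤ center (W i)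
  · exact hside hA (fun x hx y hy => (hc y hy x hx).symm) (inf_comm A B ▸ hi) (sup_comm A B ▸ hs) h2
  push Not at h1 h2
  obtain ⟨j, hj⟩ := h1
  obtain ⟨i, hi'⟩ := h2
  have hiB : B.map (π i) ≤ center (W i) := (hcen i).resolve_left hi'
  let S : Finset ι := Finset.univ.filter fun l => B.map (π l) ≤ center (W l)
  let ψ : E.ker →* ℤˣ := ∏ l ∈ S, (ε l).comp (π l)
  have hψ : ∀ g, ψ g = ∏ l ∈ S, ε l (π l g) := fun g => MonoidHom.finsetProd_apply _ _ _
  have hle : A ⊔ B ≤ ψ.ker := by
    refine sup_le (fun a ha => ?_) fun b hb => ?_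
    · rw [MonoidHom.mem_ker, hψ]
      refine (Finset.prod_subset (Finset.subset_univ S) fun l _ hl => ?_).trans ?_
      · refine hεz l _ ((hcen l).resolve_right (fun h => hl ?_) (mem_map_of_mem (π l) ha))
        simp [S, h]
      · show ∏ l, ε l ((a : ∀ i, W i) l) = 1
        rw [← hE]; exact a.2
    · rw [MonoidHom.mem_ker, hψ]
      refine Finset.prod_eq_one fun l hl => hεz l _ ?_
      exact (Finset.mem_filter.1 hl).2 (mem_map_of_mem (π l) hb)
  obtain ⟨u, hu, -⟩ := (hW i).centerPow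
  obtain ⟨v, -, hv⟩ := (hW j).oddEl
  have hij : i ≠ j := fun h => hj (h ▸ hiB)
  have hmem : Pi.mulSingle i u * Pi.mulSingle j v ∈ E.ker := by
    rw [MonoidHom.mem_ker, map_mul, hEs, hEs, hu, hv]; decide
  have := hle (hs ▸ mem_top (⟨_, hmem⟩ : E.ker))
  rw [MonoidHom.mem_ker, hψ, Finset.prod_eq_single i] at this
  · simp [π, Pi.mulSingle_eq_of_ne hij, hu] at this
  · intro l hl hli
    have hlj : l ≠ j := fun h => hj (h ▸ (Finset.mem_filter.1 hl).2)
    simp [π, Pi.mulSingle_eq_of_ne hli, Pi.mulSingle_eq_of_ne hlj]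
  · intro h; exact absurd (Finset.mem_filter.2 ⟨Finset.mem_univ i, hiB⟩) h

/-- a product with at least two nontrivial factors decomposes -/
theorem decomp_pi {ι : Type*} [DecidableEq ι] {W : ι → Type*} [∀ i, Group (W i)] {i j : ι} (hij : i ≠ j)
    [Nontrivial (W i)] [Nontrivial (W j)] : Decomp (∀ k, W k) := by
  obtain ⟨a, ha⟩ := exists_ne (1 : W i)
  obtain ⟨b, hb⟩ := exists_ne (1 : W j)
  refine ⟨(MonoidHom.mulSingle W i).range, (Pi.evalMonoidHom W i).ker, fun h => ha ?_, fun h => hb ?_, ?_, ?_, ?_⟩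
  · have h' : Pi.mulSingle i a = (1 : ∀ k, W k) := by
      have : MonoidHom.mulSingle W i a ∈ (MonoidHom.mulSingle W i).range := ⟨a, rfl⟩
      rw [h] at this; exact mem_bot.1 this
    simpa using congrFun h' i
  · have h' : Pi.mulSingle j b = (1 : ∀ k, W k) := by
      have : Pi.mulSingle j b ∈ (Pi.evalMonoidHom W i).ker := by simp [MonoidHom.mem_ker, Pi.mulSingle_eq_of_ne hij]
      rw [h] at this; exact mem_bot.1 this
    simpa using congrFun h' j
  · rintro _ ⟨x, rfl⟩ y hy
    funext k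
    simp only [MonoidHom.mem_ker, Pi.evalMonoidHom_apply] at hy
    rcases eq_or_ne k i with rfl | hk
    · simp [hy]
    · simp [Pi.mulSingle_eq_of_ne hk]
  · refine (Subgroup.eq_bot_iff_forall _).2 fun x hx => ?_
    obtain ⟨⟨w, rfl⟩, hx2⟩ := mem_inf.1 hx
    simp only [MonoidHom.mem_ker, Pi.evalMonoidHom_apply, MonoidHom.mulSingle_apply, Pi.mulSingle_eq_same] at hx2
    simp [hx2]
  · refine eq_top_iff.2 fun f _ => ?_
    have h1 : MonoidHom.mulSingle W i (f i) ∈ (MonoidHom.mulSingle W i).range := ⟨_, rfl⟩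
    have h2 : (MonoidHom.mulSingle W i (f i))⁻¹ * f ∈ (Pi.evalMonoidHom W i).ker := by
      simp [MonoidHom.mem_ker]
    have := mul_mem (mem_sup_left (T := (Pi.evalMonoidHom W i).ker) h1) (mem_sup_right h2)
    rwa [mul_inv_cancel_left] at this

end CfsgLib.Perm.SylowTwoDecomp
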