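import Cfsg.Agent.Lib.LocalEvenB.CharP

/-!
The theorem of Thompson and Wielandt on a pair of maximal subgroups: if `P` is normal in `A` and
subnormal in `B`, and `Z` is normal in `B` and subnormal in `A`, then `A` is of characteristic `p`
and one of `P`, `Z` is a `p`-group.
-/

set_option autoImplicit false
set_option linter.style.haveILetI false

open Cfsg
open scoped Pointwise commutatorElement

namespace CfsgLib.ThompsonWielandt

variable {G : Type*} [Group G]

/-- Every nontrivial normal subgroup of `A` has its normalizer inside `A`. -/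
def NormClosed (A : Subgroup G) : Prop :=
  ∀ X : Subgroup G, X ≤ A → A ≤ Subgroup.normalizer (X : Set G) → X ≠ ⊥ →
    Subgroup.normalizer (X : Set G) ≤ A

/-- The elements of `A` all of whose `A`-conjugates lie in `B`. -/
def coreIn (A B : Subgroup G) : Subgroup G where
  carrier := {x | x ∈ A ∧ ∀ k ∈ A, k * x * k⁻¹ ∈ B}
  one_mem' := ⟨A.one_mem, fun k _ => by simp⟩
  mul_mem' := fun {x y} hx hy => ⟨A.mul_mem hx.1 hy.1, fun k hk => by
    have := B.mul_mem (hx.2 k hk) (hy.2 k hk)
    simpa [mul_assoc] using this⟩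
  inv_mem' := fun {x} hx => ⟨A.inv_mem hx.1, fun k hk => by
    have := B.inv_mem (hx.2 k hk)
    simpa [mul_assoc] using this⟩

theorem mem_coreIn {A B : Subgroup G} {x : G} :
    x ∈ coreIn A B ↔ x ∈ A ∧ ∀ k ∈ A, k * x * k⁻¹ ∈ B := Iff.rfl

theorem coreIn_le_left {A B : Subgroup G} : coreIn A B ≤ A := fun _ hx => hx.1

theorem coreIn_le_right {A B : Subgroup G} : coreIn A B ≤ B := fun x hx => by
  simpa using hx.2 1 A.one_mem

theorem conj_mem_coreIn {A B : Subgroup G} {x k : G} (hk : k ∈ A) (hx : x ∈ coreIn A B) :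
    k * x * k⁻¹ ∈ coreIn A B := by
  refine ⟨A.mul_mem (A.mul_mem hk hx.1) (A.inv_mem hk), fun l hl => ?_⟩
  have := hx.2 (l * k) (A.mul_mem hl hk)
  simpa [mul_assoc] using this

theorem mem_normalizer_of_conj [Finite G] {X : Subgroup G} {g : G}
    (h : ∀ x ∈ X, g * x * g⁻¹ ∈ X) : g ∈ Subgroup.normalizer (X : Set G) :=
  LocalEvenB.mem_normalizer_of_forall h

theorem le_normalizer_coreIn [Finite G] {A B : Subgroup G} :
    A ≤ Subgroup.normalizer (coreIn A B : Set G) := fun _ hk =>
  mem_normalizer_of_conj fun _ hx => conj_mem_coreIn hk hx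

/-- The subgroup generated by the elements of `P` of order prime to `q`. -/
def primeTo (q : ℕ) (P : Subgroup G) : Subgroup G :=
  Subgroup.closure {x : G | x ∈ P ∧ (orderOf x).Coprime q}

theorem primeTo_le {q : ℕ} {P : Subgroup G} : primeTo q P ≤ P :=
  (Subgroup.closure_le P).2 fun _ hx => hx.1

theorem mem_normalizer_closure [Finite G] {S : Set G} {g : G}
    (h : ∀ x ∈ S, g * x * g⁻¹ ∈ Subgroup.closure S) :
    g ∈ Subgroup.normalizer (Subgroup.closure S : Set G) := by
  refine mem_normalizer_of_conj fun x hx => ?_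
  have hle : Subgroup.closure S ≤ (Subgroup.closure S).comap (MulAut.conj g).toMonoidHom :=
    (Subgroup.closure_le _).2 fun y hy => by simpa using h y hy
  simpa using hle hx

theorem orderOf_conj (g x : G) : orderOf (g * x * g⁻¹) = orderOf x := by
  simpa using MulEquiv.orderOf_eq (MulAut.conj g) x

theorem normalizer_le_normalizer_primeTo [Finite G] (q : ℕ) (P : Subgroup G) :
    Subgroup.normalizer (P : Set G) ≤ Subgroup.normalizer (primeTo q P : Set G) := fun g hg =>
  mem_normalizer_closure fun x hx => Subgroup.subset_closure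
    ⟨(Subgroup.mem_normalizer_iff.1 hg x).1 hx.1, by rw [orderOf_conj]; exact hx.2⟩

theorem primeTo_ne_bot [Finite G] {q : ℕ} [hq : Fact q.Prime] {P : Subgroup G}
    (hP : ¬ IsPGroup q P) : primeTo q P ≠ ⊥ := by
  intro h
  refine hP (isPGroup_iff_pow_pow_eq_one.2 fun x => ?_)
  obtain ⟨k, hk⟩ := CfsgLib.Transfer.exists_pow_prime_pow_coprime (p := q) (x : G)
  refine ⟨k, Subtype.ext ?_⟩
  have hm : (x : G) ^ q ^ k ∈ primeTo q P := Subgroup.subset_closure ⟨P.pow_mem x.2 _, hk⟩
  rw [h, Subgroup.mem_bot] at hm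
  simpa using hm

/-- An element whose order is prime to the index of a subnormal subgroup lies in it. -/
theorem mem_of_subnormal_coprime {H : Subgroup G} (hH : H.IsSubnormal) {x : G}
    (hx : (orderOf x).Coprime H.index) : x ∈ H := by
  induction hH with
  | top => exact Subgroup.mem_top x
  | step H K hle hsn hN ih =>
    have hmul := Subgroup.relIndex_mul_index hle
    have hxK : x ∈ K := ih (hx.coprime_dvd_right ⟨H.relIndex K, by rw [← hmul, mul_comm]⟩)
    haveI := hN
    have h1 : (orderOf (⟨x, hxK⟩ : K)).Coprime (H.subgroupOf K).index := by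
      rw [← Subgroup.orderOf_coe]
      exact hx.coprime_dvd_right ⟨K.index, hmul.symm⟩
    have h2 : orderOf (QuotientGroup.mk ⟨x, hxK⟩ : K ⧸ H.subgroupOf K) = 1 :=
      Nat.eq_one_of_dvd_coprimes h1 (orderOf_map_dvd (QuotientGroup.mk' (H.subgroupOf K)) _)
        (orderOf_dvd_natCard _)
    rw [orderOf_eq_one_iff, QuotientGroup.eq_one_iff] at h2
    exact h2

/-- An element of order prime to `q` in the product of a subnormal subgroup and a normal
`q`-subgroup lies in the subnormal subgroup. -/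
theorem mem_of_mem_sup_normal [Finite G] {q : ℕ} [hq : Fact q.Prime] {P R : Subgroup G}
    (hP : P.IsSubnormal) [R.Normal] (hR : IsPGroup q R) {x : G} (hx : x ∈ P ⊔ R)
    (ho : (orderOf x).Coprime q) : x ∈ P := by
  have h : (⟨x, hx⟩ : ↥(P ⊔ R)) ∈ P.subgroupOf (P ⊔ R) := by
    refine mem_of_subnormal_coprime hP.subgroupOf ?_
    rw [← Subgroup.orderOf_coe]
    have hdvd : (P.subgroupOf (P ⊔ R)).index ∣ Nat.card R := by
      have hPN : P ≤ Subgroup.normalizer (R : Set G) := fun g _ =>
        mem_normalizer_of_conj fun y hy => Subgroup.Normal.conj_mem inferInstance y hy g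
      have h0 : Nat.card (P.subgroupOf (P ⊔ R)) * (P.subgroupOf (P ⊔ R)).index ∣
          Nat.card P * Nat.card R := by
        rw [Subgroup.card_mul_index]
        have := CfsgLib.Components.card_sup_dvd_mul (A := R) (B := P) hPN
        rwa [sup_comm, mul_comm] at this
      rw [Nat.card_congr (Subgroup.subgroupOfEquivOfLe (le_sup_left : P ≤ P ⊔ R)).toEquiv] at h0
      exact Nat.dvd_of_mul_dvd_mul_left Nat.card_pos h0
    obtain ⟨n, hn⟩ := hR.exists_card_eq
    exact (hn ▸ ho.pow_right n).coprime_dvd_right hdvd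
  exact h

/-- The same inside a subgroup `B`. -/
theorem mem_of_mem_sup_pCoreOf [Finite G] {q : ℕ} [Fact q.Prime] {P B : Subgroup G}
    (hPB : P ≤ B) (hP : (P.subgroupOf B).IsSubnormal) {x : G} (hx : x ∈ P ⊔ pCoreOf q B)
    (ho : (orderOf x).Coprime q) : x ∈ P := by
  have hRB : pCoreOf q B ≤ B := Subgroup.map_subtype_le _
  have hxB : x ∈ B := (sup_le hPB hRB) hx
  haveI := CfsgLib.Components.pCore_normal (G := B) q
  have hx' : (⟨x, hxB⟩ : B) ∈ P.subgroupOf B ⊔ pCore q B := by
    have : (⟨x, hxB⟩ : B) ∈ (P ⊔ pCoreOf q B).subgroupOf B := hx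
    rw [Subgroup.subgroupOf_sup hPB hRB] at this
    rwa [show (pCoreOf q B).subgroupOf B = pCore q B from
      Subgroup.comap_map_eq_self_of_injective B.subtype_injective _] at this
  exact mem_of_mem_sup_normal (q := q) hP (CfsgLib.Components.pCore_isPGroup q) hx'
    (by rwa [← Subgroup.orderOf_coe])

theorem subnormal_pGroup_le_pCoreOf [Finite G] {p : ℕ} [Fact p.Prime] {X B : Subgroup G}
    (hXB : X ≤ B) (hsn : (X.subgroupOf B).IsSubnormal) (hX : IsPGroup p X) :
    X ≤ pCoreOf p B := by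
  rw [← CfsgLib.Components.map_subtype_subgroupOf hXB]
  exact Subgroup.map_mono (CfsgLib.Components.subnormal_pGroup_le_pCore hsn
    (hX.comap_of_injective _ B.subtype_injective))

theorem ne_bot_of_not_isPGroup {p : ℕ} {P : Subgroup G} (h : ¬ IsPGroup p P) : P ≠ ⊥ := by
  rintro rfl
  exact h IsPGroup.of_bot

theorem not_isPGroup_of_ne [Finite G] {p r : ℕ} [hp : Fact p.Prime] [hr : Fact r.Prime]
    {P : Subgroup G} (hne : P ≠ ⊥) (hP : IsPGroup p P) (hrp : r ≠ p) : ¬ IsPGroup r P := by
  intro hPr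
  obtain ⟨n, hn⟩ := hP.exists_card_eq
  obtain ⟨m, hm⟩ := hPr.exists_card_eq
  refine hne (Subgroup.card_eq_one.1 (Nat.eq_one_of_dvd_coprimes
    (Nat.Coprime.pow n m ((Nat.coprime_primes hp.out hr.out).2 (Ne.symm hrp))) ?_ ?_))
  · rw [hn]
  · rw [hm]

/-- A subgroup of a `p`-group that is self-normalizing in it is the whole group. -/
theorem eq_of_normalizer_inf_le [Finite G] {p : ℕ} [Fact p.Prime] {S T : Subgroup G}
    (hS : IsPGroup p S) (hTS : T ≤ S) (h : S ⊓ Subgroup.normalizer (T : Set G) ≤ T) : T = S := by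
  haveI := hS.isNilpotent
  by_contra hne
  have hlt : T.subgroupOf S < ⊤ := lt_top_iff_ne_top.2 fun ht =>
    hne (le_antisymm hTS (Subgroup.subgroupOf_eq_top.1 ht))
  have h1 := Group.normalizerCondition_of_isNilpotent _ hlt
  apply not_le_of_gt h1
  intro y hy
  refine h ⟨y.2, mem_normalizer_of_conj fun t ht => ?_⟩
  have := (Subgroup.mem_normalizer_iff.1 hy ⟨t, hTS ht⟩).1 ht
  exact this

variable {A B P Z : Subgroup G}

/-- A component of `A` is a component of every intermediate subgroup containing it. -/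
theorem isComponentOf_of_le {L H A : Subgroup G} (hLH : L ≤ H) (hHA : H ≤ A)
    (hL : IsComponentOf L A) : IsComponentOf L H := by
  refine ⟨hLH, ?_⟩
  have h1 := CfsgLib.Components.isComponent_subgroupOf (H := H.subgroupOf A) hL.2
    (fun x hx => hLH hx)
  have h2 := CfsgLib.Components.isComponent_map_equiv (Subgroup.subgroupOfEquivOfLe hHA) h1
  convert h2 using 1
  ext ⟨x, hx⟩
  constructor
  · intro hxL
    exact ⟨⟨⟨x, hHA hx⟩, hx⟩, hxL, rfl⟩
  · rintro ⟨⟨⟨y, hy⟩, hy'⟩, hyL, hyx⟩
    have : y = x := congrArg Subtype.val hyx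
    subst this
    exact hyL

/-- Subnormal subgroups confine the components. -/
theorem component_le [Finite G] (hA : NormClosed A) (hPA : P ≤ A)
    (hPn : A ≤ Subgroup.normalizer (P : Set G)) (hPB : P ≤ B)
    (hPsn : (P.subgroupOf B).IsSubnormal) (hne : P ≠ ⊥) {L : Subgroup G}
    (hL : IsComponentOf L B) : L ≤ A := by
  rcases CfsgLib.Components.component_le_or_commutes hL.2 hPsn with h | h
  · intro x hx
    exact hPA (h (show (⟨x, hL.1 hx⟩ : B) ∈ L.subgroupOf B from hx))
  · have h' := congrArg (Subgroup.map B.subtype) h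
    rw [Subgroup.map_commutator, CfsgLib.Components.map_subtype_subgroupOf hL.1,
      CfsgLib.Components.map_subtype_subgroupOf hPB, Subgroup.map_bot] at h'
    exact (Subgroup.commutator_eq_bot_iff_le_centralizer.1 h').trans
      ((Subgroup.centralizer_le_normalizer _).trans (hA P hPA hPn hne))

/-- `O_q(B) ≤ A` unless `P` is a `q`-group. -/
theorem pCoreOf_le_left [Finite G] (hA : NormClosed A) (hPA : P ≤ A)
    (hPn : A ≤ Subgroup.normalizer (P : Set G)) (hPB : P ≤ B)
    (hPsn : (P.subgroupOf B).IsSubnormal) {q : ℕ} [Fact q.Prime] (hP : ¬ IsPGroup q P) :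
    pCoreOf q B ≤ A := by
  intro r hr
  have hmem : r ∈ Subgroup.normalizer (primeTo q P : Set G) :=
    mem_normalizer_closure fun x hx => Subgroup.subset_closure
      ⟨mem_of_mem_sup_pCoreOf hPB hPsn
        ((P ⊔ pCoreOf q B).mul_mem ((P ⊔ pCoreOf q B).mul_mem (Subgroup.mem_sup_right hr)
          (Subgroup.mem_sup_left hx.1)) ((P ⊔ pCoreOf q B).inv_mem (Subgroup.mem_sup_right hr)))
        (by rw [orderOf_conj]; exact hx.2),
      by rw [orderOf_conj]; exact hx.2⟩
  exact hA _ (primeTo_le.trans hPA) (hPn.trans (normalizer_le_normalizer_primeTo q P))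
    (primeTo_ne_bot hP) hmem

/-- An `s'`-element of `A ⊓ B` centralizing `O_s(B) ⊓ A` centralizes `O_s(B)`. -/
theorem mem_centralizer_pCoreOf [Finite G] (hA : NormClosed A) (hPA : P ≤ A)
    (hPn : A ≤ Subgroup.normalizer (P : Set G)) (hPB : P ≤ B)
    (hPsn : (P.subgroupOf B).IsSubnormal) (hne : P ≠ ⊥) {s : ℕ} [Fact s.Prime] {x : G}
    (hxB : x ∈ B) (ho : (orderOf x).Coprime s)
    (hc : x ∈ Subgroup.centralizer ((pCoreOf s B ⊓ A : Subgroup G) : Set G)) :
    x ∈ Subgroup.centralizer (pCoreOf s B : Set G) := by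
  by_cases hRA : pCoreOf s B ≤ A
  · rwa [inf_eq_left.2 hRA] at hc
  · have hPs : IsPGroup s P := by
      by_contra h
      exact hRA (pCoreOf_le_left hA hPA hPn hPB hPsn h)
    have hPR := subnormal_pGroup_le_pCoreOf hPB hPsn hPs
    refine LocalEvenB.mem_centralizer_of_axb (B := P) ho (LocalEvenB.isPGroup_pCoreOf B) hPs
      (hPR.trans Subgroup.le_normalizer) (LocalEvenB.le_normalizer_pCoreOf B hxB) ?_ ?_
    · exact Subgroup.centralizer_le (SetLike.coe_subset_coe.2 (le_inf hPR hPA)) hc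
    · exact Subgroup.centralizer_le (SetLike.coe_subset_coe.2 (le_inf inf_le_left
        (inf_le_right.trans ((Subgroup.centralizer_le_normalizer _).trans
          (hA P hPA hPn hne))))) hc

/-- With both `P` and `Z` nontrivial, every component of `A` is one of `B`. -/
theorem component_transfer [Finite G] (hA : NormClosed A) (hB : NormClosed B) (hPA : P ≤ A)
    (hPn : A ≤ Subgroup.normalizer (P : Set G)) (hPB : P ≤ B)
    (hPsn : (P.subgroupOf B).IsSubnormal) (hPne : P ≠ ⊥) (hZB : Z ≤ B)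
    (hZn : B ≤ Subgroup.normalizer (Z : Set G)) (hZA : Z ≤ A)
    (hZsn : (Z.subgroupOf A).IsSubnormal) (hZne : Z ≠ ⊥) {L : Subgroup G}
    (hL : IsComponentOf L A) : IsComponentOf L B := by
  have hLB : L ≤ B := component_le hB hZB hZn hZA hZsn hZne hL
  by_contra hnot
  have hLK : IsComponentOf L (A ⊓ B) := isComponentOf_of_le (le_inf hL.1 hLB) inf_le_left hL
  set L' := L.subgroupOf B with hL'
  -- `L` centralizes the components of `B`
  have hlay : L' ≤ Subgroup.centralizer (layer B : Set B) := by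
    rw [← Subgroup.commutator_eq_bot_iff_le_centralizer, Subgroup.commutator_comm, layer,
      CfsgLib.Components.commutator_sSup_left_eq_bot]
    intro M hM
    have hMB : M.map B.subtype ≤ B := Subgroup.map_subtype_le M
    have hMB' : IsComponentOf (M.map B.subtype) B := ⟨hMB, by
      rwa [show (M.map B.subtype).subgroupOf B = M from
        Subgroup.comap_map_eq_self_of_injective B.subtype_injective _]⟩
    have hMA : M.map B.subtype ≤ A := component_le hA hPA hPn hPB hPsn hPne hMB'
    have hMK : IsComponentOf (M.map B.subtype) (A ⊓ B) :=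
      isComponentOf_of_le (le_inf hMA hMB) inf_le_right hMB'
    have hneq : (M.map B.subtype).subgroupOf (A ⊓ B) ≠ L.subgroupOf (A ⊓ B) := by
      intro h
      have := congrArg (Subgroup.map (A ⊓ B).subtype) h
      rw [CfsgLib.Components.map_subtype_subgroupOf hMK.1,
        CfsgLib.Components.map_subtype_subgroupOf hLK.1] at this
      exact hnot (this ▸ hMB')
    have hc := congrArg (Subgroup.map (A ⊓ B).subtype)
      (CfsgLib.Components.components_commute hMK.2 hLK.2 hneq)
    rw [Subgroup.map_commutator, CfsgLib.Components.map_subtype_subgroupOf hMK.1,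
      CfsgLib.Components.map_subtype_subgroupOf hLK.1, Subgroup.map_bot] at hc
    refine Subgroup.map_injective B.subtype_injective ?_
    rw [Subgroup.map_commutator, hL', CfsgLib.Components.map_subtype_subgroupOf hLB,
      Subgroup.map_bot]
    exact hc
  -- `L` centralizes each `O_s(B)`
  have hfit : L' ≤ Subgroup.centralizer (fittingSubgroup B : Set B) := by
    rw [← Subgroup.commutator_eq_bot_iff_le_centralizer, Subgroup.commutator_comm,
      Subgroup.commutator_eq_bot_iff_le_centralizer, CfsgLib.Core.fittingSubgroup_eq_iSup_pCore]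
    refine iSup_le fun s => ?_
    haveI : Fact (s : ℕ).Prime := ⟨s.2⟩
    set R := pCoreOf (s : ℕ) B with hR
    have hRn : A ⊓ B ≤ Subgroup.normalizer ((R ⊓ A : Subgroup G) : Set G) := fun g hg =>
      mem_normalizer_of_conj fun y hy =>
        ⟨(Subgroup.mem_normalizer_iff.1 (LocalEvenB.le_normalizer_pCoreOf B hg.2) y).1 hy.1,
          A.mul_mem (A.mul_mem hg.1 hy.2) (A.inv_mem hg.1)⟩
    have hRK : R ⊓ A ≤ A ⊓ B :=
      le_inf inf_le_right (inf_le_left.trans (Subgroup.map_subtype_le _))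
    haveI : ((R ⊓ A).subgroupOf (A ⊓ B)).Normal :=
      (Subgroup.normal_subgroupOf_iff_le_normalizer hRK).2 hRn
    haveI hsol : Group.IsSolvable ((R ⊓ A).subgroupOf (A ⊓ B)) := by
      haveI : Group.IsNilpotent ↥((R ⊓ A).subgroupOf (A ⊓ B)) :=
        (((LocalEvenB.isPGroup_pCoreOf B).to_le (inf_le_left : R ⊓ A ≤ R)).comap_of_injective
        (A ⊓ B).subtype (A ⊓ B).subtype_injective).isNilpotent
      exact IsNilpotent.to_isSolvable
    have hc := congrArg (Subgroup.map (A ⊓ B).subtype)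
      (CfsgLib.Components.component_commutes_of_solvable_subnormal hLK.2
        (Subgroup.Normal.isSubnormal inferInstance) hsol)
    rw [Subgroup.map_commutator, CfsgLib.Components.map_subtype_subgroupOf hRK,
      CfsgLib.Components.map_subtype_subgroupOf hLK.1, Subgroup.map_bot,
      Subgroup.commutator_eq_bot_iff_le_centralizer] at hc
    -- the elements of `L` centralizing `R` form all of `L`
    have hgen : pResidual (s : ℕ) L ≤ (Subgroup.centralizer (R : Set G)).subgroupOf L := by
      rw [CfsgLib.Transfer.pResidual_le_iff]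
      intro g hg
      exact mem_centralizer_pCoreOf hA hPA hPn hPB hPsn hPne (hLB g.2)
        (by simpa [Subgroup.orderOf_coe] using hg) (hc g.2)
    have htop : pResidual (s : ℕ) L = ⊤ := by
      haveI := (CfsgLib.Transfer.isPGroup_quotient_pResidual (G := L) (p := (s : ℕ))).isNilpotent
      have hperf : ⁅(⊤ : Subgroup L), (⊤ : Subgroup L)⁆ = (⊤ : Subgroup L) := by
        refine Subgroup.map_injective L.subtype_injective ?_
        rw [Subgroup.map_commutator, ← MonoidHom.range_eq_map (f := L.subtype), Subgroup.range_subtype]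
        exact CfsgLib.Components.IsQuasisimple.commutator_eq_self
          ((CfsgLib.Components.isQuasisimple_congr (Subgroup.subgroupOfEquivOfLe hL.1)).1 hL.2.2)
      haveI : Group.IsPerfect L := Group.isPerfect_def.mpr hperf
      by_contra hne
      haveI : Nontrivial (L ⧸ pResidual (s : ℕ) L) :=
        QuotientGroup.nontrivial_iff.2 hne
      exact Group.IsPerfect.not_isSolvable (L ⧸ pResidual (s : ℕ) L) inferInstance
    have hLR : L ≤ Subgroup.centralizer (R : Set G) := fun x hx =>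
      (htop ▸ hgen) (Subgroup.mem_top (⟨x, hx⟩ : L))
    intro y hy
    refine Subgroup.mem_centralizer_iff.2 fun z hz => Subtype.ext ?_
    exact (Subgroup.mem_centralizer_iff.1 (hLR hz) y ⟨y, hy, rfl⟩).symm
  have hF : L' ≤ Subgroup.centralizer (generalizedFittingSubgroup B : Set B) := by
    rw [CfsgLib.Components.centralizer_gFitting]
    exact le_inf hlay hfit
  have hself : ⁅L', L'⁆ = ⊥ := by
    rw [Subgroup.commutator_eq_bot_iff_le_centralizer]
    exact hF.trans (Subgroup.centralizer_le (SetLike.coe_subset_coe.2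
      (hF.trans CfsgLib.Components.centralizer_gFitting_le)))
  have hq : IsQuasisimple L := (CfsgLib.Components.isQuasisimple_congr
    (Subgroup.subgroupOfEquivOfLe hL.1)).1 hL.2.2
  apply CfsgLib.Components.IsQuasisimple.commutator_self_ne_bot hq
  have := congrArg (Subgroup.map B.subtype) hself
  rwa [Subgroup.map_commutator, hL', CfsgLib.Components.map_subtype_subgroupOf hLB,
    Subgroup.map_bot] at this

/-- With both `P` and `Z` nontrivial, `A` has no components. -/
theorem layer_eq_bot [Finite G] (hA : NormClosed A) (hB : NormClosed B) (hPA : P ≤ A)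
    (hPn : A ≤ Subgroup.normalizer (P : Set G)) (hPB : P ≤ B)
    (hPsn : (P.subgroupOf B).IsSubnormal) (hPne : P ≠ ⊥) (hZB : Z ≤ B)
    (hZn : B ≤ Subgroup.normalizer (Z : Set G)) (hZA : Z ≤ A)
    (hZsn : (Z.subgroupOf A).IsSubnormal) (hZne : Z ≠ ⊥) (hBA : ¬ B ≤ A) :
    layer A = ⊥ := by
  rw [CfsgLib.Components.layer_eq_bot_iff]
  intro L₀ hL₀
  have hiff : ∀ L : Subgroup G, IsComponentOf L A ↔ IsComponentOf L B := fun L =>
    ⟨component_transfer hA hB hPA hPn hPB hPsn hPne hZB hZn hZA hZsn hZne,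
      component_transfer hB hA hZB hZn hZA hZsn hZne hPA hPn hPB hPsn hPne⟩
  have key : ∀ C : Subgroup G,
      sSup {L : Subgroup G | IsComponentOf L C} = (layer C).map C.subtype := by
    intro C
    refine le_antisymm (sSup_le fun L hL => ?_) ?_
    · rw [← CfsgLib.Components.map_subtype_subgroupOf hL.1]
      exact Subgroup.map_mono (CfsgLib.Components.le_layer hL.2)
    · rw [Subgroup.map_le_iff_le_comap, CfsgLib.Components.layer_le_iff]
      intro M hM
      rw [← Subgroup.map_le_iff_le_comap]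
      exact le_sSup ⟨Subgroup.map_subtype_le M, by
        rwa [show (M.map C.subtype).subgroupOf C = M from
          Subgroup.comap_map_eq_self_of_injective C.subtype_injective _]⟩
  set X := (layer A).map A.subtype with hX
  have hXB : X = (layer B).map B.subtype := by
    rw [hX, ← key, ← key]
    simp only [hiff]
  have hnorm : ∀ C : Subgroup G, C ≤ Subgroup.normalizer ((layer C).map C.subtype : Set G) := by
    intro C g hg
    refine mem_normalizer_of_conj ?_
    rintro _ ⟨y, hy, rfl⟩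
    exact ⟨⟨g, hg⟩ * y * ⟨g, hg⟩⁻¹, CfsgLib.Components.layer_normal.conj_mem y hy _, rfl⟩
  have hXne : X ≠ ⊥ := by
    intro h
    rw [hX, Subgroup.map_eq_bot_iff_of_injective _ A.subtype_injective] at h
    exact CfsgLib.Components.layer_eq_bot_iff.1 h L₀ hL₀
  refine hBA (le_trans ?_ (hA X (Subgroup.map_subtype_le _) (hnorm A) hXne))
  rw [hXB]
  exact hnorm B

/-- If `P` is a nontrivial `p`-group then `A` has no normal `r`-subgroup for `r ≠ p`. -/
theorem pCoreOf_eq_bot_of_ne [Finite G] (hA : NormClosed A) (hB : NormClosed B) (hPA : P ≤ A)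
    (hPn : A ≤ Subgroup.normalizer (P : Set G)) (hPB : P ≤ B)
    (hPsn : (P.subgroupOf B).IsSubnormal) (hPne : P ≠ ⊥) (hBA : ¬ B ≤ A) {p r : ℕ}
    [hp : Fact p.Prime] [hr : Fact r.Prime] (hP : IsPGroup p P) (hrp : r ≠ p)
    (hcard : Nat.card (pCoreOf r A) = Nat.card (pCoreOf r B)) : pCoreOf r A = ⊥ := by
  by_contra hUne
  set U := pCoreOf r A with hU
  set R := pCoreOf r B with hR
  have hUA : U ≤ A := Subgroup.map_subtype_le _
  have hRB : R ≤ B := Subgroup.map_subtype_le _
  have hRA : R ≤ A := pCoreOf_le_left hA hPA hPn hPB hPsn (not_isPGroup_of_ne hPne hP hrp)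
  have hRne : R ≠ ⊥ := fun h => hUne (Subgroup.card_eq_one.1 (by rw [hcard, h]; simp))
  set T := U ⊓ B with hT
  set Rp := pCoreOf p B with hRp
  -- `T` centralizes `O_p(B)`
  have hTc : T ≤ Subgroup.centralizer (Rp : Set G) := by
    intro x hx
    have ho : (orderOf x).Coprime p := by
      obtain ⟨k, hk⟩ := (LocalEvenB.isPGroup_pCoreOf (p := r) A).exists_card_eq
      exact (((Nat.coprime_primes hr.out hp.out).2 hrp).pow_left k).coprime_dvd_left
        (hk ▸ Subgroup.orderOf_dvd_natCard U hx.1)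
    refine mem_centralizer_pCoreOf hA hPA hPn hPB hPsn hPne hx.2 ho
      (Subgroup.mem_centralizer_iff.2 fun y hy => ?_)
    have hdis : Disjoint (Rp ⊓ A) U := IsPGroup.disjoint_of_ne p r (Ne.symm hrp)
      _ _ ((LocalEvenB.isPGroup_pCoreOf B).to_le inf_le_left) (LocalEvenB.isPGroup_pCoreOf A)
    have h1 : ⁅y, x⁆ ∈ Rp ⊓ A := by
      rw [commutatorElement_def, mul_assoc, mul_assoc]
      refine (Rp ⊓ A).mul_mem hy ?_
      rw [← mul_assoc]
      exact ⟨(Subgroup.mem_normalizer_iff.1 (LocalEvenB.le_normalizer_pCoreOf B hx.2) _).1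
          (Rp.inv_mem hy.1),
        A.mul_mem (A.mul_mem (hUA hx.1) (A.inv_mem hy.2)) (A.inv_mem (hUA hx.1))⟩
    have h2 : ⁅y, x⁆ ∈ U := by
      rw [commutatorElement_def]
      exact U.mul_mem
        ((Subgroup.mem_normalizer_iff.1 (LocalEvenB.le_normalizer_pCoreOf A hy.2) _).1 hx.1)
        (U.inv_mem hx.1)
    exact commutatorElement_eq_one_iff_mul_comm.1
      (Subgroup.disjoint_def.1 hdis h1 h2)
  -- `C_B(O_p(B)) ≤ A`, hence `T` is subnormal in `B`
  set C := B ⊓ Subgroup.centralizer (Rp : Set G) with hC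
  have hCA : C ≤ A := inf_le_right.trans ((Subgroup.centralizer_le (SetLike.coe_subset_coe.2
    (subnormal_pGroup_le_pCoreOf hPB hPsn hP))).trans
      ((Subgroup.centralizer_le_normalizer _).trans (hA P hPA hPn hPne)))
  have hTC : T ≤ C := le_inf inf_le_right hTc
  have hBC : B ≤ Subgroup.normalizer (C : Set G) := fun b hb =>
    mem_normalizer_of_conj fun c hc => by
      refine ⟨B.mul_mem (B.mul_mem hb hc.1) (B.inv_mem hb),
        Subgroup.mem_centralizer_iff.2 fun z hz => ?_⟩
      have hz' : b⁻¹ * z * b⁻¹⁻¹ ∈ Rp := (Subgroup.mem_normalizer_iff.1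
        (LocalEvenB.le_normalizer_pCoreOf B (B.inv_mem hb)) z).1 hz
      have := Subgroup.mem_centralizer_iff.1 hc.2 _ hz'
      calc z * (b * c * b⁻¹) = b * ((b⁻¹ * z * b⁻¹⁻¹) * c) * b⁻¹ := by group
        _ = b * (c * (b⁻¹ * z * b⁻¹⁻¹)) * b⁻¹ := by rw [this]
        _ = (b * c * b⁻¹) * z := by group
  have hTn : C ≤ Subgroup.normalizer (T : Set G) := fun c hc =>
    mem_normalizer_of_conj fun t ht =>
      ⟨(Subgroup.mem_normalizer_iff.1 (LocalEvenB.le_normalizer_pCoreOf A (hCA hc)) t).1 ht.1,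
        B.mul_mem (B.mul_mem hc.1 ht.2) (B.inv_mem hc.1)⟩
  have hTsn : (T.subgroupOf B).IsSubnormal := by
    haveI hCn : (C.subgroupOf B).Normal :=
      (Subgroup.normal_subgroupOf_iff_le_normalizer inf_le_left).2 hBC
    refine Subgroup.IsSubnormal.step _ (C.subgroupOf B) (fun x hx => hTC hx) hCn.isSubnormal ?_
    refine (Subgroup.normal_subgroupOf_iff_le_normalizer
      (show T.subgroupOf B ≤ C.subgroupOf B from fun x hx => hTC hx)).2 fun c hc => ?_
    exact mem_normalizer_of_conj fun t ht => (Subgroup.mem_normalizer_iff.1 (hTn hc) t).1 ht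
  have hTR : T ≤ R := subnormal_pGroup_le_pCoreOf inf_le_right hTsn
    ((LocalEvenB.isPGroup_pCoreOf A).to_le inf_le_left)
  -- growth in the `r`-group `UR`
  have hRU : R ≤ Subgroup.normalizer (U : Set G) :=
    hRA.trans (LocalEvenB.le_normalizer_pCoreOf A)
  have hS : IsPGroup r (U ⊔ R : Subgroup G) :=
    IsPGroup.to_sup_of_normal_left' (LocalEvenB.isPGroup_pCoreOf A)
      (LocalEvenB.isPGroup_pCoreOf B) hRU
  have hNR : Subgroup.normalizer (R : Set G) ≤ B :=
    hB R hRB (LocalEvenB.le_normalizer_pCoreOf B) hRne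
  have heq : R = U ⊔ R := by
    refine eq_of_normalizer_inf_le hS le_sup_right ?_
    rintro x ⟨hxS, hxN⟩
    have hxS' : x ∈ (U : Set G) * (R : Set G) :=
      Subgroup.coe_mul_of_right_le_normalizer_left U R hRU ▸ hxS
    obtain ⟨u, hu, v, hv, rfl⟩ := Set.mem_mul.1 hxS'
    exact R.mul_mem (hTR ⟨hu, (B.mul_mem_cancel_right (hRB hv)).1 (hNR hxN)⟩) hv
  have hUR : U = R := Subgroup.eq_of_le_of_card_ge (heq ▸ le_sup_left) hcard.ge
  exact hBA ((LocalEvenB.le_normalizer_pCoreOf B).trans
    (hA R hRA (hUR ▸ LocalEvenB.le_normalizer_pCoreOf A) hRne))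

/-- If neither `P` nor `Z` is a `p`-group then `O_p(A) = 1`. -/
theorem pCoreOf_eq_bot_of_not [Finite G] (hA : NormClosed A) (hB : NormClosed B) (hPA : P ≤ A)
    (hPn : A ≤ Subgroup.normalizer (P : Set G)) (hPB : P ≤ B)
    (hPsn : (P.subgroupOf B).IsSubnormal) (hZB : Z ≤ B)
    (hZn : B ≤ Subgroup.normalizer (Z : Set G))
    (hZsn : (Z.subgroupOf A).IsSubnormal) (hZH : Z ≤ coreIn A B) (hBA : ¬ B ≤ A) {p : ℕ}
    [Fact p.Prime] (hP : ¬ IsPGroup p P) (hZ : ¬ IsPGroup p Z)
    (hcard : Nat.card (pCoreOf p A) = Nat.card (pCoreOf p B)) : pCoreOf p A = ⊥ := by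
  set U := pCoreOf p A with hU
  set R := pCoreOf p B with hR
  set H := coreIn A B with hH
  have hRB : R ≤ B := Subgroup.map_subtype_le _
  have hRA : R ≤ A := pCoreOf_le_left hA hPA hPn hPB hPsn hP
  have hTU : R ⊓ H ≤ U := by
    refine subnormal_pGroup_le_pCoreOf (inf_le_right.trans coreIn_le_left) ?_
      ((LocalEvenB.isPGroup_pCoreOf B).to_le inf_le_left)
    haveI hHn : (H.subgroupOf A).Normal :=
      (Subgroup.normal_subgroupOf_iff_le_normalizer coreIn_le_left).2 le_normalizer_coreIn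
    refine Subgroup.IsSubnormal.step _ (H.subgroupOf A)
      (show (R ⊓ H).subgroupOf A ≤ H.subgroupOf A from fun x hx => hx.2) hHn.isSubnormal ?_
    refine (Subgroup.normal_subgroupOf_iff_le_normalizer
      (show (R ⊓ H).subgroupOf A ≤ H.subgroupOf A from fun x hx => hx.2)).2 fun h hh => ?_
    exact mem_normalizer_of_conj fun t ht =>
      ⟨(Subgroup.mem_normalizer_iff.1
          (LocalEvenB.le_normalizer_pCoreOf B (coreIn_le_right hh)) _).1 ht.1,
        H.mul_mem (H.mul_mem hh ht.2) (H.inv_mem hh)⟩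
  have hW : Subgroup.normalizer (primeTo p Z : Set G) ≤ B :=
    hB _ (primeTo_le.trans hZB) (hZn.trans (normalizer_le_normalizer_primeTo p Z))
      (primeTo_ne_bot hZ)
  have hRH : R ≤ H := by
    intro r hr
    refine ⟨hRA hr, fun k hk => hW (mem_normalizer_closure fun x hx => ?_)⟩
    have hx' : k⁻¹ * x * k ∈ H := by
      simpa using conj_mem_coreIn (A.inv_mem hk) (hZH hx.1)
    have h1 : ⁅r, k⁻¹ * x * k⁆ ∈ R := by
      rw [commutatorElement_def, mul_assoc, mul_assoc]
      refine R.mul_mem hr ?_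
      rw [← mul_assoc]
      exact (Subgroup.mem_normalizer_iff.1
        (LocalEvenB.le_normalizer_pCoreOf B (coreIn_le_right hx')) _).1 (R.inv_mem hr)
    have h2 : ⁅r, k⁻¹ * x * k⁆ ∈ H := by
      rw [commutatorElement_def]
      exact H.mul_mem (conj_mem_coreIn (hRA hr) hx') (H.inv_mem hx')
    have h3 : k * ⁅r, k⁻¹ * x * k⁆ * k⁻¹ ∈ U :=
      (Subgroup.mem_normalizer_iff.1 (LocalEvenB.le_normalizer_pCoreOf A hk) _).1 (hTU ⟨h1, h2⟩)
    have h4 : k * r * k⁻¹ * x * (k * r * k⁻¹)⁻¹ ∈ Z ⊔ U := by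
      have := (Z ⊔ U).mul_mem (Subgroup.mem_sup_right h3) (Subgroup.mem_sup_left hx.1)
      convert this using 1
      rw [commutatorElement_def]
      group
    refine Subgroup.subset_closure ⟨mem_of_mem_sup_pCoreOf (hZH.trans coreIn_le_left) hZsn h4 ?_,
      ?_⟩ <;> (rw [orderOf_conj]; exact hx.2)
  have hRU : R ≤ U := (le_inf le_rfl hRH).trans hTU
  have hUR : R = U := Subgroup.eq_of_le_of_card_ge hRU hcard.le
  by_contra hne
  exact hBA ((hUR ▸ LocalEvenB.le_normalizer_pCoreOf B : B ≤ Subgroup.normalizer (U : Set G)).trans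
    (hA U (Subgroup.map_subtype_le _) (LocalEvenB.le_normalizer_pCoreOf A) hne))

/-- **Thompson–Wielandt.** If `P` and `Z` are nontrivial then `F*(A) = O_p(A) ≠ 1` for a prime
`p` for which `P` or `Z` is a `p`-group. -/
theorem main [Finite G] (hA : NormClosed A) (hB : NormClosed B) (hPA : P ≤ A)
    (hPn : A ≤ Subgroup.normalizer (P : Set G)) (hPB : P ≤ B)
    (hPsn : (P.subgroupOf B).IsSubnormal) (hPne : P ≠ ⊥) (hZB : Z ≤ B)
    (hZn : B ≤ Subgroup.normalizer (Z : Set G))
    (hZsn : (Z.subgroupOf A).IsSubnormal) (hZH : Z ≤ coreIn A B) (hZne : Z ≠ ⊥)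
    (hBA : ¬ B ≤ A) (hAB : ¬ A ≤ B)
    (hcard : ∀ q : ℕ, q.Prime → Nat.card (pCoreOf q A) = Nat.card (pCoreOf q B)) :
    ∃ p : ℕ, p.Prime ∧ generalizedFittingSubgroup A = pCore p A ∧
      (IsPGroup p P ∨ IsPGroup p Z) := by
  have hZA : Z ≤ A := hZH.trans coreIn_le_left
  have hlay := layer_eq_bot hA hB hPA hPn hPB hPsn hPne hZB hZn hZA hZsn hZne hBA
  haveI : Nontrivial A := A.nontrivial_iff_ne_bot.2 fun h => hPne (le_bot_iff.1 (h ▸ hPA))
  have hFne := CfsgLib.Components.gFitting_ne_bot (G := A)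
  have hF : generalizedFittingSubgroup A = fittingSubgroup A :=
    CfsgLib.Components.gFitting_eq_fitting_iff.2 hlay
  have hexists : ∃ q : Nat.Primes, pCore (q : ℕ) A ≠ ⊥ := by
    by_contra h
    push Not at h
    apply hFne
    rw [hF, CfsgLib.Core.fittingSubgroup_eq_iSup_pCore]
    exact iSup_eq_bot.2 h
  obtain ⟨⟨p, hp⟩, hne⟩ := hexists
  haveI := Fact.mk hp
  have hneA : pCoreOf p A ≠ ⊥ := fun h =>
    hne ((Subgroup.map_eq_bot_iff_of_injective _ A.subtype_injective).1 h)
  have hor : IsPGroup p P ∨ IsPGroup p Z := by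
    by_contra h
    push Not at h
    exact hneA (pCoreOf_eq_bot_of_not hA hB hPA hPn hPB hPsn hZB hZn hZsn hZH hBA h.1 h.2
      (hcard p hp))
  refine ⟨p, hp, ?_, hor⟩
  rw [hF, CfsgLib.Core.fittingSubgroup_eq_iSup_pCore]
  refine le_antisymm (iSup_le fun q => ?_)
    (le_iSup (fun q : Nat.Primes => pCore (q : ℕ) A) ⟨p, hp⟩)
  by_cases hq : (q : ℕ) = p
  · rw [hq]
  · haveI : Fact (q : ℕ).Prime := ⟨q.2⟩
    have hbot : pCoreOf (q : ℕ) A = ⊥ := by
      rcases hor with h | h
      · exact pCoreOf_eq_bot_of_ne hA hB hPA hPn hPB hPsn hPne hBA h hq (hcard _ q.2)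
      · have := pCoreOf_eq_bot_of_ne hB hA hZB hZn hZA hZsn hZne hAB h hq (hcard _ q.2).symm
        exact Subgroup.card_eq_one.1 (by rw [hcard _ q.2, this]; simp)
    exact ((Subgroup.map_eq_bot_iff_of_injective _ A.subtype_injective).1 hbot).le.trans bot_le

end CfsgLib.ThompsonWielandt
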