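import Mathlib
import Cfsg.Agent.Lib.Perm.ThompsonWielandt

/-!
# The normal subgroup of the second maximal subgroup is a `p`-group as well

* `pCoreOf_le_of_not`: if `Z` is normal in `B`, lies in `coreIn A B`, is subnormal in `A` and is not a `p`-group,
  then `O_p(A) = O_p(B)`.
-/

set_option autoImplicit false
set_option linter.all false

open Cfsg
open scoped Pointwise commutatorElement

namespace CfsgLib.ThompsonWielandt

variable {G : Type*} [Group G]

theorem pCoreOf_le_of_not [Finite G] {A B Z : Subgroup G} (hA : NormClosed A) (hB : NormClosed B) (hZB : Z ≤ B)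
    (hZn : B ≤ Subgroup.normalizer (Z : Set G))
    (hZsn : (Z.subgroupOf A).IsSubnormal) (hZH : Z ≤ coreIn A B) (hBA : ¬ B ≤ A) {p : ℕ}
    [Fact p.Prime] (hZ : ¬ IsPGroup p Z)
    (hcard : Nat.card (pCoreOf p A) = Nat.card (pCoreOf p B)) : pCoreOf p A = ⊥ := by
  by_contra hne
  set U := pCoreOf p A with hU
  set R := pCoreOf p B with hR
  set H := coreIn A B with hH
  have hUA : U ≤ A := Subgroup.map_subtype_le _
  have hUB : U ≤ B := pCoreOf_le_left hB hZB hZn (hZH.trans coreIn_le_left) hZsn hZ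
  have hNU : Subgroup.normalizer (U : Set G) ≤ A := hA U hUA (LocalEvenB.le_normalizer_pCoreOf A) hne
  have hTU : R ⊓ H ≤ U := by
    refine subnormal_pGroup_le_pCoreOf (inf_le_right.trans coreIn_le_left) ?_
      ((LocalEvenB.isPGroup_pCoreOf B).to_le inf_le_left)
    haveI hHn : (H.subgroupOf A).Normal :=
      (Subgroup.normal_subgroupOf_iff_le_normalizer coreIn_le_left).2 le_normalizer_coreIn
    refine Subgroup.IsSubnormal.step _ (H.subgroupOf A)
      (show (R ⊓ H).subgroupOf A ≤ H.subgroupOf A from fun x hx => hx.2) hHn.isSubnormal ?_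
    refine (Subgroup.normal_subgroupOf_iff_le_normalizer
      (show (R ⊓ H).subgroupOf A ≤ H.subgroupOf A from fun x hx => hx.2)).2 fun h hh => ?_
    exact mem_normalizer_of_conj fun t ht =>
      ⟨(Subgroup.mem_normalizer_iff.1
          (LocalEvenB.le_normalizer_pCoreOf B (coreIn_le_right hh)) _).1 ht.1,
        H.mul_mem (H.mul_mem hh ht.2) (H.inv_mem hh)⟩
  have hW : Subgroup.normalizer (primeTo p Z : Set G) ≤ B :=
    hB _ (primeTo_le.trans hZB) (hZn.trans (normalizer_le_normalizer_primeTo p Z))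
      (primeTo_ne_bot hZ)
  have hRH : R ⊓ A ≤ H := by
    rintro r ⟨hr, hrA⟩
    refine ⟨hrA, fun k hk => hW (mem_normalizer_closure fun x hx => ?_)⟩
    have hx' : k⁻¹ * x * k ∈ H := by
      simpa using conj_mem_coreIn (A.inv_mem hk) (hZH hx.1)
    have h1 : ⁅r, k⁻¹ * x * k⁆ ∈ R := by
      rw [commutatorElement_def, mul_assoc, mul_assoc]
      refine R.mul_mem hr ?_
      rw [← mul_assoc]
      exact (Subgroup.mem_normalizer_iff.1
        (LocalEvenB.le_normalizer_pCoreOf B (coreIn_le_right hx')) _).1 (R.inv_mem hr)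
    have h2 : ⁅r, k⁻¹ * x * k⁆ ∈ H := by
      rw [commutatorElement_def]
      exact H.mul_mem (conj_mem_coreIn hrA hx') (H.inv_mem hx')
    have h3 : k * ⁅r, k⁻¹ * x * k⁆ * k⁻¹ ∈ U :=
      (Subgroup.mem_normalizer_iff.1 (LocalEvenB.le_normalizer_pCoreOf A hk) _).1 (hTU ⟨h1, h2⟩)
    have h4 : k * r * k⁻¹ * x * (k * r * k⁻¹)⁻¹ ∈ Z ⊔ U := by
      have := (Z ⊔ U).mul_mem (Subgroup.mem_sup_right h3) (Subgroup.mem_sup_left hx.1)
      convert this using 1
      rw [commutatorElement_def]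
      group
    refine Subgroup.subset_closure ⟨mem_of_mem_sup_pCoreOf (hZH.trans coreIn_le_left) hZsn h4 ?_,
      ?_⟩ <;> (rw [orderOf_conj]; exact hx.2)
  have hRU : R ⊓ A ≤ U := (le_inf inf_le_left hRH).trans hTU
  have hUR : U ≤ Subgroup.normalizer (R : Set G) := hUB.trans (LocalEvenB.le_normalizer_pCoreOf B)
  have hS : IsPGroup p (R ⊔ U : Subgroup G) :=
    IsPGroup.to_sup_of_normal_left' (LocalEvenB.isPGroup_pCoreOf B) (LocalEvenB.isPGroup_pCoreOf A) hUR
  have heq : U = R ⊔ U := by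
    refine eq_of_normalizer_inf_le hS le_sup_right ?_
    rintro x ⟨hxS, hxN⟩
    have hxS' : x ∈ (R : Set G) * (U : Set G) :=
      Subgroup.coe_mul_of_right_le_normalizer_left R U hUR ▸ hxS
    obtain ⟨v, hv, u, hu, rfl⟩ := Set.mem_mul.1 hxS'
    exact U.mul_mem (hRU ⟨hv, (A.mul_mem_cancel_right (hUA hu)).1 (hNU hxN)⟩) hu
  have hRU' : R = U := Subgroup.eq_of_le_of_card_ge (heq ▸ le_sup_left) hcard.le
  exact hBA ((hRU' ▸ LocalEvenB.le_normalizer_pCoreOf B : B ≤ Subgroup.normalizer (U : Set G)).trans hNU)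

end CfsgLib.ThompsonWielandt
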