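import Cfsg.Agent.Lib.Perm.Burnside2

/-!
# Minimal normal subgroups of doubly transitive groups of degree `2 mod 4`

`isMultiplyPretransitive_of_card_mod_four`: a transitive normal subgroup `M` with point stabilisers
of the same 2-part `2^k` is doubly transitive, since the fixed-point set of a Sylow 2-subgroup of
a point stabiliser of `M` consists of exactly two points.
-/

set_option autoImplicit false
set_option linter.all false

namespace CfsgLib.Perm.TwoModFour

open MulAction
open scoped Pointwise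

variable {G : Type*} [Group G]

theorem exists_conj_eq [Finite G] (H U V : Subgroup G) (hU : U ≤ H) (hV : V ≤ H) (k : ℕ)
    (cU : Nat.card U = 2 ^ k) (cV : Nat.card V = 2 ^ k) (hH : ¬ 2 ^ (k + 1) ∣ Nat.card H) :
    ∃ h ∈ H, U.map (MulAut.conj h).toMonoidHom = V := by
  haveI := Fact.mk Nat.prime_two
  have hne : Nat.card H ≠ 0 := Nat.card_pos.ne'
  have hfac : (Nat.card H).factorization 2 = k := by
    apply le_antisymm
    · by_contra h
      exact hH ((Nat.prime_two.pow_dvd_iff_le_factorization hne).2 (by omega))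
    · exact (Nat.prime_two.pow_dvd_iff_le_factorization hne).1 (cU ▸ Subgroup.card_dvd_of_le hU)
  let S : Sylow 2 H := Sylow.ofCard (U.subgroupOf H)
    (by rw [hfac, Nat.card_congr (Subgroup.subgroupOfEquivOfLe hU).toEquiv, cU])
  let T : Sylow 2 H := Sylow.ofCard (V.subgroupOf H)
    (by rw [hfac, Nat.card_congr (Subgroup.subgroupOfEquivOfLe hV).toEquiv, cV])
  obtain ⟨h, hh⟩ := MulAction.exists_smul_eq H S T
  refine ⟨h, h.2, Subgroup.eq_of_le_of_card_ge ?_ ?_⟩
  · rintro _ ⟨u, hu, rfl⟩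
    have h1 : (MulAut.conj h) ⟨u, hU hu⟩ ∈ ((h • S : Sylow 2 H) : Subgroup H) := by
      show _ ∈ MulAut.conj h • (S : Subgroup H)
      exact Subgroup.smul_mem_pointwise_smul (⟨u, hU hu⟩ : H) (MulAut.conj h) _ hu
    rw [hh] at h1
    exact h1
  · rw [Subgroup.card_map_of_injective (MulAut.conj (h : G)).injective, cU, cV]

variable {α : Type*} [MulAction G α]

theorem smul_fixed_of_normalizer {T : Subgroup G} {g : G}
    (hg : g ∈ Subgroup.normalizer (T : Set G)) {x : α} (hx : x ∈ fixedPoints T α) :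
    g • x ∈ fixedPoints T α := by
  intro t
  have hm : g⁻¹ * (t : G) * g ∈ T := (Subgroup.mem_normalizer_iff''.1 hg t).1 t.2
  have h : (g⁻¹ * (t : G) * g) • x = x := hx ⟨_, hm⟩
  show (t : G) • g • x = g • x
  rw [← mul_smul]
  conv_rhs => rw [← h, ← mul_smul]
  rw [← mul_assoc, ← mul_assoc, mul_inv_cancel, one_mul]

variable [Finite G] [Finite α] [FaithfulSMul G α]

theorem isMultiplyPretransitive_of_card_mod_four (h2 : IsMultiplyPretransitive G α 2)
    (hn : Nat.card α % 4 = 2) (M : Subgroup G) [hMn : M.Normal] [IsPretransitive M α] :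
    IsMultiplyPretransitive M α 2 := by
  classical
  haveI := Fact.mk Nat.prime_two
  rw [is_two_pretransitive_iff] at h2
  obtain ⟨a⟩ : Nonempty α := by
    by_contra h
    rw [not_nonempty_iff] at h
    rw [Nat.card_of_isEmpty] at hn
    omega
  -- point stabilisers in `M`
  let A : α → Subgroup G := fun x => M ⊓ stabilizer G x
  have hA : ∀ x, Nat.card α * Nat.card (A x) = Nat.card M := by
    intro x
    rw [← index_stabilizer_of_transitive M (x := x)]
    conv_rhs => rw [← Subgroup.index_mul_card (stabilizer M x)]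
    congr 1
    exact Nat.card_congr
      { toFun := fun m => ⟨⟨m.1, m.2.1⟩, m.2.2⟩
        invFun := fun m => ⟨m.1.1, m.1.2, m.2⟩
        left_inv := fun m => rfl
        right_inv := fun m => rfl }
  have hAeq : ∀ x, Nat.card (A x) = Nat.card (A a) := fun x =>
    Nat.eq_of_mul_eq_mul_left (by omega) ((hA x).trans (hA a).symm)
  set k := (Nat.card (A a)).factorization 2 with hk
  obtain ⟨T₀, hT₀⟩ := Sylow.exists_subgroup_card_pow_prime (G := A a) 2
    (n := k) (Nat.ordProj_dvd _ _)
  set T : Subgroup G := T₀.map (A a).subtype with hTdef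
  have hTA : T ≤ A a := Subgroup.map_subtype_le T₀
  have hTcard : Nat.card T = 2 ^ k := by
    rw [hTdef, Subgroup.card_map_of_injective (A a).subtype_injective, hT₀]
  have hmax : ∀ x, ∀ H : Subgroup G, H ≤ A x → ¬ 2 ^ (k + 1) ∣ Nat.card H := by
    intro x H hH hd
    have := hd.trans (Subgroup.card_dvd_of_le hH)
    rw [hAeq x] at this
    exact Nat.pow_succ_factorization_not_dvd Nat.card_pos.ne' Nat.prime_two this
  have hTp : IsPGroup 2 T := IsPGroup.of_card hTcard
  set N : Subgroup G := Subgroup.normalizer (T : Set G) with hN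
  set F : Set α := fixedPoints T α with hF
  have haF : a ∈ F := fun t => (hTA t.2).2
  have hFA : ∀ x ∈ F, T ≤ A x := fun x hx t ht => ⟨(hTA ht).1, hx ⟨t, ht⟩⟩
  have hconj : ∀ (g : G) (x : α), ∀ t ∈ A x, g * t * g⁻¹ ∈ A (g • x) := by
    intro g x t ht
    refine ⟨hMn.conj_mem t ht.1 g, ?_⟩
    show (g * t * g⁻¹) • g • x = g • x
    rw [mul_smul, inv_smul_smul, mul_smul, (show t • x = x from ht.2)]
  have hcardconj : ∀ g : G, Nat.card (T.map (MulAut.conj g).toMonoidHom) = 2 ^ k := fun g => by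
    rw [Subgroup.card_map_of_injective (MulAut.conj g).injective, hTcard]
  have hnorm : ∀ g h : G, (T.map (MulAut.conj g).toMonoidHom).map (MulAut.conj h).toMonoidHom = T →
      h * g ∈ N := by
    intro g h e
    rw [hN, Subgroup.mem_normalizer_iff]
    intro t
    constructor
    · intro ht
      rw [← e]
      exact ⟨g * t * g⁻¹, ⟨t, ht, rfl⟩, by simp [mul_assoc]⟩
    · intro ht
      rw [← e] at ht
      obtain ⟨_, ⟨s, hs, rfl⟩, hst⟩ := ht
      simp only [MulEquiv.coe_toMonoidHom, MulAut.conj_apply] at hst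
      have : s = t := by
        have h' : h * g * s * (h * g)⁻¹ = h * g * t * (h * g)⁻¹ := by
          rw [← hst]; group
        simpa using h'
      exact this ▸ hs
  -- the normalizer of `T` is transitive on `F`, also within `M`
  have htrans : ∀ x ∈ F, ∀ g : G, g • a = x → ∃ h ∈ A x, h * g ∈ N := by
    intro x hx g hg
    have hU : T.map (MulAut.conj g).toMonoidHom ≤ A x := by
      rintro _ ⟨t, ht, rfl⟩
      exact hg ▸ hconj g a t (hTA ht)
    obtain ⟨h, hh, e⟩ := exists_conj_eq (A x) _ T hU (hFA x hx) k (hcardconj g) hTcard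
      (hmax x _ le_rfl)
    exact ⟨h, hh, hnorm g h e⟩
  have htransM : ∀ x ∈ F, ∃ m ∈ M ⊓ N, m • a = x := by
    intro x hx
    obtain ⟨m, hm⟩ := exists_smul_eq M a x
    obtain ⟨h, hh, hhN⟩ := htrans x hx m hm
    refine ⟨h * m, ⟨M.mul_mem hh.1 m.2, hhN⟩, ?_⟩
    rw [mul_smul]
    exact (congrArg (fun y => h • y) hm).trans hh.2
  have htwo : ∀ b ∈ F, ∀ c ∈ F, a ≠ b → a ≠ c → ∃ g ∈ N, g • a = a ∧ g • b = c := by
    intro b hb c hc hab hac
    obtain ⟨g, hga, hgb⟩ := h2 hab hac
    have hU : T.map (MulAut.conj g).toMonoidHom ≤ A a ⊓ stabilizer G c := by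
      rintro _ ⟨t, ht, rfl⟩
      exact ⟨hga ▸ hconj g a t (hTA ht), hgb ▸ (hconj g b t (hFA b hb ht)).2⟩
    obtain ⟨h, hh, e⟩ := exists_conj_eq (A a ⊓ stabilizer G c) _ T hU
      (le_inf hTA fun t ht => (hFA c hc ht).2) k (hcardconj g) hTcard (hmax a _ inf_le_left)
    exact ⟨h * g, hnorm g h e, by rw [mul_smul, hga]; exact hh.1.2,
      by rw [mul_smul, hgb]; exact hh.2⟩
  -- `N` acts on `F`
  letI actN : MulAction N F :=
    { smul := fun g x => ⟨(g : G) • (x : α), smul_fixed_of_normalizer g.2 x.2⟩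
      one_smul := fun x => Subtype.ext (one_smul G (x : α))
      mul_smul := fun g h x => Subtype.ext (mul_smul (g : G) (h : G) (x : α)) }
  have hact : ∀ (g : N) (x : F), ((g • x : F) : α) = (g : G) • (x : α) := fun _ _ => rfl
  let φ : N →* Equiv.Perm F := MulAction.toPermHom N F
  let L : Subgroup N := M.subgroupOf N
  let R : Subgroup (Equiv.Perm F) := L.map φ
  haveI : Fintype F := Fintype.ofFinite F
  let K : Subgroup (Equiv.Perm F) := R ⊓ Equiv.Perm.sign.ker
  let Q : Subgroup (Equiv.Perm F) := φ.range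
  let a' : F := ⟨a, haF⟩
  have hRQ : R ≤ Q := by rintro _ ⟨g, -, rfl⟩; exact ⟨g, rfl⟩
  have hRtrans : ∀ x : F, ∃ r ∈ R, r a' = x := by
    intro x
    obtain ⟨m, ⟨hmM, hmN⟩, hm⟩ := htransM x x.2
    exact ⟨φ ⟨m, hmN⟩, ⟨_, hmM, rfl⟩, Subtype.ext hm⟩
  have hQ2 : ∀ x y : F, a' ≠ x → a' ≠ y → ∃ q ∈ Q, q a' = a' ∧ q x = y := by
    intro x y hx hy
    obtain ⟨g, hg, hga, hgx⟩ := htwo x x.2 y y.2 (fun e => hx (Subtype.ext e))
      (fun e => hy (Subtype.ext e))
    exact ⟨φ ⟨g, hg⟩, ⟨_, rfl⟩, Subtype.ext hga, Subtype.ext hgx⟩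
  have hFeven : 2 ∣ Nat.card F := by
    have h := hTp.card_modEq_card_fixedPoints α
    rw [Nat.ModEq] at h
    show 2 ∣ Nat.card (fixedPoints T α)
    omega
  haveI : IsPretransitive R F := ⟨fun x y => by
    obtain ⟨r, hr, rfl⟩ := hRtrans x
    obtain ⟨s, hs, rfl⟩ := hRtrans y
    exact ⟨⟨s, hs⟩ * ⟨r, hr⟩⁻¹, by
      show (s * r⁻¹) (r a') = s a'
      simp⟩⟩
  -- `R` has order twice an odd number
  have hR4 : ¬ 4 ∣ Nat.card R := by
    intro h4
    have hTle : T ≤ M ⊓ N := le_inf (hTA.trans inf_le_left) Subgroup.le_normalizer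
    set L' := φ.comp L.subtype with hL'
    have hrange : Nat.card R = Nat.card L'.range := by
      rw [hL', MonoidHom.range_comp, Subgroup.range_subtype]
    have hker : 2 ^ k ∣ Nat.card L'.ker := by
      rw [← hTcard]
      let f : T →* L'.ker :=
        { toFun := fun t => ⟨⟨⟨t, Subgroup.le_normalizer t.2⟩, (hTle t.2).1⟩, by
            rw [MonoidHom.mem_ker]
            refine Equiv.ext fun x => Subtype.ext ?_
            exact x.2 t⟩
          map_one' := rfl
          map_mul' := fun _ _ => rfl }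
      exact Subgroup.card_dvd_of_injective f fun s t e => Subtype.ext
        (congrArg (fun u : L'.ker => ((u.1.1 : N) : G)) e)
    have hLM : Nat.card L ∣ Nat.card M := by
      let f : L →* M :=
        { toFun := fun m => ⟨m.1.1, m.2⟩
          map_one' := rfl
          map_mul' := fun _ _ => rfl }
      exact Subgroup.card_dvd_of_injective f fun s t e => Subtype.ext (Subtype.ext
        (congrArg (fun u : M => (u : G)) e))
    have h : 2 ^ k * 4 ∣ Nat.card M := by
      refine (mul_dvd_mul hker h4).trans ?_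
      rw [hrange, ← Subgroup.index_ker, Subgroup.card_mul_index]
      exact hLM
    obtain ⟨q, hq⟩ := Nat.ordProj_dvd (Nat.card (A a)) 2
    rw [← hk] at hq
    have hq2 : ¬ 2 ∣ q := fun hd => by
      refine Nat.pow_succ_factorization_not_dvd (n := Nat.card (A a)) Nat.card_pos.ne' Nat.prime_two ?_
      rw [← hk, hq, pow_succ]
      exact mul_dvd_mul_left _ hd
    rw [← hA a, hq, ← mul_assoc, mul_comm (Nat.card α) (2 ^ k), mul_assoc] at h
    have h4' : 4 ∣ Nat.card α * q := Nat.dvd_of_mul_dvd_mul_left (by positivity) h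
    obtain ⟨j, hj⟩ : ∃ j, Nat.card α = 2 * (2 * j + 1) := ⟨Nat.card α / 4, by omega⟩
    rw [hj, mul_assoc, show (4 : ℕ) = 2 * 2 from rfl] at h4'
    rcases (Nat.Prime.dvd_mul Nat.prime_two).1 (Nat.dvd_of_mul_dvd_mul_left (by norm_num) h4') with h | h
    · omega
    · exact hq2 h
  -- an element of order two in `R` is an odd permutation of `F`
  obtain ⟨τ, hτ⟩ := exists_prime_orderOf_dvd_card' (G := R) 2 (by
    have := Subgroup.index_dvd_card (stabilizer R a')
    rw [index_stabilizer_of_transitive] at this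
    exact hFeven.trans this)
  have hstab : ¬ 2 ∣ Nat.card (stabilizer R a') := fun hd => hR4 (by
    rw [← Subgroup.index_mul_card (stabilizer R a'), index_stabilizer_of_transitive]
    exact mul_dvd_mul hFeven hd)
  have hF4 : ¬ 4 ∣ Nat.card F := fun hd => hR4 (hd.trans (by
    rw [← index_stabilizer_of_transitive R (x := a')]
    exact Subgroup.index_dvd_card _))
  have hτfree : ∀ x : F, (τ : Equiv.Perm F) x ≠ x := by
    intro x hx
    obtain ⟨⟨r, hr⟩, rfl⟩ := exists_smul_eq R a' x
    have hmem : ⟨r, hr⟩⁻¹ * τ * ⟨r, hr⟩ ∈ stabilizer R a' := by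
      rw [mem_stabilizer_iff, mul_smul, mul_smul, inv_smul_eq_iff]
      exact hx
    have h := Subgroup.orderOf_dvd_natCard _ hmem
    rw [show orderOf (⟨r, hr⟩⁻¹ * τ * ⟨r, hr⟩ : R) = 2 by
      rw [← hτ]
      have := orderOf_injective (MulAut.conj (⟨r, hr⟩⁻¹ : R)).toMonoidHom
        (MulAut.conj _).injective τ
      simpa [MulAut.conj_apply] using this] at h
    exact hstab h
  have hτsign : Equiv.Perm.sign (τ : Equiv.Perm F) = -1 := by
    have hinv : Function.Involutive (τ : Equiv.Perm F) := by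
      intro x
      have h1 : τ ^ 2 = 1 := by rw [← hτ, pow_orderOf_eq_one]
      have h2' : ((τ : Equiv.Perm F)) ^ 2 = 1 := by rw [← SubgroupClass.coe_pow, h1]; rfl
      have := congrArg (fun σ : Equiv.Perm F => σ x) h2'
      simpa [sq] using this
    have hsupp : (τ : Equiv.Perm F).support = Finset.univ := by
      ext x; simp [hτfree x]
    have hτ2 : (τ : Equiv.Perm F) ^ 2 = 1 := by
      ext x; simp [sq, hinv x]
    have hτ1 : (τ : Equiv.Perm F) ≠ 1 := fun e => hτfree a' (by rw [e]; rfl)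
    have hct : ∀ n ∈ (τ : Equiv.Perm F).cycleType, n = 2 := by
      intro n hn'
      have h1 : orderOf (τ : Equiv.Perm F) = 2 := orderOf_eq_prime hτ2 hτ1
      have h3 := Equiv.Perm.dvd_of_mem_cycleType hn'
      rw [h1] at h3
      have h4' := Equiv.Perm.two_le_of_mem_cycleType hn'
      have := Nat.le_of_dvd (by norm_num) h3
      omega
    have hrep : (τ : Equiv.Perm F).cycleType =
        Multiset.replicate (τ : Equiv.Perm F).cycleType.card 2 := Multiset.eq_replicate.2 ⟨rfl, hct⟩
    have hsum : 2 * (τ : Equiv.Perm F).cycleType.card = Nat.card F := by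
      have h := Equiv.Perm.sum_cycleType (τ : Equiv.Perm F)
      rw [hrep, Multiset.sum_replicate, hsupp, Finset.card_univ, ← Nat.card_eq_fintype_card,
        smul_eq_mul] at h
      omega
    rw [Equiv.Perm.sign_of_cycleType]
    rw [hrep, Multiset.sum_replicate, Multiset.card_replicate, smul_eq_mul]
    exact Odd.neg_one_pow (by rw [Nat.odd_iff]; omega)
  -- `K` is trivial
  have hKodd : ¬ 2 ∣ Nat.card K := by
    intro hd
    obtain ⟨κ, hκ⟩ := exists_prime_orderOf_dvd_card' (G := K) 2 hd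
    apply hR4
    -- `K` has index at least two in `R`
    have hKR : K ≤ R := inf_le_left
    have hne : K.relIndex R ≠ 1 := fun h1 => by
      have hmem := (Subgroup.relIndex_eq_one.1 h1) τ.2
      have : Equiv.Perm.sign (τ : Equiv.Perm F) = 1 := hmem.2
      rw [hτsign] at this
      exact absurd this (by decide)
    have hdvd : K.relIndex R ∣ 2 := by
      have h1 : K.relIndex R = Equiv.Perm.sign.ker.relIndex R := Subgroup.inf_relIndex_left _ _
      rw [h1]
      refine (Subgroup.relIndex_dvd_index_of_normal _ R).trans ?_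
      rw [Subgroup.index_ker]
      refine (Subgroup.card_subgroup_dvd_card _).trans ?_
      simp
    have h2K : K.relIndex R = 2 := ((Nat.dvd_prime Nat.prime_two).1 hdvd).resolve_left hne
    rw [← (K.subgroupOf R).index_mul_card,
      Nat.card_congr (Subgroup.subgroupOfEquivOfLe hKR).toEquiv,
      show (K.subgroupOf R).index = 2 from h2K]
    exact mul_dvd_mul_left 2 hd
  have hKQ : ∀ q ∈ Q, ∀ κ ∈ K, q * κ * q⁻¹ ∈ K := by
    rintro _ ⟨g, rfl⟩ κ ⟨⟨m, hm, rfl⟩, hs⟩
    refine ⟨⟨g * m * g⁻¹, hMn.conj_mem _ hm g, by simp⟩, ?_⟩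
    show Equiv.Perm.sign _ = 1
    rw [map_mul, map_mul, map_inv]
    rw [(show Equiv.Perm.sign (φ m) = 1 from hs)]
    simp
  have hKbot : ∀ κ ∈ K, κ a' = a' := by
    intro κ hκ
    by_contra hmove
    have hall : ∀ x : F, ∃ κ' ∈ K, κ' a' = x := by
      intro x
      by_cases hx : x = a'
      · exact ⟨1, K.one_mem, by rw [hx]; rfl⟩
      · obtain ⟨q, hq, hqa, hqx⟩ := hQ2 (κ a') x (fun e => hmove e.symm) (fun e => hx e.symm)
        refine ⟨q * κ * q⁻¹, hKQ q hq κ hκ, ?_⟩
        have : q⁻¹ a' = a' := by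
          conv_lhs => rw [← hqa]
          simp
        rw [Equiv.Perm.mul_apply, Equiv.Perm.mul_apply, this, hqx]
    haveI : IsPretransitive K F := ⟨fun x y => by
      obtain ⟨r, hr, rfl⟩ := hall x
      obtain ⟨s, hs, rfl⟩ := hall y
      exact ⟨⟨s, hs⟩ * ⟨r, hr⟩⁻¹, by
        show (s * r⁻¹) (r a') = s a'
        simp⟩⟩
    exact hKodd (hFeven.trans (by
      rw [← index_stabilizer_of_transitive K (x := a')]
      exact Subgroup.index_dvd_card _))
  -- so `F` has exactly two points
  have hcases : ∀ x : F, x = a' ∨ x = (τ : Equiv.Perm F) a' := by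
    intro x
    obtain ⟨r, hr, rfl⟩ := hRtrans x
    rcases Int.units_eq_one_or (Equiv.Perm.sign r) with h | h
    · exact Or.inl (hKbot r ⟨hr, h⟩)
    · refine Or.inr ?_
      have hk' : (τ : Equiv.Perm F)⁻¹ * r ∈ K := ⟨R.mul_mem (R.inv_mem τ.2) hr, by
        show Equiv.Perm.sign _ = 1
        rw [map_mul, map_inv, hτsign, h]
        simp⟩
      have := hKbot _ hk'
      rw [Equiv.Perm.mul_apply, Equiv.Perm.inv_eq_iff_eq] at this
      exact this
  set b : α := (((τ : Equiv.Perm F) a' : F) : α) with hb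
  -- every orbit of `A a` on the other points has odd size, hence contains `b`
  have hab : ∀ x : α, x ≠ a → ∃ m : M, m • a = a ∧ m • b = x := by
    intro x hx
    haveI : IsPretransitive (stabilizer G a) {y : α // y ∈ SubMulAction.ofStabilizer G a} := ⟨fun y z => by
      obtain ⟨g, hga, hgy⟩ := h2 (Ne.symm y.2) (Ne.symm z.2)
      exact ⟨⟨g, hga⟩, Subtype.ext hgy⟩⟩
    let H : Subgroup (stabilizer G a) := M.subgroupOf (stabilizer G a)
    let x' : {y : α // y ∈ SubMulAction.ofStabilizer G a} := ⟨x, hx⟩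
    set Δ := orbit H x' with hΔ
    have hdvd : Δ.ncard ∣ Nat.card {y : α // y ∈ SubMulAction.ofStabilizer G a} :=
      (IsBlock.orbit_of_normal x').ncard_dvd_card (nonempty_orbit x')
    have hsub : Nat.card {y : α // y ∈ SubMulAction.ofStabilizer G a} = Nat.card α - 1 := by
      have e : {y : α // y ∈ SubMulAction.ofStabilizer G a} ≃ ({a}ᶜ : Set α) :=
        Equiv.subtypeEquivRight fun y => Iff.rfl
      rw [Nat.card_congr e, Nat.card_coe_set_eq, Set.ncard_compl, Set.ncard_singleton]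
    have hodd : ¬ 2 ∣ Nat.card Δ := fun h => by
      rw [Nat.card_coe_set_eq] at h
      have := h.trans hdvd
      rw [hsub] at this
      omega
    let ι : T →* H :=
      { toFun := fun t => ⟨⟨t, (hTA t.2).2⟩, (hTA t.2).1⟩
        map_one' := rfl
        map_mul' := fun _ _ => rfl }
    letI : MulAction T Δ := MulAction.compHom _ ι
    obtain ⟨y, hy⟩ := hTp.nonempty_fixed_point_of_prime_not_dvd_card Δ hodd
    have hyF : ((y : {y : α // y ∈ SubMulAction.ofStabilizer G a}) : α) ∈ F := fun t => by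
      have := congrArg (fun z : Δ => ((z : {y : α // y ∈ SubMulAction.ofStabilizer G a}) : α)) (hy t)
      exact this
    have hyb : ((y : {y : α // y ∈ SubMulAction.ofStabilizer G a}) : α) = b := by
      rcases hcases ⟨_, hyF⟩ with h | h
      · exact absurd (congrArg Subtype.val h) y.1.2
      · exact congrArg Subtype.val h
    obtain ⟨h, hh⟩ := y.2
    refine ⟨⟨((h⁻¹ : H) : stabilizer G a), (h⁻¹ : H).2⟩, ((h⁻¹ : H) : stabilizer G a).2, ?_⟩
    have e : h⁻¹ • (y : {y : α // y ∈ SubMulAction.ofStabilizer G a}) = x' := by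
      rw [inv_smul_eq_iff]; exact hh.symm
    have e' := congrArg Subtype.val e
    rw [← hyb]
    exact e'
  rw [is_two_pretransitive_iff]
  intro u v p q huv hpq
  obtain ⟨m₁, hm₁⟩ := exists_smul_eq M u a
  obtain ⟨m₂, hm₂⟩ := exists_smul_eq M p a
  obtain ⟨s₁, hs₁a, hs₁⟩ := hab (m₁ • v) (fun e => huv (MulAction.injective m₁ (hm₁.trans e.symm)))
  obtain ⟨s₂, hs₂a, hs₂⟩ := hab (m₂ • q) (fun e => hpq (MulAction.injective m₂ (hm₂.trans e.symm)))
  refine ⟨m₂⁻¹ * (s₂ * (s₁⁻¹ * m₁)), ?_, ?_⟩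
  · rw [mul_smul, mul_smul, mul_smul, hm₁, inv_smul_eq_iff, ← hm₂.trans rfl]
    rw [hm₂, show s₁⁻¹ • a = a by rw [inv_smul_eq_iff, hs₁a], hs₂a]
  · rw [mul_smul, mul_smul, mul_smul, ← hs₁, inv_smul_smul, hs₂, inv_smul_smul]

end CfsgLib.Perm.TwoModFour
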