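import Cfsg.Agent.Lib.Perm.UnipotentPairsCriterion
import Cfsg.Agent.Lib.Perm.SubfieldGen
import Mathlib.RingTheory.Binomial

/-!
# Powers of the upper regular unipotent matrix; generators of finite fields
-/

set_option autoImplicit false

namespace CfsgLib.Perm.UnipotentPairsBasic

open Matrix Cfsg.Agent.S2280 UnipotentPairsCriterion

variable {F : Type*} [Field F] {n : ℕ}

/-- The upper regular unipotent element. -/
def uu (n : ℕ) (F : Type*) [Field F] : Matrix.SpecialLinearGroup (Fin n) F :=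
  ⟨upperU n F, upperU_det⟩

theorem mat_one : mat (uu n F) 1 = upperU n F := by rw [mat, _root_.zpow_one]; rfl

theorem uu_apply (x : Fin n → F) (i : Fin n) :
    (upperU n F *ᵥ x) i = x i + if h : i.val + 1 < n then x ⟨i.val + 1, h⟩ else 0 := by
  rw [Matrix.mulVec, dotProduct]
  by_cases h : i.val + 1 < n
  · rw [dif_pos h, Finset.sum_eq_add i ⟨i.val + 1, h⟩]
    · simp [upperU, Fin.ext_iff]
    · simp [Fin.ext_iff]
    · intro j _ hj
      have h1 : i ≠ j := hj.1.symm
      have h2 : ¬ i.val + 1 = j.val := fun e => hj.2 (Fin.ext e.symm)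
      simp [upperU, h1, h2]
    · simp
    · simp
  · rw [dif_neg h, add_zero, Finset.sum_eq_single i]
    · simp [upperU]
    · intro j _ hj
      have h2 : ¬ i.val + 1 = j.val := by have := j.isLt; omega
      simp [upperU, hj.symm, h2]
    · simp

/-- The orbit of the last basis vector. -/
def binVec (n : ℕ) (F : Type*) [Field F] (k : ℤ) : Fin n → F :=
  fun i => ((Ring.choose k (n - 1 - i.val) : ℤ) : F)

theorem uu_binVec (k : ℤ) : upperU n F *ᵥ binVec n F k = binVec n F (k + 1) := by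
  funext i
  rw [uu_apply]
  by_cases h : i.val + 1 < n
  · rw [dif_pos h]
    simp only [binVec]
    rw [show n - 1 - i.val = (n - 1 - (i.val + 1)) + 1 by omega, Ring.choose_succ_succ]
    push_cast
    ring
  · rw [dif_neg h]
    simp only [binVec]
    rw [show n - 1 - i.val = 0 by have := i.isLt; omega]
    simp

theorem binVec_zero : binVec n F 0 = ev F n (n - 1) := by
  funext i
  simp only [binVec, ev]
  by_cases h : i.val = n - 1
  · rw [if_pos h, h]; simp
  · rw [if_neg h, Ring.choose_zero_ite, if_neg (by have := i.isLt; omega)]; simp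

theorem binVec_last (hn : 0 < n) (k : ℤ) : binVec n F k ⟨n - 1, by omega⟩ = 1 := by
  simp [binVec]

theorem pt_binVec (k m : ℤ) : pt (uu n F) (binVec n F m) k = binVec n F (k + m) := by
  induction k using Int.induction_on generalizing m with
  | zero => rw [pt, mat_zero, Matrix.one_mulVec, zero_add]
  | succ k ih =>
    rw [pt, mat_add, ← Matrix.mulVec_mulVec, mat_one, uu_binVec, ← pt, ih]
    congr 1; ring
  | pred k ih =>
    have h1 := ih (m - 1)
    rw [show m = m - 1 + 1 by ring, ← uu_binVec, ← mat_one, pt, Matrix.mulVec_mulVec, ← mat_add,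
      show -(k : ℤ) - 1 + 1 = -(k : ℤ) by ring]
    rw [pt] at h1
    rw [h1]
    congr 1; ring

theorem mat_mulVec_first (hn : 0 < n) (k : ℤ) :
    mat (uu n F) k *ᵥ ev F n 0 = ev F n 0 := by
  have h1 : upperU n F *ᵥ ev F n 0 = ev F n 0 := by
    funext i
    rw [uu_apply]
    split_ifs with h
    · simp [ev]
    · simp
  induction k using Int.induction_on with
  | zero => rw [mat_zero, Matrix.one_mulVec]
  | succ k ih => rw [mat_add, ← Matrix.mulVec_mulVec, mat_one, h1, ih]
  | pred k ih =>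
    conv_lhs => rw [← h1, ← mat_one, Matrix.mulVec_mulVec, ← mat_add,
      show -(k : ℤ) - 1 + 1 = -(k : ℤ) by ring]
    exact ih

theorem ax_first (hn : 0 < n) (χ : Fin n → F) (k : ℤ) :
    ax (uu n F) χ k ⟨0, hn⟩ = χ ⟨0, hn⟩ := by
  rw [ax, ← dot_ev (χ ᵥ* _) hn, ← Matrix.dotProduct_mulVec, mat_mulVec_first hn, dot_ev]

/-- Iterated differences. -/
theorem nil_dot {φ x : Fin n → F}
    (h : ∀ l : ℕ, l < n → φ ⬝ᵥ (mat (uu n F) l *ᵥ x) = 0) :
    ∀ i : ℕ, i < n → φ ⬝ᵥ ((upperU n F - 1) ^ i *ᵥ x) = 0 := by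
  have key : ∀ i l : ℕ, l + i < n → φ ⬝ᵥ ((upperU n F - 1) ^ i *ᵥ (mat (uu n F) l *ᵥ x)) = 0 := by
    intro i
    induction i with
    | zero => intro l hl; rw [pow_zero, Matrix.one_mulVec]; exact h l (by omega)
    | succ i ih =>
      intro l hl
      have h1 := ih (l + 1) (by omega)
      rw [show ((l + 1 : ℕ) : ℤ) = 1 + (l : ℤ) by push_cast; ring, mat_add, mat_one,
        ← Matrix.mulVec_mulVec] at h1
      rw [pow_succ, ← Matrix.mulVec_mulVec, Matrix.sub_mulVec, Matrix.one_mulVec,
        Matrix.mulVec_sub, dotProduct_sub, h1, ih l (by omega), sub_zero]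
  intro i hi
  have := key i 0 (by omega)
  rwa [Nat.cast_zero, mat_zero, Matrix.one_mulVec] at this

theorem nil_apply (x : Fin n → F) (i : ℕ) (r : Fin n) :
    ((upperU n F - 1) ^ i *ᵥ x) r = if h : r.val + i < n then x ⟨r.val + i, h⟩ else 0 := by
  rw [Matrix.mulVec, dotProduct]
  simp only [upperU_pow, ite_mul, one_mul, zero_mul]
  split_ifs with h
  · rw [Finset.sum_eq_single ⟨r.val + i, h⟩]
    · simp
    · intro j _ hj; rw [if_neg (fun e => hj (Fin.ext e.symm))]
    · simp
  · refine Finset.sum_eq_zero fun j _ => ?_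
    rw [if_neg]; have := j.isLt; omega

theorem span_pt (hn : 0 < n) {s : Fin n → F} (hs : s ⟨n - 1, by omega⟩ ≠ 0) :
    ∀ φ : Fin n → F, (∀ k : ℕ, k < n → φ ⬝ᵥ pt (uu n F) s k = 0) → φ = 0 := by
  intro φ h
  by_contra hne
  obtain ⟨j, hj, hmin⟩ : ∃ j, φ j ≠ 0 ∧ ∀ r : Fin n, r.val < j.val → φ r = 0 := by
    classical
    have hS : (Finset.univ.filter fun j => φ j ≠ 0).Nonempty := by
      by_contra hS
      refine hne (funext fun j => ?_)
      by_contra hj
      exact hS ⟨j, by simpa using hj⟩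
    refine ⟨Finset.min' _ hS, (Finset.mem_filter.1 (Finset.min'_mem _ hS)).2, fun r hr => ?_⟩
    by_contra hr0
    exact absurd (Finset.min'_le _ r (by simpa using hr0)) (not_le.2 hr)
  have h1 := nil_dot h (n - 1 - j.val) (by omega)
  rw [dotProduct, Finset.sum_eq_single j] at h1
  · rw [nil_apply, dif_pos (by omega)] at h1
    refine (mul_eq_zero.1 h1).elim hj fun h2 => hs ?_
    rw [← h2]; congr 1; apply Fin.ext; simp only; omega
  · intro r _ hr
    rcases lt_or_gt_of_ne (fun e => hr (Fin.ext e) : r.val ≠ j.val) with hlt | hgt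
    · rw [hmin r hlt, zero_mul]
    · rw [nil_apply, dif_neg (by omega), mul_zero]
  · simp

theorem span_ax (hn : 0 < n) {χ : Fin n → F} (hχ : χ ⟨0, hn⟩ ≠ 0) :
    ∀ x, (∀ k : ℕ, k < n → ax (uu n F) χ k ⬝ᵥ x = 0) → x = 0 := by
  intro x h
  set y := mat (uu n F) (-((n - 1 : ℕ) : ℤ)) *ᵥ x with hy
  have hl : ∀ l : ℕ, l < n → χ ⬝ᵥ (mat (uu n F) l *ᵥ y) = 0 := by
    intro l hl
    have := h (n - 1 - l) (by omega)
    rw [ax, ← Matrix.dotProduct_mulVec] at this
    rw [hy, Matrix.mulVec_mulVec, ← mat_add]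
    rwa [show (l : ℤ) + -((n - 1 : ℕ) : ℤ) = -((n - 1 - l : ℕ) : ℤ) by omega]
  have hy0 : y = 0 := by
    by_contra hne
    obtain ⟨j, hj, hmax⟩ : ∃ j, y j ≠ 0 ∧ ∀ r : Fin n, j.val < r.val → y r = 0 := by
      classical
      have hS : (Finset.univ.filter fun j => y j ≠ 0).Nonempty := by
        by_contra hS
        refine hne (funext fun j => ?_)
        by_contra hj
        exact hS ⟨j, by simpa using hj⟩
      refine ⟨Finset.max' _ hS, (Finset.mem_filter.1 (Finset.max'_mem _ hS)).2, fun r hr => ?_⟩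
      by_contra hr0
      exact absurd (Finset.le_max' _ r (by simpa using hr0)) (not_le.2 hr)
    have h1 := nil_dot hl j.val j.isLt
    rw [dotProduct, Finset.sum_eq_single ⟨0, hn⟩] at h1
    · rw [nil_apply, dif_pos (by simp)] at h1
      refine (mul_eq_zero.1 h1).elim hχ fun h2 => hj ?_
      rw [← h2]; congr 1; apply Fin.ext; simp
    · intro r _ hr
      have : r.val ≠ 0 := fun e => hr (Fin.ext e)
      rw [nil_apply]
      split_ifs with hlt
      · rw [hmax _ (by simp only; omega), mul_zero]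
      · rw [mul_zero]
    · simp
  have := congrArg (fun z => mat (uu n F) ((n - 1 : ℕ) : ℤ) *ᵥ z) hy0
  simp only [hy, Matrix.mulVec_mulVec, ← mat_add, add_neg_cancel, mat_zero, Matrix.one_mulVec,
    Matrix.mulVec_zero] at this
  exact this

theorem exists_sq_gen [Fintype F] : ∃ g : F, g ≠ 0 ∧ Subfield.closure ({g * g} : Set F) = ⊤ ∧
    (4 ≤ Fintype.card F → g * g ≠ 1) := by
  classical
  obtain ⟨p, hchar⟩ := CharP.exists F
  haveI := hchar
  obtain ⟨f, hpp, hf⟩ := FiniteField.card F p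
  haveI : Fact p.Prime := ⟨hpp⟩
  obtain ⟨g, hg⟩ := IsCyclic.exists_generator (α := Fˣ)
  have hord : orderOf g = Fintype.card F - 1 := by
    rw [orderOf_eq_card_of_forall_mem_zpowers hg, Nat.card_eq_fintype_card, Fintype.card_units]
  refine ⟨g, g.ne_zero, SubfieldGen.closure_eq_top hf fun d hd h e => ?_, fun h4 e => ?_⟩
  · set P := p ^ d with hP
    have hP2 : 2 ≤ P := le_trans hpp.two_le (Nat.le_self_pow hd.ne' p)
    have hq : P * P ≤ Fintype.card F := by
      rw [hf, hP, ← pow_add]; exact Nat.pow_le_pow_right hpp.pos (by omega)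
    have h1 : g ^ (2 * (P - 1)) = 1 := by
      have e2 : (g * g) ^ P = g * g := Units.ext (by simpa using e)
      have e3 : (g * g) ^ (P - 1) * (g * g) = 1 * (g * g) := by
        rw [← pow_succ, show P - 1 + 1 = P by omega, e2, one_mul]
      rw [pow_mul, pow_two, mul_right_cancel e3]
    have h2 := Nat.le_of_dvd (by omega) (orderOf_dvd_of_pow_eq_one h1)
    rw [hord] at h2
    have h3 : 2 * P ≤ P * P := Nat.mul_le_mul_right P hP2
    omega
  · have h1 : g ^ 2 = 1 := by rw [pow_two]; exact Units.ext (by simpa using e)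
    have h2 := Nat.le_of_dvd (by omega) (orderOf_dvd_of_pow_eq_one h1)
    omega

end CfsgLib.Perm.UnipotentPairsBasic
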