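import Cfsg.Agent.S2280
import Mathlib.LinearAlgebra.FiniteDimensional.Lemmas
import Mathlib.FieldTheory.Finite.Basic
import Mathlib.Tactic

/-!
# A criterion for `SL n` to be generated by a transvection and one more element

If `u ∈ H`, `1 + c • s ⊗ χ ∈ H`, the `u`-orbits of `s` and of `χ` span, `χ (u s) = 0 ≠ χ (u⁻¹ s)` and
enough scalars are generated, then `H` is everything.
-/

set_option autoImplicit false

namespace CfsgLib.Perm.UnipotentPairsCriterion

open Matrix Cfsg.Agent.S2280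

variable {F : Type*} [Field F] {n : ℕ} {H : Subgroup (Matrix.SpecialLinearGroup (Fin n) F)}

/-- The axes of the full transvection groups of a given centre. -/
def axes (H : Subgroup (Matrix.SpecialLinearGroup (Fin n) F)) (b : Fin n → F) :
    Submodule F (Fin n → F) where
  carrier := {φ | Full H b φ}
  zero_mem' := ⟨zero_dotProduct b, fun t => ⟨1, one_mem _, by simp⟩⟩
  add_mem' := fun {_ _} h h' => Full.add' h h'
  smul_mem' := fun r {_} h => Full.smul' r h

theorem mem_axes {b φ : Fin n → F} : φ ∈ axes H b ↔ Full H b φ := Iff.rfl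

theorem coe_mul_inv (g : Matrix.SpecialLinearGroup (Fin n) F) :
    ((g⁻¹ : Matrix.SpecialLinearGroup (Fin n) F) : Matrix (Fin n) (Fin n) F) *
      (g : Matrix (Fin n) (Fin n) F) = 1 := by
  rw [← Matrix.SpecialLinearGroup.coe_mul, inv_mul_cancel, Matrix.SpecialLinearGroup.coe_one]

theorem full_conj {g : Matrix.SpecialLinearGroup (Fin n) F} (hg : g ∈ H) {b φ : Fin n → F}
    (h : Full H b φ) :
    Full H ((g : Matrix (Fin n) (Fin n) F) *ᵥ b)
      (φ ᵥ* ((g⁻¹ : Matrix.SpecialLinearGroup (Fin n) F) : Matrix (Fin n) (Fin n) F)) :=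
  h.conj ⟨g, hg, rfl⟩ (coe_mul_inv g)

theorem finrank_axes_le {g : Matrix.SpecialLinearGroup (Fin n) F} (hg : g ∈ H) (b : Fin n → F) :
    Module.finrank F (axes H b) ≤
      Module.finrank F (axes H ((g : Matrix (Fin n) (Fin n) F) *ᵥ b)) := by
  set M := ((g⁻¹ : Matrix.SpecialLinearGroup (Fin n) F) : Matrix (Fin n) (Fin n) F) with hM
  let f : axes H b →ₗ[F] axes H ((g : Matrix (Fin n) (Fin n) F) *ᵥ b) :=
    LinearMap.codRestrict _ ((Matrix.vecMulLinear M).comp (axes H b).subtype)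
      fun φ => full_conj hg φ.2
  refine LinearMap.finrank_le_finrank_of_injective (f := f) fun φ ψ h => Subtype.ext ?_
  have h1 : (φ : Fin n → F) ᵥ* M = (ψ : Fin n → F) ᵥ* M := congrArg Subtype.val h
  have h2 := congrArg (fun x => x ᵥ* (g : Matrix (Fin n) (Fin n) F)) h1
  simpa only [Matrix.vecMul_vecMul, hM, coe_mul_inv, Matrix.vecMul_one] using h2

/-- Vectors in the orbit of `a₀`. -/
def InOrbit (H : Subgroup (Matrix.SpecialLinearGroup (Fin n) F)) (a₀ b : Fin n → F) : Prop :=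
  ∃ g ∈ H, b = ((g : Matrix.SpecialLinearGroup (Fin n) F) : Matrix (Fin n) (Fin n) F) *ᵥ a₀

theorem InOrbit.finrank_eq {a₀ b : Fin n → F} (h : InOrbit H a₀ b) :
    Module.finrank F (axes H b) = Module.finrank F (axes H a₀) := by
  obtain ⟨g, hg, rfl⟩ := h
  refine le_antisymm ?_ (finrank_axes_le hg a₀)
  have := finrank_axes_le (inv_mem hg) ((g : Matrix (Fin n) (Fin n) F) *ᵥ a₀)
  rwa [Matrix.mulVec_mulVec, coe_mul_inv, Matrix.one_mulVec] at this

theorem InOrbit.conj {a₀ b : Fin n → F} (h : InOrbit H a₀ b) {M : Matrix (Fin n) (Fin n) F}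
    (hM : InH H M) : InOrbit H a₀ (M *ᵥ b) := by
  obtain ⟨g, hg, rfl⟩ := h
  obtain ⟨k, hk, rfl⟩ := hM
  exact ⟨k * g, mul_mem hk hg, by rw [Matrix.SpecialLinearGroup.coe_mul, Matrix.mulVec_mulVec]⟩

theorem InOrbit.symm_kill {a₀ x y : Fin n → F} (hx : InOrbit H a₀ x) (hy : InOrbit H a₀ y)
    (h : ∀ ψ ∈ axes H x, ψ ⬝ᵥ y = 0) : ∀ φ ∈ axes H y, φ ⬝ᵥ x = 0 := by
  intro φ hφ
  by_contra hne
  have hle : axes H x ≤ axes H y := fun ψ hψ => Full.comm (h ψ hψ) hne hψ hφ
  have heq := Submodule.eq_of_le_of_finrank_eq hle (hx.finrank_eq.trans hy.finrank_eq.symm)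
  exact hne (heq ▸ hφ : φ ∈ axes H x).1

theorem axes_le_sup {a₀ a b e χ φ : Fin n → F} (hb : InOrbit H a₀ b) (he : InOrbit H a₀ e)
    (hχa : χ ∈ axes H a) (hχb : χ ∈ axes H b) (hφ : φ ∈ axes H a) (hφb : φ ⬝ᵥ b ≠ 0)
    (hχe : χ ⬝ᵥ e ≠ 0) : axes H e ≤ axes H a ⊔ axes H b := by
  intro ω hω
  have key : ∀ ω ∈ axes H e, (ω ⬝ᵥ a = 0 → ω ∈ axes H a) ∧ (ω ⬝ᵥ b = 0 → ω ∈ axes H b) :=
    fun ω hω => ⟨fun h => Full.comm h hχe hω hχa, fun h => Full.comm h hχe hω hχb⟩
  by_cases h0 : ω ⬝ᵥ a = 0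
  · exact Submodule.mem_sup_left ((key ω hω).1 h0)
  by_cases h1 : ∀ ω' ∈ axes H e, ω' ⬝ᵥ b = ω ⬝ᵥ b / ω ⬝ᵥ a * (ω' ⬝ᵥ a)
  · -- a translate of `b` is killed by all axes of `e`
    exfalso
    set μ := ω ⬝ᵥ b / ω ⬝ᵥ a
    have hM : InH H (1 + (-(μ / φ ⬝ᵥ b)) • Matrix.vecMulVec a φ) := hφ.2 _
    have hb' := hb.conj hM
    have e1 : (1 + (-(μ / φ ⬝ᵥ b)) • Matrix.vecMulVec a φ) *ᵥ b = b - μ • a := by
      rw [Matrix.add_mulVec, Matrix.one_mulVec, Matrix.smul_mulVec, Matrix.vecMulVec_mulVec,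
        op_smul_eq_smul, smul_smul, neg_mul, div_mul_cancel₀ _ hφb, neg_smul, ← sub_eq_add_neg]
    have e2 : (1 + (μ / φ ⬝ᵥ b) • Matrix.vecMulVec a φ) *
        (1 + (-(μ / φ ⬝ᵥ b)) • Matrix.vecMulVec a φ) = 1 := by
      simp [Matrix.mul_add, Matrix.add_mul, vmv_mul, hφ.1, Matrix.mul_smul, Matrix.smul_mul]
    have hχ' : χ ∈ axes H (b - μ • a) := by
      have := Full.conj hχb hM e2
      rw [e1] at this
      simpa [Matrix.vecMul_add, Matrix.vecMul_smul, Matrix.vecMul_vecMulVec, hχa.1, mem_axes]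
        using this
    rw [e1] at hb'
    refine hχe (InOrbit.symm_kill he hb' (fun ψ hψ => ?_) χ hχ')
    rw [dotProduct_sub, dotProduct_smul, h1 ψ hψ, smul_eq_mul, sub_self]
  · push Not at h1
    obtain ⟨ω', hω', hne⟩ := h1
    -- two independent functionals split every axis
    set x := ω' - (ω' ⬝ᵥ a / ω ⬝ᵥ a) • ω with hx
    have hxe : x ∈ axes H e := sub_mem hω' (Submodule.smul_mem _ _ hω)
    have hxa : x ⬝ᵥ a = 0 := by
      rw [hx, sub_dotProduct, smul_dotProduct, smul_eq_mul, div_mul_cancel₀ _ h0, sub_self]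
    have hxb : x ⬝ᵥ b ≠ 0 := by
      intro h
      apply hne
      rw [hx, sub_dotProduct, smul_dotProduct, smul_eq_mul, sub_eq_zero] at h
      rw [h]; ring
    have hy : ω - (ω ⬝ᵥ b / x ⬝ᵥ b) • x ∈ axes H b := by
      refine (key _ (sub_mem hω (Submodule.smul_mem _ _ hxe))).2 ?_
      rw [sub_dotProduct, smul_dotProduct, smul_eq_mul, div_mul_cancel₀ _ hxb, sub_self]
    rw [show ω = (ω ⬝ᵥ b / x ⬝ᵥ b) • x + (ω - (ω ⬝ᵥ b / x ⬝ᵥ b) • x) by abel]
    exact Submodule.add_mem_sup (Submodule.smul_mem _ _ ((key x hxe).1 hxa)) hy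

theorem exists_dual {W : Submodule F (Fin n → F)} {φ : Fin n → F} (hφ : φ ∉ W) :
    ∃ x, φ ⬝ᵥ x ≠ 0 ∧ ∀ ψ ∈ W, ψ ⬝ᵥ x = 0 := by
  obtain ⟨f, hf, hW⟩ := Submodule.exists_dual_map_eq_bot_of_notMem hφ inferInstance
  refine ⟨(dotProductEquiv F (Fin n)).symm f, ?_, fun ψ hψ => ?_⟩
  · rw [dotProduct_comm]
    rw [← dotProductEquiv_apply_apply, LinearEquiv.apply_symm_apply]
    exact hf
  · rw [dotProduct_comm, ← dotProductEquiv_apply_apply, LinearEquiv.apply_symm_apply]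
    exact (Submodule.mem_bot F).1 (hW ▸ Submodule.mem_map_of_mem hψ)

section Main

variable (u : Matrix.SpecialLinearGroup (Fin n) F) (s χ : Fin n → F)

/-- The matrix of a power. -/
def mat (k : ℤ) : Matrix (Fin n) (Fin n) F :=
  ((u ^ k : Matrix.SpecialLinearGroup (Fin n) F) : Matrix (Fin n) (Fin n) F)

theorem mat_add (i j : ℤ) : mat u (i + j) = mat u i * mat u j := by
  rw [mat, _root_.zpow_add, Matrix.SpecialLinearGroup.coe_mul]; rfl

theorem mat_zero : mat u 0 = 1 := by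
  rw [mat, _root_.zpow_zero, Matrix.SpecialLinearGroup.coe_one]

/-- The orbit of `s`. -/
def pt (k : ℤ) : Fin n → F := mat u k *ᵥ s

/-- The orbit of `χ`. -/
def ax (k : ℤ) : Fin n → F := χ ᵥ* mat u (-k)

/-- The pairing. -/
def pairing (k : ℤ) : F := χ ⬝ᵥ pt u s k

theorem ax_dot_pt (i j : ℤ) : ax u χ i ⬝ᵥ pt u s j = pairing u s χ (j - i) := by
  rw [ax, pairing, pt, pt, ← Matrix.dotProduct_mulVec, Matrix.mulVec_mulVec, ← mat_add,
    show -i + j = j - i by ring]

theorem mulVec_pt (k i : ℤ) : mat u k *ᵥ pt u s i = pt u s (k + i) := by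
  rw [pt, pt, Matrix.mulVec_mulVec, ← mat_add]

theorem vecMul_ax (k i : ℤ) : ax u χ i ᵥ* mat u (-k) = ax u χ (k + i) := by
  rw [ax, ax, Matrix.vecMul_vecMul, ← mat_add, show -i + -k = -(k + i) by ring]

variable {u} {s χ}

theorem inH_mat (hu : u ∈ H) (k : ℤ) : InH H (mat u k) := ⟨u ^ k, zpow_mem hu k, rfl⟩

theorem mat_inv (k : ℤ) : mat u (-k) * mat u k = 1 := by
  rw [← mat_add, neg_add_cancel, mat_zero]

theorem one1_shift (hu : u ∈ H) {t : F} {i j : ℤ} (h : One1 H t (pt u s i) (ax u χ j)) (k : ℤ) :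
    One1 H t (pt u s (k + i)) (ax u χ (k + j)) := by
  have := h.conj (inH_mat hu k) (mat_inv k)
  rwa [mulVec_pt, vecMul_ax] at this

theorem full_shift (hu : u ∈ H) {i j : ℤ} (h : Full H (pt u s i) (ax u χ j)) (k : ℤ) :
    Full H (pt u s (k + i)) (ax u χ (k + j)) := by
  have := h.conj (inH_mat hu k) (mat_inv k)
  rwa [mulVec_pt, vecMul_ax] at this

/-- The scalars produced by the cycles. -/
def gens (u : Matrix.SpecialLinearGroup (Fin n) F) (s χ : Fin n → F) (c : F) (r : ℕ) : Set F :=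
  {z | ∃ N : ℕ, N ≤ 2 * r ∧
    z = -pairing u s χ N * c * (-(pairing u s χ (-1)) * c) ^ N}

theorem full_of_one1 [Finite F] (hu : u ∈ H) {c : F} (hc0 : c ≠ 0) (hc : One1 H c s χ) (r : ℕ)
    (hrun : ∀ k : ℕ, k ≤ r → pairing u s χ k = 0)
    (hgen : Subfield.closure (gens u s χ c r) = ⊤) : Full H (pt u s 0) (ax u χ 0) := by
  haveI := Fintype.ofFinite F
  set ν := pairing u s χ (-1) with hν
  have h00 : ax u χ 0 ⬝ᵥ pt u s 0 = 0 := by rw [ax_dot_pt]; simpa using hrun 0 (Nat.zero_le _)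
  have hdiag : ∀ k : ℤ, ax u χ k ⬝ᵥ pt u s k = 0 := fun k => by
    rw [ax_dot_pt]; simpa using hrun 0 (Nat.zero_le _)
  have hbase : ∀ k : ℤ, One1 H c (pt u s k) (ax u χ k) := by
    intro k
    have h : One1 H c (pt u s 0) (ax u χ 0) := by
      simpa [pt, ax, mat_zero] using hc
    simpa using one1_shift hu h k
  have hchain : ∀ (t : F), One1 H t (pt u s 0) (ax u χ 0) → ∀ j : ℕ, j ≤ r →
      One1 H ((-ν * c) ^ j * t) (pt u s (j : ℤ)) (ax u χ 0) := by
    intro t ht j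
    induction j with
    | zero => intro _; simpa using ht
    | succ j ih =>
      intro hj
      have h1 : ax u χ 0 ⬝ᵥ pt u s ((j : ℤ) + 1) = 0 := by
        rw [ax_dot_pt]; simpa using hrun (j + 1) hj
      have h2 : ax u χ ((j : ℤ) + 1) ⬝ᵥ pt u s (j : ℤ) = ν := by
        rw [ax_dot_pt, hν]; congr 1; ring
      have := One1.comm (by rw [ax_dot_pt]; simpa using hrun j (by omega)) (hdiag _) h1
        (ih (by omega)) (hbase ((j : ℤ) + 1))
      rw [h2] at this
      push_cast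
      convert this using 1
      ring
  let S : AddSubgroup F :=
    { carrier := {t | One1 H t (pt u s 0) (ax u χ 0)}
      zero_mem' := ⟨1, one_mem _, by simp⟩
      add_mem' := fun {_ _} h h' => One1.add h00 h h'
      neg_mem' := fun {_} h => One1.neg h00 h }
  let P : Subsemiring F :=
    { carrier := {x | ∀ t ∈ S, x * t ∈ S}
      one_mem' := fun t ht => by rwa [one_mul]
      mul_mem' := fun {a b} ha hb t ht => by rw [mul_assoc]; exact ha _ (hb _ ht)
      zero_mem' := fun t _ => by rw [zero_mul]; exact S.zero_mem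
      add_mem' := fun {a b} ha hb t ht => by rw [add_mul]; exact S.add_mem (ha _ ht) (hb _ ht) }
  let K : Subfield F :=
    { P with
      neg_mem' := fun {x} hx t ht => by rw [neg_mul]; exact S.neg_mem (hx t ht)
      inv_mem' := fun x hx => by
        by_cases h : x = 0
        · subst h; rw [_root_.inv_zero]; exact P.zero_mem
        · have h2 : 2 ≤ Fintype.card F := Fintype.one_lt_card
          have : x⁻¹ = x ^ (Fintype.card F - 2) := by
            refine inv_eq_of_mul_eq_one_right ?_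
            rw [← pow_succ', show Fintype.card F - 2 + 1 = Fintype.card F - 1 by omega]
            exact FiniteField.pow_card_sub_one_eq_one x h
          rw [this]
          exact pow_mem (show x ∈ P from hx) _ }
  have hK : K = ⊤ := by
    refine top_le_iff.1 (hgen ▸ Subfield.closure_le.2 ?_)
    rintro z ⟨N, hN, rfl⟩ t (ht : One1 H t (pt u s 0) (ax u χ 0))
    obtain ⟨i, j, hi, hj, rfl⟩ : ∃ i j, i ≤ r ∧ j ≤ r ∧ N = i + j :=
      ⟨min N r, N - min N r, min_le_right _ _, by omega, by omega⟩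
    have hfirst := hchain t ht j hj
    have hcc : One1 H c (pt u s 0) (ax u χ 0) := hbase 0
    have hsec := one1_shift hu (hchain c hcc i hi) (-(i : ℤ))
    rw [neg_add_cancel, add_zero] at hsec
    have h1 : ax u χ 0 ⬝ᵥ pt u s (j : ℤ) = 0 := by rw [ax_dot_pt]; simpa using hrun j hj
    have h2 : ax u χ (-(i : ℤ)) ⬝ᵥ pt u s 0 = 0 := by
      rw [ax_dot_pt]; simpa using hrun i hi
    have := One1.comm h1 h2 h00 hfirst hsec
    rw [ax_dot_pt] at this
    show One1 H _ _ _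
    convert this using 1
    rw [show (j : ℤ) - -(i : ℤ) = ((i + j : ℕ) : ℤ) by push_cast; ring]
    ring
  refine ⟨h00, fun t => ?_⟩
  have h := (hK ▸ Subfield.mem_top (t / c) : t / c ∈ K) c (hbase 0)
  change One1 H _ _ _ at h
  rwa [div_mul_cancel₀ _ hc0] at h

theorem axes_zero_eq (hu : u ∈ H) (hfull : Full H (pt u s 0) (ax u χ 0))
    (h1 : pairing u s χ 1 = 0) (hν : pairing u s χ (-1) ≠ 0)
    (hspan : ∀ x, (∀ k : ℕ, k < n → ax u χ k ⬝ᵥ x = 0) → x = 0) :
    ∀ φ : Fin n → F, φ ⬝ᵥ pt u s 0 = 0 → Full H (pt u s 0) φ := by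
  have hkk : ∀ k : ℤ, Full H (pt u s k) (ax u χ k) := fun k => by
    simpa using full_shift hu hfull k
  have horb : ∀ k : ℤ, InOrbit H (pt u s 0) (pt u s k) := fun k =>
    ⟨u ^ k, zpow_mem hu k, by
      show pt u s k = mat u k *ᵥ pt u s 0
      rw [mulVec_pt, add_zero]⟩
  have hI : ∀ k : ℤ, ax u χ k ∈ axes H (pt u s (k + 1)) := fun k =>
    Full.comm (by rw [ax_dot_pt]; simpa using h1)
      (by rw [ax_dot_pt, show k - (k + 1) = -1 by ring]; exact hν) (hkk k) (hkk (k + 1))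
  set L : ℤ → Submodule F (Fin n → F) :=
    fun k => axes H (pt u s k) ⊔ axes H (pt u s (k + 1)) with hL
  have hle : ∀ k, L k ≤ L (k + 1) := by
    intro k
    refine sup_le ?_ le_sup_left
    -- use the common axis of the next pair
    rw [hL]
    refine le_trans (axes_le_sup (φ := ax u χ (k + 1 + 1)) (χ := ax u χ (k + 1)) (horb (k + 1))
      (horb k) (hI (k + 1)) (hkk (k + 1)) (hkk (k + 1 + 1)) ?_ ?_) (le_of_eq (sup_comm _ _))
    · rw [ax_dot_pt, show k + 1 - (k + 1 + 1) = -1 by ring]; exact hν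
    · rw [ax_dot_pt, show k - (k + 1) = -1 by ring]; exact hν
  -- the sum does not depend on the pair
  have hfin : ∀ k, Module.finrank F (L (k + 1)) ≤ Module.finrank F (L k) := by
    intro k
    let M := mat u (-1 : ℤ)
    let f : (L (k + 1)) →ₗ[F] L k := LinearMap.codRestrict _
      ((Matrix.vecMulLinear (mat u (1 : ℤ))).comp (L (k + 1)).subtype) (by
        intro φ
        refine Submodule.mem_sup.2 ?_
        obtain ⟨x, hx, y, hy, hxy⟩ := Submodule.mem_sup.1 φ.2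
        have conj : ∀ (i : ℤ) z, z ∈ axes H (pt u s (i + 1)) → z ᵥ* mat u 1 ∈ axes H (pt u s i) := by
          intro i z hz
          have := hz.conj (inH_mat hu (-1)) (g' := mat u 1) (by rw [← mat_add]; simp [mat_zero])
          rwa [mulVec_pt, show -1 + (i + 1) = i by ring] at this
        refine ⟨x ᵥ* mat u 1, conj k x hx, y ᵥ* mat u 1, conj (k + 1) y hy, ?_⟩
        rw [← Matrix.add_vecMul, hxy]; rfl)
    refine LinearMap.finrank_le_finrank_of_injective (f := f) fun φ ψ h => Subtype.ext ?_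
    have h' : (φ : Fin n → F) ᵥ* mat u 1 = (ψ : Fin n → F) ᵥ* mat u 1 := congrArg Subtype.val h
    have h2 := congrArg (fun x => x ᵥ* mat u (-1)) h'
    simp only [Matrix.vecMul_vecMul, ← mat_add, add_neg_cancel, mat_zero, Matrix.vecMul_one] at h2
    exact h2
  have hLk : ∀ k : ℕ, L (k : ℤ) = L 0 := by
    intro k
    induction k with
    | zero => rfl
    | succ k ih =>
      rw [← ih]; push_cast
      exact (Submodule.eq_of_le_of_finrank_le (hle k) (hfin k)).symm
  have htop : L 0 = ⊤ := by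
    refine eq_top_iff.2 fun φ _ => by_contra fun hne => ?_
    obtain ⟨x, hx, hW⟩ := exists_dual hne
    refine hx ?_
    rw [hspan x fun k _ => hW _ (hLk k ▸ Submodule.mem_sup_left (hkk k)), dotProduct_zero]
  intro φ hφ
  obtain ⟨x, hx, y, hy, rfl⟩ := Submodule.mem_sup.1 (htop ▸ Submodule.mem_top (x := φ))
  have hy0 : y ⬝ᵥ pt u s 0 = 0 := by
    rw [add_dotProduct, hx.1, zero_add] at hφ
    exact hφ
  obtain ⟨ψ, hψ, hψ1⟩ : ∃ ψ ∈ axes H (pt u s 0), ψ ⬝ᵥ pt u s (0 + 1) ≠ 0 := by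
    by_contra hall
    push Not at hall
    have h0 := (horb 0).symm_kill (horb (0 + 1)) hall (ax u χ (0 + 1)) (hkk _)
    rw [ax_dot_pt, show (0 : ℤ) - (0 + 1) = -1 by ring] at h0
    exact hν h0
  exact Full.add' hx (Full.comm hy0 hψ1 hy hψ)

theorem eq_top [Finite F] (hn : 2 ≤ n) (hu : u ∈ H) {c : F} (hc0 : c ≠ 0) (hc : One1 H c s χ)
    (r : ℕ) (hr : 1 ≤ r) (hrun : ∀ k : ℕ, k ≤ r → pairing u s χ k = 0)
    (hν : pairing u s χ (-1) ≠ 0) (hgen : Subfield.closure (gens u s χ c r) = ⊤)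
    (hspanp : ∀ φ : Fin n → F, (∀ k : ℕ, k < n → φ ⬝ᵥ pt u s k = 0) → φ = 0)
    (hspana : ∀ x, (∀ k : ℕ, k < n → ax u χ k ⬝ᵥ x = 0) → x = 0) : H = ⊤ := by
  have : Nontrivial (Fin n) := Fin.nontrivial_iff_two_le.2 hn
  have hfull := full_of_one1 hu hc0 hc r hrun hgen
  have hzero := axes_zero_eq hu hfull (by simpa using hrun 1 hr) hν hspana
  -- all transvections with centre `b`
  let Cen : (Fin n → F) → Prop := fun b => ∀ φ : Fin n → F, φ ⬝ᵥ b = 0 → Full H b φ
  have hpt : ∀ k : ℤ, Cen (pt u s k) := by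
    intro k φ hφ
    have h0 : (φ ᵥ* mat u k) ⬝ᵥ pt u s 0 = 0 := by
      rwa [← Matrix.dotProduct_mulVec, mulVec_pt, add_zero]
    have := (hzero _ h0).conj (inH_mat hu k) (mat_inv k)
    rwa [mulVec_pt, add_zero, Matrix.vecMul_vecMul, ← mat_add, add_neg_cancel, mat_zero,
      Matrix.vecMul_one] at this
  have hsmul : ∀ (r : F) b, Cen b → Cen (r • b) := by
    intro r b hb φ hφ
    by_cases hr0 : r = 0
    · subst hr0; exact ⟨hφ, fun t => ⟨1, one_mem _, by simp⟩⟩
    · refine Full.smul r (hb φ ?_)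
      rw [dotProduct_smul, smul_eq_mul, mul_eq_zero] at hφ
      exact hφ.resolve_left hr0
  have hadd : ∀ a b, Cen a → Cen b → Cen (a + b) := by
    intro a b ha hb
    by_cases h : ∃ φ : Fin n → F, φ ⬝ᵥ a = 0 ∧ φ ⬝ᵥ b ≠ 0
    · obtain ⟨φ, hφa, hφb⟩ := h
      intro ψ hψ
      have hM := (ha φ hφa).2 (φ ⬝ᵥ b)⁻¹
      have e2 : (1 + (-(φ ⬝ᵥ b)⁻¹) • Matrix.vecMulVec a φ) *
          (1 + (φ ⬝ᵥ b)⁻¹ • Matrix.vecMulVec a φ) = 1 := by
        simp [Matrix.mul_add, Matrix.add_mul, vmv_mul, hφa, Matrix.mul_smul, Matrix.smul_mul]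
      have e1 : (1 + (φ ⬝ᵥ b)⁻¹ • Matrix.vecMulVec a φ) *ᵥ b = a + b := by
        rw [Matrix.add_mulVec, Matrix.one_mulVec, Matrix.smul_mulVec, Matrix.vecMulVec_mulVec,
          op_smul_eq_smul, smul_smul, inv_mul_cancel₀ hφb, one_smul, add_comm]
      have h0 : (ψ ᵥ* (1 + (φ ⬝ᵥ b)⁻¹ • Matrix.vecMulVec a φ)) ⬝ᵥ b = 0 := by
        rwa [← Matrix.dotProduct_mulVec, e1]
      have := Full.conj (hb _ h0) hM e2
      rw [e1, Matrix.vecMul_vecMul, mul_eq_one_comm.1 e2, Matrix.vecMul_one] at this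
      exact this
    · push Not at h
      have hb' : b ∈ Submodule.span F {a} := by
        by_contra hne
        obtain ⟨x, hx, hW⟩ := exists_dual hne
        refine hx ?_
        rw [dotProduct_comm]
        exact h x (by rw [dotProduct_comm]; exact hW a (Submodule.mem_span_singleton_self a))
      obtain ⟨r, rfl⟩ := Submodule.mem_span_singleton.1 hb'
      rw [show a + r • a = (1 + r) • a by rw [add_smul, one_smul]]
      exact hsmul _ _ ha
  let C : Submodule F (Fin n → F) :=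
    { carrier := {b | Cen b}
      zero_mem' := fun φ hφ => ⟨hφ, fun t => ⟨1, one_mem _, by simp⟩⟩
      add_mem' := fun {_ _} ha hb => hadd _ _ ha hb
      smul_mem' := fun r {_} hb => hsmul r _ hb }
  have hC : C = ⊤ := by
    refine eq_top_iff.2 fun b _ => by_contra fun hne => ?_
    obtain ⟨x, hx, hW⟩ := exists_dual hne
    refine hx ?_
    rw [dotProduct_comm, hspanp x fun k _ => ?_, zero_dotProduct]
    rw [dotProduct_comm]
    exact hW _ (hpt k)
  refine CfsgLib.Classical.closure_transvection_eq_top H fun i j hij t => ?_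
  have hf : Full H (Pi.single i 1) (Pi.single j 1) :=
    (hC ▸ Submodule.mem_top : Pi.single i (1 : F) ∈ C) _ (by simp [dotProduct_single, hij])
  obtain ⟨g, hg, hgeq⟩ := hf.2 t
  convert hg using 1
  apply Subtype.ext
  rw [Matrix.SpecialLinearGroup.transvection_coe]
  refine Eq.trans ?_ hgeq.symm
  congr 1
  ext a b
  simp only [Matrix.single_apply, Matrix.smul_apply, Matrix.vecMulVec_apply, smul_eq_mul,
    Pi.single_apply]
  by_cases ha : a = i <;> by_cases hb : b = j <;> first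
    | (simp [ha, hb, eq_comm]; done)
    | simp [ha, hb, Ne.symm ha]
    | simp [ha, hb, Ne.symm hb]

end Main

end CfsgLib.Perm.UnipotentPairsCriterion
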