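import Cfsg.Agent.Lib.Perm.UnipotentPairsGeneral

/-!
# Two conjugate regular unipotent elements generating `SL 4`
-/

set_option autoImplicit false

namespace CfsgLib.Perm.UnipotentPairsFour

open Matrix Cfsg.Agent.S2280 UnipotentPairsCriterion UnipotentPairsBasic UnipotentPairsGeneral

variable {F : Type*} [Field F]

theorem choose_values :
    Ring.choose (-2 : ℤ) 2 = 3 ∧ Ring.choose (-2 : ℤ) 3 = -4 ∧ Ring.choose (2 : ℤ) 2 = 1 ∧
      Ring.choose (2 : ℤ) 3 = 0 ∧ Ring.choose (3 : ℤ) 2 = 3 ∧ Ring.choose (3 : ℤ) 3 = 1 := by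
  have a := Ring.choose_succ_succ (-2 : ℤ) 1
  have b := Ring.choose_succ_succ (-2 : ℤ) 2
  norm_num [choose_neg_one, Ring.choose_one_right] at a b
  refine ⟨by omega, by omega, ?_, ?_, ?_, ?_⟩
  · rw [show (2 : ℤ) = ((2 : ℕ) : ℤ) by norm_num, Ring.choose_natCast]; norm_num
  · rw [show (2 : ℤ) = ((2 : ℕ) : ℤ) by norm_num, Ring.choose_natCast]; norm_num
  · rw [show (3 : ℤ) = ((3 : ℕ) : ℤ) by norm_num, Ring.choose_natCast]; norm_num [Nat.choose]
  · rw [show (3 : ℤ) = ((3 : ℕ) : ℤ) by norm_num, Ring.choose_natCast]; norm_num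

/-- The functional of the construction. -/
def phi (β : F) : Fin 4 → F :=
  (2 / β) • ev F 4 2 + (-4 / β) • ev F 4 1 + (-6 / β - 2 * β) • ev F 4 0

theorem phi_dot (β : F) (k : ℤ) :
    phi β ⬝ᵥ binVec 4 F k = 2 / β * (k : F) - 4 / β * ((Ring.choose k 2 : ℤ) : F) +
      (-6 / β - 2 * β) * ((Ring.choose k 3 : ℤ) : F) := by
  rw [phi, add_dotProduct, add_dotProduct, smul_dotProduct, smul_dotProduct, smul_dotProduct,
    ev_dot _ (show 2 < 4 by norm_num), ev_dot _ (show 1 < 4 by norm_num),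
    ev_dot _ (show 0 < 4 by norm_num)]
  simp [binVec, Ring.choose_one_right]
  ring

/-- The invariant of the construction. -/
def inv4 (β : F) : F := (β ^ 4 + 6 * β ^ 2 + 1) * (β ^ 2 + 1) ^ 2 / β ^ 6

theorem gen_beta [Fintype F] (h2 : (2 : F) ≠ 0) {β : F} (hβ : β ≠ 0) (hp : β + 1 ≠ 0)
    (hm : β - 1 ≠ 0) (h3 : β ^ 2 + 3 ≠ 0) (h1 : β ^ 2 + 1 ≠ 0)
    (hgen : Subfield.closure ({inv4 β} : Set F) = ⊤) : Gen 4 F := by
  obtain ⟨cn2, cn3, c22, c23, c32, c33⟩ := choose_values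
  have a0 : phi β ⬝ᵥ binVec 4 F 0 = 0 := by rw [phi_dot]; simp
  have a1 : phi β ⬝ᵥ binVec 4 F 1 = 2 / β := by
    rw [phi_dot, show (1 : ℤ) = ((1 : ℕ) : ℤ) by norm_num, Ring.choose_natCast, Ring.choose_natCast]
    norm_num [Nat.choose]
  have am : phi β ⬝ᵥ binVec 4 F (-1) = 2 * β := by
    rw [phi_dot, choose_neg_one, choose_neg_one]
    push_cast
    field_simp
    ring
  have a2 : phi β ⬝ᵥ binVec 4 F 2 = 0 := by
    rw [phi_dot, c22, c23]; push_cast; field_simp; ring
  have a3 : phi β ⬝ᵥ binVec 4 F 3 = -12 / β - 2 * β := by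
    rw [phi_dot, c32, c33]; push_cast; field_simp; ring
  have am2 : phi β ⬝ᵥ binVec 4 F (-2) = 8 / β + 8 * β := by
    rw [phi_dot, cn2, cn3]; push_cast; field_simp; ring
  set g := tv (binVec 4 F 0) (phi β) a0 with hg
  refine ⟨g, ?_⟩
  set H := Subgroup.closure ({uu 4 F, g * uu 4 F * g⁻¹} : Set (Matrix.SpecialLinearGroup (Fin 4) F))
  set ψ := ax (uu 4 F) (phi β) 1 with hψdef
  have hψ : ∀ k : ℤ, ψ ⬝ᵥ binVec 4 F k = phi β ⬝ᵥ binVec 4 F (k - 1) := by
    intro k
    rw [hψdef, ax, ← Matrix.dotProduct_mulVec, ← pt, pt_binVec]; congr 2; ring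
  set s := binVec 4 F 0 + β • binVec 4 F 1 with hs
  set χ := β⁻¹ • ψ - phi β with hχ
  have c0 : ψ ⬝ᵥ binVec 4 F 0 = 2 * β := by rw [hψ, zero_sub, am]
  have c1 : ψ ⬝ᵥ binVec 4 F 1 = 0 := by rw [hψ, sub_self, a0]
  have hT : One1 H 2 s χ := by
    refine ⟨_, pow_mem (diff_mem g 1) 2, ?_⟩
    have i1 : (((uu 4 F ^ (1 : ℤ) * g * uu 4 F ^ (-(1 : ℤ)))⁻¹ : Matrix.SpecialLinearGroup (Fin 4) F) :
        Matrix (Fin 4) (Fin 4) F) = 1 - Matrix.vecMulVec (binVec 4 F 1) ψ := by
      refine left_inv_eq_right_inv (coe_mul_inv _) ?_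
      rw [hg, coe_shift, ← hψdef]
      simp [Matrix.mul_sub, Matrix.add_mul, vmv_mul, c1]
    rw [pow_two, Matrix.SpecialLinearGroup.coe_mul, Matrix.SpecialLinearGroup.coe_mul, i1, hg, coe_tv,
      hs, hχ]
    simp [Matrix.mul_sub, Matrix.sub_mul, Matrix.mul_add, Matrix.add_mul, vmv_mul, c0, c1, a0, a1,
      Matrix.mul_smul, Matrix.smul_mul, Matrix.add_vecMulVec, Matrix.smul_vecMulVec,
      Matrix.vecMulVec_smul, sub_eq_add_neg, Matrix.vecMulVec_add, Matrix.neg_vecMulVec,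
      Matrix.vecMulVec_neg, smul_smul, smul_add]
    match_scalars <;> field_simp <;> ring
  have hpt : ∀ k : ℤ, pt (uu 4 F) s k = binVec 4 F k + β • binVec 4 F (k + 1) := by
    intro k
    rw [hs, pt, Matrix.mulVec_add, Matrix.mulVec_smul, ← pt, ← pt, pt_binVec, pt_binVec, add_zero]
  have hpair : ∀ k : ℤ, pairing (uu 4 F) s χ k =
      β⁻¹ * (phi β ⬝ᵥ binVec 4 F (k - 1)) - β * (phi β ⬝ᵥ binVec 4 F (k + 1)) := by
    intro k
    rw [pairing, hpt, hχ, sub_dotProduct, smul_dotProduct, dotProduct_add, dotProduct_add,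
      dotProduct_smul, dotProduct_smul, hψ, hψ, add_sub_cancel_right, smul_eq_mul, smul_eq_mul,
      smul_eq_mul, mul_add, ← mul_assoc, inv_mul_cancel₀ hβ, one_mul]
    ring
  refine eq_top (r := 1) (by norm_num) (Subgroup.subset_closure (by simp)) h2 hT le_rfl
    (fun k hk => ?_) ?_ ?_ (span_pt (by norm_num) ?_) (span_ax (by norm_num) ?_)
  · interval_cases k
    · rw [hpair, Nat.cast_zero, zero_sub, zero_add, am, a1]; field_simp; ring
    · rw [hpair, Nat.cast_one, sub_self, show (1 : ℤ) + 1 = 2 by norm_num, a0, a2]; ring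
  · rw [hpair, show (-1 : ℤ) - 1 = -2 by norm_num, neg_add_cancel, am2, a0,
      show β⁻¹ * (8 / β + 8 * β) - β * 0 = 8 * (β ^ 2 + 1) / β ^ 2 by field_simp; ring]
    refine div_ne_zero (mul_ne_zero ?_ h1) (pow_ne_zero _ hβ)
    rw [show (8 : F) = 2 ^ 3 by norm_num]; exact pow_ne_zero _ h2
  · have hmem : (-1024 : F) * inv4 β ∈ Subfield.closure (gens (uu 4 F) s χ 2 1) := by
      refine Subfield.subset_closure ⟨2, le_rfl, ?_⟩
      rw [hpair, hpair, show (-1 : ℤ) - 1 = -2 by norm_num, neg_add_cancel, am2, a0,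
        show ((2 : ℕ) : ℤ) - 1 = 1 by norm_num, show ((2 : ℕ) : ℤ) + 1 = 3 by norm_num, a1, a3, inv4]
      field_simp
      ring
    refine top_le_iff.1 (hgen ▸ Subfield.closure_le.2 ?_)
    rintro z rfl
    have h1024 : (-1024 : F) ≠ 0 := by
      rw [show (-1024 : F) = -(2 ^ 10) by norm_num]
      exact neg_ne_zero.2 (pow_ne_zero _ h2)
    have hc : (-1024 : F) ∈ Subfield.closure (gens (uu 4 F) s χ 2 1) := by
      exact_mod_cast intCast_mem (Subfield.closure (gens (uu 4 F) s χ 2 1)) (-1024)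
    have := div_mem hmem hc
    rwa [mul_div_cancel_left₀ _ h1024] at this
  · have : β + 1 = s ⟨4 - 1, by norm_num⟩ := by
      rw [hs, Pi.add_apply, Pi.smul_apply, binVec_last (F := F) (show 0 < 4 by norm_num) 0,
        binVec_last (F := F) (show 0 < 4 by norm_num) 1, smul_eq_mul]
      ring
    rw [← this]; exact hp
  · have e : χ ⟨0, by norm_num⟩ = (β⁻¹ - 1) * (-6 / β - 2 * β) := by
      rw [hχ, Pi.sub_apply, Pi.smul_apply, hψdef, ax_first (by norm_num), smul_eq_mul]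
      simp [phi, ev]
      ring
    rw [e]
    refine mul_ne_zero ?_ ?_
    · rw [show β⁻¹ - 1 = -(β - 1) / β by field_simp; ring]
      exact div_ne_zero (neg_ne_zero.2 hm) hβ
    · rw [show -6 / β - 2 * β = -(2 * (β ^ 2 + 3)) / β by field_simp; ring]
      exact div_ne_zero (neg_ne_zero.2 (mul_ne_zero h2 h3)) hβ

theorem special_five [Fintype F] [CharP F 5] (hf : Fintype.card F = 5 ^ 2) :
    ∃ β : F, β ≠ 0 ∧ β + 1 ≠ 0 ∧ β - 1 ≠ 0 ∧ β ^ 2 + 3 ≠ 0 ∧ β ^ 2 + 1 ≠ 0 ∧
      Subfield.closure ({inv4 β} : Set F) = ⊤ := by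
  haveI : Fact (Nat.Prime 5) := ⟨by norm_num⟩
  have h5 : (5 : F) = 0 := by exact_mod_cast CharP.cast_eq_zero F 5
  have h2 : (2 : F) ≠ 0 := by
    intro h
    have := (CharP.cast_eq_zero_iff F 5 2).1 (by exact_mod_cast h)
    omega
  obtain ⟨s, hs⟩ : IsSquare (2 : F) := by
    rw [FiniteField.isSquare_iff (by rw [ringChar.eq F 5]; norm_num) h2, hf]
    norm_num
    linear_combination 819 * h5
  have hsp : s ^ 5 = -s := by linear_combination (-(s * s * s) - 2 * s) * hs + s * h5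
  have hne : ∀ m : ℕ, s ≠ m := fun m hm => by
    have : s ^ 5 = s := by rw [hm, ← frobenius_def, map_natCast]
    have hs0 : s = 0 := (mul_right_inj' h2).1 (by rw [mul_zero]; linear_combination hsp - this)
    exact h2 (by rw [hs, hs0, mul_zero])
  have key : inv4 (s + 1) = 3 + 3 * s := by
    have hb : (s + 1) ^ 6 ≠ 0 := pow_ne_zero _ fun h => hne 4 (by
      push_cast; linear_combination h - h5)
    rw [inv4, div_eq_iff hb]
    linear_combination (-(443 + 269 * s + 133 * s ^ 2 + 51 * s ^ 3 + 17 * s ^ 4 + 5 * s ^ 5 + s ^ 6)) *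
      hs + (183 + 129 * s) * h5
  refine ⟨s + 1, ?_, ?_, ?_, ?_, ?_, ?_⟩
  · exact fun h => hne 4 (by push_cast; linear_combination h - h5)
  · exact fun h => hne 3 (by push_cast; linear_combination h - h5)
  · exact fun h => hne 0 (by push_cast; linear_combination h)
  · exact fun h => hne 2 (by push_cast; linear_combination 3 * h + 3 * hs - (4 + s) * h5)
  · exact fun h => hne 3 (by push_cast; linear_combination 3 * h + 3 * hs - (3 + s) * h5)
  · rw [key]
    refine SubfieldGen.closure_eq_top hf fun d hd h e => ?_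
    obtain rfl : d = 1 := by omega
    rw [pow_one, add_pow_char, mul_pow, hsp] at e
    rw [show (3 : F) ^ 5 = 3 by linear_combination 48 * h5] at e
    exact hne 0 (by push_cast; linear_combination -e - s * h5)

theorem special_seven [Fintype F] [CharP F 7] (hf : Fintype.card F = 7 ^ 2) :
    ∃ β : F, β ≠ 0 ∧ β + 1 ≠ 0 ∧ β - 1 ≠ 0 ∧ β ^ 2 + 3 ≠ 0 ∧ β ^ 2 + 1 ≠ 0 ∧
      Subfield.closure ({inv4 β} : Set F) = ⊤ := by
  haveI : Fact (Nat.Prime 7) := ⟨by norm_num⟩
  have h7 : (7 : F) = 0 := by exact_mod_cast CharP.cast_eq_zero F 7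
  have h2 : (2 : F) ≠ 0 := by
    intro h
    have := (CharP.cast_eq_zero_iff F 7 2).1 (by exact_mod_cast h)
    omega
  have h3 : (3 : F) ≠ 0 := by
    intro h
    have := (CharP.cast_eq_zero_iff F 7 3).1 (by exact_mod_cast h)
    omega
  obtain ⟨s, hs⟩ : IsSquare (3 : F) := by
    rw [FiniteField.isSquare_iff (by rw [ringChar.eq F 7]; norm_num) h3, hf]
    norm_num
    linear_combination 40347076640 * h7
  have hsp : s ^ 7 = -s := by
    linear_combination (-(s ^ 5) - 3 * s ^ 3 - 9 * s) * hs + 4 * s * h7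
  have hne : ∀ m : ℕ, s ≠ m := fun m hm => by
    have : s ^ 7 = s := by rw [hm, ← frobenius_def, map_natCast]
    have hs0 : s = 0 := (mul_right_inj' h2).1 (by rw [mul_zero]; linear_combination hsp - this)
    exact h3 (by rw [hs, hs0, mul_zero])
  have key : inv4 (s + 2) = s := by
    have hb : (s + 2) ^ 6 ≠ 0 := pow_ne_zero _ fun h => hne 5 (by
      push_cast; linear_combination h - h7)
    rw [inv4, div_eq_iff hb]
    linear_combination (-(9225 + 4531 * s + 1787 * s ^ 2 + 529 * s ^ 3 + 111 * s ^ 4 + 15 * s ^ 5 +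
      s ^ 6)) * hs + (4100 + 2367 * s) * h7
  refine ⟨s + 2, ?_, ?_, ?_, ?_, ?_, ?_⟩
  · exact fun h => hne 5 (by push_cast; linear_combination h - h7)
  · exact fun h => hne 4 (by push_cast; linear_combination h - h7)
  · exact fun h => hne 6 (by push_cast; linear_combination h - h7)
  · exact fun h => hne 1 (by push_cast; linear_combination 2 * h + 2 * hs - (3 + s) * h7)
  · exact fun h => hne 5 (by push_cast; linear_combination 2 * h + 2 * hs - (3 + s) * h7)
  · rw [key]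
    refine SubfieldGen.closure_eq_top hf fun d hd h e => ?_
    obtain rfl : d = 1 := by omega
    rw [pow_one, hsp] at e
    exact hne 0 (by push_cast; exact (mul_right_inj' h2).1 (by rw [mul_zero]; linear_combination -e))

open Polynomial in
theorem exists_beta [Fintype F] {p f : ℕ} [Fact p.Prime] [CharP F p]
    (hf : Fintype.card F = p ^ f) (hp : 5 ≤ p) (hq : Fintype.card F ≠ 5) :
    ∃ β : F, β ≠ 0 ∧ β + 1 ≠ 0 ∧ β - 1 ≠ 0 ∧ β ^ 2 + 3 ≠ 0 ∧ β ^ 2 + 1 ≠ 0 ∧
      Subfield.closure ({inv4 β} : Set F) = ⊤ := by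
  have hpp : p.Prime := Fact.out
  have hf0 : 0 < f := by
    rcases Nat.eq_zero_or_pos f with rfl | h
    · have := Fintype.one_lt_card (α := F); rw [hf] at this; simp at this
    · exact h
  by_cases h52 : p = 5 ∧ f = 2
  · obtain ⟨rfl, rfl⟩ := h52; exact special_five hf
  by_cases h72 : p = 7 ∧ f = 2
  · obtain ⟨rfl, rfl⟩ := h72; exact special_seven hf
  by_cases hsmall : f = 1 ∧ p < 13
  · obtain ⟨rfl, hlt⟩ := hsmall
    have hne : ∀ m : ℕ, ¬ p ∣ m → (m : F) ≠ 0 := fun m hm h =>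
      hm ((CharP.cast_eq_zero_iff F p m).1 h)
    have hp7 : p = 7 ∨ p = 11 := by
      have : p ≠ 5 := fun h => hq (by rw [hf, h, pow_one])
      interval_cases p <;> simp_all (config := { decide := true })
    obtain ⟨b, hb⟩ : ∃ b : ℕ, ¬ p ∣ b ∧ ¬ p ∣ b + 1 ∧ ¬ p ∣ b - 1 ∧ 1 ≤ b ∧ ¬ p ∣ b * b + 3 ∧
        ¬ p ∣ b * b + 1 := by
      rcases hp7 with rfl | rfl
      · exact ⟨3, by norm_num⟩
      · exact ⟨2, by norm_num⟩
    obtain ⟨b0, b1, bm, bge, b3, bb⟩ := hb
    refine ⟨b, hne _ b0, by exact_mod_cast hne _ b1, ?_, ?_, ?_,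
      closure_single (by rw [hf, pow_one]; exact hpp) _⟩
    · have := hne _ bm; rw [Nat.cast_sub bge, Nat.cast_one] at this; exact this
    · rw [pow_two]; exact_mod_cast hne _ b3
    · rw [pow_two]; exact_mod_cast hne _ bb
  set A : F[X] := X ^ 4 + C 6 * X ^ 2 + C 1 with hA
  set B : F[X] := X ^ 2 + C 1 with hB
  set G : F[X] := A * B ^ 2 with hG
  have hBd : B.natDegree = 2 := natDegree_X_pow_add_C
  have hB0 : B ≠ 0 := fun h => by rw [h] at hBd; simp at hBd
  have hAd : A.natDegree = 4 := by rw [hA]; compute_degree!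
  have hA0 : A ≠ 0 := fun h => by rw [h] at hAd; simp at hAd
  have hG0 : G ≠ 0 := mul_ne_zero hA0 (pow_ne_zero _ hB0)
  have hGd : G.natDegree = 8 := by
    rw [hG, natDegree_mul hA0 (pow_ne_zero _ hB0), natDegree_pow, hAd, hBd]
  set P : ℕ → F[X] := fun d => G ^ p ^ d * X ^ 6 - G * X ^ (6 * p ^ d) with hP
  have hPd : ∀ d, 0 < d → (P d).natDegree = 8 * p ^ d + 6 := by
    intro d hd
    have h1 : 1 < p ^ d := Nat.one_lt_pow hd.ne' hpp.one_lt
    have e1 : (G ^ p ^ d * X ^ 6).natDegree = 8 * p ^ d + 6 := by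
      rw [natDegree_mul (pow_ne_zero _ hG0) (pow_ne_zero _ X_ne_zero), natDegree_pow, hGd,
        natDegree_X_pow]; ring
    have e2 : (G * X ^ (6 * p ^ d)).natDegree = 8 + 6 * p ^ d := by
      rw [natDegree_mul hG0 (pow_ne_zero _ X_ne_zero), hGd, natDegree_X_pow]
    rw [hP]
    simp only
    rw [natDegree_sub_eq_left_of_natDegree_lt (by rw [e1, e2]; omega), e1]
  set T : F[X] := X * (X + C 1) * (X - C 1) * (X ^ 2 + C 3) * B with hT
  have hC3 : (X ^ 2 + C 3 : F[X]).natDegree = 2 := natDegree_X_pow_add_C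
  have h30 : (X ^ 2 + C 3 : F[X]) ≠ 0 := fun h => by rw [h] at hC3; simp at hC3
  have hT0 : T ≠ 0 := mul_ne_zero (mul_ne_zero (mul_ne_zero (mul_ne_zero X_ne_zero
    (X_add_C_ne_zero 1)) (X_sub_C_ne_zero 1)) h30) hB0
  have hTd : T.natDegree = 7 := by
    rw [hT, natDegree_mul (mul_ne_zero (mul_ne_zero (mul_ne_zero X_ne_zero
      (X_add_C_ne_zero 1)) (X_sub_C_ne_zero 1)) h30) hB0,
      natDegree_mul (mul_ne_zero (mul_ne_zero X_ne_zero (X_add_C_ne_zero 1)) (X_sub_C_ne_zero 1)) h30,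
      natDegree_mul (mul_ne_zero X_ne_zero (X_add_C_ne_zero 1)) (X_sub_C_ne_zero 1),
      natDegree_mul X_ne_zero (X_add_C_ne_zero 1), natDegree_X, natDegree_X_add_C,
      natDegree_X_sub_C, hC3, hBd]
  set Q : ℕ → F[X] := fun i => if i = 0 then T else P i with hQ
  obtain ⟨β, hβ⟩ := SubfieldGen.exists_avoid (Finset.range (f / 2 + 1)) Q (fun i _ => by
      rw [hQ]; simp only
      split_ifs with h0
      · exact hT0
      · exact fun h => by
          have := hPd i (Nat.pos_of_ne_zero h0)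
          rw [h, natDegree_zero] at this; omega) (by
      rw [Finset.sum_range_succ', hf]
      simp only [hQ, if_neg (Nat.succ_ne_zero _), if_true, hTd]
      rw [Finset.sum_congr rfl fun i _ => hPd (i + 1) (Nat.succ_pos i)]
      have hgeo : ∀ m, (∑ i ∈ Finset.range m, (8 * p ^ (i + 1) + 6)) + 10 ≤ 14 * p ^ m := by
        intro m
        induction m with
        | zero => simp
        | succ m ih =>
          rw [Finset.sum_range_succ, pow_succ p m]
          have h1 : 5 * p ^ m ≤ p ^ m * p := by rw [Nat.mul_comm 5]; exact Nat.mul_le_mul_left _ hp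
          have h2 : 1 ≤ p ^ m := Nat.one_le_pow _ _ hpp.pos
          omega
      rcases Nat.lt_or_ge f 4 with hlt | hge
      · interval_cases f
        · simp; omega
        · simp
          have : 11 ≤ p := by
            by_contra hh
            push Not at hh
            interval_cases p <;> simp_all (config := { decide := true })
          nlinarith
        · simp
          nlinarith [Nat.mul_le_mul hp hp]
      · have hg := hgeo (f / 2)
        have h1 : p ^ (f / 2) * 14 ≤ p ^ f := by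
          refine le_trans ?_ (Nat.pow_le_pow_right hpp.pos (show f / 2 + 2 ≤ f by omega))
          rw [pow_add]
          exact Nat.mul_le_mul_left _ (le_trans (by norm_num) (Nat.pow_le_pow_left hp 2))
        omega)
  have hT' := hβ 0 (by simp)
  simp only [hQ, if_true, hT, hB, eval_mul, eval_add, eval_sub, eval_pow, eval_X, eval_C,
    mul_ne_zero_iff] at hT'
  obtain ⟨⟨⟨⟨hb0, hb1⟩, hbm⟩, hb3⟩, hbb⟩ := hT'
  refine ⟨β, hb0, hb1, hbm, hb3, hbb, SubfieldGen.closure_eq_top hf fun d hd h e => ?_⟩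
  refine hβ d (Finset.mem_range.2 (by omega)) ?_
  have e' := e
  rw [inv4, div_pow, div_eq_div_iff (pow_ne_zero _ (pow_ne_zero _ hb0)) (pow_ne_zero _ hb0),
    ← pow_mul] at e'
  simp only [hQ, if_neg hd.ne', hP, hG, hA, hB, eval_sub, eval_mul, eval_pow, eval_add, eval_X,
    eval_C]
  rw [e', sub_self]

end CfsgLib.Perm.UnipotentPairsFour
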