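import Cfsg.Agent.Lib.Perm.UnipotentPairsBasic
import Mathlib.Algebra.CharP.Two

/-!
# Two conjugate regular unipotent elements generating `SL n`: the general constructions
-/

set_option autoImplicit false

namespace CfsgLib.Perm.UnipotentPairsGeneral

open Matrix Cfsg.Agent.S2280 UnipotentPairsCriterion UnipotentPairsBasic

variable {F : Type*} [Field F] {n : ℕ}

/-- A transvection as an element of the special linear group. -/
def tv (a φ : Fin n → F) (h : φ ⬝ᵥ a = 0) : Matrix.SpecialLinearGroup (Fin n) F :=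
  ⟨1 + Matrix.vecMulVec a φ, by
    rw [Matrix.vecMulVec_eq Unit, Matrix.det_one_add_replicateCol_mul_replicateRow, h, add_zero]⟩

theorem coe_tv (a φ : Fin n → F) (h : φ ⬝ᵥ a = 0) :
    ((tv a φ h : Matrix.SpecialLinearGroup (Fin n) F) : Matrix (Fin n) (Fin n) F) =
      1 + Matrix.vecMulVec a φ := rfl

theorem coe_tv_inv (a φ : Fin n → F) (h : φ ⬝ᵥ a = 0) :
    (((tv a φ h)⁻¹ : Matrix.SpecialLinearGroup (Fin n) F) : Matrix (Fin n) (Fin n) F) =
      1 - Matrix.vecMulVec a φ := by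
  refine left_inv_eq_right_inv (coe_mul_inv _) ?_
  rw [coe_tv]
  simp [Matrix.mul_sub, Matrix.add_mul, vmv_mul, h]

theorem group_identity {G : Type*} [Group G] {g a b : G} (ha : Commute g a) (hb : Commute g b) :
    g * b⁻¹ * (g * a⁻¹) * (g * b⁻¹)⁻¹ * (g * a⁻¹)⁻¹ = b⁻¹ * a⁻¹ * b * a := by
  have h1 : g * b⁻¹ = b⁻¹ * g := hb.inv_right
  have h2 : g * a⁻¹ = a⁻¹ * g := ha.inv_right
  have h3 : g⁻¹ * a = a * g⁻¹ := ha.inv_left
  calc g * b⁻¹ * (g * a⁻¹) * (g * b⁻¹)⁻¹ * (g * a⁻¹)⁻¹
      = b⁻¹ * g * (a⁻¹ * g) * (g⁻¹ * b) * (g⁻¹ * a) := by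
        rw [h1, h2]; group
    _ = b⁻¹ * (g * a⁻¹) * (b * g⁻¹) * a := by group
    _ = b⁻¹ * (a⁻¹ * g) * (g⁻¹ * b) * a := by rw [h2, hb.inv_left.eq]
    _ = b⁻¹ * a⁻¹ * b * a := by group

theorem choose_neg_one (j : ℕ) : Ring.choose (-1 : ℤ) j = (-1) ^ j := by
  induction j with
  | zero => simp
  | succ j ih =>
    have h := Ring.choose_succ_succ (-1 : ℤ) j
    rw [neg_add_cancel, Ring.choose_zero_succ, ih] at h
    rw [pow_succ]
    linarith

/-- The functional with values `C(k + 2, j)`. -/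
def rowTwo (n : ℕ) (F : Type*) [Field F] (j : ℕ) : Fin n → F :=
  ev F n (n - 1 - j) + (2 : F) • ev F n (n - j) + ev F n (n + 1 - j)

theorem rowTwo_dot {j : ℕ} (h2 : 2 ≤ j) (hj : j < n) (k : ℤ) :
    rowTwo n F j ⬝ᵥ binVec n F k = ((Ring.choose (k + 2) j : ℤ) : F) := by
  obtain ⟨i, rfl⟩ : ∃ i, j = i + 2 := ⟨j - 2, by omega⟩
  rw [rowTwo, add_dotProduct, add_dotProduct, smul_dotProduct,
    ev_dot _ (show n - 1 - (i + 2) < n by omega), ev_dot _ (show n - (i + 2) < n by omega),
    ev_dot _ (show n + 1 - (i + 2) < n by omega)]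
  simp only [binVec]
  rw [show n - 1 - (n - 1 - (i + 2)) = i + 1 + 1 by omega,
    show n - 1 - (n - (i + 2)) = i + 1 by omega, show n - 1 - (n + 1 - (i + 2)) = i by omega,
    show k + 2 = k + 1 + 1 by ring, Ring.choose_succ_succ (k + 1), Ring.choose_succ_succ k,
    Ring.choose_succ_succ k]
  push_cast
  rw [smul_eq_mul]
  ring

/-- The functional with values `C(k + 1, j)`. -/
def rowOne (n : ℕ) (F : Type*) [Field F] (j : ℕ) : Fin n → F :=
  ev F n (n - 1 - j) + ev F n (n - j)

theorem rowOne_dot {j : ℕ} (h1 : 1 ≤ j) (hj : j < n) (k : ℤ) :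
    rowOne n F j ⬝ᵥ binVec n F k = ((Ring.choose (k + 1) j : ℤ) : F) := by
  obtain ⟨i, rfl⟩ : ∃ i, j = i + 1 := ⟨j - 1, by omega⟩
  rw [rowOne, add_dotProduct, ev_dot _ (show n - 1 - (i + 1) < n by omega),
    ev_dot _ (show n - (i + 1) < n by omega)]
  simp only [binVec]
  rw [show n - 1 - (n - 1 - (i + 1)) = i + 1 by omega, show n - 1 - (n - (i + 1)) = i by omega,
    Ring.choose_succ_succ k]
  push_cast
  ring

/-- The conclusion we are after. -/
def Gen (n : ℕ) (F : Type*) [Field F] : Prop :=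
  ∃ g : Matrix.SpecialLinearGroup (Fin n) F,
    Subgroup.closure ({uu n F, g * uu n F * g⁻¹} : Set (Matrix.SpecialLinearGroup (Fin n) F)) = ⊤

theorem pairing_ax (φ : Fin n → F) (m d k : ℤ) :
    pairing (uu n F) (binVec n F m) (ax (uu n F) φ d) k = φ ⬝ᵥ binVec n F (k + m - d) := by
  rw [pairing, pt_binVec, ax, ← Matrix.dotProduct_mulVec]
  have h := pt_binVec (F := F) (n := n) (-d) (k + m)
  rw [pt] at h
  rw [h]; congr 2; ring

/-- The group generated by `uu` and its conjugate contains the twisted differences. -/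
theorem diff_mem (g : Matrix.SpecialLinearGroup (Fin n) F) (k : ℤ) :
    g * (uu n F ^ k * g * uu n F ^ (-k))⁻¹ ∈
      Subgroup.closure ({uu n F, g * uu n F * g⁻¹} : Set (Matrix.SpecialLinearGroup (Fin n) F)) := by
  have hu : uu n F ∈ Subgroup.closure
      ({uu n F, g * uu n F * g⁻¹} : Set (Matrix.SpecialLinearGroup (Fin n) F)) :=
    Subgroup.subset_closure (by simp)
  have hv : g * uu n F * g⁻¹ ∈ Subgroup.closure
      ({uu n F, g * uu n F * g⁻¹} : Set (Matrix.SpecialLinearGroup (Fin n) F)) :=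
    Subgroup.subset_closure (by simp)
  have := mul_mem (zpow_mem hv k) (zpow_mem hu (-k))
  rw [conj_zpow] at this
  convert this using 1
  group

theorem coe_shift (φ : Fin n → F) (h : φ ⬝ᵥ binVec n F 0 = 0) (k : ℤ) :
    ((uu n F ^ k * tv (binVec n F 0) φ h * uu n F ^ (-k) : Matrix.SpecialLinearGroup (Fin n) F) :
      Matrix (Fin n) (Fin n) F) = 1 + Matrix.vecMulVec (binVec n F k) (ax (uu n F) φ k) := by
  rw [Matrix.SpecialLinearGroup.coe_mul, Matrix.SpecialLinearGroup.coe_mul, coe_tv]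
  show mat (uu n F) k * _ * mat (uu n F) (-k) = _
  have := conj_eq (g := mat (uu n F) k) (g' := mat (uu n F) (-k))
    (by rw [← mat_add, add_neg_cancel, mat_zero]) (1 : F) (binVec n F 0) φ
  rw [one_smul, one_smul] at this
  rw [this]
  show 1 + Matrix.vecMulVec (pt (uu n F) (binVec n F 0) k) _ = _
  rw [pt_binVec, add_zero, ax]

theorem gen_double [Fintype F] (hn : 5 ≤ n) {μ ν : F} (φ : Fin n → F) (hμ : μ ≠ 0) (hν : ν ≠ 0)
    (h0 : φ ⟨0, by omega⟩ ≠ 0)
    (hzero : ∀ k : ℤ, -2 ≤ k → k ≤ 1 → φ ⬝ᵥ binVec n F k = 0)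
    (h2 : φ ⬝ᵥ binVec n F 2 = μ) (h3 : φ ⬝ᵥ binVec n F (-3) = ν)
    (hgen : Subfield.closure
      {z : F | (z = μ ^ 6 * ν ^ 4) ∨ (z = -(φ ⬝ᵥ binVec n F 3) * -μ * (μ * ν) ^ 5)} = ⊤) :
    Gen n F := by
  have hn0 : 0 < n := by omega
  set e := binVec n F 0 with he
  have hφe : φ ⬝ᵥ e = 0 := hzero 0 (by norm_num) (by norm_num)
  set g := tv e φ hφe with hg
  refine ⟨g, ?_⟩
  set H := Subgroup.closure ({uu n F, g * uu n F * g⁻¹} : Set (Matrix.SpecialLinearGroup (Fin n) F))
  set gA := uu n F ^ (-1 : ℤ) * g * uu n F ^ (-(-1 : ℤ)) with hgA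
  set gB := uu n F ^ (1 : ℤ) * g * uu n F ^ (-(1 : ℤ)) with hgB
  have hmem : gB⁻¹ * gA⁻¹ * gB * gA ∈ H := by
    have hcomm : ∀ k : ℤ, -2 ≤ k → k ≤ 1 → -2 ≤ -k → -k ≤ 1 →
        Commute g (uu n F ^ k * g * uu n F ^ (-k)) := by
      intro k k1 k2 k3 k4
      refine Subtype.ext ?_
      rw [Matrix.SpecialLinearGroup.coe_mul g, Matrix.SpecialLinearGroup.coe_mul _ g, hg, coe_shift,
        coe_tv]
      have e1 : φ ⬝ᵥ binVec n F k = 0 := hzero k k1 k2
      have e2 : ax (uu n F) φ k ⬝ᵥ e = 0 := by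
        rw [he, ax, ← Matrix.dotProduct_mulVec, ← pt, pt_binVec, add_zero]
        exact hzero _ k3 k4
      simp [Matrix.mul_add, Matrix.add_mul, vmv_mul, e1, e2, ← he]
      abel
    rw [← group_identity (hcomm (-1) (by norm_num) (by norm_num) (by norm_num) (by norm_num))
      (hcomm 1 (by norm_num) (by norm_num) (by norm_num) (by norm_num))]
    exact mul_mem (mul_mem (mul_mem (diff_mem g 1) (diff_mem g (-1))) (inv_mem (diff_mem g 1)))
      (inv_mem (diff_mem g (-1)))
  have hT : One1 H (-μ) (binVec n F (-1)) (ax (uu n F) φ 1) := by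
    refine ⟨_, hmem, ?_⟩
    have cB : ax (uu n F) φ 1 ⬝ᵥ binVec n F 1 = 0 := by
      rw [ax, ← Matrix.dotProduct_mulVec, ← pt, pt_binVec]; simpa using hφe
    have cA : ax (uu n F) φ (-1) ⬝ᵥ binVec n F (-1) = 0 := by
      rw [ax, ← Matrix.dotProduct_mulVec, ← pt, pt_binVec]; simpa using hφe
    have cBA : ax (uu n F) φ 1 ⬝ᵥ binVec n F (-1) = 0 := by
      rw [ax, ← Matrix.dotProduct_mulVec, ← pt, pt_binVec]
      exact hzero _ (by norm_num) (by norm_num)
    have cAB : ax (uu n F) φ (-1) ⬝ᵥ binVec n F 1 = μ := by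
      rw [ax, ← Matrix.dotProduct_mulVec, ← pt, pt_binVec]; simpa using h2
    have iA : ((gA⁻¹ : Matrix.SpecialLinearGroup (Fin n) F) : Matrix (Fin n) (Fin n) F) =
        1 - Matrix.vecMulVec (binVec n F (-1)) (ax (uu n F) φ (-1)) := by
      refine left_inv_eq_right_inv (coe_mul_inv _) ?_
      rw [hgA, hg, coe_shift]
      simp [Matrix.mul_sub, Matrix.add_mul, vmv_mul, cA]
    have iB : ((gB⁻¹ : Matrix.SpecialLinearGroup (Fin n) F) : Matrix (Fin n) (Fin n) F) =
        1 - Matrix.vecMulVec (binVec n F 1) (ax (uu n F) φ 1) := by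
      refine left_inv_eq_right_inv (coe_mul_inv _) ?_
      rw [hgB, hg, coe_shift]
      simp [Matrix.mul_sub, Matrix.add_mul, vmv_mul, cB]
    simp only [Matrix.SpecialLinearGroup.coe_mul, iA, iB]
    rw [hgA, hgB, hg, coe_shift, coe_shift]
    simp [Matrix.mul_sub, Matrix.sub_mul, Matrix.mul_add, Matrix.add_mul, vmv_mul, cA, cB, cBA, cAB,
      Matrix.mul_smul, Matrix.smul_mul]
    abel
  have hpair : ∀ k : ℤ, pairing (uu n F) (binVec n F (-1)) (ax (uu n F) φ 1) k =
      φ ⬝ᵥ binVec n F (k - 2) := fun k => by rw [pairing_ax]; congr 2; ring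
  refine eq_top (r := 3) (by omega) (Subgroup.subset_closure (by simp)) (neg_ne_zero.2 hμ) hT
    (by norm_num) (fun k hk => ?_) ?_ ?_ (span_pt hn0 (by rw [binVec_last hn0]; exact one_ne_zero))
    (span_ax hn0 (by rw [ax_first]; exact h0))
  · rw [hpair]; exact hzero _ (by omega) (by omega)
  · rw [hpair, show (-1 : ℤ) - 2 = -3 by norm_num, h3]; exact hν
  · refine top_le_iff.1 (hgen ▸ Subfield.closure_le.2 ?_)
    rintro z (rfl | rfl) <;> refine Subfield.subset_closure ?_
    · refine ⟨4, by norm_num, ?_⟩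
      rw [hpair, hpair, show ((4 : ℕ) : ℤ) - 2 = 2 by norm_num,
        show (-1 : ℤ) - 2 = -3 by norm_num, h2, h3]
      ring
    · refine ⟨5, by norm_num, ?_⟩
      rw [hpair, hpair, show ((5 : ℕ) : ℤ) - 2 = 3 by norm_num,
        show (-1 : ℤ) - 2 = -3 by norm_num, h3]
      ring

theorem closure_single [Fintype F] (hp : (Fintype.card F).Prime) (z : F) :
    Subfield.closure ({z} : Set F) = ⊤ := by
  obtain ⟨p, hchar⟩ := CharP.exists F
  haveI := hchar
  obtain ⟨f, hpp, hf⟩ := FiniteField.card F p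
  haveI : Fact p.Prime := ⟨hpp⟩
  rw [hf] at hp
  have hf1 : (f : ℕ) = 1 := hp.eq_one_of_pow
  exact SubfieldGen.closure_eq_top hf fun d hd h => by omega

theorem choose_small {k : ℤ} (h1 : -2 ≤ k) (h2 : k ≤ 1) {j : ℕ} (hj : 4 ≤ j) :
    Ring.choose (k + 2) j = 0 := by
  obtain ⟨m, hm⟩ : ∃ m : ℕ, k + 2 = m := ⟨(k + 2).toNat, by omega⟩
  rw [hm, Ring.choose_natCast, Nat.choose_eq_zero_of_lt (by omega), Nat.cast_zero]

theorem choose_four (j : ℕ) : Ring.choose (4 : ℤ) j = (Nat.choose 4 j : ℤ) := by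
  rw [show (4 : ℤ) = ((4 : ℕ) : ℤ) by norm_num, Ring.choose_natCast]

theorem gen_seven_le [Fintype F] (hn : 7 ≤ n) : Gen n F := by
  obtain ⟨g, hg0, hgen, -⟩ := exists_sq_gen (F := F)
  set y : F := g + (-1) ^ (n - 1) - g⁻¹
  refine gen_double (μ := g) (ν := g⁻¹) (by omega)
    (g • rowTwo n F 4 + y • rowTwo n F 5 + rowTwo n F (n - 1)) hg0 (inv_ne_zero hg0) ?_ ?_ ?_ ?_ ?_
  · simp [rowTwo, ev, show ¬ (n - 1 - 4 = 0) by omega, show ¬ (n - 4 = 0) by omega,
      show ¬ (n - 3 = 0) by omega, show ¬ (n - 1 - 5 = 0) by omega,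
      show ¬ (n - 5 = 0) by omega,
      show ¬ (n - (n - 1) = 0) by omega, show ¬ (n + 1 - (n - 1) = 0) by omega,
      eq_comm (a := (0 : ℕ))]
  · intro k h1 h2
    rw [add_dotProduct, add_dotProduct, smul_dotProduct, smul_dotProduct,
      rowTwo_dot (by norm_num) (by omega), rowTwo_dot (by norm_num) (by omega),
      rowTwo_dot (by omega) (by omega), choose_small h1 h2 le_rfl, choose_small h1 h2 (by norm_num),
      choose_small h1 h2 (by omega)]
    simp
  · rw [add_dotProduct, add_dotProduct, smul_dotProduct, smul_dotProduct,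
      rowTwo_dot (by norm_num) (by omega), rowTwo_dot (by norm_num) (by omega),
      rowTwo_dot (by omega) (by omega), show (2 : ℤ) + 2 = 4 by norm_num, choose_four, choose_four,
      choose_four, Nat.choose_eq_zero_of_lt (show 4 < n - 1 by omega)]
    simp
  · rw [add_dotProduct, add_dotProduct, smul_dotProduct, smul_dotProduct,
      rowTwo_dot (by norm_num) (by omega), rowTwo_dot (by norm_num) (by omega),
      rowTwo_dot (by omega) (by omega), show (-3 : ℤ) + 2 = -1 by norm_num, choose_neg_one,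
      choose_neg_one, choose_neg_one]
    push_cast
    simp only [y, smul_eq_mul]
    ring
  · refine top_le_iff.1 (hgen ▸ Subfield.closure_le.2 ?_)
    rintro z rfl
    refine Subfield.subset_closure (Or.inl ?_)
    field_simp

theorem gen_six [Fintype F] (hq : 3 ≤ Fintype.card F) : Gen 6 F := by
  have key : ∀ μ ν : F, μ ≠ 0 → ν ≠ 0 → μ ≠ ν →
      Subfield.closure ({μ ^ 6 * ν ^ 4} : Set F) = ⊤ → Gen 6 F := by
    intro μ ν hμ hν hne hgen
    refine gen_double (μ := μ) (ν := ν) (by norm_num)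
      (μ • rowTwo 6 F 4 + (μ - ν) • rowTwo 6 F 5) hμ hν ?_ ?_ ?_ ?_ ?_
    · simp [rowTwo, ev, sub_ne_zero.2 hne]
    · intro k h1 h2
      rw [add_dotProduct, smul_dotProduct, smul_dotProduct,
        rowTwo_dot (by norm_num) (by norm_num), rowTwo_dot (by norm_num) (by norm_num),
        choose_small h1 h2 le_rfl, choose_small h1 h2 (by norm_num)]
      simp
    · rw [add_dotProduct, smul_dotProduct, smul_dotProduct,
        rowTwo_dot (by norm_num) (by norm_num), rowTwo_dot (by norm_num) (by norm_num),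
        show (2 : ℤ) + 2 = 4 by norm_num, choose_four, choose_four]
      simp [Nat.choose]
    · rw [add_dotProduct, smul_dotProduct, smul_dotProduct,
        rowTwo_dot (by norm_num) (by norm_num), rowTwo_dot (by norm_num) (by norm_num),
        show (-3 : ℤ) + 2 = -1 by norm_num, choose_neg_one, choose_neg_one]
      push_cast
      simp only [smul_eq_mul]
      ring
    · refine top_le_iff.1 (hgen ▸ Subfield.closure_le.2 ?_)
      rintro z rfl
      exact Subfield.subset_closure (Or.inl rfl)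
  by_cases h3 : Fintype.card F = 3
  · have h2 : (2 : F) ≠ 0 := by
      intro h
      have h2' : (3 : F) = 0 := by
        have := Nat.cast_card_eq_zero F
        rw [h3] at this
        exact_mod_cast this
      exact one_ne_zero (show (1 : F) = 0 by linear_combination h2' - h)
    exact key 1 (-1) one_ne_zero (neg_ne_zero.2 one_ne_zero)
      (fun h => h2 (by linear_combination h)) (closure_single (by rw [h3]; norm_num) _)
  · obtain ⟨g, hg0, hgen, hne⟩ := exists_sq_gen (F := F)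
    refine key g g⁻¹ hg0 (inv_ne_zero hg0) (fun h => hne (by omega) ?_) ?_
    · nth_rw 2 [h]; exact mul_inv_cancel₀ hg0
    · rwa [show g ^ 6 * g⁻¹ ^ 4 = g * g by field_simp]

theorem gen_five [Fintype F] : Gen 5 F := by
  obtain ⟨g, hg0, hgen, -⟩ := exists_sq_gen (F := F)
  refine gen_double (μ := g) (ν := g) le_rfl (g • rowTwo 5 F 4) hg0 hg0 ?_ ?_ ?_ ?_ ?_
  · simp [rowTwo, ev, hg0]
  · intro k h1 h2
    rw [smul_dotProduct, rowTwo_dot (by norm_num) (by norm_num), choose_small h1 h2 le_rfl]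
    simp
  · rw [smul_dotProduct, rowTwo_dot (by norm_num) (by norm_num),
      show (2 : ℤ) + 2 = 4 by norm_num, choose_four]
    simp
  · rw [smul_dotProduct, rowTwo_dot (by norm_num) (by norm_num),
      show (-3 : ℤ) + 2 = -1 by norm_num, choose_neg_one]
    simp
  · have h5v : (g • rowTwo 5 F 4) ⬝ᵥ binVec 5 F 3 = g * 5 := by
      rw [smul_dotProduct, rowTwo_dot (by norm_num) (by norm_num),
        show (3 : ℤ) + 2 = ((5 : ℕ) : ℤ) by norm_num, Ring.choose_natCast]
      norm_num [Nat.choose]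
    set S := {z : F | (z = g ^ 6 * g ^ 4) ∨
      (z = -((g • rowTwo 5 F 4) ⬝ᵥ binVec 5 F 3) * -g * (g * g) ^ 5)} with hS
    have hA : (g * g) ^ 5 ∈ Subfield.closure S :=
      Subfield.subset_closure (Or.inl (by ring))
    have hB : 5 * (g * g) * (g * g) ^ 5 ∈ Subfield.closure S :=
      Subfield.subset_closure (Or.inr (by rw [h5v]; ring))
    by_cases h5 : (5 : F) = 0
    · obtain ⟨p, hchar⟩ := CharP.exists F
      haveI := hchar
      obtain ⟨f, hpp, hf⟩ := FiniteField.card F p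
      haveI : Fact p.Prime := ⟨hpp⟩
      obtain rfl : p = 5 := (Nat.prime_dvd_prime_iff_eq hpp (by norm_num)).1
        ((CharP.cast_eq_zero_iff F p 5).1 (by exact_mod_cast h5))
      have htop : Subfield.closure ({(g * g) ^ 5} : Set F) = ⊤ := by
        refine SubfieldGen.closure_eq_top hf fun d hd h e => ?_
        have hgg : (g * g) ^ 5 ^ d = g * g := frobenius_inj F 5 (by
          rw [frobenius_def, frobenius_def, ← pow_mul, Nat.mul_comm, pow_mul]
          exact e)
        -- then a proper subfield would contain the square of the generator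
        have hK : ∀ x ∈ Subfield.closure ({g * g} : Set F), x ^ 5 ^ d = x := by
          intro x hx
          induction hx using Subfield.closure_induction with
          | mem x hx => rw [Set.mem_singleton_iff.1 hx]; exact hgg
          | one => exact one_pow _
          | add x y _ _ hx hy => rw [add_pow_char_pow, hx, hy]
          | neg x _ hx => rw [neg_pow, hx, (show Odd (5 ^ d) from Odd.pow (by decide)).neg_one_pow,
              neg_one_mul]
          | inv x _ hx => rw [inv_pow, hx]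
          | mul x y _ _ hx hy => rw [mul_pow, hx, hy]
        classical
        obtain ⟨z, hz⟩ := IsCyclic.exists_generator (α := Fˣ)
        have hz1 : (z : F) ^ 5 ^ d = z := hK _ (hgen ▸ Subfield.mem_top _)
        have h1 : z ^ (5 ^ d - 1) = 1 := by
          have hP : 1 ≤ 5 ^ d := Nat.one_le_pow _ _ (by norm_num)
          refine mul_right_cancel (b := z) ?_
          rw [← pow_succ, Nat.sub_add_cancel hP, one_mul]
          exact Units.ext (by simpa using hz1)
        have h2 := Nat.le_of_dvd (by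
          have : 1 < 5 ^ d := Nat.one_lt_pow hd.ne' (by norm_num)
          omega) (orderOf_dvd_of_pow_eq_one h1)
        rw [orderOf_eq_card_of_forall_mem_zpowers hz, Nat.card_eq_fintype_card, Fintype.card_units,
          hf] at h2
        have h3 : 5 ^ d < 5 ^ (f : ℕ) := Nat.pow_lt_pow_right (by norm_num) (by omega)
        have h4 : 1 < 5 ^ d := Nat.one_lt_pow hd.ne' (by norm_num)
        omega
      refine top_le_iff.1 (htop ▸ Subfield.closure_le.2 ?_)
      rintro z rfl
      exact hA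
    · refine top_le_iff.1 (hgen ▸ Subfield.closure_le.2 ?_)
      rintro z rfl
      have h5K : (5 : F) ∈ Subfield.closure S := by
        exact_mod_cast natCast_mem (Subfield.closure S) 5
      have := div_mem hB (mul_mem h5K hA)
      rwa [mul_div_mul_comm, mul_div_cancel_left₀ _ h5, div_self (pow_ne_zero _ (mul_ne_zero hg0 hg0)),
        mul_one] at this

theorem gen_two [Fintype F] [CharP F 2] (hn : 4 ≤ n) (h : 5 ≤ n ∨ 4 ≤ Fintype.card F) : Gen n F := by
  have hn0 : 0 < n := by omega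
  obtain ⟨g', hg0, hgen, hne⟩ := exists_sq_gen (F := F)
  -- the scalar
  obtain ⟨φ, h0, hm1, hzero, hone, hm2⟩ : ∃ φ : Fin n → F, φ ⟨0, hn0⟩ ≠ 0 ∧
      φ ⬝ᵥ binVec n F (-1) = 0 ∧ φ ⬝ᵥ binVec n F 0 = 0 ∧ φ ⬝ᵥ binVec n F 1 = 1 ∧
      φ ⬝ᵥ binVec n F (-2) = g' := by
    have v0 : ∀ j, 1 ≤ j → Ring.choose ((0 : ℤ)) j = 0 := fun j hj => by
      rw [Ring.choose_zero_ite, if_neg (by omega)]
    have v1 : ∀ j, 2 ≤ j → Ring.choose ((1 : ℤ)) j = 0 := fun j hj => by
      rw [show (1 : ℤ) = ((1 : ℕ) : ℤ) by norm_num, Ring.choose_natCast,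
        Nat.choose_eq_zero_of_lt (by omega), Nat.cast_zero]
    have v2 : ∀ j, 3 ≤ j → Ring.choose ((2 : ℤ)) j = 0 := fun j hj => by
      rw [show (2 : ℤ) = ((2 : ℕ) : ℤ) by norm_num, Ring.choose_natCast,
        Nat.choose_eq_zero_of_lt (by omega), Nat.cast_zero]
    have v22 : Ring.choose ((2 : ℤ)) 2 = 1 := by
      rw [show (2 : ℤ) = ((2 : ℕ) : ℤ) by norm_num, Ring.choose_natCast]; norm_num
    have h2F : (2 : F) = 0 := CharTwo.two_eq_zero
    rcases Nat.eq_or_lt_of_le hn with h4 | h5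
    · subst h4
      have hq : 4 ≤ Fintype.card F := h.resolve_left (by norm_num)
      have hg1 : g' + 1 ≠ 0 := fun e => hne hq (by linear_combination (g' - 1) * e)
      refine ⟨rowOne 4 F 2 + (g' + 1) • rowOne 4 F 3, by simp [rowOne, ev, hg1], ?_, ?_, ?_, ?_⟩
      all_goals
        rw [add_dotProduct, smul_dotProduct, rowOne_dot (by norm_num) (by norm_num),
          rowOne_dot (by norm_num) (by norm_num)]
      · norm_num [v0]
      · norm_num [v1]
      · norm_num [v2, v22]
      · rw [show (-2 : ℤ) + 1 = -1 by norm_num, choose_neg_one, choose_neg_one]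
        push_cast
        rw [smul_eq_mul]
        linear_combination (-g') * h2F
    · refine ⟨rowOne n F 2 + g' • rowOne n F 3 + rowOne n F (n - 1), ?_, ?_, ?_, ?_, ?_⟩
      · simp [rowOne, ev, show ¬ (n - 1 - 2 = 0) by omega, show ¬ (n - 2 = 0) by omega,
          show ¬ (n - 1 - 3 = 0) by omega, show ¬ (n - 3 = 0) by omega,
          show ¬ (n - (n - 1) = 0) by omega, eq_comm (a := (0 : ℕ))]
      all_goals
        rw [add_dotProduct, add_dotProduct, smul_dotProduct, rowOne_dot (by norm_num) (by omega),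
          rowOne_dot (by norm_num) (by omega), rowOne_dot (by omega) (by omega)]
      · norm_num [v0, v0 (n - 1) (by omega)]
      · norm_num [v1, v1 (n - 1) (by omega)]
      · norm_num [v2, v22, v2 (n - 1) (by omega)]
      · rw [show (-2 : ℤ) + 1 = -1 by norm_num, choose_neg_one, choose_neg_one, choose_neg_one]
        push_cast
        simp [CharTwo.neg_eq, CharTwo.add_self_eq_zero, add_comm, add_left_comm]
  set g := tv (binVec n F 0) φ hzero with hg
  refine ⟨g, ?_⟩
  set H := Subgroup.closure ({uu n F, g * uu n F * g⁻¹} : Set (Matrix.SpecialLinearGroup (Fin n) F))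
  have hψ : ∀ k : ℤ, ax (uu n F) φ 1 ⬝ᵥ binVec n F k = φ ⬝ᵥ binVec n F (k - 1) := by
    intro k
    rw [ax, ← Matrix.dotProduct_mulVec, ← pt, pt_binVec]; congr 2; ring
  have hT : One1 H 1 (binVec n F 0) (ax (uu n F) φ 1) := by
    refine ⟨_, pow_mem (diff_mem g 1) 2, ?_⟩
    have c1 : ax (uu n F) φ 1 ⬝ᵥ binVec n F 1 = 0 := by rw [hψ]; simpa using hzero
    have c0 : ax (uu n F) φ 1 ⬝ᵥ binVec n F 0 = 0 := by rw [hψ]; simpa using hm1
    have i1 : (((uu n F ^ (1 : ℤ) * g * uu n F ^ (-(1 : ℤ)))⁻¹ : Matrix.SpecialLinearGroup (Fin n) F) :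
        Matrix (Fin n) (Fin n) F) = 1 + Matrix.vecMulVec (binVec n F 1) (ax (uu n F) φ 1) := by
      refine left_inv_eq_right_inv (coe_mul_inv _) ?_
      rw [hg, coe_shift]
      simp [Matrix.mul_add, Matrix.add_mul, vmv_mul, c1]
      ext i j
      simp [CharTwo.add_self_eq_zero, add_assoc, add_left_comm]
    rw [pow_two, Matrix.SpecialLinearGroup.coe_mul, Matrix.SpecialLinearGroup.coe_mul, i1, hg, coe_tv]
    simp [Matrix.mul_add, Matrix.add_mul, vmv_mul, c1, c0, hone, hzero]
    ext i j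
    simp [Matrix.one_apply, CharTwo.add_self_eq_zero, add_assoc, add_left_comm, add_comm]
  have hpair : ∀ k : ℤ, pairing (uu n F) (binVec n F 0) (ax (uu n F) φ 1) k =
      φ ⬝ᵥ binVec n F (k - 1) := fun k => by rw [pairing_ax]; congr 2; ring
  refine eq_top (r := 1) (by omega) (Subgroup.subset_closure (by simp)) one_ne_zero hT le_rfl
    (fun k hk => ?_) ?_ ?_ (span_pt hn0 (by rw [binVec_last hn0]; exact one_ne_zero))
    (span_ax hn0 (by rw [ax_first]; exact h0))
  · rw [hpair]; interval_cases k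
    · simpa using hm1
    · simpa using hzero
  · rw [hpair, show (-1 : ℤ) - 1 = -2 by norm_num, hm2]; exact hg0
  · refine top_le_iff.1 (hgen ▸ Subfield.closure_le.2 ?_)
    rintro z rfl
    refine Subfield.subset_closure ⟨2, le_rfl, ?_⟩
    rw [hpair, hpair, show (-1 : ℤ) - 1 = -2 by norm_num, show ((2 : ℕ) : ℤ) - 1 = 1 by norm_num,
      hm2, hone, CharTwo.neg_eq, CharTwo.neg_eq]
    ring

end CfsgLib.Perm.UnipotentPairsGeneral
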