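import Cfsg.Agent.Lib.Perm.UnipotentPairsGeneral
import Mathlib.FieldTheory.Finite.GaloisField

/-!
# The fields with 2, 3 and 5 elements
-/

set_option autoImplicit false

namespace CfsgLib.Perm.UnipotentPairsSmall

open Matrix Cfsg.Agent.S2280 UnipotentPairsCriterion UnipotentPairsBasic UnipotentPairsGeneral

theorem gen_transport {F K : Type*} [Field F] [Field K] (e : K ≃+* F) {n : ℕ} (h : Gen n K) :
    Gen n F := by
  obtain ⟨g, hg⟩ := h
  set f : Matrix.SpecialLinearGroup (Fin n) K →* Matrix.SpecialLinearGroup (Fin n) F :=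
    Matrix.SpecialLinearGroup.map (e : K →+* F) with hf
  have hu : f (uu n K) = uu n F := by
    apply Subtype.ext
    ext i j
    show e (upperU n K i j) = upperU n F i j
    simp only [upperU, Matrix.of_apply]
    split_ifs <;> simp
  have hsurj : Function.Surjective f := fun x => by
    refine ⟨Matrix.SpecialLinearGroup.map (e.symm : F →+* K) x, ?_⟩
    apply Subtype.ext
    ext i j
    show e (e.symm ((x : Matrix (Fin n) (Fin n) F) i j)) = _
    exact e.apply_symm_apply _
  refine ⟨f g, ?_⟩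
  have h1 := congrArg (Subgroup.map f) hg
  rw [MonoidHom.map_closure, Subgroup.map_top_of_surjective f hsurj, Set.image_insert_eq,
    Set.image_singleton, map_mul, map_mul, map_inv, hu] at h1
  exact h1

local instance factFive : Fact (Nat.Prime 5) := ⟨by norm_num⟩

theorem gen_five_elements : Gen 4 (ZMod 5) := by
  let g : Matrix.SpecialLinearGroup (Fin 4) (ZMod 5) :=
    ⟨!![1, 3, 0, 2; 0, 1, 0, 0; 4, 0, 1, 0; 0, 4, 0, 1], by
      simp [Matrix.det_succ_row_zero, Fin.sum_univ_succ]; decide⟩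
  refine ⟨g, ?_⟩
  set H := Subgroup.closure
    ({uu 4 (ZMod 5), g * uu 4 (ZMod 5) * g⁻¹} : Set (Matrix.SpecialLinearGroup (Fin 4) (ZMod 5)))
  have hu : uu 4 (ZMod 5) ∈ H := Subgroup.subset_closure (by simp)
  have hv : (g * uu 4 (ZMod 5) * g⁻¹)⁻¹ ∈ H := inv_mem (Subgroup.subset_closure (by simp))
  have hV : (((g * uu 4 (ZMod 5) * g⁻¹)⁻¹ : Matrix.SpecialLinearGroup (Fin 4) (ZMod 5)) :
      Matrix (Fin 4) (Fin 4) (ZMod 5)) =
      !![4, 1, 3, 1; 4, 2, 4, 3; 4, 1, 0, 2; 1, 4, 1, 3] := by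
    refine left_inv_eq_right_inv (coe_mul_inv _) ?_
    have hgi : ((g⁻¹ : Matrix.SpecialLinearGroup (Fin 4) (ZMod 5)) :
        Matrix (Fin 4) (Fin 4) (ZMod 5)) =
        !![1, 0, 0, 3; 0, 1, 0, 0; 1, 0, 1, 3; 0, 1, 0, 1] :=
      left_inv_eq_right_inv (coe_mul_inv _) (by
        show !![(1 : ZMod 5), 3, 0, 2; 0, 1, 0, 0; 4, 0, 1, 0; 0, 4, 0, 1] * _ = 1
        decide +kernel)
    rw [Matrix.SpecialLinearGroup.coe_mul, Matrix.SpecialLinearGroup.coe_mul, hgi]
    show !![(1 : ZMod 5), 3, 0, 2; 0, 1, 0, 0; 4, 0, 1, 0; 0, 4, 0, 1] * upperU 4 (ZMod 5) * _ * _ = 1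
    decide +kernel
  have hT : One1 H 1 ![1, 3, 0, 3] ![1, 4, 4, 4] := by
    refine ⟨_, mul_mem (mul_mem (mul_mem hu hv) hu) hv, ?_⟩
    simp only [Matrix.SpecialLinearGroup.coe_mul, hV]
    show upperU 4 (ZMod 5) * _ * upperU 4 (ZMod 5) * _ = _
    decide +kernel
  have hm1 : mat (uu 4 (ZMod 5)) (-1) = !![1, 4, 1, 4; 0, 1, 4, 1; 0, 0, 1, 4; 0, 0, 0, 1] := by
    refine left_inv_eq_right_inv (by simpa using mat_inv (u := uu 4 (ZMod 5)) 1) ?_
    rw [mat_one]
    decide +kernel
  refine eq_top (r := 1) (by norm_num) hu one_ne_zero hT le_rfl (fun k hk => ?_) ?_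
    (closure_top ?_) (span_pt (by norm_num) (by decide)) (span_ax (by norm_num) (by decide))
  · interval_cases k
    · rw [pairing, pt, Nat.cast_zero, mat_zero]; decide +kernel
    · rw [pairing, pt, Nat.cast_one, mat_one]; decide +kernel
  · rw [pairing, pt, hm1]; decide +kernel
  · exact ⟨_, ⟨0, by norm_num, rfl⟩⟩
where
  closure_top {S : Set (ZMod 5)} (h : ∃ z, z ∈ S) : Subfield.closure S = ⊤ := by
    obtain ⟨z, hz⟩ := h
    refine top_le_iff.1 ((closure_single (by rw [ZMod.card]; norm_num) z) ▸ Subfield.closure_mono ?_)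
    exact Set.singleton_subset_iff.2 hz

/-- Matrices over the field with two elements. -/
def ga : Matrix.SpecialLinearGroup (Fin 4) (ZMod 2) :=
  ⟨!![0, 1, 0, 1; 1, 1, 1, 1; 1, 1, 0, 1; 1, 0, 0, 1], by
    simp [Matrix.det_succ_row_zero, Fin.sum_univ_succ]; decide⟩

theorem gen_two_elements : Gen 4 (ZMod 2) := by
  refine ⟨ga, ?_⟩
  set H := Subgroup.closure
    ({uu 4 (ZMod 2), ga * uu 4 (ZMod 2) * ga⁻¹} : Set (Matrix.SpecialLinearGroup (Fin 4) (ZMod 2)))
  have hu : InH H (upperU 4 (ZMod 2)) := ⟨uu 4 (ZMod 2), Subgroup.subset_closure (by simp), rfl⟩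
  have hU : InH H !![1, 1, 1, 1; 0, 1, 1, 1; 0, 0, 1, 1; 0, 0, 0, 1] := hu.inv (by decide +kernel)
  have hv : InH H !![1, 1, 1, 0; 1, 0, 1, 0; 0, 1, 1, 1; 0, 0, 1, 0] := by
    refine ⟨ga * uu 4 (ZMod 2) * ga⁻¹, Subgroup.subset_closure (by simp), ?_⟩
    rw [Matrix.SpecialLinearGroup.coe_mul,
      left_inv_eq_right_inv (coe_mul_inv ga)
        (show _ * !![(1 : ZMod 2), 0, 1, 0; 0, 0, 1, 1; 0, 1, 1, 0; 1, 0, 1, 1] = 1 by
          rw [ga]; decide +kernel),
      Matrix.SpecialLinearGroup.coe_mul]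
    show !![(0 : ZMod 2), 1, 0, 1; 1, 1, 1, 1; 1, 1, 0, 1; 1, 0, 0, 1] * upperU 4 (ZMod 2) * _ = _
    decide +kernel
  have hV : InH H !![0, 1, 0, 1; 1, 1, 0, 0; 0, 0, 0, 1; 1, 1, 1, 1] := hv.inv (by decide +kernel)
  have key : ∀ {i j : Fin 4} (hij : i ≠ j) (M : Matrix (Fin 4) (Fin 4) (ZMod 2)),
      InH H M → M = 1 + Matrix.single i j 1 →
      ∀ c : ZMod 2, Matrix.SpecialLinearGroup.transvection hij c ∈ H := by
    intro i j hij M hM hMe c
    obtain ⟨g, hg, hge⟩ := hM
    have hc : c = 0 ∨ c = 1 := by revert c; decide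
    rcases hc with rfl | rfl
    · rw [show Matrix.SpecialLinearGroup.transvection hij (0 : ZMod 2) = 1 from Subtype.ext (by
        rw [Matrix.SpecialLinearGroup.transvection_coe]; simp)]
      exact one_mem H
    · convert hg using 1
      apply Subtype.ext
      rw [Matrix.SpecialLinearGroup.transvection_coe, hge, hMe]
  have h01 := key (show (0 : Fin 4) ≠ 1 by decide) _
    ((((((hU.mul hV).mul hu).mul hV).mul hu).mul hv).mul hv) (by decide +kernel)
  have h10 := key (show (1 : Fin 4) ≠ 0 by decide) _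
    ((((((((hu.mul hv).mul hU).mul hV).mul hu).mul hV).mul hu).mul hv).mul hU) (by decide +kernel)
  have h12 := key (show (1 : Fin 4) ≠ 2 by decide) _
    ((((((((((hu.mul hv).mul hv).mul hU).mul hV).mul hU).mul hv).mul hU).mul hv).mul hU).mul hv)
    (by decide +kernel)
  have h21 := key (show (2 : Fin 4) ≠ 1 by decide) _
    ((((((((((hv.mul hu).mul hv).mul hU).mul hv).mul hu).mul hv).mul hu).mul hv).mul hU).mul hV)
    (by decide +kernel)
  have h23 := key (show (2 : Fin 4) ≠ 3 by decide) _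
    ((((((hU.mul hv).mul hu).mul hv).mul hu).mul hv).mul hv) (by decide +kernel)
  have h32 := key (show (3 : Fin 4) ≠ 2 by decide) _
    ((((((hv.mul hU).mul hV).mul hU).mul hV).mul hu).mul hv) (by decide +kernel)
  have comm : ∀ {i j k : Fin 4} (hij : i ≠ j) (hik : i ≠ k) (hkj : k ≠ j),
      (∀ c, Matrix.SpecialLinearGroup.transvection hik c ∈ H) →
      (∀ c, Matrix.SpecialLinearGroup.transvection hkj c ∈ H) →
      ∀ c : ZMod 2, Matrix.SpecialLinearGroup.transvection hij c ∈ H := by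
    intro i j k hij hik hkj h1 h2 c
    rw [← CfsgLib.Classical.transvection_eq_commutator hij hik hkj c, commutatorElement_def]
    exact mul_mem (mul_mem (mul_mem (h1 c) (h2 1)) (inv_mem (h1 c))) (inv_mem (h2 1))
  have h02 := comm (show (0 : Fin 4) ≠ 2 by decide) (by decide) (by decide) h01 h12
  have h13 := comm (show (1 : Fin 4) ≠ 3 by decide) (by decide) (by decide) h12 h23
  have h03 := comm (show (0 : Fin 4) ≠ 3 by decide) (by decide) (by decide) h02 h23
  have h20 := comm (show (2 : Fin 4) ≠ 0 by decide) (by decide) (by decide) h21 h10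
  have h31 := comm (show (3 : Fin 4) ≠ 1 by decide) (by decide) (by decide) h32 h21
  have h30 := comm (show (3 : Fin 4) ≠ 0 by decide) (by decide) (by decide) h31 h10
  refine CfsgLib.Classical.closure_transvection_eq_top H fun i j hij c => ?_
  fin_cases i <;> fin_cases j <;> first
    | exact absurd rfl hij
    | exact h01 c | exact h10 c | exact h12 c | exact h21 c | exact h23 c | exact h32 c
    | exact h02 c | exact h13 c | exact h03 c | exact h20 c | exact h31 c | exact h30 c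

end CfsgLib.Perm.UnipotentPairsSmall
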