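import Cfsg.Agent.Lib.Perm.UnipotentPairsFour
import Cfsg.Agent.Lib.Perm.UnipotentPairsSmall

/-!
# `SL n` is generated by two regular unipotent elements
-/

set_option autoImplicit false

namespace CfsgLib.Perm.UnipotentPairsMain

open Matrix Cfsg.Agent.S2280 UnipotentPairsCriterion UnipotentPairsBasic UnipotentPairsGeneral

variable {F : Type*} [Field F] {n : ℕ}

/-- A regular unipotent matrix. -/
def Reg (M : Matrix (Fin n) (Fin n) F) : Prop :=
  IsNilpotent (M - 1) ∧ (M - 1) ^ (n - 1) ≠ 0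

theorem reg_uu (hn : 0 < n) : Reg ((uu n F : Matrix.SpecialLinearGroup (Fin n) F) :
    Matrix (Fin n) (Fin n) F) := by
  show Reg (upperU n F)
  refine ⟨⟨n, ?_⟩, fun h => ?_⟩
  · ext i j
    rw [upperU_pow, if_neg (by have := j.isLt; omega)]
    rfl
  · have := congrFun (congrFun h ⟨0, hn⟩) ⟨n - 1, by omega⟩
    rw [upperU_pow, if_pos (by simp)] at this
    exact one_ne_zero this

theorem reg_conj {g x : Matrix.SpecialLinearGroup (Fin n) F}
    (h : Reg (x : Matrix (Fin n) (Fin n) F)) :
    Reg ((g * x * g⁻¹ : Matrix.SpecialLinearGroup (Fin n) F) : Matrix (Fin n) (Fin n) F) := by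
  have hgg : (g : Matrix (Fin n) (Fin n) F) *
      ((g⁻¹ : Matrix.SpecialLinearGroup (Fin n) F) : Matrix (Fin n) (Fin n) F) = 1 := by
    rw [← Matrix.SpecialLinearGroup.coe_mul, mul_inv_cancel, Matrix.SpecialLinearGroup.coe_one]
  have hpow : ∀ k : ℕ, (((g * x * g⁻¹ : Matrix.SpecialLinearGroup (Fin n) F) :
      Matrix (Fin n) (Fin n) F) - 1) ^ k = (g : Matrix (Fin n) (Fin n) F) *
      ((x : Matrix (Fin n) (Fin n) F) - 1) ^ k *
        ((g⁻¹ : Matrix.SpecialLinearGroup (Fin n) F) : Matrix (Fin n) (Fin n) F) := by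
    intro k
    induction k with
    | zero => rw [pow_zero, pow_zero, Matrix.mul_one, hgg]
    | succ k ih =>
      rw [pow_succ, ih, pow_succ, Matrix.SpecialLinearGroup.coe_mul,
        Matrix.SpecialLinearGroup.coe_mul]
      conv_lhs => enter [2]; rw [show (1 : Matrix (Fin n) (Fin n) F) =
        (g : Matrix (Fin n) (Fin n) F) * 1 *
          ((g⁻¹ : Matrix.SpecialLinearGroup (Fin n) F) : Matrix (Fin n) (Fin n) F) by
            rw [Matrix.mul_one, hgg], ← Matrix.sub_mul, ← Matrix.mul_sub]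
      simp only [Matrix.mul_assoc]
      rw [← Matrix.mul_assoc _ (g : Matrix (Fin n) (Fin n) F), coe_mul_inv, Matrix.one_mul]
  obtain ⟨⟨m, hm⟩, hne⟩ := h
  refine ⟨⟨m, by rw [hpow, hm, Matrix.mul_zero, Matrix.zero_mul]⟩, fun h0 => hne ?_⟩
  rw [hpow] at h0
  have := congrArg (fun A => ((g⁻¹ : Matrix.SpecialLinearGroup (Fin n) F) :
    Matrix (Fin n) (Fin n) F) * A * (g : Matrix (Fin n) (Fin n) F)) h0
  simp only [Matrix.mul_zero, Matrix.zero_mul] at this
  rwa [← Matrix.mul_assoc, ← Matrix.mul_assoc, coe_mul_inv, Matrix.one_mul, Matrix.mul_assoc,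
    coe_mul_inv, Matrix.mul_one] at this

/-- The lower matrix used for four dimensions in characteristic three. -/
def lowThree (x : F) : ℕ → F := fun k => if k = 1 then x else 1

theorem lowerU_four (x : F) :
    lowerU 4 (lowThree x) = !![1, 0, 0, 0; 1, 1, 0, 0; 0, x, 1, 0; 0, 0, 1, 1] := by
  ext i j
  fin_cases i <;> fin_cases j <;> simp [lowerU, lowThree]

theorem corner_four (x : F) : corner (show 3 ≤ 4 by norm_num) (lowThree x) = -x := by
  have e : ev F 4 (4 - 1) = ![-x, x, -1, 1] ᵥ* lowerU 4 (lowThree x) := by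
    rw [lowerU_four]
    funext i
    fin_cases i <;> simp [ev, Matrix.vecMul, dotProduct, Fin.sum_univ_four]
  rw [corner, e, Matrix.vecMul_vecMul, Matrix.mul_adjugate, lowerU_det, one_smul, Matrix.vecMul_one]
  simp

theorem four_char_three [Fintype F] [CharP F 3] :
    ∃ v : Matrix.SpecialLinearGroup (Fin 4) F, Reg (v : Matrix (Fin 4) (Fin 4) F) ∧
      Subgroup.closure ({uu 4 F, v} : Set (Matrix.SpecialLinearGroup (Fin 4) F)) = ⊤ ∧
      ((Fintype.card F).Prime → ∃ g, v = g * uu 4 F * g⁻¹) := by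
  classical
  have h3 : (3 : F) = 0 := by exact_mod_cast CharP.cast_eq_zero F 3
  obtain ⟨x, hx⟩ := IsCyclic.exists_generator (α := Fˣ)
  have hd : ∀ k, lowThree (x : F) k ≠ 0 := fun k => by
    unfold lowThree; split_ifs
    · exact x.ne_zero
    · exact one_ne_zero
  let v : Matrix.SpecialLinearGroup (Fin 4) F := ⟨lowerU 4 (lowThree (x : F)), lowerU_det _⟩
  refine ⟨v, ?_, ?_, ?_⟩
  · have hN : ((v : Matrix (Fin 4) (Fin 4) F) - 1) =
        !![0, 0, 0, 0; 1, 0, 0, 0; 0, (x : F), 0, 0; 0, 0, 1, 0] := by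
      show lowerU 4 (lowThree (x : F)) - 1 = _
      rw [lowerU_four]
      ext i j
      fin_cases i <;> fin_cases j <;> simp
    refine ⟨⟨4, ?_⟩, fun h => ?_⟩
    · rw [hN]; ext i j
      fin_cases i <;> fin_cases j <;> simp [pow_succ, Matrix.mul_apply, Fin.sum_univ_four]
    · rw [hN, show (4 - 1 : ℕ) = 3 from rfl] at h
      have := congrFun (congrFun h 3) 0
      simp [pow_succ, Matrix.mul_apply, Fin.sum_univ_four] at this
  · set H := Subgroup.closure ({uu 4 F, v} : Set (Matrix.SpecialLinearGroup (Fin 4) F))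
    have hu : uu 4 F ∈ H := Subgroup.subset_closure (by simp)
    have hv : v ∈ H := Subgroup.subset_closure (by simp)
    refine Cfsg.Agent.S2280.eq_top (by norm_num) (lowThree (x : F)) hd 1 one_ne_zero (fun t ht => ?_) H
      ⟨_, hu, rfl⟩ ⟨_, hv, rfl⟩ ⟨uu 4 F ^ 3, pow_mem hu 3, ?_⟩
    · rw [corner_four]
      have := (isOfFinOrder_of_finite x).mem_powers_iff_mem_zpowers.2 (hx (Units.mk0 t ht))
      obtain ⟨k, hk⟩ := Submonoid.mem_powers_iff _ _ |>.1 this
      refine ⟨k, ?_⟩
      have e := congrArg (fun z : Fˣ => (z : F)) hk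
      simp only [Units.val_pow_eq_pow_val, Units.val_mk0] at e
      simp [lowThree, e]
    · show ((uu 4 F : Matrix.SpecialLinearGroup (Fin 4) F) : Matrix (Fin 4) (Fin 4) F) ^ 3 = _
      show upperU 4 F ^ 3 = _
      ext i j
      fin_cases i <;> fin_cases j <;>
        simp [pow_succ, Matrix.mul_apply, Fin.sum_univ_four, upperU, ev, Matrix.vecMulVec_apply] <;>
        linear_combination h3
  · intro hq
    obtain ⟨f, -, hf⟩ := FiniteField.card F 3
    have hq3 : Fintype.card F = 3 := by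
      rw [hf] at hq ⊢
      rw [hq.eq_one_of_pow, pow_one]
    have hx1 : (x : F) = -1 := by
      have ho : orderOf x = 2 := by
        rw [orderOf_eq_card_of_forall_mem_zpowers hx, Nat.card_eq_fintype_card, Fintype.card_units,
          hq3]
      have h2 : (x : F) * x = 1 := by
        have := pow_orderOf_eq_one x
        rw [ho, pow_two] at this
        rw [← Units.val_mul, this, Units.val_one]
      refine (mul_self_eq_one_iff.1 h2).resolve_left fun h => ?_
      rw [show x = 1 from Units.ext h, orderOf_one] at ho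
      omega
    refine ⟨⟨!![0, 0, 0, 1; 0, 0, 1, 0; 0, -1, 0, 0; -1, 0, 0, 0], by
      simp [Matrix.det_succ_row_zero, Fin.sum_univ_succ, Fin.succAbove]; norm_num [Fin.castSucc]⟩, ?_⟩
    refine eq_mul_inv_of_mul_eq ?_
    apply Subtype.ext
    show lowerU 4 (lowThree (x : F)) * _ = _ * upperU 4 F
    rw [lowerU_four, hx1]
    ext i j
    fin_cases i <;> fin_cases j <;> simp [Matrix.mul_apply, Fin.sum_univ_four, upperU]

/-- The main dispatch. -/
theorem main [Fintype F] (hn : 4 ≤ n) :
    ∃ v : Matrix.SpecialLinearGroup (Fin n) F, Reg (v : Matrix (Fin n) (Fin n) F) ∧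
      Subgroup.closure ({uu n F, v} : Set (Matrix.SpecialLinearGroup (Fin n) F)) = ⊤ ∧
      ((Fintype.card F).Prime → ∃ g, v = g * uu n F * g⁻¹) := by
  obtain ⟨p, hchar⟩ := CharP.exists F
  haveI := hchar
  obtain ⟨f, hpp, hf⟩ := FiniteField.card F p
  haveI : Fact p.Prime := ⟨hpp⟩
  have of_gen : Gen n F → ∃ v : Matrix.SpecialLinearGroup (Fin n) F,
      Reg (v : Matrix (Fin n) (Fin n) F) ∧
      Subgroup.closure ({uu n F, v} : Set (Matrix.SpecialLinearGroup (Fin n) F)) = ⊤ ∧
      ((Fintype.card F).Prime → ∃ g, v = g * uu n F * g⁻¹) := fun ⟨g, hg⟩ =>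
    ⟨g * uu n F * g⁻¹, reg_conj (reg_uu (by omega)), hg, fun _ => ⟨g, rfl⟩⟩
  rcases (show n = 4 ∨ n = 5 ∨ n = 6 ∨ 7 ≤ n by omega) with rfl | rfl | rfl | h7
  · by_cases hp2 : p = 2
    · subst hp2
      by_cases h4 : 4 ≤ Fintype.card F
      · exact of_gen (gen_two le_rfl (Or.inr h4))
      · have h1 : (f : ℕ) = 1 := by
          by_contra hne
          refine h4 (hf ▸ le_trans (le_of_eq (by norm_num)) (Nat.pow_le_pow_right (by norm_num)
            (show 2 ≤ (f : ℕ) by have := f.pos; omega)))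
        rw [h1, pow_one] at hf
        exact of_gen (UnipotentPairsSmall.gen_transport (ZMod.ringEquivOfPrime F hpp hf)
          UnipotentPairsSmall.gen_two_elements)
    by_cases hp3 : p = 3
    · subst hp3; exact four_char_three
    have hp5 : 5 ≤ p := by
      have := hpp.two_le
      have : p ≠ 4 := fun h => by rw [h] at hpp; exact absurd hpp (by norm_num)
      omega
    by_cases hq : Fintype.card F = 5
    · haveI : Fact (Nat.Prime 5) := ⟨by norm_num⟩
      exact of_gen (UnipotentPairsSmall.gen_transport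
        (ZMod.ringEquivOfPrime F (by norm_num : Nat.Prime 5) hq)
        UnipotentPairsSmall.gen_five_elements)
    obtain ⟨β, b0, b1, bm, b3, bb, hgen⟩ := UnipotentPairsFour.exists_beta hf hp5 hq
    refine of_gen (UnipotentPairsFour.gen_beta (fun h => ?_) b0 b1 bm b3 bb hgen)
    have := (CharP.cast_eq_zero_iff F p 2).1 (by exact_mod_cast h)
    have := Nat.le_of_dvd (by norm_num) this
    omega
  · exact of_gen gen_five
  · by_cases h3 : 3 ≤ Fintype.card F
    · exact of_gen (gen_six h3)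
    · have h2 : Fintype.card F = 2 := by have := Fintype.one_lt_card (α := F); omega
      have hp2 : p = 2 := by
        have : p ∣ 2 := h2 ▸ hf ▸ dvd_pow_self p f.pos.ne'
        exact (Nat.prime_dvd_prime_iff_eq hpp Nat.prime_two).1 this
      subst hp2
      exact of_gen (gen_two (by norm_num) (Or.inl (by norm_num)))
  · exact of_gen (gen_seven_le h7)

end CfsgLib.Perm.UnipotentPairsMain
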