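import Mathlib.LinearAlgebra.Matrix.Determinant.Basic
import Mathlib.LinearAlgebra.Matrix.SpecialLinearGroup
import Mathlib.FieldTheory.Finite.Basic
import Mathlib.Tactic
import Cfsg.Agent.Lib.Classical.SLGroup

/-!
# `SL 3` from an upper regular unipotent element and a lower corner transvection
-/

set_option autoImplicit false

namespace CfsgLib.Perm.UnipotentPairsThree

open Matrix

variable {F : Type*} [Field F]

/-- Lower unitriangular matrix. -/
def low (a b c : F) : Matrix.SpecialLinearGroup (Fin 3) F :=
  ⟨!![1, 0, 0; a, 1, 0; c, b, 1], by simp [det_fin_three]⟩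

/-- Upper regular unipotent matrix. -/
def up : Matrix.SpecialLinearGroup (Fin 3) F := ⟨!![1, 1, 0; 0, 1, 1; 0, 0, 1], by simp [det_fin_three]⟩

/-- Its inverse. -/
def upI : Matrix.SpecialLinearGroup (Fin 3) F := ⟨!![1, -1, 1; 0, 1, -1; 0, 0, 1], by simp [det_fin_three]⟩

/-- The matrix equality test. -/
local macro "mat3" : tactic =>
  `(tactic| (refine Subtype.ext ?_
             simp only [Matrix.SpecialLinearGroup.coe_mul, Matrix.SpecialLinearGroup.coe_one,
               Matrix.SpecialLinearGroup.transvection_coe]
             simp only [low, up, upI, Matrix.one_fin_three]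
             ext i j
             fin_cases i <;> fin_cases j <;>
               simp [Matrix.mul_apply, Fin.sum_univ_three, Matrix.single_apply, Matrix.one_apply] <;>
               try ring
             done))

theorem up_mul_upI : (up : Matrix.SpecialLinearGroup (Fin 3) F) * upI = 1 := by mat3

theorem upI_eq : (upI : Matrix.SpecialLinearGroup (Fin 3) F) = (up : Matrix.SpecialLinearGroup (Fin 3) F)⁻¹ := eq_inv_of_mul_eq_one_right up_mul_upI

theorem low_mul (a b c a' b' c' : F) :
    low a b c * low a' b' c' = low (a + a') (b + b') (c + c' + b * a') := by mat3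

theorem low_zero : low (0 : F) 0 0 = 1 := by
  apply Subtype.ext; ext i j; fin_cases i <;> fin_cases j <;> simp [low]

theorem low_inv (c : F) : (low 0 0 c)⁻¹ = low 0 0 (-c) := by
  refine (eq_inv_of_mul_eq_one_right ?_).symm
  rw [low_mul, ← low_zero]
  congr 1 <;> ring

/-- The conjugate of a corner transvection by `up`. -/
def cnj (c : F) : Matrix.SpecialLinearGroup (Fin 3) F := up * low 0 0 c * upI

/-- The conjugate by the inverse of `up`. -/
def cnj' (c : F) : Matrix.SpecialLinearGroup (Fin 3) F := upI * low 0 0 c * up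

theorem comm_cnj (t c : F) :
    low 0 0 t * cnj c * low 0 0 (-t) * cnj (-c) = low (-(t * c)) 0 (-(t * c)) := by
  simp only [cnj]; mat3

theorem comm_cnj' (s c : F) :
    cnj' s * low 0 0 c * cnj' (-s) * low 0 0 (-c) = low 0 (-(s * c)) (-(s * c)) := by
  simp only [cnj']; mat3

theorem low_comm (a c b d : F) :
    low a 0 c * low 0 b d * low (-a) 0 (-c) * low 0 (-b) (-d) = low 0 0 (-(a * b)) := by mat3

section Closure

variable (H : Subgroup (Matrix.SpecialLinearGroup (Fin 3) F))

/-- The parameters of the corner transvections in `H`. -/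
def params : AddSubgroup F where
  carrier := {t | low 0 0 t ∈ H}
  zero_mem' := by simp [low_zero]
  add_mem' := by
    intro a b (ha : low 0 0 a ∈ H) (hb : low 0 0 b ∈ H)
    show low 0 0 (a + b) ∈ H
    have := mul_mem ha hb
    rw [low_mul] at this
    simpa using this
  neg_mem' := by
    intro a (ha : low 0 0 a ∈ H)
    show low 0 0 (-a) ∈ H
    have := inv_mem ha
    rw [low_inv] at this
    exact this

variable {H}

theorem mem_params {t : F} : t ∈ params H ↔ low 0 0 t ∈ H := Iff.rfl

theorem mul_mem_params (hu : up ∈ H) {c : F} (hc : c ∈ params H) {t : F} (ht : t ∈ params H) :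
    c * c * c * t ∈ params H := by
  have hUI : upI ∈ H := by rw [upI_eq]; exact inv_mem hu
  have hcj : ∀ x ∈ params H, cnj x ∈ H := fun x hx => mul_mem (mul_mem hu hx) hUI
  have hcj' : ∀ x ∈ params H, cnj' x ∈ H := fun x hx => mul_mem (mul_mem hUI hx) hu
  have h1 : low (-(t * c)) 0 (-(t * c)) ∈ H := by
    rw [← comm_cnj]
    exact mul_mem (mul_mem (mul_mem ht (hcj c hc)) ((params H).neg_mem ht))
      (hcj _ ((params H).neg_mem hc))
  have h2 : low 0 (-(c * c)) (-(c * c)) ∈ H := by
    rw [← comm_cnj']
    exact mul_mem (mul_mem (mul_mem (hcj' c hc) hc) (hcj' _ ((params H).neg_mem hc)))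
      ((params H).neg_mem hc)
  have h1' : low (-(-(t * c))) 0 (-(-(t * c))) ∈ H := by
    have := inv_mem h1
    rwa [show (low (-(t * c)) 0 (-(t * c)))⁻¹ = low (-(-(t * c))) 0 (-(-(t * c))) from by
      refine (eq_inv_of_mul_eq_one_right ?_).symm
      rw [low_mul, ← low_zero]; congr 1 <;> ring] at this
  have h2' : low 0 (-(-(c * c))) (-(-(c * c))) ∈ H := by
    have := inv_mem h2
    rwa [show (low 0 (-(c * c)) (-(c * c)))⁻¹ = low 0 (-(-(c * c))) (-(-(c * c))) from by
      refine (eq_inv_of_mul_eq_one_right ?_).symm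
      rw [low_mul, ← low_zero]; congr 1 <;> ring] at this
  have h3 := mul_mem (mul_mem (mul_mem h1 h2) h1') h2'
  rw [low_comm] at h3
  have := (params H).neg_mem (mem_params.2 h3)
  convert this using 1
  ring

/-- If the powers of `c ^ 3` generate the field, all corner transvections lie in `H`. -/
theorem params_eq_top [Finite F] (hu : up ∈ H) {c : F} (hc : c ∈ params H) (hc0 : c ≠ 0)
    (hgen : Subfield.closure ({c * c * c} : Set F) = ⊤) : params H = ⊤ := by
  haveI := Fintype.ofFinite F
  let P : Subsemiring F :=
    { carrier := {x | ∀ t ∈ params H, x * t ∈ params H}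
      one_mem' := fun t ht => by rwa [one_mul]
      mul_mem' := fun {a b} ha hb t ht => by rw [mul_assoc]; exact ha _ (hb _ ht)
      zero_mem' := fun t _ => by rw [zero_mul]; exact (params H).zero_mem
      add_mem' := fun {a b} ha hb t ht => by
        rw [add_mul]; exact (params H).add_mem (ha _ ht) (hb _ ht) }
  have hneg : ∀ x ∈ P, -x ∈ P := fun x hx t ht => by
    rw [neg_mul]; exact (params H).neg_mem (hx t ht)
  let K : Subfield F :=
    { P with
      neg_mem' := fun {x} hx => hneg x hx
      inv_mem' := fun x hx => by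
        by_cases h : x = 0
        · subst h; rw [_root_.inv_zero]; exact P.zero_mem
        · have h2 : 2 ≤ Fintype.card F := Fintype.one_lt_card
          have : x⁻¹ = x ^ (Fintype.card F - 2) := by
            refine inv_eq_of_mul_eq_one_right ?_
            rw [← pow_succ', show Fintype.card F - 2 + 1 = Fintype.card F - 1 by omega]
            exact FiniteField.pow_card_sub_one_eq_one x h
          rw [this]
          exact pow_mem (show x ∈ P from hx) _ }
  have hK : K = ⊤ := by
    refine top_le_iff.1 (hgen ▸ Subfield.closure_le.2 ?_)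
    rintro x rfl
    exact fun t ht => mul_mem_params hu hc ht
  refine eq_top_iff.2 fun t _ => ?_
  have : t / c ∈ K := hK ▸ Subfield.mem_top _
  have h := this c hc
  rwa [div_mul_cancel₀ _ hc0] at h

theorem up_low21 (t : F) :
    low (-1) 0 0 * (up * low t 0 0 * upI) * low 1 0 0 =
      Matrix.SpecialLinearGroup.transvection (show (0 : Fin 3) ≠ 1 by decide) (-t) *
        Matrix.SpecialLinearGroup.transvection (show (0 : Fin 3) ≠ 2 by decide) t := by mat3

theorem up_low32 (t : F) :
    low 0 (-1) 0 * (up * low 0 t 0 * upI) * low 0 1 0 =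
      Matrix.SpecialLinearGroup.transvection (show (1 : Fin 3) ≠ 2 by decide) (-t) := by mat3

/-- All lower root groups and `up` generate. -/
theorem eq_top (hu : up ∈ H) (hT : ∀ t : F, low 0 0 t ∈ H) : H = ⊤ := by
  have hUI : upI ∈ H := by rw [upI_eq]; exact inv_mem hu
  have hcj : ∀ x, cnj x ∈ H := fun x => mul_mem (mul_mem hu (hT x)) hUI
  have hcj' : ∀ x, cnj' x ∈ H := fun x => mul_mem (mul_mem hUI (hT x)) hu
  have ha : ∀ t : F, low t 0 0 ∈ H := by
    intro t
    have h1 : low t 0 t ∈ H := by
      have := mul_mem (mul_mem (mul_mem (hT (-t)) (hcj 1)) (hT (-(-t)))) (hcj (-1))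
      rw [comm_cnj] at this
      simpa using this
    have := mul_mem h1 (hT (-t))
    rw [low_mul] at this
    simpa using this
  have hb : ∀ t : F, low 0 t 0 ∈ H := by
    intro t
    have h1 : low 0 t t ∈ H := by
      have := mul_mem (mul_mem (mul_mem (hcj' (-t)) (hT 1)) (hcj' (-(-t)))) (hT (-1))
      rw [comm_cnj'] at this
      simpa using this
    have := mul_mem h1 (hT (-t))
    rw [low_mul] at this
    simpa using this
  have h23 : ∀ t : F, Matrix.SpecialLinearGroup.transvection (show (1 : Fin 3) ≠ 2 by decide) t ∈ H := by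
    intro t
    have := mul_mem (mul_mem (hb (-1)) (mul_mem (mul_mem hu (hb (-t))) hUI)) (hb 1)
    rw [up_low32] at this
    simpa using this
  have h1213 : ∀ t : F, Matrix.SpecialLinearGroup.transvection (show (0 : Fin 3) ≠ 1 by decide) (-t) *
      Matrix.SpecialLinearGroup.transvection (show (0 : Fin 3) ≠ 2 by decide) t ∈ H := fun t => by
    rw [← up_low21]
    exact mul_mem (mul_mem (ha (-1)) (mul_mem (mul_mem hu (ha t)) hUI)) (ha 1)
  have h13 : ∀ t : F, Matrix.SpecialLinearGroup.transvection (show (0 : Fin 3) ≠ 2 by decide) t ∈ H := by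
    intro t
    have e : (Matrix.SpecialLinearGroup.transvection (show (0 : Fin 3) ≠ 1 by decide) (-(-t)) *
        Matrix.SpecialLinearGroup.transvection (show (0 : Fin 3) ≠ 2 by decide) (-t)) *
        Matrix.SpecialLinearGroup.transvection (show (1 : Fin 3) ≠ 2 by decide) 1 *
        (Matrix.SpecialLinearGroup.transvection (show (0 : Fin 3) ≠ 1 by decide) (-t) *
        Matrix.SpecialLinearGroup.transvection (show (0 : Fin 3) ≠ 2 by decide) t) *
        Matrix.SpecialLinearGroup.transvection (show (1 : Fin 3) ≠ 2 by decide) (-1) =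
        Matrix.SpecialLinearGroup.transvection (show (0 : Fin 3) ≠ 2 by decide) t := by mat3
    rw [← e]
    exact mul_mem (mul_mem (mul_mem (h1213 _) (h23 1)) (h1213 t)) (h23 _)
  refine CfsgLib.Classical.closure_transvection_eq_top H fun i j hij c => ?_
  fin_cases i <;> fin_cases j <;> first
    | exact absurd rfl hij
    | exact h13 c
    | exact h23 c
    | (convert ha c using 1; mat3)
    | (convert hb c using 1; mat3)
    | (convert hT c using 1; mat3)
    | (have := mul_mem (h1213 (-c)) (h13 c); convert this using 1; mat3)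

end Closure

end CfsgLib.Perm.UnipotentPairsThree
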