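import Cfsg.Agent.Lib.Perm.UnipotentPairsThree
import Cfsg.Agent.Lib.Perm.SubfieldGen
import Mathlib.Algebra.CharP.Two

/-!
# `SL 3` is generated by two conjugate regular unipotent elements
-/

set_option autoImplicit false

namespace CfsgLib.Perm.UnipotentPairsThree

open Matrix

variable {F : Type*} [Field F]

/-- The conjugator taking `up` to `low d d e`. -/
def conjLow (d e : F) (hd : d ≠ 0) : Matrix.SpecialLinearGroup (Fin 3) F :=
  ⟨!![0, 0, -d⁻¹; 0, -1, 0; -d, -e * d⁻¹, 0], by simp [det_fin_three]; field_simp⟩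

/-- The conjugator of the odd case. -/
def conjOdd (j : F) (hj : j + 1 ≠ 0) (h2 : (2 : F) ≠ 0) : Matrix.SpecialLinearGroup (Fin 3) F :=
  ⟨!![1, 1 / (j + 1), -1 / (2 * (j + 1)); 2 * j, (j - 1) / (j + 1), 0;
      2 * (j - 1), -4 / (j + 1), 0], by simp [det_fin_three]; field_simp; ring⟩

theorem coe_conj (h : Matrix.SpecialLinearGroup (Fin 3) F) (M : Matrix (Fin 3) (Fin 3) F)
    (e : ((h * up : Matrix.SpecialLinearGroup (Fin 3) F) : Matrix (Fin 3) (Fin 3) F) =
      M * (h : Matrix (Fin 3) (Fin 3) F)) :
    ((h * up * h⁻¹ : Matrix.SpecialLinearGroup (Fin 3) F) : Matrix (Fin 3) (Fin 3) F) = M := by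
  rw [Matrix.SpecialLinearGroup.coe_mul, e, Matrix.mul_assoc, ← Matrix.SpecialLinearGroup.coe_mul,
    mul_inv_cancel, Matrix.SpecialLinearGroup.coe_one, Matrix.mul_one]

theorem conjLow_eq (d e : F) (hd : d ≠ 0) :
    conjLow d e hd * up * (conjLow d e hd)⁻¹ = low d d e := by
  refine Subtype.ext (coe_conj _ _ ?_)
  simp only [Matrix.SpecialLinearGroup.coe_mul]
  simp only [conjLow, up, low]
  ext i k
  fin_cases i <;> fin_cases k <;> simp [Matrix.mul_apply, Fin.sum_univ_three] <;> field_simp <;>
    ring

theorem conjOdd_sq (j : F) (hj : j + 1 ≠ 0) (h2 : (2 : F) ≠ 0) :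
    conjOdd j hj h2 * up * (conjOdd j hj h2)⁻¹ * up *
      (conjOdd j hj h2 * up * (conjOdd j hj h2)⁻¹ * up) = low 0 0 (-4 * (j * j + 3)) := by
  have hM := coe_conj (conjOdd j hj h2)
    !![-1, 1, -1; 2 - 2 * j, 2 * j - 1, 1 - 2 * j; 8, 2 * j - 6, 5 - 2 * j] (by
      simp only [Matrix.SpecialLinearGroup.coe_mul]
      simp only [conjOdd, up]
      ext i k
      fin_cases i <;> fin_cases k <;> simp [Matrix.mul_apply, Fin.sum_univ_three] <;> field_simp <;>
        ring)
  generalize conjOdd j hj h2 * up * (conjOdd j hj h2)⁻¹ = V at hM ⊢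
  apply Subtype.ext
  simp only [Matrix.SpecialLinearGroup.coe_mul, hM]
  simp only [up, low]
  ext i k
  fin_cases i <;> fin_cases k <;> simp [Matrix.mul_apply, Fin.sum_univ_three] <;> ring

theorem low_sq (d e : F) (h2 : (2 : F) = 0) : low d d e * low d d e = low 0 0 (d * d) := by
  rw [low_mul]
  congr 1
  · linear_combination d * h2
  · linear_combination d * h2
  · linear_combination e * h2

theorem word_four (h2 : (2 : F) = 0) :
    up * up * low 0 0 (1 : F) * up * low 0 0 1 * up * up = low 1 1 0 := by
  haveI : CharP F 2 := CharTwo.of_one_ne_zero_of_two_eq_zero one_ne_zero h2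
  apply Subtype.ext
  simp only [Matrix.SpecialLinearGroup.coe_mul]
  simp only [up, low]
  ext i k
  fin_cases i <;> fin_cases k <;>
    simp [Matrix.mul_apply, Fin.sum_univ_three, CharTwo.add_self_eq_zero]

variable [Fintype F]

open Polynomial in
theorem exists_odd {p f : ℕ} [Fact p.Prime] [CharP F p] (hf : Fintype.card F = p ^ f)
    (h3 : 3 ≤ p) : ∃ j : F, j + 1 ≠ 0 ∧ j * j + 3 ≠ 0 ∧
      ∀ d, 0 < d → 2 * d ≤ f →
        ((j * j + 3) ^ 3) ^ p ^ d ≠ (j * j + 3) ^ 3 := by
  have hpp : p.Prime := Fact.out
  have hf0 : 0 < f := by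
    rcases Nat.eq_zero_or_pos f with rfl | h
    · have := Fintype.one_lt_card (α := F); rw [hf] at this; simp at this
    · exact h
  by_cases hq3 : p = 3 ∧ f = 1
  · obtain ⟨rfl, rfl⟩ := hq3
    have h3F : (3 : F) = 0 := by exact_mod_cast CharP.cast_eq_zero F 3
    refine ⟨1, ?_, ?_, fun d hd h => by omega⟩
    · rw [show (1 : F) + 1 = -1 by linear_combination h3F]; simp
    · rw [h3F]; simp
  by_cases hq2 : f = 2 ∧ (p = 3 ∨ p = 5)
  · obtain ⟨rfl, hp⟩ := hq2
    have h2 : (2 : F) ≠ 0 := by
      intro h
      have := (CharP.cast_eq_zero_iff F p 2).1 (by exact_mod_cast h)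
      have := Nat.le_of_dvd (by norm_num) this
      omega
    have hchar : ringChar F ≠ 2 := by rw [ringChar.eq F p]; omega
    have hz : (p : F) = 0 := CharP.cast_eq_zero F p
    have hsq : IsSquare (2 : F) := by
      rw [FiniteField.isSquare_iff hchar h2, hf]
      rcases hp with rfl | rfl
      · norm_num at hz ⊢; linear_combination 5 * hz
      · norm_num at hz ⊢; linear_combination 819 * hz
    obtain ⟨s, hs⟩ := hsq
    have hs0 : s ≠ 0 := fun h => h2 (by rw [hs, h, mul_zero])
    have hcast : ∀ m : ℕ, (m : F) = 0 → p ∣ m := fun m => (CharP.cast_eq_zero_iff F p m).1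
    have hsp : s ^ p = -s := by
      rcases hp with rfl | rfl
      · norm_num at hz
        linear_combination (-s) * hs + s * hz
      · norm_num at hz
        linear_combination (-(s * s * s) - 2 * s) * hs + s * hz
    refine ⟨s + 1, ?_, ?_, fun d hd h => ?_⟩
    · intro h
      exact h2 (by linear_combination (-1 : F) * hs - (s - 2) * h)
    · intro h
      have h' : s + 3 = 0 := (mul_right_inj' h2).1 (by rw [mul_zero]; linear_combination h + hs)
      have : p ∣ 7 := hcast 7 (by push_cast; linear_combination (-(s - 3)) * h' - hs)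
      rcases hp with rfl | rfl <;> omega
    · obtain rfl : d = 1 := by omega
      have hz3 : ((s + 1) * (s + 1) + 3) ^ 3 = 232 * s + 360 := by
        have e : (s + 1) * (s + 1) + 3 = 2 * s + 6 := by linear_combination -hs
        rw [e]
        linear_combination (-(8 * s) - 72) * hs
      rw [hz3, pow_one, add_pow_char, mul_pow, hsp]
      have hfr : ∀ m : ℕ, (m : F) ^ p = m := fun m => by
        rw [← frobenius_def, map_natCast]
      rw [show (232 : F) ^ p = 232 by simpa using hfr 232,
        show (360 : F) ^ p = 360 by simpa using hfr 360]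
      intro e
      have h464 : (464 : F) * s = 0 := by linear_combination -e
      have : p ∣ 464 := hcast 464 (by simpa [hs0] using h464)
      rcases hp with rfl | rfl <;> omega
  -- otherwise count roots
  set Q : F[X] := X ^ 2 + C 3 with hQ
  have hQd : Q.natDegree = 2 := natDegree_X_pow_add_C
  have hQ0 : Q ≠ 0 := fun h => by rw [h] at hQd; simp at hQd
  set P : ℕ → F[X] := fun d => (Q ^ 3) ^ p ^ d - Q ^ 3 with hP
  have hPd : ∀ d, 0 < d → (P d).natDegree = 6 * p ^ d := by
    intro d hd
    have h1 : 1 < p ^ d := Nat.one_lt_pow hd.ne' hpp.one_lt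
    rw [hP]
    simp only
    rw [natDegree_sub_eq_left_of_natDegree_lt, natDegree_pow, natDegree_pow, hQd]
    · ring
    · rw [natDegree_pow, natDegree_pow, natDegree_pow, hQd]; omega
  obtain ⟨j, hj⟩ := SubfieldGen.exists_avoid (Finset.range (f / 2 + 2))
    (fun i => if i = 0 then (X + C 1) * Q else if i = f / 2 + 1 then 1 else P i) (by
      intro i _
      split_ifs with h1 h2'
      · exact mul_ne_zero (X_add_C_ne_zero 1) hQ0
      · exact one_ne_zero
      · exact fun h => by
          have := hPd i (Nat.pos_of_ne_zero h1)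
          rw [h, natDegree_zero] at this
          exact absurd this.symm (by positivity)) (by
      rw [Finset.sum_range_succ, Finset.sum_range_succ', hf]
      simp only [if_true, if_neg (Nat.succ_ne_zero _)]
      rw [natDegree_mul (X_add_C_ne_zero 1) hQ0, natDegree_X_add_C, hQd, natDegree_one, add_zero]
      calc _ = ∑ i ∈ Finset.range (f / 2), 6 * p ^ (i + 1) + 3 := by
            congr 1
            refine Finset.sum_congr rfl fun i hi => ?_
            rw [if_neg (by have := Finset.mem_range.1 hi; omega), hPd _ (Nat.succ_pos _)]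
        _ < p ^ f := ?_
      -- the arithmetic
      have hgeo : ∀ n, 2 * (∑ i ∈ Finset.range n, 6 * p ^ (i + 1)) + 6 * p ≤ 6 * p ^ (n + 1) := by
        intro n
        induction n with
        | zero => simp
        | succ n ih =>
          rw [Finset.sum_range_succ, pow_succ p (n + 1)]
          have : 3 * p ^ (n + 1) ≤ p ^ (n + 1) * p := by
            rw [Nat.mul_comm 3]; exact Nat.mul_le_mul_left _ h3
          omega
      have hg := hgeo (f / 2)
      rcases Nat.lt_or_ge f 6 with hlt | hge
      · interval_cases f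
        · simp
          omega
        · simp
          rcases Nat.lt_or_ge p 7 with h7 | h7
          · interval_cases p <;> simp_all (config := { decide := true })
          · nlinarith
        · simp
          nlinarith [Nat.mul_le_mul h3 h3]
        · norm_num [Finset.sum_range_succ]
          nlinarith [Nat.mul_le_mul h3 h3]
        · norm_num [Finset.sum_range_succ]
          nlinarith [Nat.mul_le_mul h3 h3, Nat.pow_le_pow_left h3 3]
      · have h1 : p ^ (f / 2 + 1) * 9 ≤ p ^ f := by
          refine le_trans ?_ (Nat.pow_le_pow_right hpp.pos (show f / 2 + 1 + 2 ≤ f by omega))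
          rw [pow_add p (f / 2 + 1) 2]
          exact Nat.mul_le_mul_left _ (Nat.pow_le_pow_left h3 2)
        omega)
  have hj0 := hj 0 (by simp)
  simp only [if_pos, eval_mul, eval_add, eval_X, eval_C, mul_ne_zero_iff] at hj0
  refine ⟨j, hj0.1, by simpa [hQ, pow_two] using hj0.2, fun d hd h hb => ?_⟩
  refine hj d (Finset.mem_range.2 (by omega)) ?_
  rw [if_neg hd.ne', if_neg (by omega)]
  simp [hP, hQ, pow_two, hb]

open Polynomial in
theorem exists_two {f : ℕ} [CharP F 2] (hf : Fintype.card F = 2 ^ f) (hf2 : f ≠ 2) :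
    ∃ d : F, d ≠ 0 ∧ ∀ k, 0 < k → 2 * k ≤ f → (d ^ 6) ^ 2 ^ k ≠ d ^ 6 := by
  haveI : Fact (Nat.Prime 2) := ⟨Nat.prime_two⟩
  by_cases hf1 : f ≤ 1
  · exact ⟨1, one_ne_zero, fun k hk h => by omega⟩
  set P : ℕ → F[X] := fun k => X ^ (3 * 2 ^ k) - X ^ 3 with hP
  have hPd : ∀ k, 0 < k → (P k).natDegree = 3 * 2 ^ k := by
    intro k hk
    have h1 : 1 < 2 ^ k := Nat.one_lt_pow hk.ne' (by norm_num)
    rw [hP]
    simp only
    rw [natDegree_sub_eq_left_of_natDegree_lt, natDegree_X_pow]
    rw [natDegree_X_pow, natDegree_X_pow]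
    omega
  set S := if f = 4 then ({2} : Finset ℕ) else Finset.Icc 1 (f / 2) with hS
  have hSpos : ∀ k ∈ S, 0 < k := fun k hk => by
    rw [hS] at hk
    split_ifs at hk
    · rw [Finset.mem_singleton] at hk; omega
    · rw [Finset.mem_Icc] at hk; omega
  obtain ⟨d, hd⟩ := SubfieldGen.exists_avoid S P (fun k hk h => by
      have := hPd k (hSpos k hk)
      rw [h, natDegree_zero] at this
      exact absurd this.symm (by positivity)) (by
    rw [Finset.sum_congr rfl fun k hk => hPd k (hSpos k hk), hf, hS]
    split_ifs with h4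
    · subst h4; simp
    · have hgeo : ∀ n, (∑ i ∈ Finset.Icc 1 n, 3 * 2 ^ i) + 6 ≤ 6 * 2 ^ n := by
        intro n
        induction n with
        | zero => simp
        | succ n ih =>
          rw [Finset.sum_Icc_succ_top (by omega), pow_succ]
          omega
      have hg := hgeo (f / 2)
      rcases Nat.lt_or_ge f 6 with hlt | hge
      · interval_cases f <;> simp_all (config := { decide := true })
      · have h1 : 2 ^ (f / 2) * 8 ≤ 2 ^ f := by
          refine le_trans ?_ (Nat.pow_le_pow_right (by norm_num) (show f / 2 + 3 ≤ f by omega))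
          rw [pow_add]; norm_num
        omega)
  have hkey : ∀ k ∈ S, (d ^ 3) ^ 2 ^ k ≠ d ^ 3 := fun k hk h => hd k hk (by
    simp only [hP, eval_sub, eval_pow, eval_X]
    rw [pow_mul, h, sub_self])
  have hinj : ∀ k, (d ^ 6) ^ 2 ^ k = d ^ 6 → (d ^ 3) ^ 2 ^ k = d ^ 3 := fun k h =>
    frobenius_inj F 2 (by
      rw [frobenius_def, frobenius_def, ← pow_mul, Nat.mul_comm, pow_mul, ← pow_mul d 3 2]
      exact h)
  have hd0 : d ≠ 0 := by
    rintro rfl
    have hne : S.Nonempty := by
      rw [hS]; split_ifs
      · exact Finset.singleton_nonempty 2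
      · exact Finset.nonempty_Icc.2 (by omega)
    obtain ⟨k, hk⟩ := hne
    exact hkey k hk (by simp [zero_pow])
  refine ⟨d, hd0, fun k hk h hb => ?_⟩
  by_cases h4 : f = 4
  · have h' := hinj k hb
    have hk2 : k = 1 ∨ k = 2 := by omega
    rcases hk2 with rfl | rfl
    · refine hkey 2 (by simp [hS, h4]) ?_
      rw [show 2 ^ 2 = 2 ^ 1 * 2 ^ 1 by norm_num, pow_mul, h', h']
    · exact hkey 2 (by simp [hS, h4]) h'
  · exact hkey k (by simp [hS, h4, Finset.mem_Icc]; omega) (hinj k hb)

/-- `SL 3` is generated by a regular unipotent element and one of its conjugates. -/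
theorem exists_pair :
    ∃ g : Matrix.SpecialLinearGroup (Fin 3) F,
      Subgroup.closure ({up, g * up * g⁻¹} : Set (Matrix.SpecialLinearGroup (Fin 3) F)) = ⊤ := by
  classical
  obtain ⟨p, hchar⟩ := CharP.exists F
  haveI := hchar
  obtain ⟨f, hpp, hf⟩ := FiniteField.card F p
  haveI : Fact p.Prime := ⟨hpp⟩
  by_cases hp2 : p = 2
  · subst hp2
    have h2 : (2 : F) = 0 := by exact_mod_cast CharP.cast_eq_zero F 2
    by_cases hf2 : (f : ℕ) = 2
    · -- four elements
      rw [hf2] at hf
      have h4 : Fintype.card F = 4 := by rw [hf]; norm_num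
      obtain ⟨w, hw0, hw1⟩ : ∃ w : F, w ≠ 0 ∧ w ≠ 1 := by
        by_contra hc
        push Not at hc
        have hsub : (Finset.univ : Finset F) ⊆ {0, 1} := fun x _ => by
          rcases eq_or_ne x 0 with h | h
          · simp [h]
          · simp [hc x h]
        have := (Finset.card_le_card hsub).trans Finset.card_le_two
        rw [Finset.card_univ] at this
        omega
      refine ⟨conjLow 1 w one_ne_zero, ?_⟩
      rw [conjLow_eq]
      set H := Subgroup.closure
        ({up, low 1 1 w} : Set (Matrix.SpecialLinearGroup (Fin 3) F))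
      have hu : up ∈ H := Subgroup.subset_closure (by simp)
      have hV : low 1 1 w ∈ H := Subgroup.subset_closure (by simp)
      have h1 : low 0 0 (1 : F) ∈ H := by
        have := mul_mem hV hV
        rwa [low_sq _ _ h2, mul_one] at this
      have hw : low 0 0 w ∈ H := by
        have h110 : low 1 1 (0 : F) ∈ H := by
          rw [← word_four h2]
          exact mul_mem (mul_mem (mul_mem (mul_mem (mul_mem (mul_mem hu hu) h1) hu) h1) hu) hu
        have := mul_mem (inv_mem h110) hV
        rwa [show (low 1 1 (0 : F))⁻¹ * low 1 1 w = low 0 0 w from by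
          rw [inv_mul_eq_iff_eq_mul, low_mul]; simp] at this
      have hall : ∀ t : F, t ∈ ({0, 1, w, 1 + w} : Finset F) := by
        have hcard : ({0, 1, w, 1 + w} : Finset F).card = 4 := by
          have h1w : (1 : F) + w ≠ 0 := fun h => hw1 (by linear_combination h - h2)
          rw [Finset.card_insert_of_notMem, Finset.card_insert_of_notMem,
            Finset.card_insert_of_notMem, Finset.card_singleton] <;>
            simp [hw0, Ne.symm hw0, hw1, Ne.symm hw1, Ne.symm h1w]
        have := Finset.eq_univ_of_card _ (hcard.trans h4.symm)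
        intro t; rw [this]; exact Finset.mem_univ t
      refine eq_top hu fun t => ?_
      have hp := fun t => @mem_params F _ H t
      have := hall t
      simp only [Finset.mem_insert, Finset.mem_singleton] at this
      rcases this with rfl | rfl | rfl | rfl
      · exact (params H).zero_mem
      · exact h1
      · exact hw
      · exact (params H).add_mem h1 hw
    · obtain ⟨d, hd0, hd⟩ := exists_two hf hf2
      refine ⟨conjLow d 0 hd0, ?_⟩
      rw [conjLow_eq]
      set H := Subgroup.closure
        ({up, low d d 0} : Set (Matrix.SpecialLinearGroup (Fin 3) F))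
      have hu : up ∈ H := Subgroup.subset_closure (by simp)
      have hc : d * d ∈ params H := by
        have hV : low d d (0 : F) ∈ H := Subgroup.subset_closure (by simp)
        have := mul_mem hV hV
        rwa [low_sq _ _ h2] at this
      have htop := params_eq_top hu hc (mul_ne_zero hd0 hd0)
        (SubfieldGen.closure_eq_top hf fun k hk h => by
          rw [show d * d * (d * d) * (d * d) = d ^ 6 by ring]; exact hd k hk h)
      exact eq_top hu fun t => by rw [← mem_params, htop]; exact AddSubgroup.mem_top t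
  · have h2 : (2 : F) ≠ 0 := fun h => by
      have := (CharP.cast_eq_zero_iff F p 2).1 (by exact_mod_cast h)
      exact hp2 ((Nat.prime_dvd_prime_iff_eq hpp Nat.prime_two).1 this)
    obtain ⟨j, hj1, hz, hgen⟩ := exists_odd hf (by have := hpp.two_le; omega)
    refine ⟨conjOdd j hj1 h2, ?_⟩
    set H := Subgroup.closure ({up, conjOdd j hj1 h2 * up * (conjOdd j hj1 h2)⁻¹} :
      Set (Matrix.SpecialLinearGroup (Fin 3) F))
    have hu : up ∈ H := Subgroup.subset_closure (by simp)
    have hV : conjOdd j hj1 h2 * up * (conjOdd j hj1 h2)⁻¹ ∈ H :=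
      Subgroup.subset_closure (by simp)
    have hc : -4 * (j * j + 3) ∈ params H := by
      rw [mem_params, ← conjOdd_sq j hj1 h2]
      exact mul_mem (mul_mem hV hu) (mul_mem hV hu)
    have h4 : (4 : F) ≠ 0 := by
      rw [show (4 : F) = 2 * 2 by norm_num]; exact mul_ne_zero h2 h2
    have h64 : (-64 : F) ≠ 0 := by
      rw [show (-64 : F) = -(4 * 4 * 4) by norm_num]
      exact neg_ne_zero.2 (mul_ne_zero (mul_ne_zero h4 h4) h4)
    have htop := params_eq_top hu hc (mul_ne_zero (neg_ne_zero.2 h4) hz)
      (SubfieldGen.closure_eq_top hf fun k hk h e => by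
        have hfix : (-64 : F) ^ p ^ k = -64 := by
          have := map_intCast (iterateFrobenius F p k) (-64)
          rw [iterateFrobenius_def] at this
          simpa using this
        rw [show -4 * (j * j + 3) * (-4 * (j * j + 3)) * (-4 * (j * j + 3)) =
          -64 * (j * j + 3) ^ 3 by ring, mul_pow, hfix] at e
        exact hgen k hk h (mul_left_cancel₀ h64 e))
    exact eq_top hu fun t => by rw [← mem_params, htop]; exact AddSubgroup.mem_top t

end CfsgLib.Perm.UnipotentPairsThree
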